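import Cfsg.Agent.H510.CS.Irr_m3
import Cfsg.Agent.H800.IFx.Gen_m3
import Cfsg.Agent.H450.UF.Sub
import Cfsg.Agent.H30.IF.Frob_m3
import Cfsg.Agent.H91.U.Std
import Cfsg.Agent.H956.IF.Central
import Cfsg.Agent.CpAut.Fix
import Mathlib
import Cfsg.Agent.H897.IF.ENum
import Cfsg.Agent.H203.IF.Heis
import Cfsg.Agent.ClassicalGeometry.SympSiegel
import Cfsg.Agent.H209.EPX.Defs_m3
import Cfsg.Agent.LieClassical.SLGen
import Cfsg.Agent.S0242
import Cfsg.Agent.SignalizersComponents.SLQuasisimple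
import Cfsg.Agent.SignalizersComponents.QsBasic
import Cfsg.Agent.ClassicalGeometry.PSL2Basic
import Mathlib.Algebra.QuadraticAlgebra.Basic
import Cfsg.Agent.H763.Co3.Model
import Cfsg.Agent.H605.PSLTwoIndex
import Cfsg.Agent.S0199
import Cfsg.Agent.H950.Count
import Cfsg.Agent.H450.Bs.GenU_m3
import Cfsg.Agent.H166.Cov.SLMap
import Cfsg.Agent.H847.Bs.Defs2
import Cfsg.Agent.H934.IdxCl
import Cfsg.Agent.S0249
import Cfsg.Agent.H836.Facts
import Cfsg.Agent.H836.Thompson
import Cfsg.Agent.H727.Orth.St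
import Cfsg.Agent.Characters.GaloisBasic
import Cfsg.Agent.FastGrp
import Cfsg.Agent.Prune
set_option linter.all false

section
prune_inst 0x7ff0a8f98ba839dedfff7e37a798cdfc31800fffe4dff94b7fe069bf0b9f030009c563ad09e010fc0e97421410a87803f97eeedfe26bd87ffffd1fb41ffbee0ff5f7b1085194883406ac0ff703f0570e6f3ffff7ffffffffffffffffffffffaeffbfebfeffff

-- part: H406/IF/PSUEven_mg
section
prune_inst 0x140003010400020000048000402000a03100002000000800082400040000a00000800000080024060200000100010000000200000000000000040000000000000040000420000191000088000208010000008000000000000000000000010000014010000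
set_option linter.all false
open scoped Cfsg.Agent.FastGrp

-- part: H406/IF/Herm
section
/-!
# S5719, unitary groups in characteristic 2 (helper406): involutions and Siegel elements

* `exists_siegel` : the element `x ↦ x + B e x • w + (μ * B e x - B w x) • e`;
* `exists_frame` : an isometry `t` with `t ^ 2 = 1` in characteristic 2 is `x ↦ x + ∑ i, B (u i) x • u i` for a totally
  isotropic frame `u`.
-/

set_option autoImplicit false
set_option linter.unusedSectionVars false

namespace Cfsg.Agent.H406.IF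

open Module Cfsg.Agent.H91.U Cfsg.Agent.H450.UF

variable {F V : Type*} [Field F] [AddCommGroup V] [Module F V] {σ : F →+* F} {B : V →ₛₗ[σ] V →ₗ[F] F}

/-- **Siegel elements** -/
theorem exists_siegel [FiniteDimensional F V] (hB : HForm B) {e w : V} {μ : F} (he : B e e = 0) (hw : B e w = 0)
    (hμ : μ + σ μ + B w w = 0) :
    ∃ g : SIso B, ∀ x, g.1 x = x + B e x • w + (μ * B e x - B w x) • e := by
  have hwe : B w e = 0 := hB.swap_zero hw
  let T1 : V →ₗ[F] V := LinearMap.transvection (-(B w)) e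
  let T2 : V →ₗ[F] V := LinearMap.transvection (B e) (w + μ • e)
  have h1 : ∀ x, T1 x = x + (-(B w x)) • e := fun x => by
    rw [LinearMap.transvection.apply]; rfl
  have h2 : ∀ x, T2 x = x + (B e x) • (w + μ • e) := fun x => by
    rw [LinearMap.transvection.apply]
  have hT : ∀ x, (T2 ∘ₗ T1) x = x + B e x • w + (μ * B e x - B w x) • e := by
    intro x
    rw [LinearMap.comp_apply, h2, h1, map_add, map_smul, he, smul_zero, add_zero]
    module
  have hdet : LinearMap.det (T2 ∘ₗ T1) = 1 := by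
    rw [LinearMap.det_comp, LinearMap.transvection.det, LinearMap.transvection.det, LinearMap.neg_apply, map_add,
      map_smul, hw, he, hwe, smul_zero, add_zero, add_zero, neg_zero, add_zero, mul_one]
  have hunit : IsUnit (LinearMap.det (T2 ∘ₗ T1)) := by
    rw [hdet]; exact isUnit_one
  let g : V ≃ₗ[F] V := LinearEquiv.ofIsUnitDet (f := T2 ∘ₗ T1) (v := Module.finBasis F V) (v' := Module.finBasis F V) (by
    rw [LinearMap.det_toMatrix]
    exact hunit)
  have hg : ∀ x, g x = x + B e x • w + (μ * B e x - B w x) • e := hT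
  refine ⟨⟨g, mem_SIso_of (fun x y => ?_) hdet⟩, hg⟩
  have hxe : B x e = σ (B e x) := sw hB e x
  have hxw : B x w = σ (B w x) := sw hB w x
  rw [hg, hg]
  simp only [map_add, LinearMap.add_apply, smul_left, smul_right, he, hw, hwe, hxe, hxw, map_mul, map_sub]
  linear_combination (σ (B e x) * B e y) * hμ

/-- the isometry `t` with `t ^ 2 = 1` : `t - 1` is selfadjoint with totally isotropic image -/
theorem invol_adj (h2 : (2 : F) = 0) {t : V ≃ₗ[F] V} (ht : ∀ x y, B (t x) (t y) = B x y) (htt : ∀ x, t (t x) = x)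
    (x y : V) : B (t x - x) (t y - y) = 0 ∧ B x (t y - y) = B (t x - x) y := by
  have hx : B x (t y) = B (t x) y := by rw [← ht x, htt]
  have h3 : ∀ a : F, a + a = 0 := fun a => by rw [← two_mul, h2, zero_mul]
  simp only [map_sub, LinearMap.sub_apply, ht, hx]
  refine ⟨?_, trivial⟩
  linear_combination h3 (B x y) - h3 (B (t x) y)

/-- **An involution of a unitary group in characteristic 2.** -/
theorem exists_frame [Finite F] [FiniteDimensional F V] (hB : HForm B) (h2 : (2 : F) = 0) {t : V ≃ₗ[F] V}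
    (ht : ∀ x y, B (t x) (t y) = B x y) (htt : ∀ x, t (t x) = x) :
    ∃ (k : ℕ) (u : Fin k → V), Frame B u ∧ ∀ x, t x = x + ∑ i, B (u i) x • u i := by
  classical
  let N : V →ₗ[F] V := (t : V →ₗ[F] V) - LinearMap.id
  have hN : ∀ x, N x = t x - x := fun x => rfl
  have hadj : ∀ x y, B x (N y) = B (N x) y := fun x y => (invol_adj h2 ht htt x y).2
  have hti : ∀ x y, B (N x) (N y) = 0 := fun x y => (invol_adj h2 ht htt x y).1
  obtain ⟨Y, hY⟩ := Submodule.exists_isCompl (LinearMap.ker N)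
  let h : Y →ₛₗ[σ] Y →ₗ[F] F := (B.comp Y.subtype).compl₂ (N ∘ₗ Y.subtype)
  have hh : ∀ x y : Y, h x y = B (x : V) (N (y : V)) := fun x y => rfl
  have hdec : ∀ x : V, ∃ a : V, N a = 0 ∧ ∃ b : Y, a + b = x := by
    intro x
    have : x ∈ LinearMap.ker N ⊔ Y := by rw [hY.sup_eq_top]; trivial
    obtain ⟨a, ha, b, hb, e⟩ := Submodule.mem_sup.1 this
    exact ⟨a, ha, ⟨b, hb⟩, e⟩
  have hs : ∀ x y : Y, σ (h x y) = h y x := by
    intro x y
    rw [hh, hh, hadj, ← sw hB]
  have hl : ∀ x : Y, (∀ y, h x y = 0) → x = 0 := by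
    intro x hx
    have h3 : N (x : V) = 0 := by
      refine hB.eq_zero fun y => ?_
      obtain ⟨a, ha, b, rfl⟩ := hdec y
      rw [map_add, ← hadj, ← hadj, ha, map_zero, zero_add]
      exact hx b
    have h4 : (x : V) ∈ LinearMap.ker N ⊓ Y := ⟨h3, x.2⟩
    rw [hY.inf_eq_bot] at h4
    exact Subtype.ext h4
  have hf : HForm h := ⟨⟨hl, fun y hy => hl y fun x => by rw [← hs, hy, map_zero]⟩, ⟨hs⟩, hB.invol, hB.ne_id⟩
  obtain ⟨b, hb⟩ := exists_orthonormal_basis hf
  refine ⟨finrank F Y, fun i => N (b i : V), ⟨?_, fun i l => hti _ _⟩, ?_⟩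
  · rw [Fintype.linearIndependent_iff]
    intro c hc i
    have h3 : B (b i : V) (∑ l, c l • N (b l : V)) = c i := by
      rw [map_sum]
      simp only [smul_right, ← hh, hb, mul_ite, mul_one, mul_zero, Finset.sum_ite_eq, Finset.mem_univ, if_true]
    rw [← h3, hc, map_zero]
  · intro x
    obtain ⟨a, ha, y, rfl⟩ := hdec x
    have h3 : ∀ i, B (N (b i : V)) (a + (y : V)) = h (b i) y := by
      intro i
      rw [map_add, ← hadj, ← hadj, ha, map_zero, zero_add, hh]
    have h4 : N (y : V) = ∑ i, h (b i) y • N (b i : V) := by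
      conv_lhs => rw [← b.sum_repr y]
      rw [Submodule.coe_sum, map_sum]
      refine Finset.sum_congr rfl fun i _ => ?_
      rw [Submodule.coe_smul, map_smul]
      congr 1
      conv_rhs => rw [← b.sum_repr y]
      rw [map_sum]
      simp only [smul_right, hb, mul_ite, mul_one, mul_zero, Finset.sum_ite_eq, Finset.mem_univ, if_true]
    simp only [h3]
    rw [← h4]
    have h5 : N (a + (y : V)) = N (y : V) := by rw [map_add, ha, zero_add]
    rw [← h5, hN]
    abel

end Cfsg.Agent.H406.IF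
end

-- part: H406/IF/RGroup
section
/-!
# S5719, unitary groups in characteristic 2 (helper406): the groups `RR B u s`

`RR B u s` : the elements of `SIso B` which fix the frame `u` and act trivially on `Z^⊥ / Z`, `Z = ⟨u 0, ..., u (s-1)⟩`.
-/

set_option autoImplicit false
set_option linter.unusedSectionVars false

namespace Cfsg.Agent.H406.IF

open Module Cfsg.Agent.H91.U Cfsg.Agent.H450.UF

variable {F V : Type*} [Field F] [AddCommGroup V] [Module F V] {σ : F →+* F} {B : V →ₛₗ[σ] V →ₗ[F] F} {k : ℕ}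

theorem fix_W {u : Fin k → V} {g : V ≃ₗ[F] V} (hg : ∀ i, g (u i) = u i) {s : ℕ} {z : V} (hz : z ∈ W F u s) : g z = z := by
  have h1 : W F u s ≤ LinearMap.ker ((g : V →ₗ[F] V) - LinearMap.id) := W_le_iff.2 fun l _ => by
    rw [LinearMap.mem_ker, LinearMap.sub_apply, LinearMap.id_apply]
    change g (u l) - u l = 0
    rw [hg, sub_self]
  exact sub_eq_zero.1 (h1 hz)

variable (B) in
/-- the elements fixing `u` which act trivially on `Z^⊥ / Z`, `Z = ⟨u 0, ..., u (s-1)⟩` -/
def RR (u : Fin k → V) (s : ℕ) : Subgroup (SIso B) where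
  carrier := {g | (∀ i, g.1 (u i) = u i) ∧ ∀ x ∈ perp B (W F u s), g.1 x - x ∈ W F u s}
  mul_mem' := fun {g h} hg hh => ⟨fun i => by
      change g.1 (h.1 (u i)) = u i
      rw [hh.1, hg.1], fun x hx => by
      have h1 : (g * h).1 x - x = (h.1 x - x) + (g.1 x - x) := by
        change g.1 (h.1 x) - x = _
        have h2 : g.1 (h.1 x - x) = h.1 x - x := fix_W hg.1 (hh.2 x hx)
        rw [map_sub] at h2
        rw [← h2]
        abel
      rw [h1]
      exact add_mem (hh.2 x hx) (hg.2 x hx)⟩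
  one_mem' := ⟨fun i => rfl, fun x hx => by
    change x - x ∈ _
    rw [sub_self]
    exact zero_mem _⟩
  inv_mem' := fun {g} hg => ⟨fun i => by
      change g.1.symm (u i) = u i
      rw [LinearEquiv.symm_apply_eq, hg.1], fun x hx => by
      have h1 : g.1.symm (g.1 x - x) = g.1 x - x := by
        rw [LinearEquiv.symm_apply_eq, fix_W hg.1 (hg.2 x hx)]
      have h2 : (g⁻¹).1 x - x = -(g.1 x - x) := by
        change g.1.symm x - x = _
        rw [map_sub, LinearEquiv.symm_apply_apply] at h1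
        rw [← h1]
        abel
      rw [h2]
      exact neg_mem (hg.2 x hx)⟩

/-- the elements of `RR B u s` commute with `t_u` -/
theorem RR_comm {u : Fin k → V} {t g : SIso B} (ht : ∀ x, t.1 x = x + ∑ i, B (u i) x • u i)
    (hg : ∀ i, g.1 (u i) = u i) : g * t = t * g := by
  apply Subtype.ext
  ext x
  change g.1 (t.1 x) = t.1 (g.1 x)
  rw [ht, ht, map_add, map_sum]
  congr 1
  refine Finset.sum_congr rfl fun i _ => ?_
  rw [map_smul, hg]
  congr 1
  rw [← g.2.2 (u i) x, hg]

theorem smul_sub_mem {u : Fin k → V} {s : ℕ} {g : SIso B} (hg : g ∈ RR B u s) (x : V) :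
    g.1 x - x ∈ perp B (W F u k) := by
  rw [mem_perp_W]
  intro l _
  rw [map_sub, LinearMap.sub_apply, sub_eq_zero, ← g.2.2 x (u l), hg.1]

/-- `(g - 1) ^ 3 = 0` for `g ∈ RR B u s` -/
theorem RR_cube {u : Fin k → V} {s : ℕ} (hsk : s ≤ k) {g : SIso B} (hg : g ∈ RR B u s) (x : V) :
    g.1 (g.1 (g.1 x - x) - (g.1 x - x)) = g.1 (g.1 x - x) - (g.1 x - x) :=
  fix_W hg.1 (hg.2 _ (perp_anti (W_mono u hsk) (smul_sub_mem hg x)))

/-- in characteristic 2 the elements of `RR B u s` have order dividing 4 -/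
theorem RR_four (h2 : (2 : F) = 0) {u : Fin k → V} {s : ℕ} (hsk : s ≤ k) {g : SIso B} (hg : g ∈ RR B u s) :
    (g * g) * (g * g) = 1 := by
  apply Subtype.ext
  ext x
  change g.1 (g.1 (g.1 (g.1 x))) = x
  have h3 : ∀ y : V, y + y = 0 := fun y => by rw [← two_smul F, h2, zero_smul]
  have h4 := RR_cube hsk hg x
  have h5 := RR_cube hsk hg (g.1 x)
  simp only [map_sub] at h4 h5
  have e1 := h3 (g.1 (g.1 (g.1 x)))
  have e2 := h3 (g.1 (g.1 x))
  have e3 := h3 (g.1 x)
  have e4 := h3 x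
  grind

/-- the dual vectors of a frame -/
theorem exists_dual_vec [Finite F] [FiniteDimensional F V] (hB : HForm B) {u : Fin k → V} (hu : Frame B u) :
    ∃ f : Fin k → V, ∀ i j, B (u j) (f i) = if i = j then 1 else 0 := by
  choose f hf using fun i : Fin k => exists_dual hB hu.li (fun j => if i = j then (1 : F) else 0)
  refine ⟨f, fun i j => ?_⟩
  rw [sw hB (f i), hf]
  split_ifs
  · exact map_one _
  · exact map_zero _

section

variable [FiniteDimensional F V]

/-- a Siegel element in `RR B u s` -/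
theorem exists_single [Finite F] (hB : HForm B) {u : Fin k → V} (hu : Frame B u) {s : ℕ} {j : Fin k} (hj : (j : ℕ) < s)
    {w : V} (hw : w ∈ perp B (W F u k)) :
    ∃ g ∈ RR B u s, ∀ x, g.1 x - x - B (u j) x • w ∈ W F u s := by
  have hw' : ∀ i, B w (u i) = 0 := fun i => mem_perp_W.1 hw i i.2
  obtain ⟨μ, hμ⟩ := exists_trace hB (s := -B w w) (by rw [map_neg, self_fix hB])
  obtain ⟨g, hg⟩ := exists_siegel hB (hu.ti j j) (hB.swap_zero (hw' j)) (μ := μ) (by rw [hμ, neg_add_cancel])
  have hu' : u j ∈ W F u s := mem_W u hj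
  refine ⟨g, ⟨fun i => ?_, fun x hx => ?_⟩, fun x => ?_⟩
  · rw [hg, hu.ti, hw', zero_smul, mul_zero, sub_zero, zero_smul, add_zero, add_zero]
  · rw [hg, hB.swap_zero (mem_perp_W.1 hx j hj), zero_smul, add_zero, add_sub_cancel_left]
    exact Submodule.smul_mem _ _ hu'
  · rw [hg, add_assoc, add_sub_cancel_left, add_sub_cancel_left]
    exact Submodule.smul_mem _ _ hu'

theorem exists_multi [Finite F] (hB : HForm B) {u : Fin k → V} (hu : Frame B u) {s : ℕ} {f : Fin k → V}
    (hf : ∀ i j, B (u j) (f i) = if i = j then 1 else 0) {w : Fin k → V} (hw : ∀ i, w i ∈ perp B (W F u k)) (hsk : s ≤ k)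
    (S : Finset (Fin k)) (hS : ∀ i ∈ S, (i : ℕ) < s) :
    ∃ g ∈ RR B u s, ∀ i, g.1 (f i) - f i - (if i ∈ S then w i else 0) ∈ W F u s := by
  classical
  induction S using Finset.induction_on with
  | empty =>
    refine ⟨1, one_mem _, fun i => ?_⟩
    rw [if_neg (Finset.notMem_empty i), sub_zero]
    change f i - f i ∈ _
    rw [sub_self]
    exact zero_mem _
  | insert j S hj ih =>
    obtain ⟨g, hg, h1⟩ := ih fun i hi => hS i (Finset.mem_insert_of_mem hi)
    obtain ⟨h, hh, h2⟩ := exists_single hB hu (hS j (Finset.mem_insert_self j S)) (hw j)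
    refine ⟨h * g, mul_mem hh hg, fun i => ?_⟩
    have h3 : (if i ∈ insert j S then w i else 0) = (if i = j then w j else 0) + (if i ∈ S then w i else 0) := by
      by_cases e : i = j
      · subst e
        rw [if_pos (Finset.mem_insert_self _ _), if_pos rfl, if_neg hj, add_zero]
      · rw [if_neg e, zero_add]
        by_cases e' : i ∈ S
        · rw [if_pos e', if_pos (Finset.mem_insert_of_mem e')]
        · rw [if_neg e', if_neg (by rw [Finset.mem_insert]; (clear * - e e'; itauto))]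
    have h4 : h.1 (g.1 (f i) - f i) - (g.1 (f i) - f i) ∈ W F u s :=
      hh.2 _ (perp_anti (W_mono u hsk) (smul_sub_mem hg (f i)))
    have h5 := h2 (f i)
    have h6 := h1 i
    rw [hf, ite_smul, one_smul, zero_smul] at h5
    have h7 : (h * g).1 (f i) - f i - (if i ∈ insert j S then w i else 0) =
        (h.1 (g.1 (f i) - f i) - (g.1 (f i) - f i)) + (h.1 (f i) - f i - (if i = j then w j else 0)) +
          (g.1 (f i) - f i - (if i ∈ S then w i else 0)) := by
      change h.1 (g.1 (f i)) - f i - _ = _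
      rw [h3, map_sub]
      abel
    rw [h7]
    exact add_mem (add_mem h4 h5) h6

/-- a complement of `Z` in `U^⊥` -/
theorem exists_compl [Finite F] (hB : HForm B) {u : Fin k → V} (hu : Frame B u) {s : ℕ} (hsk : s ≤ k) :
    ∃ C : Submodule F V, C ≤ perp B (W F u k) ∧ C ⊓ W F u s = ⊥ ∧ finrank F C = finrank F V - k - s := by
  obtain ⟨D, hD⟩ := Submodule.exists_isCompl (W F u s)
  have h0 : W F u s ≤ perp B (W F u k) := (W_mono u hsk).trans (ti_le_perp (hu.W_ti k))
  have h1 : W F u s ⊓ (D ⊓ perp B (W F u k)) = ⊥ := by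
    rw [← inf_assoc, hD.inf_eq_bot, bot_inf_eq]
  have h2 : W F u s ⊔ (D ⊓ perp B (W F u k)) = perp B (W F u k) := by
    rw [← sup_inf_assoc_of_le D h0, hD.sup_eq_top, top_inf_eq]
  refine ⟨D ⊓ perp B (W F u k), inf_le_right, by rw [inf_comm]; exact h1, ?_⟩
  have h3 := Submodule.finrank_sup_add_finrank_inf_eq (W F u s) (D ⊓ perp B (W F u k))
  rw [h1, h2, finrank_bot, finrank_W hu.li hsk] at h3
  have h4 := finrank_perp hB (W F u k)
  rw [finrank_W hu.li le_rfl] at h4
  omega

/-- **the order of `RR B u s`** -/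
theorem card_RR [Fintype F] {q : ℕ} (hF : Fintype.card F = q ^ 2) (hB : HForm B) (h2 : (2 : F) = 0) {u : Fin k → V}
    (hu : Frame B u) {s : ℕ} (hs : 1 ≤ s) (hsk : s ≤ k) :
    q * (q ^ 2) ^ (s * (finrank F V - k - s)) ≤ Nat.card (RR B u s) := by
  classical
  have : Finite V := Module.finite_of_finite F
  have : Finite (V ≃ₗ[F] V) := Finite.of_injective (fun g : V ≃ₗ[F] V => (g : V → V)) DFunLike.coe_injective
  obtain ⟨f, hf⟩ := exists_dual_vec hB hu
  obtain ⟨C, hC, hCZ, hCd⟩ := exists_compl hB hu hsk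
  have hneg : ∀ a : F, -a = a := fun a => by
    have : a + a = 0 := by rw [← two_mul, h2, zero_mul]
    exact neg_eq_of_add_eq_zero_left this
  have hG : ∀ w : Fin s → C, ∃ g ∈ RR B u s, ∀ i : Fin s, g.1 (f (Fin.castLE hsk i)) - f (Fin.castLE hsk i) -
      (w i : V) ∈ W F u s := by
    intro w
    obtain ⟨g, hg, h⟩ := exists_multi hB hu hf (w := fun i => if h : (i : ℕ) < s then (w ⟨i, h⟩ : V) else 0) (fun i => by
      split_ifs with h
      · exact hC (w ⟨i, h⟩).2
      · exact zero_mem _) hsk (Finset.univ.filter fun i : Fin k => (i : ℕ) < s) (fun i hi => (Finset.mem_filter.1 hi).2)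
    refine ⟨g, hg, fun i => ?_⟩
    have h3 := h (Fin.castLE hsk i)
    have h4 : ((Fin.castLE hsk i : Fin k) : ℕ) < s := i.2
    have h5 : Fin.castLE hsk i ∈ Finset.univ.filter fun i : Fin k => (i : ℕ) < s :=
      Finset.mem_filter.2 ⟨Finset.mem_univ _, h4⟩
    rw [if_pos h5, dif_pos h4] at h3
    exact h3
  choose G hGm hG using hG
  have hτ : ∀ a : {a : F // a ^ q = a}, ∃ g : SIso B, ∀ x, g.1 x = x + (a.1 * B (u (Fin.castLE hsk ⟨0, hs⟩)) x) •
      u (Fin.castLE hsk ⟨0, hs⟩) := by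
    intro a
    obtain ⟨g, hg⟩ := exists_siegel hB (w := 0) (μ := a.1) (hu.ti (Fin.castLE hsk ⟨0, hs⟩) (Fin.castLE hsk ⟨0, hs⟩))
      (map_zero _) (by
        rw [map_zero, add_zero, sig_eq hF hB.ne_id hB.invol, a.2, ← two_mul, h2, zero_mul])
    refine ⟨g, fun x => ?_⟩
    rw [hg, smul_zero, add_zero, map_zero, LinearMap.zero_apply, sub_zero]
  choose τ hτ using hτ
  have hu0 : u (Fin.castLE hsk ⟨0, hs⟩) ∈ W F u s := mem_W u hs
  have hτm : ∀ a, τ a ∈ RR B u s := by
    intro a
    refine ⟨fun i => ?_, fun x _ => ?_⟩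
    · rw [hτ, hu.ti, mul_zero, zero_smul, add_zero]
    · rw [hτ, add_sub_cancel_left]
      exact Submodule.smul_mem _ _ hu0
  let Φ : (Fin s → C) × {a : F // a ^ q = a} → RR B u s := fun p => ⟨G p.1 * τ p.2, mul_mem (hGm p.1) (hτm p.2)⟩
  have hΦ : Function.Injective Φ := by
    rintro ⟨w, a⟩ ⟨w', a'⟩ e
    have e1 : ∀ x, (G w).1 ((τ a).1 x) = (G w').1 ((τ a').1 x) := fun x =>
      congrArg (fun g : RR B u s => g.1.1 x) e
    have key : ∀ (w : Fin s → C) (a : {a : F // a ^ q = a}) (i : Fin s),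
        (G w).1 ((τ a).1 (f (Fin.castLE hsk i))) - f (Fin.castLE hsk i) - (w i : V) ∈ W F u s := by
      intro w a i
      rw [hτ, map_add, fix_W (hGm w).1 (Submodule.smul_mem _ _ hu0)]
      have h3 : ∀ x y z v : V, x + y - z - v = (x - z - v) + y := fun x y z v => by abel
      rw [h3]
      exact add_mem (hG w i) (Submodule.smul_mem _ _ hu0)
    have hw : w = w' := by
      funext i
      have h3 := key w a i
      have h4 := key w' a' i
      rw [← e1] at h4
      have h5 : ((w i : V) - (w' i : V)) ∈ C ⊓ W F u s := by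
        refine ⟨sub_mem (w i).2 (w' i).2, ?_⟩
        have h6 := sub_mem h4 h3
        have h7 : ∀ x z v v' : V, (x - z - v') - (x - z - v) = v - v' := fun x z v v' => by abel
        rwa [h7] at h6
      rw [hCZ, Submodule.mem_bot, sub_eq_zero] at h5
      exact Subtype.ext h5
    subst hw
    have h6 := e1 (f (Fin.castLE hsk ⟨0, hs⟩))
    have h7 := (G w).1.injective h6
    rw [hτ, hτ, hf, if_pos rfl, mul_one, mul_one] at h7
    have h8 : a = a' := Subtype.ext (smul_left_injective F (hu.li.ne_zero _) (add_left_cancel h7))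
    rw [h8]
  have h3 := Nat.card_le_card_of_injective Φ hΦ
  have h4 : Nat.card C = (q ^ 2) ^ (finrank F V - k - s) := by
    rw [Module.natCard_eq_pow_finrank (K := F), hCd, Nat.card_eq_fintype_card, hF]
  rw [Nat.card_prod, Nat.card_fun, h4, Cfsg.Agent.LieClassical.HermBasic.card_fixed hF, Nat.card_eq_fintype_card,
    Fintype.card_fin, ← pow_mul, mul_comm (finrank F V - k - s) s, mul_comm] at h3
  exact h3

/-- **the rank of the involutions of `RR B u s`** -/
theorem rank_le [Finite F] (hB : HForm B) {u : Fin k → V} (hu : Frame B u) {s : ℕ} (hsk : s ≤ k) {g : SIso B}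
    (hg : g ∈ RR B u s) {k' : ℕ} {u' : Fin k' → V} (hu' : Frame B u')
    (hgu : ∀ x, g.1 x = x + ∑ i, B (u' i) x • u' i) : k' ≤ 2 * s := by
  let N : V →ₗ[F] V := (g.1 : V →ₗ[F] V) - LinearMap.id
  have hN : ∀ x, N x = g.1 x - x := fun x => rfl
  have h1 : perp B (W F u' k') = LinearMap.ker N := by
    ext x
    rw [mem_perp_W, LinearMap.mem_ker, hN, hgu, add_sub_cancel_left]
    constructor
    · intro h
      refine Finset.sum_eq_zero fun i _ => ?_
      rw [hB.swap_zero (h i i.2), zero_smul]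
    · intro h l _
      exact hB.swap_zero (Fintype.linearIndependent_iff.1 hu'.li _ h l)
  have h2 := finrank_perp hB (W F u' k')
  rw [finrank_W hu'.li le_rfl, h1] at h2
  have h3 := finrank_perp hB (W F u s)
  rw [finrank_W hu.li hsk] at h3
  let M : perp B (W F u s) →ₗ[F] V := N ∘ₗ Submodule.subtype _
  have h4 := LinearMap.finrank_range_add_finrank_ker M
  have h5 : finrank F (LinearMap.range M) ≤ s := by
    refine (Submodule.finrank_mono ?_).trans (finrank_W (F := F) hu.li hsk).le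
    rintro _ ⟨x, rfl⟩
    exact hg.2 x.1 x.2
  have h6 : finrank F (LinearMap.ker M) ≤ finrank F (LinearMap.ker N) := by
    rw [show LinearMap.ker M = (LinearMap.ker N).comap (Submodule.subtype _) from rfl]
    refine LinearMap.finrank_le_finrank_of_injective
      (f := (Submodule.subtype (perp B (W F u s))).restrict (p := (LinearMap.ker N).comap (Submodule.subtype _))
        (q := LinearMap.ker N) fun x hx => hx) ?_
    intro x y e
    exact Subtype.ext (Subtype.ext (congrArg Subtype.val e :))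
  omega

end

end Cfsg.Agent.H406.IF
end

-- part: H999/IF/HeisU
section
/-!
# S5719, unitary groups: groups of Siegel elements without transvections (helper999, for helper406)
-/

set_option autoImplicit false
set_option linter.unusedSectionVars false

namespace Cfsg.Agent.H999.IFU

open Cfsg Module Cfsg.Agent.H91.U Cfsg.Agent.H450.UF

variable {F V : Type*} [Field F] [AddCommGroup V] [Module F V] {σ : F →+* F} {B : V →ₛₗ[σ] V →ₗ[F] F}

/-- A subgroup on which `B` is symmetric has at most `√|V|` elements. -/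
theorem card_sq_le [Finite F] [FiniteDimensional F V] (hB : HForm B) (Y : AddSubgroup V)
    (hY : ∀ y ∈ Y, ∀ v ∈ Y, B v y = B y v) : Nat.card Y * Nat.card Y ≤ Nat.card V := by
  classical
  have : Finite V := Module.finite_of_finite F
  obtain ⟨x0, hx0⟩ : ∃ x0 : F, x0 - σ x0 ≠ 0 := by
    by_contra hcon
    push Not at hcon
    apply hB.ne_id
    ext x
    exact (sub_eq_zero.1 (hcon x)).symm
  obtain ⟨ω, hω⟩ := AddChar.exists_apply_ne_zero.2 hx0
  let Ψ : V → AddChar V ℂ := fun y =>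
    { toFun := fun v => ω (B v y - B y v)
      map_zero_eq_one' := by
        rw [map_zero, map_zero, LinearMap.zero_apply, sub_zero]; exact AddChar.map_zero_eq_one ω
      map_add_eq_mul' := by
        intro v v'
        rw [map_add, map_add, LinearMap.add_apply, ← AddChar.map_add_eq_mul]
        congr 1
        ring }
  have hΨ : ∀ y v, Ψ y v = ω (B v y - B y v) := fun _ _ => rfl
  apply iso_card Ψ _ Y
  · intro y hy v hv
    rw [hΨ, hY y hy v hv, sub_self]
    exact AddChar.map_zero_eq_one ω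
  · intro y y' hyy
    by_contra hne
    obtain ⟨v, hv⟩ := hB.exists_ne (sub_ne_zero.2 hne)
    have hv' : B v (y - y') ≠ 0 := fun h => hv (hB.swap_zero h)
    obtain ⟨c, hc⟩ : ∃ c : F, σ c * B v (y - y') = x0 := by
      refine ⟨σ (x0 / B v (y - y')), ?_⟩
      rw [hB.invol, div_mul_cancel₀ _ hv']
    have h1 : B (c • v) (y - y') = x0 := by rw [Cfsg.Agent.H450.UF.smul_left, hc]
    have h2 : B (y - y') (c • v) = σ x0 := by rw [sw hB (c • v) (y - y'), h1]
    have h3 : Ψ y (c • v) = Ψ y' (c • v) := by rw [hyy]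
    apply hω
    have h4 : x0 - σ x0 = (B (c • v) y - B y (c • v)) - (B (c • v) y' - B y' (c • v)) := by
      rw [← h2, ← h1, map_sub, map_sub, LinearMap.sub_apply]
      ring
    rw [h4, AddChar.map_sub_eq_div, ← hΨ, ← hΨ, h3, div_self]
    rw [hΨ]
    exact (AddChar.val_isUnit ω _).ne_zero

/-- **Lemma H (abstract form).** A group of Siegel elements of `e` without transvections. -/
theorem card_le_of_no_transv [Fintype F] [FiniteDimensional F V] {q : ℕ} (hF : Fintype.card F = q ^ 2) (hB : HForm B)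
    {K : Subgroup (SIso B)} {e : V} (he : e ≠ 0) (hee : B e e = 0) (h1 : ∀ g ∈ K, (g : SIso B).1 e = e)
    (h2 : ∀ g ∈ K, ∀ x, B e x = 0 → ∃ c : F, (g : SIso B).1 x = x + c • e)
    (h3 : ∀ g ∈ K, (∀ x, B e x = 0 → (g : SIso B).1 x = x) → g = 1) : Nat.card K ≤ q ^ (finrank F V - 2) := by
  classical
  have hfV : Finite V := Module.finite_of_finite F
  obtain ⟨x, hx⟩ := hB.exists_ne he
  let f : V := (B e x)⁻¹ • x
  have hef : B e f = 1 := by rw [Cfsg.Agent.H450.UF.smul_right, inv_mul_cancel₀ hx]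
  have hfe : B f e = 1 := by rw [sw hB e f, hef, map_one]
  let z : K → V := fun g => g.1.1 f - f
  have hz : ∀ g : K, g.1.1 f = f + z g := fun g => (add_sub_cancel _ _).symm
  have hze : ∀ g : K, B e (z g) = 0 := by
    intro g
    have h4 := g.1.2.2 e f
    rw [h1 g.1 g.2, hz, map_add, add_eq_left] at h4
    exact h4
  have hzx : ∀ (g : K) (x : V), B e x = 0 → g.1.1 x = x - B (z g) x • e := by
    intro g x hx
    obtain ⟨c, hc⟩ := h2 g.1 g.2 x hx
    have h4 := g.1.2.2 f x
    have h5 : B (z g) e = 0 := hB.swap_zero (hze g)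
    rw [hz, hc, map_add, map_add, LinearMap.add_apply, LinearMap.add_apply, Cfsg.Agent.H450.UF.smul_right, Cfsg.Agent.H450.UF.smul_right, hfe, h5,
      mul_zero, mul_one, add_zero] at h4
    have h6 : c = -B (z g) x := by linear_combination h4
    rw [hc, h6, neg_smul, sub_eq_add_neg]
  -- `g` is determined by `z g` modulo `e`
  have hinj : ∀ (g g' : K) (a a' : F), z g + a • e = z g' + a' • e → g = g' ∧ a = a' := by
    intro g g' a a' h
    have h4 : ∀ x, B e x = 0 → B (z g) x = B (z g') x := by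
      intro x hx
      have h5 := congrArg (fun v => B v x) h
      simp only [map_add, LinearMap.add_apply, Cfsg.Agent.H450.UF.smul_left, hx, mul_zero, add_zero] at h5
      exact h5
    have h6 : g'⁻¹ * g = 1 := by
      apply Subtype.ext
      apply h3 _ (g'⁻¹ * g).2
      intro x hx
      change g'.1.1⁻¹ (g.1.1 x) = x
      have h7 : g.1.1 x = g'.1.1 x := by rw [hzx g x hx, hzx g' x hx, h4 x hx]
      rw [h7]
      exact LinearEquiv.symm_apply_apply g'.1.1 x
    have h7 : g = g' := (inv_mul_eq_one.1 h6).symm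
    refine ⟨h7, ?_⟩
    rw [h7, add_right_inj] at h
    exact smul_left_injective F he h
  have hmul : ∀ g g' : K, z (g * g') = z g + z g' - B (z g) (z g') • e := by
    intro g g'
    change g.1.1 (g'.1.1 f) - f = _
    rw [hz g', map_add, hz g, hzx g _ (hze g')]
    abel
  have hcomm : ∀ g g' : K, g * g' = g' * g := by
    intro g g'
    apply (hinj (g * g') (g' * g) (B (z g) (z g')) (B (z g') (z g)) _).1
    rw [hmul, hmul]
    abel
  have hsymm : ∀ g g' : K, B (z g) (z g') = B (z g') (z g) := by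
    intro g g'
    have h4 := hmul g g'
    rw [hcomm g g', hmul g' g, add_comm (z g') (z g)] at h4
    have h5 : B (z g') (z g) • e = B (z g) (z g') • e := by
      have := congrArg (fun v => z g + z g' - v) h4
      simpa only [_root_.sub_sub_cancel] using this
    exact (smul_left_injective F he h5).symm
  have hz1 : z 1 = 0 := sub_self f
  have hinv : ∀ g : K, z g⁻¹ = -z g - B (z g) (z g) • e := by
    intro g
    have h4 := hmul g g⁻¹
    rw [mul_inv_cancel, hz1] at h4
    have h5 : B (z g) (z g⁻¹) = -B (z g) (z g) := by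
      have h6 := congrArg (fun v => B (z g) v) h4
      simp only [map_zero, map_sub, map_add, Cfsg.Agent.H450.UF.smul_right, hB.swap_zero (hze g), mul_zero, sub_zero] at h6
      linear_combination -h6
    rw [h5] at h4
    have h7 : z g⁻¹ = (z g + z g⁻¹ - -B (z g) (z g) • e) - z g - B (z g) (z g) • e := by
      rw [neg_smul]; abel
    rw [h7, ← h4, zero_sub]
  let Y : AddSubgroup V :=
    { carrier := {v | ∃ (g : K) (a : F), v = z g + a • e}
      zero_mem' := ⟨1, 0, by rw [hz1, zero_smul, add_zero]⟩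
      add_mem' := by
        rintro _ _ ⟨g, a, rfl⟩ ⟨g', a', rfl⟩
        refine ⟨g * g', a + a' + B (z g) (z g'), ?_⟩
        rw [hmul, add_smul, add_smul]
        abel
      neg_mem' := by
        rintro _ ⟨g, a, rfl⟩
        refine ⟨g⁻¹, -a + B (z g) (z g), ?_⟩
        rw [hinv, add_smul, neg_smul]
        abel }
  have hYs : ∀ y ∈ Y, ∀ v ∈ Y, B v y = B y v := by
    rintro _ ⟨g, a, rfl⟩ _ ⟨g', a', rfl⟩
    simp only [map_add, LinearMap.add_apply, Cfsg.Agent.H450.UF.smul_left, Cfsg.Agent.H450.UF.smul_right, hze, hB.swap_zero (hze _), hee, mul_zero,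
      add_zero]
    exact hsymm g' g
  have hc := card_sq_le hB Y hYs
  have hcY : Nat.card Y = Nat.card K * q ^ 2 := by
    rw [← hF, ← Nat.card_eq_fintype_card, ← Nat.card_prod]
    symm
    apply Nat.card_congr
    refine Equiv.ofBijective (fun p : K × F => (⟨z p.1 + p.2 • e, p.1, p.2, rfl⟩ : Y)) ⟨?_, ?_⟩
    · intro p p' hpp
      have := hinj p.1 p'.1 p.2 p'.2 (congrArg (fun y : Y => (y : V)) hpp)
      exact Prod.ext this.1 this.2
    · rintro ⟨_, g, a, rfl⟩
      exact ⟨(g, a), rfl⟩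
  have hcV : Nat.card V = q ^ (finrank F V) * q ^ (finrank F V) := by
    rw [Module.natCard_eq_pow_finrank (K := F), Nat.card_eq_fintype_card, hF, ← pow_mul, ← pow_add]
    congr 1
    ring
  rw [hcV] at hc
  have h8 : Nat.card K * q ^ 2 ≤ q ^ finrank F V := by
    rw [← hcY]
    exact Nat.mul_self_le_mul_self_iff.1 hc
  have hq : 0 < q := by
    rcases Nat.eq_zero_or_pos q with h | h
    · rw [h] at hF
      exact absurd hF (by simp [Fintype.card_ne_zero])
    · exact h
  have h9 : 2 ≤ finrank F V := by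
    by_contra hcon
    push Not at hcon
    -- `e`, `f` are linearly independent
    have h10 : LinearIndependent F ![e, f] := by
      rw [LinearIndependent.pair_iff]
      intro s t hst
      have h11 := congrArg (fun v => B e v) hst
      simp only [map_add, Cfsg.Agent.H450.UF.smul_right, hee, hef, map_zero, mul_zero, zero_add, mul_one] at h11
      refine ⟨?_, h11⟩
      rw [h11, zero_smul, add_zero] at hst
      exact (smul_eq_zero.1 hst).resolve_right he
    have h11 := h10.fintype_card_le_finrank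
    rw [Fintype.card_fin] at h11
    omega
  have h12 : q ^ finrank F V = q ^ (finrank F V - 2) * q ^ 2 := by
    rw [← pow_add]
    congr 1
    omega
  rw [h12] at h8
  exact Nat.le_of_mul_le_mul_right h8 (by positivity)

end Cfsg.Agent.H999.IFU
end

-- part: H406/IF/Desc
section
/-!
# S5719, unitary groups in characteristic 2 (helper406): descent to transvections

`X ≤ SIso B` such that `|C : X ∩ C| ^ 5 < |G : C_G(t)|` for every involution `t ∈ X` and every `C ≤ C_G(t)`.
* `descent` : an involution of rank `k ≥ 3` in `X` yields an involution of smaller rank in `X`;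
* `two_one` : an involution of rank 2 in `X` yields a transvection in `X`;
* `exists_transv` : if `X` contains an involution, then it contains a transvection.
-/

set_option autoImplicit false
set_option linter.unusedSectionVars false

namespace Cfsg.Agent.H406.IF

open Module Subgroup Cfsg.Agent.H91.U Cfsg.Agent.H450.UF

variable {F V : Type*} [Field F] [AddCommGroup V] [Module F V] {σ : F →+* F} {B : V →ₛₗ[σ] V →ₗ[F] F}

/-- the group theoretic hypothesis -/
def Small (X : Subgroup (SIso B)) : Prop := ∀ t ∈ X, t * t = 1 → t ≠ 1 → ∀ C : Subgroup (SIso B),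
  (∀ c ∈ C, c * t = t * c) → X.relIndex C ^ 5 < (centralizer ({t} : Set (SIso B))).index

variable (B) in
/-- the bound for the class of `t_u` -/
def ClassLe (q : ℕ) : Prop := ∀ (k : ℕ) (u : Fin k → V), Frame B u → ∀ t : SIso B,
  (∀ x, t.1 x = x + ∑ i, B (u i) x • u i) →
  (centralizer ({t} : Set (SIso B))).index * q ^ k ≤ (q + 1) ^ k * q ^ (2 * k * (finrank F V - k))

theorem tu_sq (h2 : (2 : F) = 0) {k : ℕ} {u : Fin k → V} (hu : Frame B u) {t : SIso B}
    (ht : ∀ x, t.1 x = x + ∑ i, B (u i) x • u i) : t * t = 1 := by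
  apply Subtype.ext
  ext x
  change t.1 (t.1 x) = x
  have h3 : ∀ i, B (u i) (t.1 x) = B (u i) x := by
    intro i
    rw [ht, map_add, map_sum]
    simp only [smul_right, hu.ti, mul_zero, Finset.sum_const_zero, add_zero]
  rw [ht (t.1 x)]
  simp only [h3]
  rw [ht x, add_assoc, ← two_smul F (∑ i, B (u i) x • u i), h2, zero_smul, add_zero]

theorem tu_ne [Finite F] [FiniteDimensional F V] (hB : HForm B) {k : ℕ} (hk : 1 ≤ k) {u : Fin k → V} (hu : Frame B u)
    {t : SIso B} (ht : ∀ x, t.1 x = x + ∑ i, B (u i) x • u i) : t ≠ 1 := by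
  rintro rfl
  obtain ⟨f, hf⟩ := exists_dual_vec hB hu
  have h1 := ht (f ⟨0, hk⟩)
  change f ⟨0, hk⟩ = _ at h1
  simp only [hf, ite_smul, one_smul, zero_smul, Finset.sum_ite_eq, Finset.mem_univ, if_true] at h1
  exact hu.li.ne_zero _ (left_eq_add.1 h1)

theorem pow_aux {q k : ℕ} (hq : 2 ≤ q) (hk : 3 ≤ k) : (q + 1) ^ k ≤ q ^ (2 * k - 1) := by
  have h1 : 2 * (q + 1) ≤ 3 * q := by omega
  have h2 : (2 * (q + 1)) ^ k ≤ (3 * q) ^ k := Nat.pow_le_pow_left h1 k
  have h3 : 2 * 3 ^ k ≤ 4 ^ k := by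
    obtain ⟨j, rfl⟩ := Nat.exists_eq_add_of_le hk
    rw [pow_add, pow_add]
    have h4 : 3 ^ j ≤ 4 ^ j := Nat.pow_le_pow_left (by norm_num) j
    omega
  rw [mul_pow, mul_pow] at h2
  have h4 : (2 : ℕ) ^ k * 2 ^ k = 4 ^ k := by rw [← mul_pow]; norm_num
  have h5 : 2 ^ k * (2 * (q + 1) ^ k) ≤ 2 ^ k * (2 ^ k * q ^ k) := by
    calc 2 ^ k * (2 * (q + 1) ^ k) = 2 * (2 ^ k * (q + 1) ^ k) := by ring
      _ ≤ 2 * (3 ^ k * q ^ k) := Nat.mul_le_mul_left 2 h2
      _ = (2 * 3 ^ k) * q ^ k := by ring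
      _ ≤ 4 ^ k * q ^ k := Nat.mul_le_mul_right _ h3
      _ = 2 ^ k * (2 ^ k * q ^ k) := by rw [← h4]; ring
  have h6 := Nat.le_of_mul_le_mul_left h5 (by positivity)
  have h7 : (2 : ℕ) ^ k = 2 * 2 ^ (k - 1) := by
    rw [← pow_succ', Nat.sub_add_cancel (by omega)]
  rw [h7, mul_assoc] at h6
  have h8 := Nat.le_of_mul_le_mul_left h6 two_pos
  have h9 : 2 ^ (k - 1) * q ^ k ≤ q ^ (k - 1) * q ^ k := Nat.mul_le_mul_right _ (Nat.pow_le_pow_left hq _)
  rw [← pow_add, show k - 1 + k = 2 * k - 1 by omega] at h9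
  exact h8.trans h9

theorem exp_aux {n k : ℕ} (hk : 3 ≤ k) (hn : 2 * k ≤ n) :
    2 * k - 1 + 2 * k * (n - k) ≤ 5 * (1 + 2 * ((k - 1) / 2 * (n - k - (k - 1) / 2))) + k := by
  obtain ⟨r, rfl⟩ := Nat.exists_eq_add_of_le hn
  obtain ⟨s, hs⟩ : ∃ s, s = (k - 1) / 2 := ⟨_, rfl⟩
  rw [← hs]
  have h1 : 2 * k + r - k = k + r := by omega
  rw [h1]
  have h3 : 1 ≤ s := by omega
  rcases (show k = 2 * s + 1 ∨ k = 2 * s + 2 by (clear * - hk hs; omega)) with e | e
  · have h2 : k + r - s = s + 1 + r := by omega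
    rw [h2, e]
    have h4 : 2 * (2 * s + 1) - 1 = 4 * s + 1 := by (clear * - h2; omega)
    rw [h4]
    have h5 : r ≤ s * r := Nat.le_mul_of_pos_left _ h3
    nlinarith only [h5]
  · have h2 : k + r - s = s + 2 + r := by omega
    rw [h2, e]
    have h4 : 2 * (2 * s + 2) - 1 = 4 * s + 3 := by (clear * - h2; omega)
    rw [h4]
    have h5 : r ≤ s * r := Nat.le_mul_of_pos_left _ h3
    nlinarith only [h3]

section

variable [Fintype F] [FiniteDimensional F V]

theorem finite_SIso (B : V →ₛₗ[σ] V →ₗ[F] F) : Finite (SIso B) := by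
  have : Finite V := Module.finite_of_finite F
  have : Finite (V ≃ₗ[F] V) := Finite.of_injective (fun g : V ≃ₗ[F] V => (g : V → V)) DFunLike.coe_injective
  infer_instance

theorem two_le_q {q : ℕ} (hF : Fintype.card F = q ^ 2) : 2 ≤ q := Cfsg.Agent.LieClassical.HermBasic.two_le hF

/-- **Descent.** -/
theorem descent {q : ℕ} (hF : Fintype.card F = q ^ 2) (hB : HForm B) (h2 : (2 : F) = 0) (hcl : ClassLe B q)
    {X : Subgroup (SIso B)} (hX : Small X) {k : ℕ} (hk : 3 ≤ k) {u : Fin k → V} (hu : Frame B u) {t : SIso B}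
    (htX : t ∈ X) (ht : ∀ x, t.1 x = x + ∑ i, B (u i) x • u i) :
    ∃ k' : ℕ, 1 ≤ k' ∧ k' < k ∧ ∃ u' : Fin k' → V, Frame B u' ∧ ∃ t' ∈ X, ∀ x, t'.1 x = x + ∑ i, B (u' i) x • u' i := by
  have := finite_SIso B
  have hq := two_le_q hF
  have hn := frame_two_mul_le hB hu
  set! s := (k - 1) / 2 with hs
  have hs1 : 1 ≤ s := by omega
  have hsk : s ≤ k := by omega
  obtain ⟨g, hgX, hgR, hg1⟩ : ∃ g ∈ X, g ∈ RR B u s ∧ g ≠ 1 := by
    by_contra hcon
    push Not at hcon
    have h3 : X ⊓ RR B u s = ⊥ := by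
      rw [eq_bot_iff]
      rintro g ⟨h4, h5⟩
      exact mem_bot.2 (hcon g h4 h5)
    have h4 := hX t htX (tu_sq h2 hu ht) (tu_ne hB (by omega) hu ht) (RR B u s) (fun c hc => RR_comm ht hc.1)
    rw [← inf_relIndex_right, h3, relIndex_bot_left] at h4
    have h5 := hcl k u hu t ht
    have h6 := card_RR hF hB h2 hu hs1 hsk
    rw [← pow_mul, ← pow_succ', show 2 * (s * (finrank F V - k - s)) + 1 = 1 + 2 * (s * (finrank F V - k - s)) by ring]
      at h6
    have h7 := Nat.pow_le_pow_left h6 5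
    rw [← pow_mul] at h7
    have h8 : q ^ ((1 + 2 * (s * (finrank F V - k - s))) * 5) * q ^ k < (q + 1) ^ k * q ^ (2 * k * (finrank F V - k)) :=
      lt_of_lt_of_le (Nat.mul_lt_mul_of_pos_right (lt_of_le_of_lt h7 h4) (by positivity)) h5
    have h9 : (q + 1) ^ k * q ^ (2 * k * (finrank F V - k)) ≤ q ^ (2 * k - 1) * q ^ (2 * k * (finrank F V - k)) :=
      Nat.mul_le_mul_right _ (pow_aux hq hk)
    rw [← pow_add] at h9
    rw [← pow_add] at h8
    have h10 := lt_of_lt_of_le h8 h9
    rw [Nat.pow_lt_pow_iff_right (by omega)] at h10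
    have h11 := exp_aux hk hn
    rw [← hs] at h11
    omega
  obtain ⟨g', hgX', hgR', hg1', hgg'⟩ : ∃ g' ∈ X, g' ∈ RR B u s ∧ g' ≠ 1 ∧ g' * g' = 1 := by
    by_cases h3 : g * g = 1
    · exact ⟨g, hgX, hgR, hg1, h3⟩
    · exact ⟨g * g, mul_mem hgX hgX, mul_mem hgR hgR, h3, RR_four h2 hsk hgR⟩
  obtain ⟨k', u', hu', h3⟩ := exists_frame hB h2 g'.2.2 (fun x => by
    change (g' * g').1 x = x
    rw [hgg']; rfl)
  have h4 := rank_le hB hu hsk hgR' hu' h3
  refine ⟨k', ?_, by omega, u', hu', g', hgX', h3⟩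
  by_contra h5
  obtain rfl : k' = 0 := by omega
  apply hg1'
  apply Subtype.ext
  ext x
  rw [h3, Fin.sum_univ_zero, add_zero]
  rfl

/-- an isometry which is trivial on `e^⊥` is a transvection -/
theorem transv_form (hB : HForm B) {e : V} (he : e ≠ 0) (hee : B e e = 0) {g : SIso B}
    (hg : ∀ x, B e x = 0 → g.1 x = x) : ∃ a : F, ∀ x, g.1 x = x + (a * B e x) • e := by
  obtain ⟨f, -, hf⟩ := exists_hyp hB he hee
  set! v := g.1 f - f with hv
  have h1 : ∀ x, B e x = 0 → B v x = 0 := by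
    intro x hx
    rw [hv, map_sub, LinearMap.sub_apply, sub_eq_zero, ← g.2.2 f x, hg x hx]
  have h2 : v = σ (B v f) • e := by
    rw [← sub_eq_zero]
    refine hB.eq_zero fun y => ?_
    have h3 := h1 (y - B e y • f) (by rw [map_sub, smul_right, hf, mul_one, sub_self])
    rw [map_sub, smul_right] at h3
    rw [map_sub, LinearMap.sub_apply, smul_left, hB.invol]
    linear_combination h3
  refine ⟨σ (B v f), fun x => ?_⟩
  have h3 := hg (x - B e x • f) (by rw [map_sub, smul_right, hf, mul_one, sub_self])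
  have h4 : g.1 f = f + v := by rw [hv]; abel
  rw [map_sub, map_smul, h4, h2] at h3
  rw [sub_eq_iff_eq_add] at h3
  rw [h3, mul_comm (σ (B v f)), mul_smul, ← h2]
  module

/-- **the group `C_{Q_e}(t)` for an involution of rank 2, `e = u 0 + u 1`** -/
theorem card_two {q : ℕ} (hF : Fintype.card F = q ^ 2) (hB : HForm B) (h2 : (2 : F) = 0) {u : Fin 2 → V}
    (hu : Frame B u) {t : SIso B} (ht : ∀ x, t.1 x = x + ∑ i, B (u i) x • u i) :
    q ^ (2 * (finrank F V - 2)) ≤
      Nat.card (centralizer ({t} : Set (SIso B)) ⊓ RR B (fun _ : Fin 1 => u 0 + u 1) 1 : Subgroup (SIso B)) := by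
  classical
  have := finite_SIso B
  have : Finite V := Module.finite_of_finite F
  have hq := two_le_q hF
  set e : V := u 0 + u 1 with he
  set D : Subgroup (SIso B) := centralizer ({t} : Set (SIso B)) ⊓ RR B (fun _ : Fin 1 => e) 1 with hD
  have h00 : B (u 0) (u 0) = 0 := hu.ti 0 0
  have h01 : B (u 0) (u 1) = 0 := hu.ti 0 1
  have h10 : B (u 1) (u 0) = 0 := hu.ti 1 0
  have h11 : B (u 1) (u 1) = 0 := hu.ti 1 1
  have hee : B e e = 0 := by
    rw [he]
    simp only [map_add, LinearMap.add_apply, h00, h01, h10, h11, add_zero]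
  have hBe : ∀ x, B e x = B (u 0) x + B (u 1) x := fun x => by rw [he, map_add, LinearMap.add_apply]
  have ht2 : ∀ x, t.1 x = x + (B (u 0) x • u 0 + B (u 1) x • u 1) := fun x => by rw [ht, Fin.sum_univ_two]
  have hdb : ∀ a : F, a + a = 0 := fun a => by rw [← two_mul, h2, zero_mul]
  obtain ⟨f, hf⟩ := exists_dual_vec hB hu
  have hf00 : B (u 0) (f 0) = 1 := by rw [hf, if_pos rfl]
  have hf11 : B (u 1) (f 1) = 1 := by rw [hf, if_pos rfl]
  have hf10 : B (u 1) (f 0) = 0 := by rw [hf, if_neg (by decide)]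
  have hf01 : B (u 0) (f 1) = 0 := by rw [hf, if_neg (by decide)]
  have hef : B e (f 0) = 1 := by rw [hBe, hf00, hf10, add_zero]
  have hfe : B (f 0) e = 1 := by rw [sw hB e, hef, map_one]
  -- the parameters
  let Fx := {a : F // a ^ q = a}
  let P := perp B (W F u 2) × Fx × Fx
  have hfix : ∀ a : Fx, σ a.1 = a.1 := fun a => by rw [sig_eq hF hB.ne_id hB.invol, a.2]
  let w : P → V := fun p => (p.1 : V) + p.2.1.1 • (f 0 + f 1)
  have hw0 : ∀ p, B (u 0) (w p) = p.2.1.1 := by
    intro p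
    have h3 : B (u 0) (p.1 : V) = 0 := hB.swap_zero (mem_perp_W.1 p.1.2 0 (by decide))
    change B (u 0) ((p.1 : V) + p.2.1.1 • (f 0 + f 1)) = _
    rw [map_add, h3, smul_right, map_add, hf00, hf01, zero_add, add_zero, mul_one]
  have hw1 : ∀ p, B (u 1) (w p) = p.2.1.1 := by
    intro p
    have h3 : B (u 1) (p.1 : V) = 0 := hB.swap_zero (mem_perp_W.1 p.1.2 1 (by decide))
    change B (u 1) ((p.1 : V) + p.2.1.1 • (f 0 + f 1)) = _
    rw [map_add, h3, smul_right, map_add, hf10, hf11, zero_add, zero_add, mul_one]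
  have hwe : ∀ p, B e (w p) = 0 := fun p => by rw [hBe, hw0, hw1, hdb]
  have hμ : ∀ v : V, ∃ c : F, c + σ c = -B v v := fun v => exists_trace hB (by rw [map_neg, self_fix hB])
  choose μ hμ using hμ
  have hS : ∀ p : P, ∃ g : SIso B, ∀ x, g.1 x = x + B e x • w p + ((μ (w p) + p.2.2.1) * B e x - B (w p) x) • e := by
    intro p
    refine exists_siegel hB hee (hwe p) ?_
    rw [map_add, hfix]
    linear_combination hμ (w p) + hdb p.2.2.1
  choose S hS using hS
  have hSm : ∀ p, S p ∈ D := by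
    intro p
    refine Subgroup.mem_inf.2 ⟨Subgroup.mem_centralizer_singleton_iff.2 ?_, fun _ => ?_, fun x hx => ?_⟩
    · apply Subtype.ext
      ext x
      change (S p).1 (t.1 x) = t.1 ((S p).1 x)
      have hwu0 : B (w p) (u 0) = p.2.1.1 := by rw [sw hB (u 0), hw0, hfix]
      have hwu1 : B (w p) (u 1) = p.2.1.1 := by rw [sw hB (u 1), hw1, hfix]
      have heu0 : B e (u 0) = 0 := by rw [hBe, h00, h10, add_zero]
      have heu1 : B e (u 1) = 0 := by rw [hBe, h01, h11, add_zero]
      have h0e : B (u 0) e = 0 := hB.swap_zero heu0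
      have h1e : B (u 1) e = 0 := hB.swap_zero heu1
      rw [hS p (t.1 x), ht2 ((S p).1 x), hS p x, ht2 x]
      simp only [map_add, smul_right, hwu0, hwu1, h0e, h1e, hw0, hw1, mul_zero, add_zero, hBe, h00, h01, h10, h11]
      rw [← sub_eq_zero, he]
      match_scalars <;> first
        | ring1
        | linear_combination -(p.2.1.1 * (B (u 0) x + B (u 1) x)) * h2
    · change (S p).1 e = e
      have h3 : B (w p) e = 0 := hB.swap_zero (hwe p)
      rw [hS, hee, h3, zero_smul, mul_zero, sub_zero, zero_smul, add_zero, add_zero]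
    · have h3 : B e x = 0 := hB.swap_zero (mem_perp_W.1 hx 0 (by decide))
      rw [hS, h3, zero_smul, add_zero, add_sub_cancel_left]
      exact Submodule.smul_mem _ _ (mem_W (fun _ : Fin 1 => e) (l := 0) (by decide))
  let Φ : P → D × F := fun p => (⟨S p, hSm p⟩, B (f 0) (w p))
  have hΦ : Function.Injective Φ := by
    intro p p' h3
    have h4 : ∀ x, (S p).1 x = (S p').1 x := fun x => congrArg (fun y : D × F => y.1.1.1 x) h3
    have h5 : B (f 0) (w p) = B (f 0) (w p') := congrArg Prod.snd h3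
    have h6 := h4 (f 0)
    rw [hS, hS, hef, one_smul, one_smul, mul_one, mul_one, add_assoc (f 0) (w p), add_assoc (f 0) (w p')] at h6
    have h7 := add_left_cancel h6
    have h8 := congrArg (B (f 0)) h7
    rw [map_add (B (f 0)) (w p), map_add (B (f 0)) (w p'), smul_right, smul_right, hfe, mul_one, mul_one, h5] at h8
    have h9 := add_left_cancel h8
    rw [h9] at h7
    have h10 := add_right_cancel h7
    rw [h10] at h9
    have h11 : p.2.2 = p'.2.2 := Subtype.ext (by linear_combination h9)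
    have h12 : p.2.1 = p'.2.1 := Subtype.ext (by rw [← hw0 p, ← hw0 p', h10])
    have h13 : p.1 = p'.1 := by
      change (p.1 : V) + p.2.1.1 • (f 0 + f 1) = (p'.1 : V) + p'.2.1.1 • (f 0 + f 1) at h10
      rw [h12] at h10
      exact Subtype.ext (add_right_cancel h10)
    exact Prod.ext h13 (Prod.ext h12 h11)
  have h3 := Nat.card_le_card_of_injective Φ hΦ
  have h4 : Nat.card (perp B (W F u 2)) = q ^ (2 * (finrank F V - 2)) := by
    have h5 := finrank_perp hB (W F u 2)
    rw [finrank_W hu.li le_rfl] at h5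
    rw [Module.natCard_eq_pow_finrank (K := F), Nat.card_eq_fintype_card, hF, ← pow_mul]
    congr 2
    omega
  rw [Nat.card_prod, Nat.card_prod, Nat.card_prod, h4, Cfsg.Agent.LieClassical.HermBasic.card_fixed hF,
    Nat.card_eq_fintype_card (α := F), hF, pow_two, ← mul_assoc, ← mul_assoc] at h3
  exact Nat.le_of_mul_le_mul_right (Nat.le_of_mul_le_mul_right h3 (by omega)) (by omega)

/-- **Rank 2.** -/
theorem two_one {q : ℕ} (hF : Fintype.card F = q ^ 2) (hB : HForm B) (h2 : (2 : F) = 0) (hcl : ClassLe B q)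
    (hn : 5 ≤ finrank F V) {X : Subgroup (SIso B)} (hX : Small X) {u : Fin 2 → V} (hu : Frame B u) {t : SIso B}
    (htX : t ∈ X) (ht : ∀ x, t.1 x = x + ∑ i, B (u i) x • u i) :
    ∃ (e : V) (g : SIso B) (a : F), e ≠ 0 ∧ B e e = 0 ∧ g ∈ X ∧ a ≠ 0 ∧ ∀ x, g.1 x = x + (a * B e x) • e := by
  have := finite_SIso B
  have hq := two_le_q hF
  set! D : Subgroup (SIso B) := centralizer ({t} : Set (SIso B)) ⊓ RR B (fun _ : Fin 1 => u 0 + u 1) 1 with hD
  have he : u 0 + u 1 ≠ 0 := by
    intro h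
    have h3 := Fintype.linearIndependent_iff.1 hu.li (fun _ => 1) (by rw [Fin.sum_univ_two, one_smul, one_smul, h]) 0
    exact one_ne_zero h3
  have hee : B (u 0 + u 1) (u 0 + u 1) = 0 := by
    simp only [map_add, LinearMap.add_apply, hu.ti, add_zero]
  by_contra hcon
  have h3 : Nat.card (X ⊓ D : Subgroup (SIso B)) ≤ q ^ (finrank F V - 2) := by
    refine Cfsg.Agent.H999.IFU.card_le_of_no_transv hF hB he hee (fun g hg => ?_) (fun g hg x hx => ?_)
      (fun g hg h4 => ?_)
    · exact hg.2.2.1 0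
    · have h5 : x ∈ perp B (W F (fun _ : Fin 1 => u 0 + u 1) 1) := mem_perp_W.2 fun l _ => hB.swap_zero hx
      have h4 := hg.2.2.2 x h5
      rw [W_of_le _ le_rfl, Set.range_const, Submodule.mem_span_singleton] at h4
      obtain ⟨c, hc⟩ := h4
      exact ⟨c, by rw [hc]; abel⟩
    · obtain ⟨a, ha⟩ := transv_form hB he hee h4
      by_contra h5
      refine hcon ⟨u 0 + u 1, g, a, he, hee, hg.1, ?_, ha⟩
      rintro rfl
      apply h5
      apply Subtype.ext
      ext x
      rw [ha, zero_mul, zero_smul, add_zero]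
      rfl
  have h4 := card_two hF hB h2 hu ht
  rw [← hD] at h4
  have h5 : X.relIndex D * Nat.card (X ⊓ D : Subgroup (SIso B)) = Nat.card D := by
    have h7 := relIndex_mul_relIndex ⊥ (X ⊓ D) D bot_le inf_le_right
    rwa [relIndex_bot_left, relIndex_bot_left, inf_relIndex_right, mul_comm] at h7
  have h6 : q ^ (finrank F V - 2) ≤ X.relIndex D := by
    by_contra h7
    push Not at h7
    have h8 : X.relIndex D * Nat.card (X ⊓ D : Subgroup (SIso B)) < q ^ (finrank F V - 2) * q ^ (finrank F V - 2) :=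
      Nat.mul_lt_mul_of_lt_of_le h7 h3 (by positivity)
    rw [h5, ← pow_add, ← two_mul] at h8
    omega
  have h7 := hX t htX (tu_sq h2 hu ht) (tu_ne hB (by omega) hu ht) D (fun c hc => by
    exact Subgroup.mem_centralizer_singleton_iff.1 hc.1)
  have h8 := hcl 2 u hu t ht
  have h9 := Nat.pow_le_pow_left h6 5
  rw [← pow_mul] at h9
  have h10 : q ^ ((finrank F V - 2) * 5) * q ^ 2 < (q + 1) ^ 2 * q ^ (2 * 2 * (finrank F V - 2)) :=
    lt_of_lt_of_le (Nat.mul_lt_mul_of_pos_right (lt_of_le_of_lt h9 h7) (by positivity)) h8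
  have h11 : q + 1 ≤ q ^ 2 := by nlinarith only [hq]
  have h12 := Nat.mul_le_mul_right (q ^ (2 * 2 * (finrank F V - 2))) (Nat.pow_le_pow_left h11 2)
  rw [← pow_mul, ← pow_add] at h12
  rw [← pow_add] at h10
  have h13 := lt_of_lt_of_le h10 h12
  rw [Nat.pow_lt_pow_iff_right (by omega)] at h13
  omega

/-- **Transvections.** -/
theorem exists_transv {q : ℕ} (hF : Fintype.card F = q ^ 2) (hB : HForm B) (h2 : (2 : F) = 0) (hcl : ClassLe B q)
    (hn : 5 ≤ finrank F V) {X : Subgroup (SIso B)} (hX : Small X) {t : SIso B} (htX : t ∈ X) (ht1 : t ≠ 1)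
    (htt : t * t = 1) :
    ∃ (e : V) (g : SIso B) (a : F), e ≠ 0 ∧ B e e = 0 ∧ g ∈ X ∧ a ≠ 0 ∧ ∀ x, g.1 x = x + (a * B e x) • e := by
  have key : ∀ k : ℕ, 1 ≤ k → ∀ (u : Fin k → V), Frame B u → ∀ t ∈ X, (∀ x, t.1 x = x + ∑ i, B (u i) x • u i) →
      ∃ (e : V) (g : SIso B) (a : F), e ≠ 0 ∧ B e e = 0 ∧ g ∈ X ∧ a ≠ 0 ∧ ∀ x, g.1 x = x + (a * B e x) • e := by
    intro k
    induction k using Nat.strong_induction_on with
    | _ k ih =>
      intro hk u hu t htX ht
      rcases (show k = 1 ∨ k = 2 ∨ 3 ≤ k by omega) with rfl | rfl | hk3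
      · refine ⟨u 0, t, 1, hu.li.ne_zero 0, hu.ti 0 0, htX, one_ne_zero, fun x => ?_⟩
        rw [ht, Fin.sum_univ_one, one_mul]
      · exact two_one hF hB h2 hcl hn hX hu htX ht
      · obtain ⟨k', h1, h3, u', hu', t', ht', h4⟩ := descent hF hB h2 hcl hX hk3 hu htX ht
        exact ih k' h3 h1 u' hu' t' ht' h4
  obtain ⟨k, u, hu, ht⟩ := exists_frame hB h2 t.2.2 (fun x => by
    change (t * t).1 x = x
    rw [htt]; rfl)
  refine key k ?_ u hu t htX ht
  by_contra h5
  obtain rfl : k = 0 := by omega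
  apply ht1
  apply Subtype.ext
  ext x
  rw [ht, Fin.sum_univ_zero, add_zero]
  rfl

end

end Cfsg.Agent.H406.IF
end

-- part: H999/IF/UC
section
/-!
# S5719, PSU_n(q), q even, n ≥ 5: a transvection in `A` is impossible (helper999)
-/

set_option autoImplicit false
set_option linter.unusedSectionVars false

namespace Cfsg.Agent.H999.IFU

open Cfsg Matrix Subgroup MulAction Cfsg.Agent.H209.Fxy Cfsg.Agent.LieClassical.HermBasic
  Cfsg.Agent.LieClassical.HermSiegel Cfsg.Agent.LieClassical.HermSimple Cfsg.Agent.LieClassical.HermGen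

variable {F : Type*} [Field F] [Fintype F] {q n : ℕ}

theorem card_ge_of_hom {G H : Type*} [Group G] [Finite G] [Group H] (X : Subgroup G) (f : G →* H) {a b : ℕ}
    (ha : a ≤ (f '' (X : Set G)).ncard) (hb : b ≤ ({x | x ∈ X ∧ f x = 1} : Set G).ncard) : a * b ≤ Nat.card X := by
  let g : X →* H := f.comp X.subtype
  have h1 : g.ker.index = Nat.card g.range := Subgroup.index_ker g
  have h2 := Subgroup.card_mul_index g.ker
  have h3 : a ≤ Nat.card g.range := by
    refine le_trans ha (le_of_eq ?_)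
    rw [← Nat.card_coe_set_eq]
    apply Nat.card_congr
    apply Equiv.setCongr
    ext x
    constructor
    · rintro ⟨y, hy, rfl⟩
      exact ⟨⟨y, hy⟩, rfl⟩
    · rintro ⟨y, rfl⟩
      exact ⟨y, y.2, rfl⟩
  have h4 : b ≤ Nat.card g.ker := by
    refine le_trans hb ?_
    rw [← Nat.card_coe_set_eq]
    apply Nat.card_le_card_of_injective (fun x : {x : G // x ∈ X ∧ f x = 1} => (⟨⟨x.1, x.2.1⟩, x.2.2⟩ : g.ker))
    intro x y hxy
    exact Subtype.ext (congrArg (fun z : g.ker => (z.1.1 : G)) hxy)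
  rw [← h2, h1, mul_comm a b]
  exact Nat.mul_le_mul h4 h3

/-- vectors orthogonal to a family -/
theorem card_perp (hF : Fintype.card F = q ^ 2) {k : ℕ} (v : Fin k → Fin n → F) :
    q ^ (2 * n) ≤ ({w : Fin n → F | ∀ i, hermForm n F q w (v i) = 0} : Set (Fin n → F)).ncard * q ^ (2 * k) := by
  let L : (Fin n → F) →+ (Fin k → F) :=
    { toFun := fun w i => hermForm n F q w (v i)
      map_zero' := by funext i; exact herm_zero_left _
      map_add' := by intro a b; funext i; exact herm_add_left _ _ _ }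
  have h1 : L.ker.index = Nat.card L.range := AddSubgroup.index_ker L
  have h2 := AddSubgroup.card_mul_index L.ker
  have h3 : Nat.card L.range ≤ q ^ (2 * k) := by
    rw [← card_F (n := k) hF]
    exact Nat.card_le_card_of_injective _ Subtype.val_injective
  have h4 : Nat.card L.ker = ({w : Fin n → F | ∀ i, hermForm n F q w (v i) = 0} : Set (Fin n → F)).ncard := by
    rw [← Nat.card_coe_set_eq]
    apply Nat.card_congr
    apply Equiv.setCongr
    ext w
    constructor
    · intro hw i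
      exact congrFun (AddMonoidHom.mem_ker.1 hw) i
    · intro hw
      exact AddMonoidHom.mem_ker.2 (funext hw)
  rw [card_F hF, h1, h4] at h2
  rw [← h2]
  exact Nat.mul_le_mul_left _ h3

theorem exists_ne_perp (hF : Fintype.card F = q ^ 2) {k : ℕ} (hk : k < n) (v : Fin k → Fin n → F) :
    ∃ w : Fin n → F, w ≠ 0 ∧ ∀ i, hermForm n F q w (v i) = 0 := by
  by_contra hcon
  push Not at hcon
  have h1 := card_perp hF v
  have h2 : ({w : Fin n → F | ∀ i, hermForm n F q w (v i) = 0} : Set (Fin n → F)).ncard ≤ 1 := by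
    rw [Set.ncard_le_one]
    intro a ha b hb
    have h3 : ∀ w : Fin n → F, (∀ i, hermForm n F q w (v i) = 0) → w = 0 := by
      intro w hw
      by_contra h0
      obtain ⟨i, hi⟩ := hcon w h0
      exact hi (hw i)
    rw [h3 a ha, h3 b hb]
  have h3 : q ^ (2 * n) ≤ q ^ (2 * k) := by
    calc q ^ (2 * n) ≤ _ := h1
      _ ≤ 1 * q ^ (2 * k) := Nat.mul_le_mul_right _ h2
      _ = _ := one_mul _
  have h4 := (Nat.pow_le_pow_iff_right (two_le hF)).1 h3
  omega

/-- two vectors have a common orthogonal isotropic vector -/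
theorem exists_common_iso (hF : Fintype.card F = q ^ 2) (hn : 4 ≤ n) (u e : Fin n → F) :
    ∃ v : Fin n → F, v ≠ 0 ∧ hermForm n F q v v = 0 ∧ hermForm n F q v u = 0 ∧ hermForm n F q v e = 0 := by
  obtain ⟨v1, h10, h1⟩ := exists_ne_perp hF (by omega : 2 < n) ![u, e]
  have h1u : hermForm n F q v1 u = 0 := h1 0
  have h1e : hermForm n F q v1 e = 0 := h1 1
  by_cases h11 : hermForm n F q v1 v1 = 0
  · exact ⟨v1, h10, h11, h1u, h1e⟩
  obtain ⟨v2, h20, h2⟩ := exists_ne_perp hF (by omega : 3 < n) ![u, e, v1]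
  have h2u : hermForm n F q v2 u = 0 := h2 0
  have h2e : hermForm n F q v2 e = 0 := h2 1
  have h21 : hermForm n F q v2 v1 = 0 := h2 2
  by_cases h22 : hermForm n F q v2 v2 = 0
  · exact ⟨v2, h20, h22, h2u, h2e⟩
  have h12 : hermForm n F q v1 v2 = 0 := herm_eq_zero_swap hF h21
  obtain ⟨x, hx⟩ := _root_.Cfsg.Agent.LieClassical.HermBasic.exists_norm_eq hF (c := -(hermForm n F q v1 v1 / hermForm n F q v2 v2)) (by
    rw [neg_pow_q hF, div_pow, herm_self_pow hF, herm_self_pow hF])
  refine ⟨v1 + x • v2, ?_, ?_, ?_, ?_⟩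
  · intro h0
    have h3 : hermForm n F q (v1 + x • v2) v1 = hermForm n F q v1 v1 := by
      rw [herm_add_left, herm_smul_left, h21, mul_zero, add_zero]
    rw [h0, herm_zero_left] at h3
    exact h11 h3.symm
  · rw [herm_add_left, herm_add_right hF, herm_add_right hF, herm_smul_left, herm_smul_left, herm_smul_right,
      herm_smul_right, h12, h21]
    have h4 : hermForm n F q v1 v1 + x * x ^ q * hermForm n F q v2 v2 = 0 := by
      rw [hx, neg_mul, div_mul_cancel₀ _ h22, add_neg_cancel]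
    linear_combination h4
  · rw [herm_add_left, herm_smul_left, h1u, h2u]; ring
  · rw [herm_add_left, herm_smul_left, h1e, h2e]; ring

/-- Siegel elements of `u` whose vector is orthogonal to a family -/
def Df (hF : Fintype.card F = q ^ 2) (u : Fin n → F) {k : ℕ} (v : Fin k → Fin n → F) : Subgroup (HP hF u) where
  carrier := {p | ∀ i, hermForm n F q p.1.1 (v i) = 0}
  one_mem' := fun i => herm_zero_left _
  mul_mem' := by
    intro a b ha hb i
    rw [HP.mul_fst, herm_add_left, ha i, hb i, add_zero]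
  inv_mem' := by
    intro a ha i
    rw [HP.inv_fst, herm_neg_left, ha i, neg_zero]

theorem mem_Km_iff (hF : Fintype.card F = q ^ 2) (h2 : (2 : F) = 0) {κ : F} : κ ∈ Km hF ↔ κ ^ q = κ := by
  rw [mem_Km]
  have h3 : κ + κ = 0 := by rw [← two_mul, h2, zero_mul]
  constructor
  · intro h; linear_combination h - h3
  · intro h; linear_combination h + h3

theorem card_Km (hF : Fintype.card F = q ^ 2) (h2 : (2 : F) = 0) : Nat.card (Km hF) = q := by
  refine Eq.trans ?_ (card_fixed hF)
  exact Nat.card_congr (Equiv.subtypeEquivRight fun x => mem_Km_iff hF h2)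

theorem card_Df (hF : Fintype.card F = q ^ 2) (h2 : (2 : F) = 0) (u : Fin n → F) {k : ℕ} (v : Fin k → Fin n → F) :
    q ^ (2 * n) * q ≤ Nat.card (Df hF u v) * q ^ (2 * (k + 1)) := by
  have h1 := card_perp hF (Fin.cons u v : Fin (k + 1) → Fin n → F)
  have h3 := card_ge_of_hom (Df hF u v) (prV hF u) (a := _) (b := q) (le_refl _) (by
    rw [← Nat.card_coe_set_eq]
    refine (card_Km hF h2).symm.le.trans ?_
    apply Nat.card_le_card_of_injective (fun κ : Km hF =>
      (⟨⟨(0, κ.1), herm_zero_left u, by rw [herm_zero_left, add_zero]; exact κ.2⟩, fun i => herm_zero_left _, rfl⟩ :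
        {x : HP hF u // x ∈ Df hF u v ∧ prV hF u x = 1}))
    intro x y hxy
    exact Subtype.ext (congrArg (fun z : {x : HP hF u // x ∈ Df hF u v ∧ prV hF u x = 1} => z.1.1.2) hxy))
  have h4 : ({w : Fin n → F | ∀ i, hermForm n F q w ((Fin.cons u v : Fin (k + 1) → Fin n → F) i) = 0} :
      Set (Fin n → F)).ncard ≤ (prV hF u '' (Df hF u v : Set (HP hF u))).ncard := by
    rw [← Nat.card_coe_set_eq, ← Nat.card_coe_set_eq]
    apply Nat.card_le_card_of_injective (fun w : {w : Fin n → F | ∀ i, hermForm n F q w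
      ((Fin.cons u v : Fin (k + 1) → Fin n → F) i) = 0} => (⟨Multiplicative.ofAdd w.1, by
        obtain ⟨μ, hμ⟩ := exists_trace_eq hF (c := -hermForm n F q w.1 w.1) (by
          rw [neg_pow_q hF, herm_self_pow hF])
        exact ⟨⟨(w.1, μ), w.2 0, by rw [hμ, neg_add_cancel]⟩, fun i => w.2 i.succ, rfl⟩⟩ :
        (prV hF u '' (Df hF u v : Set (HP hF u)))))
    intro x y hxy
    exact Subtype.ext (congrArg (fun z : (prV hF u '' (Df hF u v : Set (HP hF u))) => Multiplicative.toAdd z.1) hxy)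
  calc q ^ (2 * n) * q ≤ (_ * q ^ (2 * (k + 1))) * q := Nat.mul_le_mul_right _ h1
    _ ≤ ((prV hF u '' (Df hF u v : Set (HP hF u))).ncard * q ^ (2 * (k + 1))) * q :=
      Nat.mul_le_mul_right _ (Nat.mul_le_mul_right _ h4)
    _ = ((prV hF u '' (Df hF u v : Set (HP hF u))).ncard * q) * q ^ (2 * (k + 1)) := by ring
    _ ≤ _ := Nat.mul_le_mul_right _ h3

/-- a coarse bound for an index -/
theorem index_le_of_map {G S : Type*} [Group G] [Finite S] (H : Subgroup G) (φ : G → S)
    (hφ : ∀ g g', φ g = φ g' → g⁻¹ * g' ∈ H) : H.index ≤ Nat.card S := by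
  apply Nat.card_le_card_of_injective (fun c : G ⧸ H => φ c.out)
  intro c c' hcc
  have h1 := hφ _ _ hcc
  rw [← QuotientGroup.eq, QuotientGroup.out_eq', QuotientGroup.out_eq'] at h1
  exact h1

theorem act_transv (hF : Fintype.card F = q ^ 2) {e : Fin n → F} (he : hermForm n F q e e = 0) {κ : F}
    (hκ : κ ∈ Km hF) (v : Fin n → F) :
    act (siegel hF e 0 κ (isT he hκ)) v = v + (κ * hermForm n F q v e) • e := by
  rw [act_siegel, smul_zero, add_zero, herm_zero_right hF, sub_zero]

theorem transv_not_central (hF : Fintype.card F = q ^ 2) (hn : 3 ≤ n) {e : Fin n → F} (he0 : e ≠ 0)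
    (he : hermForm n F q e e = 0) {κ : F} (hκ : κ ∈ Km hF) (hκ0 : κ ≠ 0) :
    siegel hF e 0 κ (isT he hκ) ∉ center (SU n F q) := by
  intro hmem
  obtain ⟨e', he', hee⟩ := exists_partner hF he0 he
  have he'0 : e' ≠ 0 := by
    rintro rfl
    rw [herm_zero_right hF] at hee
    exact zero_ne_one hee
  obtain ⟨x, -, hx⟩ := exists_map_iso hF hn le_rfl (mem_coordSub_top e) (mem_coordSub_top e') he0 he'0 he he'
  have hcomm := Subgroup.mem_center_iff.1 hmem x
  have h1 := congrArg (fun y => act y e) hcomm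
  simp only [act_mul, act_siegel_self, hx] at h1
  rw [act_transv hF he hκ, herm_swap hF e e', hee, one_pow, mul_one] at h1
  have h2 : κ • e = 0 := by
    have := congrArg (fun y => y - e') h1
    simpa only [_root_.smul_eq_zero, _root_.add_sub_cancel_left, _root_.sub_self] using this.symm
  rcases smul_eq_zero.1 h2 with h | h
  · exact hκ0 h
  · exact he0 h

section Main

variable {T : Type*} [Group T] [Finite T] [IsSimpleGroup T] {A : Subgroup T} {Γ : Subgroup (MulAut T)}

theorem pi_transv_ne (hF : Fintype.card F = q ^ 2) (hn : 5 ≤ n) (pi : SU n F q →* T)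
    (hpi : Function.Surjective pi) {e : Fin n → F} (he0 : e ≠ 0)
    (he : hermForm n F q e e = 0) {κ : F} (hκ : κ ∈ Km hF) (hκ0 : κ ≠ 0) :
    pi (siegel hF e 0 κ (isT he hκ)) ≠ 1 := by
  intro h1
  have h2 : pi.ker = ⊤ := by
    apply Cfsg.Agent.LieClassical.HermPerfect.normal_eq_top hF (by omega) (by omega)
    intro h3
    exact transv_not_central hF (by omega) he0 he hκ hκ0 (h3 h1)
  obtain ⟨a, b, hab⟩ := exists_pair_ne T
  apply hab
  have h3 : ∀ y : T, y = 1 := by
    intro y
    obtain ⟨x, rfl⟩ := hpi y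
    have : x ∈ pi.ker := by rw [h2]; trivial
    exact this
  rw [h3 a, h3 b]

theorem transv_sq (hF : Fintype.card F = q ^ 2) (h2 : (2 : F) = 0) {e : Fin n → F}
    (he : hermForm n F q e e = 0) {κ : F} (hκ : κ ∈ Km hF) :
    siegel hF e 0 κ (isT he hκ) * siegel hF e 0 κ (isT he hκ) = 1 := by
  rw [siegel_mul, siegel_congr hF _ (IsSiegel.zero hF he) rfl (add_zero _) ?_, siegel_zero]
  rw [herm_zero_left, sub_zero, ← two_mul, h2, zero_mul]

/-- (i) -/
theorem step1 (hF : Fintype.card F = q ^ 2) (h2 : (2 : F) = 0) (hn : 5 ≤ n) (h : IF A Γ)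
    (hna : ∃ a b : T, a * b ≠ b * a) (pi : SU n F q →* T)
    (hpi : Function.Surjective pi) {e : Fin n → F} (he0 : e ≠ 0)
    (he : hermForm n F q e e = 0) {κ : F} (hκ : κ ∈ Km hF) (hκ0 : κ ≠ 0)
    (ht : pi (siegel hF e 0 κ (isT he hκ)) ∈ A) {u : Fin n → F} (hu : hermForm n F q u u = 0)
    (hue : hermForm n F q u e = 0) : Zu hF hu (A.comap pi) ≠ ⊥ := by
  intro hZ
  have hq := two_le hF
  set t := siegel hF e 0 κ (isT he hκ) with ht_def
  have hcZ : Nat.card (Zu hF hu (A.comap pi)) = 1 := by rw [hZ]; exact AddSubgroup.card_bot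
  have hZt : Zu hF hu (A.comap pi) ≠ ⊤ := by
    intro h3
    have h4 : Nat.card (Zu hF hu (A.comap pi)) = Nat.card (Km hF) := by rw [h3]; exact AddSubgroup.card_top
    rw [hcZ, card_Km hF h2] at h4
    omega
  have h5 := heis_index hF hu hZt (Df hF u ![e])
  rw [hcZ, mul_one] at h5
  have h6 := card_Df hF h2 u ![e]
  have h7 := Cfsg.Agent.H847.IF.lift_E2 h hna pi hpi ht (pi_transv_ne hF hn pi hpi he0 he hκ hκ0)
    (by rw [transv_sq hF h2 he hκ, map_one]) (B := (Df hF u ![e]).map (rho hF hu)) (by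
      rintro _ ⟨p, hp, rfl⟩
      (with_reducible congr 1)
      have hp0 : hermForm n F q p.1.1 e = 0 := hp 0
      rw [rho_apply]
      have h8 := conj_siegel hF (IsSiegel.mk hu p.2.1 p.2.2) t
      rw [mul_inv_eq_iff_eq_mul] at h8
      rw [h8]
      congr 1
      apply siegel_congr
      · rw [ht_def, act_transv hF he hκ, hue, mul_zero, zero_smul, add_zero]
      · rw [ht_def, act_transv hF he hκ, hp0, mul_zero, zero_smul, add_zero]
      · rfl)
  have h8 : (centralizer ({t} : Set (SU n F q))).index ≤ q ^ (2 * n) := by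
    rw [← card_F hF]
    apply index_le_of_map _ (fun g => act g e)
    intro g g' hgg
    rw [mem_centralizer_iff]
    rintro _ rfl
    have h9 : act (g⁻¹ * g') e = e := by
      rw [act_mul, ← hgg, act_inv_act]
    have h10 := conj_siegel hF (isT he hκ) (g⁻¹ * g')
    rw [mul_inv_eq_iff_eq_mul] at h10
    rw [ht_def, h10]
    congr 1
    apply siegel_congr
    · exact h9.symm
    · exact (act_zero _).symm
    · rfl
  rw [← relIndex_comap] at h7
  set r := ((A.comap pi).comap (rho hF hu)).relIndex (Df hF u ![e]) with hr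
  have h9 : q ^ (n - 3) ≤ r := by
    have h10 : q ^ (2 * n) * q ≤ r * q ^ n * q ^ (2 * (1 + 1)) := h6.trans (Nat.mul_le_mul_right _ h5)
    have h11 : q ^ (2 * n) * q = q ^ (n - 3) * (q ^ n * q ^ (2 * (1 + 1))) := by
      rw [← pow_succ, ← pow_add, ← pow_add]
      congr 1
      omega
    rw [h11, mul_assoc r] at h10
    exact Nat.le_of_mul_le_mul_right h10 (by positivity)
  have h10 : (q ^ (n - 3)) ^ 5 < q ^ (2 * n) :=
    lt_of_le_of_lt (Nat.pow_le_pow_left h9 5) (lt_of_lt_of_le h7 h8)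
  rw [← pow_mul] at h10
  have h11 := (Nat.pow_lt_pow_iff_right (by omega)).1 h10
  omega

theorem exists_of_Zu {hF : Fintype.card F = q ^ 2} {u : Fin n → F} {hu : hermForm n F q u u = 0}
    {X : Subgroup (SU n F q)} (h : Zu hF hu X ≠ ⊥) :
    ∃ (κ : F) (hκ : κ ∈ Km hF), κ ≠ 0 ∧ siegel hF u 0 κ (isT hu hκ) ∈ X := by
  obtain ⟨κ, hκ, h0⟩ := (AddSubgroup.bot_or_exists_ne_zero (Zu hF hu X)).resolve_left h
  exact ⟨κ.1, κ.2, fun h1 => h0 (Subtype.ext h1), hκ⟩

/-- the walk -/
theorem step2 (hF : Fintype.card F = q ^ 2) (h2 : (2 : F) = 0) (hn : 5 ≤ n) (h : IF A Γ)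
    (hna : ∃ a b : T, a * b ≠ b * a) (pi : SU n F q →* T)
    (hpi : Function.Surjective pi) {e : Fin n → F} (he0 : e ≠ 0)
    (he : hermForm n F q e e = 0) {κ : F} (hκ : κ ∈ Km hF) (hκ0 : κ ≠ 0)
    (ht : pi (siegel hF e 0 κ (isT he hκ)) ∈ A) {u : Fin n → F} (hu : hermForm n F q u u = 0) :
    Zu hF hu (A.comap pi) ≠ ⊥ := by
  obtain ⟨v, hv0, hv, hvu, hve⟩ := exists_common_iso hF (by omega : 4 ≤ n) u e
  obtain ⟨κ', hκ', hκ'0, h3⟩ := exists_of_Zu (step1 hF h2 hn h hna pi hpi he0 he hκ hκ0 ht hv hve)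
  exact step1 hF h2 hn h hna pi hpi hv0 hv hκ' hκ'0 h3 hu (herm_eq_zero_swap hF hvu)

/-- the fixed cosets of `s` -/
def Fix (A : Subgroup T) (s : T) : Set (T ⧸ A) := {c | s • c = c}

theorem fix_lt (h : IF A Γ) (hna : ∃ a b : T, a * b ≠ b * a) {s y : T} (hs : y⁻¹ * s * y ∈ A) (hs1 : s ≠ 1)
    (hs2 : s * s = 1) : (Fix A s).ncard ^ 6 < A.index := by
  set a := y⁻¹ * s * y with ha
  have ha2 : orderOf a = 2 := by
    apply orderOf_eq_prime
    · rw [pow_two, ha]
      have : y⁻¹ * s * y * (y⁻¹ * s * y) = y⁻¹ * (s * s) * y := by group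
      rw [this, hs2]; group
    · intro h1
      apply hs1
      have : s = y * a * y⁻¹ := by rw [ha]; group
      rw [this, h1]; group
  have h1 := h.small (MulAut.conj a) ((h.conj a).2 hs) (by
    rw [Cfsg.Agent.H999.IFB.orderOf_conj hna]; exact ha2)
  refine lt_of_le_of_lt (Nat.pow_le_pow_left ?_ 6) h1
  rw [fx]
  apply Set.ncard_le_ncard_of_injOn (fun c => y⁻¹ • c) _ (MulAction.injective y⁻¹).injOn (Set.toFinite _)
  intro c hc
  induction c using QuotientGroup.induction_on with
  | H z =>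
    have h3 : s • (z : T ⧸ A) = (z : T ⧸ A) := hc
    have h4 : z⁻¹ * s * z ∈ A := by
      have h5 : ((s * z : T) : T ⧸ A) = (z : T ⧸ A) := h3
      have h6 := QuotientGroup.eq.1 h5.symm
      rwa [← mul_assoc] at h6
    refine ⟨y⁻¹ * z, rfl, ?_⟩
    rw [MulAut.conj_apply]
    have h7 : (y⁻¹ * z)⁻¹ * (a * (y⁻¹ * z) * a⁻¹) = (z⁻¹ * s * z) * a⁻¹ := by rw [ha]; group
    rw [h7]
    exact A.mul_mem h4 (A.inv_mem hs)

/-- (ii) every root group meets every point stabiliser: `n^5 < (q-1)^6`. -/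
theorem step3 (hF : Fintype.card F = q ^ 2) (h2 : (2 : F) = 0) (hn : 5 ≤ n) (h : IF A Γ)
    (hna : ∃ a b : T, a * b ≠ b * a) (pi : SU n F q →* T)
    (hpi : Function.Surjective pi) {e : Fin n → F} (he0 : e ≠ 0)
    (he : hermForm n F q e e = 0) (hall : ∀ (u : Fin n → F) (hu : hermForm n F q u u = 0), Zu hF hu (A.comap pi) ≠ ⊥) :
    A.index ^ 5 < (q - 1) ^ 6 := by
  classical
  have hq := two_le hF
  let s : Km hF → T := fun κ => pi (siegel hF e 0 κ.1 (isT he κ.2))
  have := Fintype.ofFinite (Km hF)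
  have := Fintype.ofFinite (T ⧸ A)
  let S : Finset (Km hF) := Finset.univ.erase 0
  have hS : S.card = q - 1 := by
    rw [Finset.card_erase_of_mem (Finset.mem_univ _), Finset.card_univ, ← Nat.card_eq_fintype_card, card_Km hF h2]
  have hcov : ∀ c : T ⧸ A, ∃ κ ∈ S, c ∈ Fix A (s κ) := by
    intro c
    induction c using QuotientGroup.induction_on with
    | H y =>
      obtain ⟨g, rfl⟩ := hpi y
      have hiso : hermForm n F q (act g⁻¹ e) (act g⁻¹ e) = 0 := by rw [herm_act]; exact he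
      obtain ⟨κ, hκ, hκ0, h3⟩ := exists_of_Zu (hall (act g⁻¹ e) hiso)
      refine ⟨⟨κ, hκ⟩, Finset.mem_erase.2 ⟨fun h0 => hκ0 (congrArg Subtype.val h0), Finset.mem_univ _⟩, ?_⟩
      have h4 := conj_siegel hF (isT he hκ) g⁻¹
      rw [siegel_congr hF _ (isT hiso hκ) rfl (act_zero _) rfl] at h4
      rw [← h4, inv_inv] at h3
      have h5 : pi (g⁻¹ * siegel hF e 0 κ (isT he hκ) * g) ∈ A := h3
      rw [map_mul, map_mul, map_inv] at h5
      change ((s ⟨κ, hκ⟩ * pi g : T) : T ⧸ A) = (pi g : T ⧸ A)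
      symm
      rw [QuotientGroup.eq, ← mul_assoc]
      exact h5
  have hsm : ∀ κ ∈ S, (Fix A (s κ)).ncard ^ 6 < A.index := by
    intro κ hκ
    rcases Set.eq_empty_or_nonempty (Fix A (s κ)) with h0 | ⟨c, hc⟩
    · rw [h0, Set.ncard_empty]
      have := h.big
      omega
    · induction c using QuotientGroup.induction_on with
      | H y =>
        have h5 : ((s κ * y : T) : T ⧸ A) = (y : T ⧸ A) := hc
        have h6 := QuotientGroup.eq.1 h5.symm
        rw [← mul_assoc] at h6
        have hκ0 : κ.1 ≠ 0 := fun h0 => (Finset.mem_erase.1 hκ).1 (Subtype.ext h0)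
        apply fix_lt h hna h6 (pi_transv_ne hF hn pi hpi he0 he κ.2 hκ0)
        change pi _ * pi _ = 1
        rw [← map_mul, transv_sq hF h2 he κ.2, map_one]
  have hne : S.Nonempty := by
    rw [← Finset.card_pos, hS]
    omega
  obtain ⟨κ0, hκ0, hmax⟩ := S.exists_max_image (fun κ => (Fix A (s κ)).ncard) hne
  set M := (Fix A (s κ0)).ncard with hM
  have h3 : A.index ≤ (q - 1) * M := by
    have h4 : Nat.card (T ⧸ A) = (Finset.univ : Finset (T ⧸ A)).card := by
      rw [Nat.card_eq_fintype_card, Finset.card_univ]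
    have h5 : (Finset.univ : Finset (T ⧸ A)) ⊆ S.biUnion (fun κ => (Fix A (s κ)).toFinset) := by
      intro c _
      obtain ⟨κ, hκ, hc⟩ := hcov c
      rw [Finset.mem_biUnion]
      exact ⟨κ, hκ, by rw [Set.mem_toFinset]; exact hc⟩
    change Nat.card (T ⧸ A) ≤ _
    rw [h4, ← hS]
    refine (Finset.card_le_card h5).trans (Finset.card_biUnion_le_card_mul _ _ _ ?_)
    intro κ hκ
    have h6 := hmax κ hκ
    rwa [← Set.ncard_eq_toFinset_card']
  have h4 := hsm κ0 hκ0
  have h5 : A.index ^ 6 ≤ (q - 1) ^ 6 * M ^ 6 := by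
    rw [← mul_pow]
    exact Nat.pow_le_pow_left h3 6
  have h6 : 0 < (q - 1) ^ 6 := pow_pos (by omega) 6
  have h7 : A.index * A.index ^ 5 < A.index * (q - 1) ^ 6 := by
    calc A.index * A.index ^ 5 = A.index ^ 6 := by ring
      _ ≤ (q - 1) ^ 6 * M ^ 6 := h5
      _ < (q - 1) ^ 6 * A.index := Nat.mul_lt_mul_of_pos_left h4 h6
      _ = _ := by ring
  exact lt_of_mul_lt_mul_left h7 (Nat.zero_le _)

/-- **A transvection in `A` is impossible** (matrix model). -/
theorem transv_false (hF : Fintype.card F = q ^ 2) (h2 : (2 : F) = 0) (hn : 5 ≤ n) (h : IF A Γ)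
    (hna : ∃ a b : T, a * b ≠ b * a) (pi : SU n F q →* T)
    (hpi : Function.Surjective pi) {e : Fin n → F} (he0 : e ≠ 0)
    (he : hermForm n F q e e = 0) {κ : F} (hκ : κ ∈ Km hF) (hκ0 : κ ≠ 0)
    (ht : pi (siegel hF e 0 κ (isT he hκ)) ∈ A) : False := by
  have hq := two_le hF
  have hall : ∀ (u : Fin n → F) (hu : hermForm n F q u u = 0), Zu hF hu (A.comap pi) ≠ ⊥ :=
    fun u hu => step2 hF h2 hn h hna pi hpi he0 he hκ hκ0 ht hu
  have h3 := step3 hF h2 hn h hna pi hpi he0 he hall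
  -- all transvections are in `X`
  have htop : ∀ (u : Fin n → F) (hu : hermForm n F q u u = 0), Zu hF hu (A.comap pi) = ⊤ := by
    intro u hu
    by_contra hZ
    have h5 := heis_index hF hu hZ (Df hF u ![])
    have h6 := card_Df hF h2 u ![]
    have h7 : Nat.card (Zu hF hu (A.comap pi)) ≤ q :=
      (Nat.card_le_card_of_injective _ Subtype.val_injective).trans (card_Km hF h2).le
    have h8 : ((A.comap pi).comap (rho hF hu)).relIndex (Df hF u ![]) ≤ A.index := by
      rw [relIndex_comap, relIndex_comap]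
      have h81 := A.relIndex_le_of_le_right (K := _root_.Subgroup.map pi (_root_.Subgroup.map (rho hF hu) (Df hF u ![]))) (L := ⊤) le_top (by
        rw [relIndex_top_right]; exact index_ne_zero_of_finite)
      rwa [relIndex_top_right] at h81
    have h9 : q ^ (2 * n) * q ≤ A.index * (q ^ n * q) * q ^ (2 * (0 + 1)) := by
      refine h6.trans (Nat.mul_le_mul_right _ (h5.trans ?_))
      exact Nat.mul_le_mul h8 (Nat.mul_le_mul_left _ h7)
    have h10 : q ^ (n - 2) ≤ A.index := by
      have h11 : q ^ (2 * n) * q = q ^ (n - 2) * (q ^ n * q * q ^ (2 * (0 + 1))) := by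
        rw [← pow_succ, ← pow_succ, ← pow_add, ← pow_add]
        congr 1
        omega
      rw [h11, mul_assoc A.index] at h9
      exact Nat.le_of_mul_le_mul_right h9 (by (clear * - hq; positivity))
    have h11 : (q ^ (n - 2)) ^ 5 < q ^ 6 :=
      lt_of_le_of_lt (Nat.pow_le_pow_left h10 5) (lt_of_lt_of_le h3 (Nat.pow_le_pow_left (Nat.sub_le _ _) 6))
    rw [← pow_mul] at h11
    have h12 := (Nat.pow_lt_pow_iff_right (by omega)).1 h11
    omega
  have hX : A.comap pi = ⊤ := by
    rw [eq_top_iff, ← Cfsg.Agent.LieClassical.HermPerfect.normal_eq_top hF (by omega) (by omega)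
      (N := normalClosure {siegel hF e 0 κ (isT he hκ)}) (fun hle =>
        transv_not_central hF (by omega) he0 he hκ hκ0 (hle (subset_normalClosure (Set.mem_singleton _))))]
    rw [normalClosure, closure_le]
    intro x hx
    obtain ⟨t, ht', hc⟩ := Group.mem_conjugatesOfSet_iff.1 hx
    rw [Set.mem_singleton_iff] at ht'
    subst ht'
    obtain ⟨g, rfl⟩ := isConj_iff.1 hc
    rw [conj_siegel]
    have hiso : hermForm n F q (act g e) (act g e) = 0 := by rw [herm_act]; exact he
    have h4 : (⟨κ, hκ⟩ : Km hF) ∈ Zu hF hiso (A.comap pi) := by rw [htop]; trivial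
    rw [mem_Zu] at h4
    rwa [siegel_congr hF _ (isT hiso hκ) rfl (act_zero _) rfl]
  apply h.ne_top
  rw [eq_top_iff]
  intro y _
  obtain ⟨x, rfl⟩ := hpi y
  have : x ∈ A.comap pi := by rw [hX]; trivial
  exact this

end Main

end Cfsg.Agent.H999.IFU
end

-- part: H999/IF/UCAbs
section
/-!
# S5719, PSU_n(q), q even, n ≥ 5: a transvection in `A` is impossible, abstract form (helper999, for helper406)
-/

set_option autoImplicit false
set_option linter.unusedSectionVars false

namespace Cfsg.Agent.H999.IFU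

open Cfsg Module Cfsg.Agent.H209.Fxy Cfsg.Agent.H91.U Cfsg.Agent.LieClassical.HermBasic
  Cfsg.Agent.LieClassical.HermSiegel
open Cfsg.Agent.H77.Witt (formB formB_apply)

section

variable {F V W : Type*} [Field F] [AddCommGroup V] [Module F V] [AddCommGroup W] [Module F W] {σ τ : F →+* F}
  {B : V →ₛₗ[σ] V →ₗ[F] F} {B' : W →ₛₗ[τ] W →ₗ[F] F}

/-- transport of special isometry groups -/
def conjS (φ : V ≃ₗ[F] W) (hφ : ∀ v w, B v w = B' (φ v) (φ w)) : SIso B →* SIso B' where
  toFun g := ⟨(φ.symm.trans g.1).trans φ, by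
    refine ⟨?_, ?_⟩
    · apply Units.ext
      rw [LinearEquiv.coe_det]
      have h1 : (((φ.symm.trans g.1).trans φ : W ≃ₗ[F] W) : W →ₗ[F] W) =
        (φ : V →ₗ[F] W) ∘ₗ (g.1 : V →ₗ[F] V) ∘ₗ (φ.symm : W →ₗ[F] V) := rfl
      rw [h1, LinearMap.det_conj, ← LinearEquiv.coe_det, g.2.1]
    · intro x y
      change B' (φ (g.1 (φ.symm x))) (φ (g.1 (φ.symm y))) = B' x y
      rw [← hφ, g.2.2, hφ, φ.apply_symm_apply, φ.apply_symm_apply]⟩
  map_one' := by
    apply Subtype.ext
    apply LinearEquiv.ext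
    intro x
    exact φ.apply_symm_apply x
  map_mul' := by
    intro g g'
    apply Subtype.ext
    apply LinearEquiv.ext
    intro x
    change φ (g.1 (g'.1 (φ.symm x))) = φ (g.1 (φ.symm (φ (g'.1 (φ.symm x)))))
    rw [φ.symm_apply_apply]

theorem conjS_surjective (φ : V ≃ₗ[F] W) (hφ : ∀ v w, B v w = B' (φ v) (φ w)) :
    Function.Surjective (conjS (B := B) (B' := B') φ hφ) := by
  intro s
  refine ⟨conjS (B := B') (B' := B) φ.symm (fun v w => by rw [hφ, φ.apply_symm_apply, φ.apply_symm_apply]) s, ?_⟩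
  apply Subtype.ext
  apply LinearEquiv.ext
  intro x
  change φ (φ.symm (s.1 (φ (φ.symm x)))) = s.1 x
  rw [φ.apply_symm_apply, φ.apply_symm_apply]

end

variable {F V : Type*} [Field F] [Fintype F] [AddCommGroup V] [Module F V] [FiniteDimensional F V] {σ : F →+* F}
  {B : V →ₛₗ[σ] V →ₗ[F] F} {q : ℕ}
  {T : Type*} [Group T] [Finite T] [IsSimpleGroup T] {A : Subgroup T} {Γ : Subgroup (MulAut T)}

/-- **A transvection in `A` is impossible** (abstract form). -/
theorem transv_false_abs (hF : Fintype.card F = q ^ 2) (h2 : (2 : F) = 0) (hB : HForm B) (hn : 5 ≤ finrank F V)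
    (h : IF A Γ) (hna : ∃ a b : T, a * b ≠ b * a) (pi : SIso B →* T) (hpi : Function.Surjective pi) {e : V}
    (he0 : e ≠ 0) (he : B e e = 0) {a : F} (ha : a ≠ 0) {g : SIso B} (hg : ∀ x, g.1 x = x + (a * B e x) • e)
    (ht : pi g ∈ A) : False := by
  obtain ⟨n, hnV, φ, hφ⟩ : ∃ n : ℕ, n = finrank F V ∧ ∃ φ : V ≃ₗ[F] (Fin n → F), ∀ v w, B v w =
    hermForm n F q (φ w) (φ v) := ⟨_, rfl, Cfsg.Agent.H450.UF.exists_model hF hB⟩
  rw [← hnV] at hn
  have hφ' : ∀ v w : Fin n → F, formB hF n v w = B (φ.symm v) (φ.symm w) := by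
    intro v w
    rw [hφ, φ.apply_symm_apply, φ.apply_symm_apply]
    rfl
  let θ : SU n F q →* SIso B :=
    (conjS (B := formB hF n) (B' := B) φ.symm hφ').comp (Cfsg.Agent.H450.UF.toIso hF).toMonoidHom
  have hθs : Function.Surjective θ :=
    (conjS_surjective (B := formB hF n) (B' := B) φ.symm hφ').comp (Cfsg.Agent.H450.UF.toIso hF).surjective
  have hθ : ∀ (s : SU n F q) (x : V), (θ s).1 x = φ.symm (act s (φ x)) := fun s x => rfl
  have hsw : ∀ x y : V, B y x = σ (B x y) := fun x y => hB.swap y x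
  have hpow : ∀ x : F, σ x = x ^ q := fun x => Cfsg.Agent.H450.UF.sig_eq hF hB.ne_id hB.invol x
  have hee : hermForm n F q (φ e) (φ e) = 0 := by rw [← hφ]; exact he
  -- `a` is fixed by `σ`
  have hKm : a ∈ Km hF := by
    obtain ⟨y, hy⟩ := hB.exists_ne he0
    obtain ⟨f, hef⟩ : ∃ f, B e f = 1 :=
      ⟨(B e y)⁻¹ • y, by rw [Cfsg.Agent.H450.UF.smul_right, inv_mul_cancel₀ hy]⟩
    have hfe : B f e = 1 := by rw [hsw e f, hef, map_one]
    have h3 := g.2.2 f f
    rw [hg f, hef, mul_one, map_add, map_add, LinearMap.add_apply, LinearMap.add_apply,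
      Cfsg.Agent.H450.UF.smul_left, Cfsg.Agent.H450.UF.smul_right, Cfsg.Agent.H450.UF.smul_left, Cfsg.Agent.H450.UF.smul_right, hef, hfe, he] at h3
    rw [mem_Km, ← hpow]
    linear_combination h3
  apply transv_false hF h2 hn h hna (pi.comp θ) (hpi.comp hθs) (e := φ e) (fun h0 => he0 (by simpa using h0)) hee hKm ha
  change pi (θ _) ∈ A
  have h4 : θ (siegel hF (φ e) 0 a (isT hee hKm)) = g := by
    apply Subtype.ext
    apply LinearEquiv.ext
    intro x
    rw [hθ, act_transv hF hee hKm, hg, map_add, map_smul, φ.symm_apply_apply, φ.symm_apply_apply, hφ]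
  rw [h4]
  exact ht

end Cfsg.Agent.H999.IFU
end

-- part: H406/IF/PSUEven
section
/-!
# S5719, row `PSU_n(q)`, `q` even, `n ≥ 5`, point stabiliser of even order (helper406)

Pieces: descent to transvections (`Desc.lean`), class bound `H847.IF.class_le`, `H999.IFU.transv_false_abs`.
-/

set_option autoImplicit false
set_option linter.unusedSectionVars false

namespace Cfsg.Agent.H406.IF

open Module Subgroup Cfsg Cfsg.Agent.H91.U Cfsg.Agent.H450.UF Cfsg.Agent.H209.Fxy

/-- **The abstract row.** -/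
theorem false_of_even {F V : Type*} [Field F] [Fintype F] [AddCommGroup V] [Module F V] [FiniteDimensional F V]
    {σ : F →+* F} {B : V →ₛₗ[σ] V →ₗ[F] F} {q : ℕ} (hF : Fintype.card F = q ^ 2) (h2 : (2 : F) = 0) (hB : HForm B)
    (hn : 5 ≤ finrank F V) {T : Type*} [Group T] [Finite T] [IsSimpleGroup T] {A : Subgroup T}
    {Γ : Subgroup (MulAut T)} (h : IF A Γ) (hna : ∃ a b : T, a * b ≠ b * a) (pi : SIso B →* T)
    (hpi : Function.Surjective pi) (hker : ∀ g, pi g = 1 → g * g = 1 → g = 1) {a : T} (haA : a ∈ A)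
    (hao : orderOf a = 2) : False := by
  have := finite_SIso B
  have hX : Small (A.comap pi) := by
    intro t ht htt ht1 C hC
    exact Cfsg.Agent.H847.IF.lift_E2 h hna pi hpi ht (fun h1 => ht1 (hker t h1 htt)) (by rw [htt, map_one])
      (fun c hc => by rw [hC c hc])
  have hcl : ClassLe B q := fun k u hu t ht => Cfsg.Agent.H847.IF.class_le hF hB h2 hu ht
  -- an involution
  obtain ⟨t, htX, ht1, htt⟩ : ∃ t ∈ A.comap pi, t ≠ 1 ∧ t * t = 1 := by
    have ha1 : a ≠ 1 := by
      rintro rfl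
      rw [orderOf_one] at hao
      omega
    have ha2 : a * a = 1 := by
      rw [← pow_two]
      exact hao ▸ pow_orderOf_eq_one a
    obtain ⟨x, hx⟩ := hpi a
    have hm : ¬ 2 ∣ Nat.card pi.ker := by
      intro hd
      obtain ⟨y, hy⟩ := exists_prime_orderOf_dvd_card' (G := pi.ker) 2 hd
      have h1 : y ^ 2 = 1 := hy ▸ pow_orderOf_eq_one y
      have h3 : (y : SIso B) * y = 1 := by
        rw [← pow_two]
        exact_mod_cast congrArg Subtype.val h1
      have h4 := hker y y.2 h3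
      have h5 : y = 1 := Subtype.ext h4
      rw [h5, orderOf_one] at hy
      omega
    obtain ⟨j, hj⟩ : ∃ j, Nat.card pi.ker = 2 * j + 1 := by
      have h1 := Nat.two_dvd_ne_zero.1 hm
      exact ⟨Nat.card pi.ker / 2, by omega⟩
    have h4 : pi (x ^ Nat.card pi.ker) = a := by
      rw [map_pow, hx, hj, pow_succ, pow_mul, pow_two, ha2, one_pow, one_mul]
    refine ⟨x ^ Nat.card pi.ker, ?_, ?_, ?_⟩
    · rw [mem_comap, h4]
      exact haA
    · intro h3
      rw [h3, map_one] at h4
      exact ha1 h4.symm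
    · have h3 : x * x ∈ pi.ker := by
        rw [MonoidHom.mem_ker, map_mul, hx, ha2]
      have h5 : (⟨x * x, h3⟩ : pi.ker) ^ Nat.card pi.ker = 1 := pow_card_eq_one'
      have h6 : (x * x) ^ Nat.card pi.ker = 1 := congrArg Subtype.val h5
      rw [← pow_two] at h6
      rw [← pow_add, ← two_mul, pow_mul]
      exact h6
  obtain ⟨e, g, c, he, hee, hg, hc, hgc⟩ := exists_transv hF hB h2 hcl hn hX htX ht1 htt
  exact Cfsg.Agent.H999.IFU.transv_false_abs hF h2 hB hn h hna pi hpi he hee hc hgc hg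

/-- **The row `PSU_n(q)`, `q` even, `n ≥ 5`.** -/
theorem psu_even (F : Type) [Field F] [Fintype F] (n q : ℕ) (hF : Fintype.card F = q ^ 2) (he : Even q) (hn : 5 ≤ n)
    (hs : IsSimpleGroup (PSU n F q)) : KillE (PSU n F q) := by
  rintro A Γ h ⟨a, haA, hao⟩
  have hfin : Finite (PSU n F q) := Quotient.finite _
  have hna : ∃ a b : PSU n F q, a * b ≠ b * a := by
    by_contra hcon
    push Not at hcon
    exact Cfsg.Agent.CpAut.Fix.not_comm_quot (H := SU n F q) (hs := hs) ⟨⟨hcon⟩⟩
  have h2 : (2 : F) = 0 := by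
    have h3 : Fintype.card F % 2 = 0 := by
      rw [hF, ← Nat.even_iff]
      exact he.pow_of_ne_zero two_ne_zero
    have h4 := FiniteField.even_card_iff_char_two.2 h3
    have h5 : ((ringChar F : ℕ) : F) = 0 := ringChar.Nat.cast_ringChar
    rw [h4] at h5
    exact_mod_cast h5
  have hn' : 5 ≤ finrank F (Fin n → F) := by rw [finrank_std]; exact hn
  refine false_of_even hF h2 (hform_sB hF n) hn' h hna (Cfsg.Agent.H91.U.pi hF n) (Cfsg.Agent.H91.U.pi_surjective hF n)
    (fun g hg hgg => ?_) haA hao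
  obtain ⟨c, hc⟩ := scalar_of_pi_eq_one hF (by omega) g hg
  have hcc : c * c = 1 := by
    have h3 : (g * g).1 (fun _ => 1) = c • c • (fun _ : Fin n => (1 : F)) := by
      change g.1 (g.1 _) = _
      rw [hc, hc]
    rw [hgg] at h3
    have h4 := congrFun h3 ⟨0, by omega⟩
    change (1 : F) = c * (c * 1) at h4
    rw [mul_one] at h4
    exact h4.symm
  have hc1 : c = 1 := by
    have h3 : (c - 1) * (c - 1) = 0 := by linear_combination hcc + (1 - c) * h2
    exact sub_eq_zero.1 (mul_self_eq_zero.1 h3)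
  apply Subtype.ext
  ext1 x
  rw [hc, hc1, one_smul]
  rfl

end Cfsg.Agent.H406.IF
end

-- part: H17/IFSp/Basic
section
/-!
# S5719, symplectic groups, `q` odd: isometry groups of alternating forms (helper17)

`Sp B` : isometry group of the form `B`; `Fund B z` : `z = -1` on a hyperbolic plane, `1` on its perpendicular space;
`HB B` : the form on `F × F × W`.
-/

set_option autoImplicit false

namespace Cfsg.Agent.H17.IFSp

open Module

variable {F : Type*} [Field F] {V : Type*} [AddCommGroup V] [Module F V]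

/-- the isometry group -/
def Sp (B : LinearMap.BilinForm F V) : Subgroup (V ≃ₗ[F] V) where
  carrier := {g | ∀ x y, B (g x) (g y) = B x y}
  one_mem' := fun x y => rfl
  mul_mem' := by
    intro a b ha hb x y
    show B (a (b x)) (a (b y)) = B x y
    rw [ha, hb]
  inv_mem' := by
    intro a ha x y
    have h := ha (a⁻¹ x) (a⁻¹ y)
    have e : ∀ z, a (a⁻¹ z) = z := fun z => LinearEquiv.apply_symm_apply a z
    rw [e, e] at h
    exact h.symm

theorem Sp.isom {B : LinearMap.BilinForm F V} (g : Sp B) (x y : V) : B (g.1 x) (g.1 y) = B x y := g.2 x y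

theorem Sp.ext {B : LinearMap.BilinForm F V} {g h : Sp B} (H : ∀ x, g.1 x = h.1 x) : g = h :=
  Subtype.ext (LinearEquiv.ext H)

theorem Sp.mul_apply {B : LinearMap.BilinForm F V} (g h : Sp B) (x : V) : (g * h).1 x = g.1 (h.1 x) := rfl

theorem Sp.one_apply {B : LinearMap.BilinForm F V} (x : V) : (1 : Sp B).1 x = x := rfl

theorem Sp.apply_inv {B : LinearMap.BilinForm F V} (g : Sp B) (x : V) : g.1 ((g⁻¹).1 x) = x :=
  LinearEquiv.apply_symm_apply g.1 x

/-- nondegenerate -/
def ND (B : LinearMap.BilinForm F V) : Prop := ∀ x, (∀ y, B x y = 0) → x = 0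

/-- `z = -1` on the hyperbolic plane `⟨e, f⟩` and `1` on its perpendicular space -/
def FundAt (B : LinearMap.BilinForm F V) (e f : V) (z : Sp B) : Prop :=
  B e f = 1 ∧ ∀ x, z.1 x = x - (2 * B x f) • e + (2 * B x e) • f

/-- fundamental involution -/
def Fund (B : LinearMap.BilinForm F V) (z : Sp B) : Prop := ∃ e f : V, FundAt B e f z

theorem alt_neg {B : LinearMap.BilinForm F V} (hB : B.IsAlt) (x y : V) : B x y = - B y x := (hB.neg_eq y x).symm

theorem FundAt.sq {B : LinearMap.BilinForm F V} (hB : B.IsAlt) {e f : V} {z : Sp B} (h : FundAt B e f z) :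
    z * z = 1 := by
  obtain ⟨hef, hz⟩ := h
  have hee : B e e = 0 := hB e
  have hff : B f f = 0 := hB f
  have hfe : B f e = -1 := by rw [alt_neg hB, hef]
  apply Sp.ext
  intro x
  rw [Sp.mul_apply, Sp.one_apply, hz (z.1 x), hz x]
  simp only [map_add, map_sub, map_smul, LinearMap.add_apply, LinearMap.sub_apply, LinearMap.smul_apply, smul_eq_mul,
    hee, hff, hef, hfe]
  module

theorem Fund.sq {B : LinearMap.BilinForm F V} (hB : B.IsAlt) {z : Sp B} (h : Fund B z) : z * z = 1 := by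
  obtain ⟨e, f, h⟩ := h
  exact h.sq hB

theorem FundAt.conj {B : LinearMap.BilinForm F V} {e f : V} {z : Sp B} (h : FundAt B e f z) (g : Sp B) :
    FundAt B (g.1 e) (g.1 f) (g * z * g⁻¹) := by
  obtain ⟨hef, hz⟩ := h
  refine ⟨by rw [Sp.isom g, hef], ?_⟩
  intro x
  rw [Sp.mul_apply, Sp.mul_apply, hz, map_add, map_sub, map_smul, map_smul, Sp.apply_inv]
  have h1 : ∀ y, B ((g⁻¹).1 x) y = B x (g.1 y) := by
    intro y
    rw [← Sp.isom g, Sp.apply_inv]
  rw [h1, h1]

theorem Fund.conj {B : LinearMap.BilinForm F V} {z : Sp B} (h : Fund B z) (g : Sp B) : Fund B (g * z * g⁻¹) := by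
  obtain ⟨e, f, h⟩ := h
  exact ⟨_, _, h.conj g⟩

/-! ### Isometries -/

section Iso

variable {V' : Type*} [AddCommGroup V'] [Module F V']

/-- an isometry between two spaces -/
def IsoF (B : LinearMap.BilinForm F V) (B' : LinearMap.BilinForm F V') (φ : V ≃ₗ[F] V') : Prop :=
  ∀ x y, B' (φ x) (φ y) = B x y

/-- transport of the isometry group -/
def spCongr {B : LinearMap.BilinForm F V} {B' : LinearMap.BilinForm F V'} {φ : V ≃ₗ[F] V'} (h : IsoF B B' φ) :
    Sp B ≃* Sp B' where
  toFun g := ⟨(φ.symm.trans g.1).trans φ, by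
    intro x y
    show B' (φ (g.1 (φ.symm x))) (φ (g.1 (φ.symm y))) = B' x y
    rw [h, Sp.isom g, ← h, φ.apply_symm_apply, φ.apply_symm_apply]⟩
  invFun g := ⟨(φ.trans g.1).trans φ.symm, by
    intro x y
    show B (φ.symm (g.1 (φ x))) (φ.symm (g.1 (φ y))) = B x y
    rw [← h, φ.apply_symm_apply, φ.apply_symm_apply, Sp.isom g, h]⟩
  left_inv g := Sp.ext fun x => by
    show φ.symm (φ (g.1 (φ.symm (φ x)))) = g.1 x
    rw [φ.symm_apply_apply, φ.symm_apply_apply]
  right_inv g := Sp.ext fun x => by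
    show φ (φ.symm (g.1 (φ (φ.symm x)))) = g.1 x
    rw [φ.apply_symm_apply, φ.apply_symm_apply]
  map_mul' g k := Sp.ext fun x => by
    show φ (g.1 (k.1 (φ.symm x))) = φ (g.1 (φ.symm (φ (k.1 (φ.symm x)))))
    rw [φ.symm_apply_apply]

theorem spCongr_apply {B : LinearMap.BilinForm F V} {B' : LinearMap.BilinForm F V'} {φ : V ≃ₗ[F] V'} (h : IsoF B B' φ)
    (g : Sp B) (x : V) : (spCongr h g).1 (φ x) = φ (g.1 x) := by
  show φ (g.1 (φ.symm (φ x))) = φ (g.1 x)
  rw [φ.symm_apply_apply]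

theorem fund_congr {B : LinearMap.BilinForm F V} {B' : LinearMap.BilinForm F V'} {φ : V ≃ₗ[F] V'} (h : IsoF B B' φ)
    {z : Sp B} (hz : Fund B z) : Fund B' (spCongr h z) := by
  obtain ⟨e, f, hef, hz⟩ := hz
  refine ⟨φ e, φ f, by rw [h, hef], ?_⟩
  intro x
  obtain ⟨x, rfl⟩ := φ.surjective x
  rw [spCongr_apply, hz, map_add, map_sub, map_smul, map_smul, h, h]

theorem IsoF.symm {B : LinearMap.BilinForm F V} {B' : LinearMap.BilinForm F V'} {φ : V ≃ₗ[F] V'} (h : IsoF B B' φ) :
    IsoF B' B φ.symm := by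
  intro x y
  rw [← h, φ.apply_symm_apply, φ.apply_symm_apply]

theorem spCongr_symm {B : LinearMap.BilinForm F V} {B' : LinearMap.BilinForm F V'} {φ : V ≃ₗ[F] V'} (h : IsoF B B' φ)
    (g : Sp B') : (spCongr h).symm g = spCongr h.symm g := rfl

theorem fund_congr' {B : LinearMap.BilinForm F V} {B' : LinearMap.BilinForm F V'} {φ : V ≃ₗ[F] V'} (h : IsoF B B' φ)
    {z : Sp B} (hz : Fund B' (spCongr h z)) : Fund B z := by
  have h1 := fund_congr h.symm hz
  rwa [← spCongr_symm h, MulEquiv.symm_apply_apply] at h1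

end Iso

/-! ### The model `F × F × W` -/

section Model

variable {W : Type*} [AddCommGroup W] [Module F W] (B : LinearMap.BilinForm F W)

/-- the form on `F × F × W` -/
def HB : LinearMap.BilinForm F (F × F × W) :=
  LinearMap.mk₂ F (fun x y => x.1 * y.2.1 - x.2.1 * y.1 + B x.2.2 y.2.2)
    (by intro x y z; simp only [Prod.fst_add, Prod.snd_add, map_add, LinearMap.add_apply]; ring)
    (by intro c x y; simp only [Prod.smul_fst, Prod.smul_snd, map_smul, LinearMap.smul_apply, smul_eq_mul]; ring)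
    (by intro x y z; simp only [Prod.fst_add, Prod.snd_add, map_add]; ring)
    (by intro c x y; simp only [Prod.smul_fst, Prod.smul_snd, map_smul, smul_eq_mul]; ring)

theorem HB_apply (x y : F × F × W) : HB B x y = x.1 * y.2.1 - x.2.1 * y.1 + B x.2.2 y.2.2 := rfl

theorem HB_mk (a b a' b' : F) (w w' : W) : HB B (a, b, w) (a', b', w') = a * b' - b * a' + B w w' := rfl

variable {B}

theorem HB_alt (hB : B.IsAlt) : (HB B).IsAlt := by
  intro x
  have h : B x.2.2 x.2.2 = 0 := hB _
  rw [HB_apply, h]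
  ring

/-- Levi embedding -/
def lev : Sp B →* Sp (HB B) where
  toFun g := ⟨(LinearEquiv.refl F F).prodCongr ((LinearEquiv.refl F F).prodCongr g.1), by
    rintro ⟨a, b, w⟩ ⟨a', b', w'⟩
    show HB B (a, b, g.1 w) (a', b', g.1 w') = HB B (a, b, w) (a', b', w')
    rw [HB_mk, HB_mk, Sp.isom g]⟩
  map_one' := Sp.ext fun _ => rfl
  map_mul' g h := (Sp.ext fun _ => rfl : _)

theorem lev_apply (g : Sp B) (a b : F) (w : W) : (lev g).1 (a, b, w) = (a, b, g.1 w) := rfl

theorem fund_lev {z : Sp B} (hz : Fund B z) : Fund (HB B) (lev z) := by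
  obtain ⟨e, f, hef, hz⟩ := hz
  refine ⟨(0, 0, e), (0, 0, f), by rw [HB_mk, hef]; ring, ?_⟩
  rintro ⟨a, b, w⟩
  rw [lev_apply, hz, HB_mk, HB_mk]
  simp only [Prod.smul_mk, smul_eq_mul, Prod.mk_sub_mk, Prod.mk_add_mk, mul_zero, sub_zero, add_zero, zero_add]

/-- `SL₂(F)` on the hyperbolic plane -/
def slH : Matrix.SpecialLinearGroup (Fin 2) F →* Sp (HB B) where
  toFun g := ⟨{
      toFun := fun x => (g.1 0 0 * x.1 + g.1 0 1 * x.2.1, g.1 1 0 * x.1 + g.1 1 1 * x.2.1, x.2.2)
      map_add' := by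
        intro x y
        simp only [Prod.fst_add, Prod.snd_add, Prod.mk_add_mk]
        refine Prod.ext ?_ (Prod.ext ?_ rfl) <;> ring
      map_smul' := by
        intro c x
        simp only [Prod.smul_fst, Prod.smul_snd, smul_eq_mul, RingHom.id_apply, Prod.smul_mk]
        refine Prod.ext ?_ (Prod.ext ?_ rfl) <;> ring
      invFun := fun x => (g.1 1 1 * x.1 - g.1 0 1 * x.2.1, - g.1 1 0 * x.1 + g.1 0 0 * x.2.1, x.2.2)
      left_inv := by
        intro x
        have h := g.2
        rw [Matrix.det_fin_two] at h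
        refine Prod.ext ?_ (Prod.ext ?_ rfl)
        · show g.1 1 1 * (g.1 0 0 * x.1 + g.1 0 1 * x.2.1) - g.1 0 1 * (g.1 1 0 * x.1 + g.1 1 1 * x.2.1) = x.1
          linear_combination x.1 * h
        · show - g.1 1 0 * (g.1 0 0 * x.1 + g.1 0 1 * x.2.1) + g.1 0 0 * (g.1 1 0 * x.1 + g.1 1 1 * x.2.1) = x.2.1
          linear_combination x.2.1 * h
      right_inv := by
        intro x
        have h := g.2
        rw [Matrix.det_fin_two] at h
        refine Prod.ext ?_ (Prod.ext ?_ rfl)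
        · show g.1 0 0 * (g.1 1 1 * x.1 - g.1 0 1 * x.2.1) + g.1 0 1 * (- g.1 1 0 * x.1 + g.1 0 0 * x.2.1) = x.1
          linear_combination x.1 * h
        · show g.1 1 0 * (g.1 1 1 * x.1 - g.1 0 1 * x.2.1) + g.1 1 1 * (- g.1 1 0 * x.1 + g.1 0 0 * x.2.1) = x.2.1
          linear_combination x.2.1 * h }, by
    intro x y
    have h := g.2
    rw [Matrix.det_fin_two] at h
    show (g.1 0 0 * x.1 + g.1 0 1 * x.2.1) * (g.1 1 0 * y.1 + g.1 1 1 * y.2.1) -
      (g.1 1 0 * x.1 + g.1 1 1 * x.2.1) * (g.1 0 0 * y.1 + g.1 0 1 * y.2.1) + B x.2.2 y.2.2 =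
      x.1 * y.2.1 - x.2.1 * y.1 + B x.2.2 y.2.2
    linear_combination (x.1 * y.2.1 - x.2.1 * y.1) * h⟩
  map_one' := Sp.ext fun x => by
    show ((1 : Matrix (Fin 2) (Fin 2) F) 0 0 * x.1 + (1 : Matrix (Fin 2) (Fin 2) F) 0 1 * x.2.1,
      (1 : Matrix (Fin 2) (Fin 2) F) 1 0 * x.1 + (1 : Matrix (Fin 2) (Fin 2) F) 1 1 * x.2.1, x.2.2) = x
    simp
  map_mul' g h := Sp.ext fun x => by
    show ((g.1 * h.1) 0 0 * x.1 + (g.1 * h.1) 0 1 * x.2.1, (g.1 * h.1) 1 0 * x.1 + (g.1 * h.1) 1 1 * x.2.1, x.2.2) =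
      (g.1 0 0 * (h.1 0 0 * x.1 + h.1 0 1 * x.2.1) + g.1 0 1 * (h.1 1 0 * x.1 + h.1 1 1 * x.2.1),
       g.1 1 0 * (h.1 0 0 * x.1 + h.1 0 1 * x.2.1) + g.1 1 1 * (h.1 1 0 * x.1 + h.1 1 1 * x.2.1), x.2.2)
    simp only [Matrix.mul_apply, Fin.sum_univ_two]
    refine Prod.ext ?_ (Prod.ext ?_ rfl) <;> ring

theorem slH_apply (g : Matrix.SpecialLinearGroup (Fin 2) F) (a b : F) (w : W) :
    (slH (B := B) g).1 (a, b, w) = (g.1 0 0 * a + g.1 0 1 * b, g.1 1 0 * a + g.1 1 1 * b, w) := rfl

theorem fund_slH : Fund (HB B) (slH (-1)) := by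
  refine ⟨(1, 0, 0), (0, 1, 0), by rw [HB_mk, map_zero]; simp, ?_⟩
  rintro ⟨a, b, w⟩
  rw [slH_apply, HB_mk, HB_mk]
  have h1 : ((-1 : Matrix.SpecialLinearGroup (Fin 2) F)).1 = -1 := rfl
  simp only [h1, Matrix.neg_apply, Matrix.one_apply_eq, ne_eq, zero_ne_one, not_false_eq_true, Matrix.one_apply_ne,
    one_ne_zero, map_zero, Prod.smul_mk, smul_eq_mul, Prod.mk_sub_mk, Prod.mk_add_mk, smul_zero]
  refine Prod.ext ?_ (Prod.ext ?_ ?_) <;> simp <;> ring

/-- the elements of `Q_e` -/
def qe (hB : B.IsAlt) (c : F) (u : W) : Sp (HB B) :=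
  ⟨{  toFun := fun x => (x.1 + c * x.2.1 + B u x.2.2, x.2.1, x.2.2 + x.2.1 • u)
      map_add' := by
        intro x y
        simp only [Prod.fst_add, Prod.snd_add, Prod.mk_add_mk, map_add]
        refine Prod.ext ?_ (Prod.ext rfl ?_)
        · ring
        · show x.2.2 + y.2.2 + (x.2.1 + y.2.1) • u = x.2.2 + x.2.1 • u + (y.2.2 + y.2.1 • u)
          module
      map_smul' := by
        intro t x
        simp only [Prod.smul_fst, Prod.smul_snd, smul_eq_mul, RingHom.id_apply, Prod.smul_mk, map_smul]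
        refine Prod.ext ?_ (Prod.ext rfl ?_)
        · ring
        · show t • x.2.2 + (t * x.2.1) • u = t • (x.2.2 + x.2.1 • u)
          module
      invFun := fun x => (x.1 - c * x.2.1 - B u x.2.2, x.2.1, x.2.2 - x.2.1 • u)
      left_inv := by
        intro x
        have h : B u u = 0 := hB u
        refine Prod.ext ?_ (Prod.ext rfl ?_)
        · show x.1 + c * x.2.1 + B u x.2.2 - c * x.2.1 - B u (x.2.2 + x.2.1 • u) = x.1
          rw [map_add, map_smul, h, smul_zero]
          ring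
        · show x.2.2 + x.2.1 • u - x.2.1 • u = x.2.2
          module
      right_inv := by
        intro x
        have h : B u u = 0 := hB u
        refine Prod.ext ?_ (Prod.ext rfl ?_)
        · show x.1 - c * x.2.1 - B u x.2.2 + c * x.2.1 + B u (x.2.2 - x.2.1 • u) = x.1
          rw [map_sub, map_smul, h, smul_zero]
          ring
        · show x.2.2 - x.2.1 • u + x.2.1 • u = x.2.2
          module }, by
    intro x y
    have h : B u u = 0 := hB u
    show (x.1 + c * x.2.1 + B u x.2.2) * y.2.1 - x.2.1 * (y.1 + c * y.2.1 + B u y.2.2) +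
      B (x.2.2 + x.2.1 • u) (y.2.2 + y.2.1 • u) = x.1 * y.2.1 - x.2.1 * y.1 + B x.2.2 y.2.2
    simp only [map_add, map_smul, LinearMap.add_apply, LinearMap.smul_apply, smul_eq_mul, h]
    rw [alt_neg hB x.2.2 u]
    ring⟩

theorem qe_apply (hB : B.IsAlt) (c : F) (u : W) (a b : F) (w : W) :
    (qe hB c u).1 (a, b, w) = (a + c * b + B u w, b, w + b • u) := rfl

theorem qe_mul (hB : B.IsAlt) (c c' : F) (u u' : W) : qe hB c u * qe hB c' u' = qe hB (c + c' + B u u') (u + u') := by
  apply Sp.ext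
  rintro ⟨a, b, w⟩
  rw [Sp.mul_apply, qe_apply, qe_apply, qe_apply]
  refine Prod.ext ?_ (Prod.ext rfl ?_)
  · simp only [map_add, map_smul, LinearMap.add_apply, smul_eq_mul]
    ring
  · show w + b • u' + b • u = w + b • (u + u')
    module

theorem qe_zero (hB : B.IsAlt) : qe hB 0 0 = 1 := by
  apply Sp.ext
  rintro ⟨a, b, w⟩
  rw [qe_apply, Sp.one_apply]
  simp

theorem qe_inv (hB : B.IsAlt) (c : F) (u : W) : (qe hB c u)⁻¹ = qe hB (-c) (-u) := by
  apply inv_eq_of_mul_eq_one_right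
  have h : B u u = 0 := hB u
  rw [qe_mul, map_neg, h, ← qe_zero hB]
  congr 1 <;> simp

theorem qe_inj (hB : B.IsAlt) {c c' : F} {u u' : W} (h : qe hB c u = qe hB c' u') : c = c' ∧ u = u' := by
  have h1 : (qe hB c u).1 (0, 1, 0) = (qe hB c' u').1 (0, 1, 0) := by rw [h]
  rw [qe_apply, qe_apply, Prod.mk.injEq, Prod.mk.injEq] at h1
  simpa using h1

theorem lev_qe (hB : B.IsAlt) (g : Sp B) (c : F) (u : W) : lev g * qe hB c u * (lev g)⁻¹ = qe hB c (g.1 u) := by
  rw [mul_inv_eq_iff_eq_mul]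
  apply Sp.ext
  rintro ⟨a, b, w⟩
  rw [Sp.mul_apply, Sp.mul_apply, qe_apply, lev_apply, lev_apply, qe_apply, Sp.isom g, map_add, map_smul]

/-- `Q_e` -/
def Qe (hB : B.IsAlt) : Subgroup (Sp (HB B)) where
  carrier := {g | ∃ c u, g = qe hB c u}
  one_mem' := ⟨0, 0, (qe_zero hB).symm⟩
  mul_mem' := by
    rintro _ _ ⟨c, u, rfl⟩ ⟨c', u', rfl⟩
    exact ⟨_, _, qe_mul hB c c' u u'⟩
  inv_mem' := by
    rintro _ ⟨c, u, rfl⟩
    exact ⟨_, _, qe_inv hB c u⟩

/-- the order of `Q_e` -/
theorem card_Qe (hB : B.IsAlt) : Nat.card (Qe hB) = Nat.card F * Nat.card W := by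
  rw [← Nat.card_prod]
  symm
  refine Nat.card_congr (Equiv.ofBijective (fun x : F × W => (⟨qe hB x.1 x.2, x.1, x.2, rfl⟩ : Qe hB)) ⟨?_, ?_⟩)
  · rintro ⟨c, u⟩ ⟨c', u'⟩ h
    obtain ⟨h1, h2⟩ := qe_inj hB (congrArg Subtype.val h)
    exact Prod.ext h1 h2
  · rintro ⟨_, c, u, rfl⟩
    exact ⟨(c, u), rfl⟩

theorem slH_u (hB : B.IsAlt) (c : F) (g : Matrix.SpecialLinearGroup (Fin 2) F) (hg : g.1 = !![1, c; 0, 1]) :
    slH g = qe hB c 0 := by
  apply Sp.ext
  rintro ⟨a, b, w⟩
  rw [slH_apply, qe_apply, hg]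
  simp

end Model

end Cfsg.Agent.H17.IFSp
end

-- part: H17/IFSp/Phi
section
/-!
# S5719, symplectic groups, `q` odd: PHI (helper17; the argument is helper847's)

`phi_sp` : `X ≤ Sp(B) × Γ` without fundamental involutions `(z, 1)` and without `(1, z')`, `z' ∈ Z'`, has index at least
`q ^ (M (M + 1) / 2) c`.
-/

set_option autoImplicit false

namespace Cfsg.Agent.H17.IFSp

open Module

variable {F : Type*} [Field F]

/-- the statement PHI for the form `B` on a space of dimension `2 M` -/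
def PHI {V : Type*} [AddCommGroup V] [Module F V] (B : LinearMap.BilinForm F V) (M : ℕ) : Prop :=
  ∀ (Γ : Type) [Group Γ] [Finite Γ] (Z' : Set Γ), (∀ z ∈ Z', z * z = 1) → (∀ g : Γ, ∀ z ∈ Z', g * z * g⁻¹ ∈ Z') →
    ∀ c : ℕ, (∀ Y : Subgroup Γ, (∀ z ∈ Z', z ∉ Y) → c ≤ Y.index) →
    ∀ X : Subgroup (Sp B × Γ), (∀ z : Sp B, Fund B z → (z, (1 : Γ)) ∉ X) → (∀ z ∈ Z', ((1 : Sp B), z) ∉ X) →
    Nat.card F ^ (M * (M + 1) / 2) * c ≤ X.index

/-- transport of PHI -/
theorem PHI.congr {V V' : Type*} [AddCommGroup V] [Module F V] [AddCommGroup V'] [Module F V']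
    {B : LinearMap.BilinForm F V} {B' : LinearMap.BilinForm F V'} {φ : V ≃ₗ[F] V'} (h : IsoF B B' φ) {M : ℕ}
    (hP : PHI B' M) : PHI B M := by
  intro Γ _ _ Z' hZ2 hZc c hc X h1 h2
  let ψ : Sp B' × Γ ≃* Sp B × Γ := MulEquiv.prodCongr (spCongr h).symm (MulEquiv.refl Γ)
  have hi : (X.comap ψ.toMonoidHom).index = X.index :=
    Subgroup.index_comap_of_surjective X (f := ψ.toMonoidHom) ψ.surjective
  rw [← hi]
  refine hP Γ Z' hZ2 hZc c hc _ ?_ ?_
  · intro z hz hX
    refine h1 ((spCongr h).symm z) (fund_congr' h (by rw [MulEquiv.apply_symm_apply]; exact hz)) ?_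
    exact hX
  · intro z hz hX
    refine h2 z hz ?_
    have h3 : ψ ((1 : Sp B'), z) ∈ X := hX
    have h4 : ψ ((1 : Sp B'), z) = ((1 : Sp B), z) := by
      show ((spCongr h).symm 1, z) = _
      rw [map_one]
    rwa [h4] at h3

section Count

variable {W : Type*} [AddCommGroup W] [Module F W] {B : LinearMap.BilinForm F W}

/-- The size of a totally isotropic additive subset. -/
theorem card_isotropic [Finite F] [FiniteDimensional F W] (hB : B.IsAlt) (hnd : ND B) {M : ℕ}
    (hM : finrank F W = 2 * M) (S : Set W) (hS : ∀ x ∈ S, ∀ y ∈ S, B x y = 0) :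
    Nat.card (Submodule.span F S) ≤ Nat.card F ^ M := by
  have : Finite W := Module.finite_of_finite F
  have hnd' : B.Nondegenerate := by
    refine ⟨fun x hx => hnd x hx, fun x hx => hnd x fun y => ?_⟩
    rw [alt_neg hB, hx y, neg_zero]
  set U := Submodule.span F S with hU
  have h1 : ∀ x ∈ U, ∀ y ∈ U, B x y = 0 := by
    intro x hx y hy
    induction hx using Submodule.span_induction with
    | mem x hx =>
      induction hy using Submodule.span_induction with
      | mem y hy => exact hS x hx y hy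
      | zero => exact map_zero _
      | add y y' _ _ h h' => rw [map_add, h, h', add_zero]
      | smul c y _ h => rw [map_smul, h, smul_zero]
    | zero => rw [map_zero, LinearMap.zero_apply]
    | add x x' _ _ h h' => rw [map_add, LinearMap.add_apply, h, h', add_zero]
    | smul c x _ h => rw [map_smul, LinearMap.smul_apply, h, smul_zero]
  have h2 : U ≤ B.orthogonal U := by
    intro x hx y hy
    exact h1 y hy x hx
  have h3 := Submodule.finrank_mono h2
  have h4 := LinearMap.BilinForm.finrank_orthogonal hnd' U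
  have h5 : finrank F U ≤ M := by
    have h6 := U.finrank_le
    omega
  rw [Module.natCard_eq_pow_finrank (K := F)]
  exact Nat.pow_le_pow_right Nat.card_pos h5

/-- a subgroup `D` of `Q_e` with `D ∩ Z_e = 1` has order at most `q ^ M` -/
theorem card_inf_Qe [Finite F] [FiniteDimensional F W] (hB : B.IsAlt) (hnd : ND B) (h2 : (2 : F) ≠ 0) {M : ℕ}
    (hM : finrank F W = 2 * M) (D : Subgroup (Sp (HB B))) (hD : ∀ g ∈ D, ∃ c u, g = qe hB c u)
    (hZ : ∀ c, qe hB c 0 ∈ D → c = 0) : Nat.card D ≤ Nat.card F ^ M := by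
  have : Finite W := Module.finite_of_finite F
  let S : Set W := {u | ∃ c, qe hB c u ∈ D}
  have hS : ∀ x ∈ S, ∀ y ∈ S, B x y = 0 := by
    rintro x ⟨c, hx⟩ y ⟨c', hy⟩
    have h3 : qe hB c x * qe hB c' y * (qe hB c' y * qe hB c x)⁻¹ ∈ D := D.mul_mem (D.mul_mem hx hy)
      (D.inv_mem (D.mul_mem hy hx))
    have hxx : B x x = 0 := hB x
    have hyy : B y y = 0 := hB y
    have h4 : qe hB c x * qe hB c' y * (qe hB c' y * qe hB c x)⁻¹ = qe hB (2 * B x y) 0 := by
      rw [qe_mul, qe_mul, qe_inv, qe_mul, alt_neg hB y x]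
      congr 1
      · simp only [map_add, map_neg, LinearMap.add_apply, hxx, hyy, alt_neg hB y x]
        ring
      · abel
    rw [h4] at h3
    exact (mul_eq_zero.1 (hZ _ h3)).resolve_left h2
  refine le_trans ?_ (card_isotropic hB hnd hM S hS)
  choose! cc uu huu using hD
  have hmem : ∀ g : D, uu g.1 ∈ Submodule.span F S := by
    intro g
    apply Submodule.subset_span
    refine ⟨cc g.1, ?_⟩
    rw [← huu g.1 g.2]
    exact g.2
  refine Nat.card_le_card_of_injective (fun g : D => (⟨uu g.1, hmem g⟩ : Submodule.span F S)) ?_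
  intro g h hgh
  have h5 : uu g.1 = uu h.1 := congrArg Subtype.val hgh
  have hg : g.1 = qe hB (cc g.1) (uu h.1) := by
    conv_lhs => rw [huu g.1 g.2]
    rw [h5]
  have hh : h.1 = qe hB (cc h.1) (uu h.1) := huu h.1 h.2
  have hgD := g.2
  have hhD := h.2
  generalize cc g.1 = c1 at hg
  generalize cc h.1 = c2 at hh
  generalize uu h.1 = u at hg hh
  rw [hg] at hgD
  rw [hh] at hhD
  have h6 := D.mul_mem hgD (D.inv_mem hhD)
  have hxx : B u u = 0 := hB _
  rw [qe_inv, qe_mul, map_neg, hxx, neg_zero, add_zero, add_neg_cancel, ← sub_eq_add_neg] at h6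
  have h8 := sub_eq_zero.1 (hZ _ h6)
  apply Subtype.ext
  rw [hg, hh, h8]

end Count

section Step

variable {W : Type*} [AddCommGroup W] [Module F W] {B : LinearMap.BilinForm F W}

theorem finite_Sp [Finite F] [FiniteDimensional F W] (B : LinearMap.BilinForm F W) : Finite (Sp B) := by
  have : Finite W := Module.finite_of_finite F
  have : Finite (W ≃ₗ[F] W) := Finite.of_injective (fun g : W ≃ₗ[F] W => (g : W → W)) DFunLike.coe_injective
  infer_instance

/-- the step, if `X ∩ Z_e = 1` -/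
theorem phi_step' [Finite F] [FiniteDimensional F W] (hB : B.IsAlt) (hnd : ND B) (h2 : (2 : F) ≠ 0) {M : ℕ}
    (hM : finrank F W = 2 * M) (hP : PHI B M) (Γ : Type) [Group Γ] [Finite Γ] (Z' : Set Γ)
    (hZ2 : ∀ z ∈ Z', z * z = 1) (hZc : ∀ g : Γ, ∀ z ∈ Z', g * z * g⁻¹ ∈ Z') (c : ℕ)
    (hc : ∀ Y : Subgroup Γ, (∀ z ∈ Z', z ∉ Y) → c ≤ Y.index) (X : Subgroup (Sp (HB B) × Γ))
    (hX1 : ∀ z : Sp (HB B), Fund (HB B) z → (z, (1 : Γ)) ∉ X) (hX2 : ∀ z ∈ Z', ((1 : Sp (HB B)), z) ∉ X)
    (hZe : ∀ a, (qe hB a 0, (1 : Γ)) ∈ X → a = 0) :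
    Nat.card F ^ ((M + 1) * (M + 1 + 1) / 2) * c ≤ X.index := by
  have : Finite W := Module.finite_of_finite F
  have hfin : Finite (Sp B) := finite_Sp B
  have hfin' : Finite (Sp (HB B)) := finite_Sp (HB B)
  have hq : 0 < Nat.card F := Nat.card_pos
  have hqo : Odd (Nat.card F) := by
    rw [← Nat.not_even_iff_odd]
    intro he
    apply h2
    obtain ⟨p, hp⟩ := CharP.exists F
    have := Fintype.ofFinite F
    obtain ⟨n, hpp, hn⟩ := FiniteField.card F p
    rw [Nat.card_eq_fintype_card, hn] at he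
    have h3 : 2 ∣ p := Nat.prime_two.dvd_of_dvd_pow (even_iff_two_dvd.1 he)
    have h4 : 2 = p := (Nat.prime_dvd_prime_iff_eq Nat.prime_two hpp).1 h3
    subst h4
    exact_mod_cast CharP.cast_eq_zero F 2
  have hcW : Nat.card W = Nat.card F ^ (2 * M) := by
    rw [Module.natCard_eq_pow_finrank (K := F), hM]
  let lam : Sp B × Γ →* Sp (HB B) × Γ := (lev (B := B)).prodMap (MonoidHom.id Γ)
  let Q : Subgroup (Sp (HB B) × Γ) := (Qe hB).prod ⊥
  let Z : Set (Sp (HB B) × Γ) := {z | (Fund (HB B) z.1 ∧ z.2 = 1) ∨ (z.1 = 1 ∧ z.2 ∈ Z')}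
  have hQc : Nat.card Q = Nat.card F * Nat.card F ^ (2 * M) := by
    have h3 : Nat.card Q = Nat.card (Qe hB) * Nat.card (⊥ : Subgroup Γ) := by
      rw [← Nat.card_prod]
      exact Nat.card_congr (Subgroup.prodEquiv _ _).toEquiv
    rw [h3, card_Qe, Subgroup.card_bot, mul_one, hcW]
  have key := Cfsg.Agent.H847.IF.abs_index lam Q X (by rw [hQc]; exact hqo.mul hqo.pow) (by
    rintro ⟨g, γ⟩ ⟨u, δ⟩ ⟨hu, hδ⟩
    have hδ' : δ = 1 := hδ
    subst hδ'
    obtain ⟨a, w, rfl⟩ := hu
    refine ⟨⟨a, g.1 w, ?_⟩, ?_⟩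
    · exact lev_qe hB g a w
    · show γ * 1 * γ⁻¹ = 1
      group) Z (by
    rintro ⟨g, γ⟩ (⟨hg, hγ⟩ | ⟨hg, hγ⟩)
    · have hγ' : γ = 1 := hγ
      subst hγ'
      exact Prod.ext (Fund.sq ((HB_alt hB :)) hg) (one_mul 1)
    · have hg' : g = 1 := hg
      subst hg'
      exact Prod.ext (one_mul 1) (hZ2 _ hγ)) (by
    rintro ⟨x, ξ⟩ ⟨g, γ⟩ (⟨hg, hγ⟩ | ⟨hg, hγ⟩)
    · have hγ' : γ = 1 := hγ
      subst hγ'
      left
      refine ⟨hg.conj x, ?_⟩
      show ξ * 1 * ξ⁻¹ = 1
      group
    · have hg' : g = 1 := hg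
      subst hg'
      right
      refine ⟨?_, hZc ξ _ hγ⟩
      show x * 1 * x⁻¹ = 1
      group) (by
    rintro ⟨g, γ⟩ (⟨hg, hγ⟩ | ⟨hg, hγ⟩)
    · have hγ' : γ = 1 := hγ
      subst hγ'
      exact hX1 g hg
    · have hg' : g = 1 := hg
      subst hg'
      exact hX2 γ hγ) (Nat.card F ^ (M * (M + 1) / 2) * c) (by
    intro Y hY
    refine hP Γ Z' hZ2 hZc c hc Y ?_ ?_
    · intro z hz hzY
      exact hY _ hzY (Or.inl ⟨fund_lev hz, rfl⟩)
    · intro z hz hzY
      exact hY _ hzY (Or.inr ⟨map_one lev, hz⟩))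
  have hXQ : Nat.card (X ⊓ Q : Subgroup (Sp (HB B) × Γ)) ≤ Nat.card F ^ M := by
    let D : Subgroup (Sp (HB B)) := (X.comap (MonoidHom.inl (Sp (HB B)) Γ)) ⊓ Qe hB
    refine le_trans ?_ (card_inf_Qe hB hnd h2 hM D (fun g hg => hg.2) (fun a ha => hZe a ha.1))
    refine Nat.card_le_card_of_injective (fun g : (X ⊓ Q : Subgroup (Sp (HB B) × Γ)) => (⟨g.1.1, ?_, g.2.2.1⟩ : D)) ?_
    · have h3 : g.1.2 = 1 := g.2.2.2
      show (g.1.1, (1 : Γ)) ∈ X
      rw [← h3]
      exact g.2.1
    · intro g h hgh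
      apply Subtype.ext
      have h3 : g.1.2 = 1 := g.2.2.2
      have h4 : h.1.2 = 1 := h.2.2.2
      exact Prod.ext (congrArg (fun x : D => x.1) hgh) (h3.trans h4.symm)
  have h5 : Nat.card F ^ M * (Nat.card F ^ (M + 1) * (Nat.card F ^ (M * (M + 1) / 2) * c)) ≤ Nat.card F ^ M * X.index := by
    calc Nat.card F ^ M * (Nat.card F ^ (M + 1) * (Nat.card F ^ (M * (M + 1) / 2) * c))
        = Nat.card Q * (Nat.card F ^ (M * (M + 1) / 2) * c) := by rw [hQc]; ring
      _ ≤ Nat.card (X ⊓ Q : Subgroup (Sp (HB B) × Γ)) * X.index := key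
      _ ≤ _ := Nat.mul_le_mul_right _ hXQ
  have h6 := Nat.le_of_mul_le_mul_left h5 (pow_pos hq M)
  have h7 : (M + 1) * (M + 1 + 1) / 2 = (M + 1) + M * (M + 1) / 2 := by
    have h8 : (M + 1) * (M + 1 + 1) = 2 * (M + 1) + M * (M + 1) := by ring
    rw [h8, Nat.mul_add_div (by norm_num)]
  rw [h7, pow_add, mul_assoc]
  exact h6

/-- the step -/
theorem phi_step [Finite F] [FiniteDimensional F W] (hB : B.IsAlt) (hnd : ND B) (h2 : (2 : F) ≠ 0) {M : ℕ}
    (hM : finrank F W = 2 * M) (hP : PHI B M) : PHI (HB B) (M + 1) := by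
  intro Γ _ _ Z' hZ2 hZc c hc X hX1 hX2
  by_cases hZe : ∀ a, (qe hB a 0, (1 : Γ)) ∈ X → a = 0
  · exact phi_step' hB hnd h2 hM hP Γ Z' hZ2 hZc c hc X hX1 hX2 hZe
  push Not at hZe
  obtain ⟨a, ha, ha0⟩ := hZe
  -- the Weyl element
  let w : Matrix.SpecialLinearGroup (Fin 2) F := ⟨!![0, 1; -1, 0], by simp [Matrix.det_fin_two]⟩
  let g : Sp (HB B) × Γ := (slH w, 1)
  let X' : Subgroup (Sp (HB B) × Γ) := X.comap (MulAut.conj g).toMonoidHom
  have hi : X'.index = X.index :=
    Subgroup.index_comap_of_surjective X (f := (MulAut.conj g).toMonoidHom) (MulAut.conj g).surjective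
  rw [← hi]
  refine phi_step' hB hnd h2 hM hP Γ Z' hZ2 hZc c hc X' ?_ ?_ ?_
  · intro z hz hzX
    have h3 : g * (z, (1 : Γ)) * g⁻¹ ∈ X := hzX
    have h4 : g * (z, (1 : Γ)) * g⁻¹ = (slH w * z * (slH w)⁻¹, (1 : Γ)) := by
      refine Prod.ext rfl ?_
      show (1 : Γ) * 1 * 1⁻¹ = 1
      group
    rw [h4] at h3
    exact hX1 _ (hz.conj _) h3
  · intro z hz hzX
    have h3 : g * ((1 : Sp (HB B)), z) * g⁻¹ ∈ X := hzX
    have h4 : g * ((1 : Sp (HB B)), z) * g⁻¹ = ((1 : Sp (HB B)), z) := by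
      refine Prod.ext ?_ ?_
      · show slH w * 1 * (slH w)⁻¹ = 1
        group
      · show (1 : Γ) * z * 1⁻¹ = z
        group
    rw [h4] at h3
    exact hX2 _ hz h3
  · intro b hb
    by_contra hb0
    have h3 : g * (qe hB b 0, (1 : Γ)) * g⁻¹ ∈ X := hb
    refine hX1 _ (fund_slH (B := B)) ?_
    let ι : Matrix.SpecialLinearGroup (Fin 2) F →* Sp (HB B) × Γ :=
      (MonoidHom.inl (Sp (HB B)) Γ).comp (slH (B := B))
    have h4 := lr_sl2 h2 ha0 (neg_ne_zero.2 hb0) (X.comap ι) (by
      intro l hl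
      show (slH l, (1 : Γ)) ∈ X
      have h5 : g * (qe hB b 0, (1 : Γ)) * g⁻¹ = (slH l, (1 : Γ)) := by
        refine Prod.ext ?_ ?_
        · show slH w * qe hB b 0 * (slH w)⁻¹ = slH l
          let u : Matrix.SpecialLinearGroup (Fin 2) F := ⟨!![1, b; 0, 1], by simp [Matrix.det_fin_two]⟩
          rw [← slH_u hB b u rfl, mul_inv_eq_iff_eq_mul, ← map_mul, ← map_mul]
          congr 1
          apply Subtype.ext
          show !![0, 1; -1, 0] * !![1, b; 0, 1] = l.1 * !![0, 1; -1, 0]
          rw [hl]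
          ext i j
          (revert i j; simp [_root_.Fin.forall_fin_succ])
        · show (1 : Γ) * 1 * 1⁻¹ = 1
          group
      rw [← h5]
      exact h3) (by
      intro u hu
      show (slH u, (1 : Γ)) ∈ X
      rw [slH_u hB a u hu]
      exact ha)
    exact h4

end Step

section Split

variable {V : Type*} [AddCommGroup V] [Module F V] {B : LinearMap.BilinForm F V}

/-- the space perpendicular to `e`, `f` -/
def perp2 (B : LinearMap.BilinForm F V) (e f : V) : Submodule F V :=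
  LinearMap.ker (B.flip e) ⊓ LinearMap.ker (B.flip f)

theorem mem_perp2 {e f x : V} : x ∈ perp2 B e f ↔ B x e = 0 ∧ B x f = 0 := Iff.rfl

/-- the form on `perp2` -/
abbrev B2 (B : LinearMap.BilinForm F V) (e f : V) : LinearMap.BilinForm F (perp2 B e f) := B.restrict (perp2 B e f)

theorem B2_apply {e f : V} (x y : perp2 B e f) : B2 B e f x y = B x.1 y.1 := rfl

theorem B2_alt (hB : B.IsAlt) (e f : V) : (B2 B e f).IsAlt := fun x => hB x.1

/-- the splitting -/
def split2 (hB : B.IsAlt) {e f : V} (hef : B e f = 1) : V ≃ₗ[F] F × F × perp2 B e f where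
  toFun x := (B x f, B e x, ⟨x - B x f • e - B e x • f, by
    have hee : B e e = 0 := hB e
    have hff : B f f = 0 := hB f
    have hfe : B f e = -1 := by rw [alt_neg hB, hef]
    rw [mem_perp2]
    simp only [map_sub, map_smul, LinearMap.sub_apply, LinearMap.smul_apply, smul_eq_mul, hee, hff, hfe, hef]
    rw [alt_neg hB x e]
    constructor <;> ring⟩)
  map_add' x y := by
    refine Prod.ext ?_ (Prod.ext ?_ (Subtype.ext ?_))
    · show B (x + y) f = B x f + B y f
      rw [map_add, LinearMap.add_apply]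
    · show B e (x + y) = B e x + B e y
      rw [map_add]
    · show x + y - B (x + y) f • e - B e (x + y) • f = x - B x f • e - B e x • f + (y - B y f • e - B e y • f)
      rw [map_add, map_add, LinearMap.add_apply]
      module
  map_smul' c x := by
    refine Prod.ext ?_ (Prod.ext ?_ (Subtype.ext ?_))
    · show B (c • x) f = c * B x f
      rw [map_smul, LinearMap.smul_apply, smul_eq_mul]
    · show B e (c • x) = c * B e x
      rw [map_smul, smul_eq_mul]
    · show c • x - B (c • x) f • e - B e (c • x) • f = c • (x - B x f • e - B e x • f)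
      rw [map_smul, map_smul, LinearMap.smul_apply, smul_eq_mul, smul_eq_mul]
      module
  invFun y := y.1 • e + y.2.1 • f + y.2.2.1
  left_inv x := by
    show B x f • e + B e x • f + (x - B x f • e - B e x • f) = x
    abel
  right_inv y := by
    have hee : B e e = 0 := hB e
    have hff : B f f = 0 := hB f
    have hfe : B f e = -1 := by rw [alt_neg hB, hef]
    obtain ⟨h1, h2⟩ := mem_perp2.1 y.2.2.2
    have h1' : B e y.2.2.1 = 0 := by rw [alt_neg hB, h1, neg_zero]
    have e1 : B (y.1 • e + y.2.1 • f + y.2.2.1) f = y.1 := by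
      simp only [map_add, map_smul, LinearMap.add_apply, LinearMap.smul_apply, smul_eq_mul, hff, hef, h2]
      ring
    have e2 : B e (y.1 • e + y.2.1 • f + y.2.2.1) = y.2.1 := by
      simp only [map_add, map_smul, smul_eq_mul, hee, hef, h1']
      ring
    refine Prod.ext e1 (Prod.ext e2 (Subtype.ext ?_))
    show y.1 • e + y.2.1 • f + y.2.2.1 - B (y.1 • e + y.2.1 • f + y.2.2.1) f • e -
      B e (y.1 • e + y.2.1 • f + y.2.2.1) • f = y.2.2.1
    rw [e1, e2]
    abel

theorem split2_symm_apply (hB : B.IsAlt) {e f : V} (hef : B e f = 1) (y : F × F × perp2 B e f) :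
    (split2 hB hef).symm y = y.1 • e + y.2.1 • f + y.2.2.1 := rfl

theorem split2_iso (hB : B.IsAlt) {e f : V} (hef : B e f = 1) : IsoF B (HB (B2 B e f)) (split2 hB hef) := by
  suffices h : IsoF (HB (B2 B e f)) B (split2 hB hef).symm from h.symm
  intro y z
  have hee : B e e = 0 := hB e
  have hff : B f f = 0 := hB f
  have hfe : B f e = -1 := by rw [alt_neg hB, hef]
  obtain ⟨h1, h2⟩ := mem_perp2.1 y.2.2.2
  obtain ⟨h3, h4⟩ := mem_perp2.1 z.2.2.2
  have h3' : B e z.2.2.1 = 0 := by rw [alt_neg hB, h3, neg_zero]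
  have h4' : B f z.2.2.1 = 0 := by rw [alt_neg hB, h4, neg_zero]
  rw [split2_symm_apply, split2_symm_apply, HB_apply, B2_apply]
  simp only [map_add, map_smul, LinearMap.add_apply, LinearMap.smul_apply, smul_eq_mul, hee, hff, hef, hfe, h1, h2,
    h3', h4']
  ring

theorem B2_nd (hB : B.IsAlt) (hnd : ND B) {e f : V} (hef : B e f = 1) : ND (B2 B e f) := by
  intro x hx
  apply Subtype.ext
  show x.1 = 0
  apply hnd
  intro v
  obtain ⟨y, rfl⟩ := (split2 hB hef).symm.surjective v
  obtain ⟨h1, h2⟩ := mem_perp2.1 x.2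
  rw [split2_symm_apply, map_add, map_add, map_smul, map_smul, h1, h2, smul_zero, smul_zero, zero_add, zero_add]
  exact hx y.2.2

theorem finrank_perp2 [FiniteDimensional F V] (hB : B.IsAlt) {e f : V} (hef : B e f = 1) :
    finrank F (perp2 B e f) + 2 = finrank F V := by
  rw [LinearEquiv.finrank_eq (split2 hB hef), Module.finrank_prod, Module.finrank_prod, Module.finrank_self]
  ring

theorem exists_pair (hnd : ND B) {e : V} (he : e ≠ 0) : ∃ f, B e f = 1 := by
  by_contra hcon
  push Not at hcon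
  apply he
  apply hnd
  intro y
  by_contra hy
  exact hcon ((B e y)⁻¹ • y) (by rw [map_smul, smul_eq_mul, inv_mul_cancel₀ hy])

end Split

/-- **PHI for symplectic groups in odd characteristic.** -/
theorem phi_sp [Finite F] (h2 : (2 : F) ≠ 0) (M : ℕ) : ∀ {V : Type*} [AddCommGroup V] [Module F V]
    [FiniteDimensional F V] {B : LinearMap.BilinForm F V}, B.IsAlt → ND B → finrank F V = 2 * M → PHI B M := by
  induction M with
  | zero =>
    intro V _ _ _ B hB hnd hM Γ _ _ Z' hZ2 hZc c hc X hX1 hX2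
    have : Finite V := Module.finite_of_finite F
    have hfin : Finite (Sp B) := finite_Sp B
    have : Subsingleton V := finrank_zero_iff.1 (by simpa using hM)
    have hs : Subsingleton (Sp B) := ⟨fun g h => Sp.ext fun x => Subsingleton.elim _ _⟩
    rw [zero_mul, Nat.zero_div, pow_zero, one_mul]
    have h3 := hc (X.comap (MonoidHom.inr (Sp B) Γ)) (fun z hz hzX => hX2 z hz hzX)
    have h4 : Function.Surjective (MonoidHom.inr (Sp B) Γ) := by
      rintro ⟨g, γ⟩
      exact ⟨γ, Prod.ext (Subsingleton.elim _ _) rfl⟩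
    rwa [Subgroup.index_comap_of_surjective X h4] at h3
  | succ M ih =>
    intro V _ _ _ B hB hnd hM
    have hnt : Nontrivial V := Module.nontrivial_of_finrank_pos (R := F) (by omega)
    obtain ⟨e, he⟩ := exists_ne (0 : V)
    obtain ⟨f, hef⟩ := exists_pair hnd he
    have h3 := finrank_perp2 hB hef
    have h4 : finrank F (perp2 B e f) = 2 * M := by omega
    exact PHI.congr (split2_iso hB hef) (phi_step (B2_alt hB e f) (B2_nd hB hnd hef) h2 h4
      (ih (B2_alt hB e f) (B2_nd hB hnd hef) h4))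

/-- PHI without the second factor -/
theorem phi_one [Finite F] (h2 : (2 : F) ≠ 0) {M : ℕ} {V : Type*} [AddCommGroup V] [Module F V]
    [FiniteDimensional F V] {B : LinearMap.BilinForm F V} (hB : B.IsAlt) (hnd : ND B) (hM : finrank F V = 2 * M)
    (X : Subgroup (Sp B)) (hX : ∀ z : Sp B, Fund B z → z ∉ X) : Nat.card F ^ (M * (M + 1) / 2) ≤ X.index := by
  have h3 := phi_sp h2 M hB hnd hM Unit (∅ : Set Unit) (by simp) (by simp) 1 (fun Y _ => by
    exact Nat.pos_of_ne_zero Subgroup.index_ne_zero_of_finite) (X.comap (MonoidHom.fst (Sp B) Unit))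
    (fun z hz hzX => hX z hz hzX) (by simp only [_root_.Set.mem_empty_iff_false, _root_.Subgroup.mem_comap, _root_.MonoidHom.coe_fst, _root_.OneMemClass.one_mem, _root_.not_true_eq_false, _root_.imp_self, _root_.implies_true])
  rwa [mul_one, Subgroup.index_comap_of_surjective X (fun g => ⟨(g, ()), rfl⟩)] at h3

/-- **PROD**: two factors. -/
theorem phi_prod [Finite F] (h2 : (2 : F) ≠ 0) {k l : ℕ} {V₁ : Type*} [AddCommGroup V₁] [Module F V₁]
    [FiniteDimensional F V₁] {B₁ : LinearMap.BilinForm F V₁} (hB₁ : B₁.IsAlt) (hnd₁ : ND B₁) (hk : finrank F V₁ = 2 * k)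
    {V₂ : Type} [AddCommGroup V₂] [Module F V₂]
    [FiniteDimensional F V₂] {B₂ : LinearMap.BilinForm F V₂} (hB₂ : B₂.IsAlt) (hnd₂ : ND B₂) (hl : finrank F V₂ = 2 * l)
    (X : Subgroup (Sp B₁ × Sp B₂)) (hX1 : ∀ z : Sp B₁, Fund B₁ z → (z, (1 : Sp B₂)) ∉ X)
    (hX2 : ∀ z : Sp B₂, Fund B₂ z → ((1 : Sp B₁), z) ∉ X) :
    Nat.card F ^ (k * (k + 1) / 2 + l * (l + 1) / 2) ≤ X.index := by
  have hfin : Finite (Sp B₂) := finite_Sp B₂
  rw [pow_add]
  exact phi_sp h2 k hB₁ hnd₁ hk (Sp B₂) {z | Fund B₂ z} (fun z hz => Fund.sq hB₂ hz) (fun g z hz => Fund.conj hz g)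
    _ (fun Y hY => phi_one h2 hB₂ hnd₂ hl Y (fun z hz hzY => hY z hz hzY)) X hX1 hX2

end Cfsg.Agent.H17.IFSp
end

-- part: H17/IFSp/Cent
section
/-!
# S5719, symplectic groups, `q` odd: PHI in the centraliser of an involution (helper17)
-/

set_option autoImplicit false

namespace Cfsg.Agent.H17.IFSp

open Module

variable {F : Type*} [Field F]

section Even

/-- a nondegenerate alternating form lives on a space of even dimension -/
theorem even_finrank (n : ℕ) : ∀ {V : Type*} [AddCommGroup V] [Module F V] [FiniteDimensional F V]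
    {B : LinearMap.BilinForm F V}, B.IsAlt → ND B → finrank F V = n → Even n := by
  induction n using Nat.strong_induction_on with
  | _ n ih =>
    intro V _ _ _ B hB hnd hn
    rcases Nat.eq_zero_or_pos n with h0 | h0
    · rw [h0]
      exact Even.zero
    have hnt : Nontrivial V := Module.nontrivial_of_finrank_pos (R := F) (by omega)
    obtain ⟨e, he⟩ := exists_ne (0 : V)
    obtain ⟨f, hef⟩ := exists_pair hnd he
    have h3 := finrank_perp2 hB hef
    have h4 := ih (finrank F (perp2 B e f)) (by omega) (B2_alt hB e f) (B2_nd hB hnd hef) rfl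
    rw [← hn, ← h3]
    exact h4.add even_two

end Even

section Glue

variable {V : Type*} [AddCommGroup V] [Module F V] {B : LinearMap.BilinForm F V} {U₁ U₂ : Submodule F V}

theorem exists_add (hc : IsCompl U₁ U₂) (x : V) : ∃ (a : U₁) (b : U₂), a.1 + b.1 = x := by
  obtain ⟨a, h⟩ := (Submodule.prodEquivOfIsCompl U₁ U₂ hc).surjective x
  exact ⟨a.1, a.2, h⟩

theorem glue_isom (hB : B.IsAlt) (ho : ∀ x ∈ U₁, ∀ y ∈ U₂, B x y = 0) (a a' : U₁) (b b' : U₂) :
    B (a.1 + b.1) (a'.1 + b'.1) = B a.1 a'.1 + B b.1 b'.1 := by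
  have h1 := ho _ a.2 _ b'.2
  have h2 : B b.1 a'.1 = 0 := by rw [alt_neg hB, ho _ a'.2 _ b.2, neg_zero]
  rw [map_add, map_add, LinearMap.add_apply, LinearMap.add_apply, h1, h2, add_zero, zero_add]

/-- the linear map -/
noncomputable def glueL (hc : IsCompl U₁ U₂) (g₁ : U₁ ≃ₗ[F] U₁) (g₂ : U₂ ≃ₗ[F] U₂) : V ≃ₗ[F] V :=
  (Submodule.prodEquivOfIsCompl U₁ U₂ hc).symm.trans ((g₁.prodCongr g₂).trans (Submodule.prodEquivOfIsCompl U₁ U₂ hc))

theorem glueL_apply (hc : IsCompl U₁ U₂) (g₁ : U₁ ≃ₗ[F] U₁) (g₂ : U₂ ≃ₗ[F] U₂) (a : U₁) (b : U₂) :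
    glueL hc g₁ g₂ (a.1 + b.1) = (g₁ a).1 + (g₂ b).1 := by
  have h1 : a.1 + b.1 = Submodule.prodEquivOfIsCompl U₁ U₂ hc (a, b) := rfl
  rw [h1, glueL, LinearEquiv.trans_apply, LinearEquiv.trans_apply, LinearEquiv.symm_apply_apply]
  rfl

/-- the product of the isometry groups -/
noncomputable def glue (hB : B.IsAlt) (hc : IsCompl U₁ U₂) (ho : ∀ x ∈ U₁, ∀ y ∈ U₂, B x y = 0) :
    Sp (B.restrict U₁) × Sp (B.restrict U₂) →* Sp B where
  toFun g := ⟨glueL hc g.1.1 g.2.1, by
    intro x y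
    obtain ⟨a, b, rfl⟩ := exists_add hc x
    obtain ⟨a', b', rfl⟩ := exists_add hc y
    rw [glueL_apply, glueL_apply, glue_isom hB ho, glue_isom hB ho]
    have h1 := Sp.isom g.1 a a'
    have h2 := Sp.isom g.2 b b'
    exact congrArg₂ (· + ·) h1 h2⟩
  map_one' := Sp.ext fun x => by
    obtain ⟨a, b, rfl⟩ := exists_add hc x
    exact glueL_apply hc _ _ a b
  map_mul' g h := Sp.ext fun x => by
    obtain ⟨a, b, rfl⟩ := exists_add hc x
    rw [Sp.mul_apply]
    show glueL hc (g * h).1.1 (g * h).2.1 (a.1 + b.1) = glueL hc g.1.1 g.2.1 (glueL hc h.1.1 h.2.1 (a.1 + b.1))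
    rw [glueL_apply, glueL_apply hc h.1.1 h.2.1, glueL_apply hc g.1.1 g.2.1]
    rfl

theorem glue_apply (hB : B.IsAlt) (hc : IsCompl U₁ U₂) (ho : ∀ x ∈ U₁, ∀ y ∈ U₂, B x y = 0)
    (g : Sp (B.restrict U₁) × Sp (B.restrict U₂)) (a : U₁) (b : U₂) :
    (glue hB hc ho g).1 (a.1 + b.1) = (g.1.1 a).1 + (g.2.1 b).1 := glueL_apply hc g.1.1 g.2.1 a b

theorem glue_fund1 (hB : B.IsAlt) (hc : IsCompl U₁ U₂) (ho : ∀ x ∈ U₁, ∀ y ∈ U₂, B x y = 0)
    {z : Sp (B.restrict U₁)} (hz : Fund (B.restrict U₁) z) : Fund B (glue hB hc ho (z, 1)) := by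
  obtain ⟨e, f, hef, hz⟩ := hz
  refine ⟨e.1, f.1, hef, ?_⟩
  intro x
  obtain ⟨a, b, rfl⟩ := exists_add hc x
  rw [glue_apply, hz]
  have h1 : B b.1 e.1 = 0 := by rw [alt_neg hB, ho _ e.2 _ b.2, neg_zero]
  have h2 : B b.1 f.1 = 0 := by rw [alt_neg hB, ho _ f.2 _ b.2, neg_zero]
  have h3 : ((1 : Sp (B.restrict U₂)).1 b).1 = b.1 := rfl
  rw [map_add, LinearMap.add_apply, LinearMap.add_apply, h1, h2, add_zero, add_zero, h3]
  show a.1 - (2 * B a.1 f.1) • e.1 + (2 * B a.1 e.1) • f.1 + b.1 = _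
  abel

theorem glue_fund2 (hB : B.IsAlt) (hc : IsCompl U₁ U₂) (ho : ∀ x ∈ U₁, ∀ y ∈ U₂, B x y = 0)
    {z : Sp (B.restrict U₂)} (hz : Fund (B.restrict U₂) z) : Fund B (glue hB hc ho (1, z)) := by
  obtain ⟨e, f, hef, hz⟩ := hz
  refine ⟨e.1, f.1, hef, ?_⟩
  intro x
  obtain ⟨a, b, rfl⟩ := exists_add hc x
  rw [glue_apply, hz]
  have h1 : B a.1 e.1 = 0 := ho _ a.2 _ e.2
  have h2 : B a.1 f.1 = 0 := ho _ a.2 _ f.2
  have h3 : ((1 : Sp (B.restrict U₁)).1 a).1 = a.1 := rfl
  rw [map_add, LinearMap.add_apply, LinearMap.add_apply, h1, h2, zero_add, zero_add, h3]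
  show a.1 + (b.1 - (2 * B b.1 f.1) • e.1 + (2 * B b.1 e.1) • f.1) = _
  abel

theorem nd_restrict1 (hc : IsCompl U₁ U₂) (ho : ∀ x ∈ U₁, ∀ y ∈ U₂, B x y = 0) (hnd : ND B) :
    ND (B.restrict U₁) := by
  intro x hx
  apply Subtype.ext
  apply hnd
  intro y
  obtain ⟨a, b, rfl⟩ := exists_add hc y
  rw [map_add, ho _ x.2 _ b.2, add_zero]
  exact hx a

theorem nd_restrict2 (hB : B.IsAlt) (hc : IsCompl U₁ U₂) (ho : ∀ x ∈ U₁, ∀ y ∈ U₂, B x y = 0) (hnd : ND B) :
    ND (B.restrict U₂) := by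
  refine nd_restrict1 hc.symm (fun x hx y hy => ?_) hnd
  rw [alt_neg hB, ho y hy x hx, neg_zero]

/-- PHI in a product of two perpendicular spaces -/
theorem phi_glue [Finite F] {V : Type} [AddCommGroup V] [Module F V] [FiniteDimensional F V]
    {B : LinearMap.BilinForm F V} {U₁ U₂ : Submodule F V} (h2 : (2 : F) ≠ 0) (hB : B.IsAlt)
    (hnd : ND B) (hc : IsCompl U₁ U₂) (ho : ∀ x ∈ U₁, ∀ y ∈ U₂, B x y = 0) {k l : ℕ} (hk : finrank F U₁ = 2 * k)
    (hl : finrank F U₂ = 2 * l) (X : Subgroup (Sp B)) (hX : ∀ z : Sp B, Fund B z → z ∉ X) :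
    Nat.card F ^ (k * (k + 1) / 2 + l * (l + 1) / 2) ≤ X.relIndex (glue hB hc ho).range := by
  rw [← Subgroup.index_comap]
  refine phi_prod h2 (fun x => hB x.1) (nd_restrict1 hc ho hnd) hk (fun x => hB x.1)
    (nd_restrict2 hB hc ho hnd) hl _ ?_ ?_
  · intro z hz hzX
    exact hX _ (glue_fund1 hB hc ho hz) hzX
  · intro z hz hzX
    exact hX _ (glue_fund2 hB hc ho hz) hzX

end Glue

section Cent

variable {V : Type} [AddCommGroup V] [Module F V] {B : LinearMap.BilinForm F V}

/-- `{x | τ x = c x}` -/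
def eig (τ : Sp B) (c : F) : Submodule F V where
  carrier := {x | τ.1 x = c • x}
  add_mem' := by
    intro a b ha hb
    have ha' : τ.1 a = c • a := ha
    have hb' : τ.1 b = c • b := hb
    show τ.1 (a + b) = c • (a + b)
    rw [map_add, ha', hb', smul_add]
  zero_mem' := by
    show τ.1 0 = c • 0
    rw [map_zero, smul_zero]
  smul_mem' := by
    intro t a ha
    have ha' : τ.1 a = c • a := ha
    show τ.1 (t • a) = c • (t • a)
    rw [map_smul, ha', smul_comm]

theorem mem_eig {τ : Sp B} {c : F} {x : V} : x ∈ eig τ c ↔ τ.1 x = c • x := Iff.rfl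

theorem eig_compl (h2 : (2 : F) ≠ 0) {τ : Sp B} (hτ : τ * τ = 1) : IsCompl (eig τ (-1)) (eig τ 1) := by
  have hττ : ∀ x, τ.1 (τ.1 x) = x := by
    intro x
    rw [← Sp.mul_apply, hτ, Sp.one_apply]
  constructor
  · rw [Submodule.disjoint_def]
    intro x h1 h3
    rw [mem_eig] at h1 h3
    rw [h3, one_smul, neg_smul, one_smul] at h1
    have h4 : (2 : F) • x = 0 := by
      rw [two_smul]
      nth_rewrite 1 [h1]
      exact neg_add_cancel x
    exact (smul_eq_zero.1 h4).resolve_left h2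
  · rw [codisjoint_iff, Submodule.eq_top_iff']
    intro x
    rw [Submodule.mem_sup]
    refine ⟨(2 : F)⁻¹ • (x - τ.1 x), ?_, (2 : F)⁻¹ • (x + τ.1 x), ?_, ?_⟩
    · rw [mem_eig, map_smul, map_sub, hττ]
      module
    · rw [mem_eig, map_smul, map_add, hττ]
      module
    · rw [← smul_add]
      have : x - τ.1 x + (x + τ.1 x) = (2 : F) • x := by module
      rw [this, smul_smul, inv_mul_cancel₀ h2, one_smul]

theorem eig_perp (h2 : (2 : F) ≠ 0) {τ : Sp B} : ∀ x ∈ eig τ (-1), ∀ y ∈ eig τ 1, B x y = 0 := by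
  intro x hx y hy
  rw [mem_eig] at hx hy
  have h1 := Sp.isom τ x y
  rw [hx, hy, map_smul, map_smul, LinearMap.smul_apply, smul_eq_mul, smul_eq_mul, one_mul] at h1
  have h3 : 2 * B x y = 0 := by linear_combination -h1
  exact (mul_eq_zero.1 h3).resolve_left h2

theorem glue_le_cent (h2 : (2 : F) ≠ 0) (hB : B.IsAlt) {τ : Sp B} (hτ : τ * τ = 1) {y : Sp B}
    (hy : y ∈ (glue hB (eig_compl h2 hτ) (eig_perp h2)).range) : y ∈ Subgroup.centralizer ({τ} : Set (Sp B)) := by
  obtain ⟨g, rfl⟩ := hy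
  rw [Subgroup.mem_centralizer_iff]
  intro w hw
  rw [Set.mem_singleton_iff.1 hw]
  apply Sp.ext
  intro x
  obtain ⟨a, b, rfl⟩ := exists_add (eig_compl h2 hτ) x
  rw [Sp.mul_apply, Sp.mul_apply, glue_apply, map_add, map_add, mem_eig.1 a.2, mem_eig.1 b.2,
    mem_eig.1 (g.1.1 a).2, mem_eig.1 (g.2.1 b).2]
  have h3 := glue_apply hB (eig_compl h2 hτ) (eig_perp h2) g (-a) b
  rw [map_neg] at h3
  simp only [Submodule.coe_neg] at h3
  rw [neg_smul, one_smul, one_smul, neg_smul, one_smul, one_smul, h3]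

/-- **PHI in the centraliser of an involution.** -/
theorem phi_cent [Finite F] [FiniteDimensional F V] (h2 : (2 : F) ≠ 0) (hB : B.IsAlt) (hnd : ND B) {τ : Sp B}
    (hτ : τ * τ = 1) {k l : ℕ} (hk : finrank F (eig τ (-1)) = 2 * k) (hl : finrank F (eig τ 1) = 2 * l)
    (X : Subgroup (Sp B)) (hX : ∀ z : Sp B, Fund B z → z ∉ X) :
    Nat.card F ^ (k * (k + 1) / 2 + l * (l + 1) / 2) ≤ X.relIndex (Subgroup.centralizer ({τ} : Set (Sp B))) := by
  have hfin : Finite (Sp B) := finite_Sp B
  refine le_trans (phi_glue h2 hB hnd (eig_compl h2 hτ) (eig_perp h2) hk hl X hX) ?_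
  refine Subgroup.relIndex_le_of_le_right (fun y hy => glue_le_cent h2 hB hτ hy) (by
    rw [Subgroup.relIndex]
    exact Subgroup.index_ne_zero_of_finite)

end Cent

end Cfsg.Agent.H17.IFSp
end

-- part: H17/IFSp/Mat
section
/-!
# S5719, symplectic groups, `q` odd: PHI for `Matrix.symplecticGroup (Fin m) F` (helper17)

* `spMat : Matrix.symplecticGroup (Fin m) F ≃* Sp (sympBilin m F)`, `(spMat g).1 v = g • v`;
* `phi_mat` : `X` without elements `z`, `z * z = 1`, `rank (z - 1) = 2`, has index at least `q ^ (m (m + 1) / 2)`;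
* `phi_mat_cent` : the same in the centraliser of an involution.
-/

set_option autoImplicit false

namespace Cfsg.Agent.H17.IFSp

open Module Cfsg Cfsg.Agent.ClassicalGeometry.SympBasic Cfsg.Agent.ClassicalGeometry.SympSiegel

section

variable {F : Type*} [Field F] {m : ℕ}

/-- the matrix group acts as the isometry group -/
def spMatHom : Matrix.symplecticGroup (Fin m) F →* Sp (sympBilin m F) where
  toFun g := ⟨{ toFun := fun x => g • x
                map_add' := smul_add' g
                map_smul' := fun c x => smul_smul' g c x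
                invFun := fun x => g⁻¹ • x
                left_inv := inv_smul_smul g
                right_inv := smul_inv_smul g }, form_smul g⟩
  map_one' := Sp.ext fun x => one_smul (Matrix.symplecticGroup (Fin m) F) x
  map_mul' g h := Sp.ext fun x => mul_smul g h x

theorem spMatHom_apply (g : Matrix.symplecticGroup (Fin m) F) (x : Fin m ⊕ Fin m → F) :
    (spMatHom g).1 x = g • x := rfl

theorem spMatHom_bij : Function.Bijective (spMatHom (F := F) (m := m)) := by
  constructor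
  · intro g h hgh
    apply ext_smul
    intro v
    rw [← spMatHom_apply, ← spMatHom_apply, hgh]
  · intro g
    refine ⟨ofIso (g.1 : (Fin m ⊕ Fin m → F) →ₗ[F] (Fin m ⊕ Fin m → F)) g.2, ?_⟩
    apply Sp.ext
    intro x
    exact ofIso_smul (g.1 : (Fin m ⊕ Fin m → F) →ₗ[F] (Fin m ⊕ Fin m → F)) g.2 x

/-- the matrix group is the isometry group -/
noncomputable def spMat : Matrix.symplecticGroup (Fin m) F ≃* Sp (sympBilin m F) :=
  MulEquiv.ofBijective spMatHom spMatHom_bij

/-- fundamental involution in the matrix group -/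
def FundM (z : Matrix.symplecticGroup (Fin m) F) : Prop :=
  ∃ a b : Fin m ⊕ Fin m → F, sympForm m F a b = 1 ∧
    ∀ x, z • x = x - (2 * sympForm m F x b) • a + (2 * sympForm m F x a) • b

theorem fund_spMat {z : Matrix.symplecticGroup (Fin m) F} : Fund (sympBilin m F) (spMat z) ↔ FundM z := Iff.rfl

theorem sb_alt : LinearMap.BilinForm.IsAlt (sympBilin m F) := sympBilin_isAlt

theorem sb_nd : ND (sympBilin m F) := by
  intro x hx
  exact (sympBilin_nondegenerate (F := F) (m := m)).1 x hx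

theorem finrank_V : finrank F (Fin m ⊕ Fin m → F) = 2 * m := by
  rw [Module.finrank_fintype_fun_eq_card, Fintype.card_sum, Fintype.card_fin]
  ring

theorem FundM.sq {z : Matrix.symplecticGroup (Fin m) F} (h : FundM z) : z * z = 1 := by
  apply spMat.injective
  rw [map_mul, map_one]
  exact Fund.sq (by exact sb_alt) (fund_spMat.2 h)

/-- `rank (z - 1) = 2` -/
theorem FundM.rank (h2 : (2 : F) ≠ 0) {z : Matrix.symplecticGroup (Fin m) F} (h : FundM z) :
    ((z : Matrix (Fin m ⊕ Fin m) (Fin m ⊕ Fin m) F) - 1).rank = 2 := by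
  obtain ⟨a, b, hab, hz⟩ := h
  have haa : sympForm m F a a = 0 := sympForm_self a
  have hbb : sympForm m F b b = 0 := sympForm_self b
  have hba : sympForm m F b a = -1 := by rw [sympForm_swap, hab]
  have hz1 : ∀ x, ((z : Matrix (Fin m ⊕ Fin m) (Fin m ⊕ Fin m) F) - 1).mulVec x =
      (-(2 * sympForm m F x b)) • a + (2 * sympForm m F x a) • b := by
    intro x
    rw [Matrix.sub_mulVec, Matrix.one_mulVec, ← smul_def, hz]
    module
  have hr : LinearMap.range ((z : Matrix (Fin m ⊕ Fin m) (Fin m ⊕ Fin m) F) - 1).mulVecLin =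
      Submodule.span F (Set.range ![a, b]) := by
    apply le_antisymm
    · rintro _ ⟨x, rfl⟩
      rw [Matrix.mulVecLin_apply, hz1]
      exact add_mem (Submodule.smul_mem _ _ (Submodule.subset_span ⟨0, rfl⟩))
        (Submodule.smul_mem _ _ (Submodule.subset_span ⟨1, rfl⟩))
    · rw [Submodule.span_le]
      rintro _ ⟨i, rfl⟩
      have h3 : ∀ v : Fin m ⊕ Fin m → F, ((z : Matrix (Fin m ⊕ Fin m) (Fin m ⊕ Fin m) F) - 1).mulVec v = (-2 : F) • v →
          v ∈ LinearMap.range ((z : Matrix (Fin m ⊕ Fin m) (Fin m ⊕ Fin m) F) - 1).mulVecLin := by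
        intro v hv
        refine ⟨(-2 : F)⁻¹ • v, ?_⟩
        rw [Matrix.mulVecLin_apply, Matrix.mulVec_smul, hv, smul_smul, inv_mul_cancel₀ (neg_ne_zero.2 h2), one_smul]
      fin_cases i
      · apply h3
        show ((z : Matrix (Fin m ⊕ Fin m) (Fin m ⊕ Fin m) F) - 1).mulVec a = (-2 : F) • a
        rw [hz1, haa, hab]
        module
      · apply h3
        show ((z : Matrix (Fin m ⊕ Fin m) (Fin m ⊕ Fin m) F) - 1).mulVec b = (-2 : F) • b
        rw [hz1, hbb, hba]
        module
  rw [Matrix.rank, hr, finrank_span_eq_card, Fintype.card_fin]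
  rw [LinearIndependent.pair_iff]
  intro s t hst
  have h4 := congrArg (fun v => sympForm m F v b) hst
  have h5 := congrArg (fun v => sympForm m F v a) hst
  simp only [sympForm_add_left, sympForm_smul_left, sympForm_zero_left, haa, hbb, hab, hba] at h4 h5
  exact ⟨by linear_combination h4, by linear_combination -h5⟩

end

section

variable {F : Type*} [Field F] [Finite F] {m : ℕ}

end

section

variable {F : Type} [Field F] [Finite F] {m : ℕ}

/-- the `c`-eigenspace of a symplectic matrix -/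
noncomputable def eigM (τ : Matrix.symplecticGroup (Fin m) F) (c : F) : Submodule F (Fin m ⊕ Fin m → F) := eig (spMat τ) c

/-- **PHI in the centraliser of an involution**, matrix group. -/
theorem phi_mat_cent' (h2 : (2 : F) ≠ 0) {τ : Matrix.symplecticGroup (Fin m) F} (hτ : τ * τ = 1) {k l : ℕ}
    (hk : finrank F (eigM τ (-1)) = 2 * k) (hl : finrank F (eigM τ 1) = 2 * l)
    (X : Subgroup (Matrix.symplecticGroup (Fin m) F)) (hX : ∀ z ∈ X, ¬ FundM z) :
    Nat.card F ^ (k * (k + 1) / 2 + l * (l + 1) / 2) ≤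
      X.relIndex (Subgroup.centralizer ({τ} : Set (Matrix.symplecticGroup (Fin m) F))) := by
  have h3 := phi_cent h2 sb_alt sb_nd (τ := spMat τ) (by rw [← map_mul, hτ, map_one]) hk hl
    (X.comap spMat.symm.toMonoidHom) (by
      intro z hz hzX
      have h3 : FundM (spMat.symm z) := by
        rw [← fund_spMat, MulEquiv.apply_symm_apply]
        exact hz
      exact hX _ hzX h3)
  refine h3.trans (le_of_eq ?_)
  rw [Subgroup.relIndex_comap]
  congr 1
  ext x
  rw [Subgroup.mem_map]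
  constructor
  · rintro ⟨y, hy, rfl⟩
    rw [Subgroup.mem_centralizer_iff] at hy ⊢
    intro w hw
    rw [Set.mem_singleton_iff.1 hw]
    apply spMat.injective
    rw [map_mul, map_mul]
    show spMat τ * spMat (spMat.symm y) = spMat (spMat.symm y) * spMat τ
    rw [MulEquiv.apply_symm_apply]
    exact hy _ rfl
  · intro hx
    refine ⟨spMat x, ?_, spMat.symm_apply_apply x⟩
    rw [Subgroup.mem_centralizer_iff] at hx ⊢
    intro w hw
    rw [Set.mem_singleton_iff.1 hw, ← map_mul, ← map_mul, hx _ rfl]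

/-- **PHI in the centraliser of an involution**, matrix group. -/
theorem phi_mat_cent (h2 : (2 : F) ≠ 0) {τ : Matrix.symplecticGroup (Fin m) F} (hτ : τ * τ = 1) {k l : ℕ}
    (hk : finrank F (eigM τ (-1)) = 2 * k) (hl : finrank F (eigM τ 1) = 2 * l)
    (X : Subgroup (Matrix.symplecticGroup (Fin m) F))
    (hX : ∀ z : Matrix.symplecticGroup (Fin m) F, z * z = 1 →
      ((z : Matrix (Fin m ⊕ Fin m) (Fin m ⊕ Fin m) F) - 1).rank = 2 → z ∉ X) :
    Nat.card F ^ (k * (k + 1) / 2 + l * (l + 1) / 2) ≤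
      X.relIndex (Subgroup.centralizer ({τ} : Set (Matrix.symplecticGroup (Fin m) F))) :=
  phi_mat_cent' h2 hτ hk hl X fun z hz h => hX z h.sq (h.rank h2) hz

omit [Finite F] in
/-- the dimensions are even and add up -/
theorem exists_dims (h2 : (2 : F) ≠ 0) {τ : Matrix.symplecticGroup (Fin m) F} (hτ : τ * τ = 1) :
    ∃ k l : ℕ, finrank F (eigM τ (-1)) = 2 * k ∧ finrank F (eigM τ 1) = 2 * l ∧ k + l = m := by
  have hτ' : spMat τ * spMat τ = 1 := by rw [← map_mul, hτ, map_one]
  have hc := eig_compl h2 hτ'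
  have ho := eig_perp (B := sympBilin m F) h2 (τ := spMat τ)
  obtain ⟨k, hk⟩ := even_finrank _ (B := LinearMap.BilinForm.restrict (sympBilin m F) (eig (spMat τ) (-1)))
    (fun x => sb_alt x.1) (nd_restrict1 hc ho sb_nd) rfl
  obtain ⟨l, hl⟩ := even_finrank _ (B := LinearMap.BilinForm.restrict (sympBilin m F) (eig (spMat τ) 1))
    (fun x => sb_alt x.1) (nd_restrict2 sb_alt hc ho sb_nd) rfl
  have h3 := Submodule.finrank_add_eq_of_isCompl hc
  rw [finrank_V] at h3
  exact ⟨k, l, by rw [two_mul]; exact hk, by rw [two_mul]; exact hl, by omega⟩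

end

end Cfsg.Agent.H17.IFSp
end

private theorem dce_d7ed3b24f7f3 : _root_.True := by
  try have : _root_.True := by simp only [_root_.Cfsg.Agent.H17.IFSp.glue.congr_simp]
  try have : _root_.True := by simp only [_root_.Cfsg.Agent.H17.IFSp.glueL.eq_1]
  try have : _root_.True := by simp only [_root_.Cfsg.Agent.H17.IFSp.qe.congr_simp]
  exact _root_.True.intro
end

-- part: H358/IF/JK_mg
section
prune_inst 0x114025451c40100000040084310000812500008000000800000402420200c0400940000000002102080800000004002000020080404000000e040000000100000040000080480091000000000208010000008000000000000000000000010004014010000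
set_option linter.all false
open scoped Cfsg.Agent.FastGrp

-- part: H358/IF/Base
section
/-!
# S5719, cell `PSL four` (helper358): base

* `KillE.congr`;
* `At A` : the preimage of `A ≤ PSL ι F` in `SL ι F`;
* `cS g`, `cP g` : conjugation by `g ∈ GL ι F` on `SL ι F`, `PSL ι F`;
* `IFA A` : `∃ Γ, IF A Γ`; `IFA.conj`, `IFA.key`, `IFA.idx`.
-/

set_option autoImplicit false
set_option linter.unusedSectionVars false

namespace Cfsg.Agent.H358.IF

open Matrix Cfsg.Agent.H209.Fxy

theorem killE_congr {T T' : Type*} [Group T] [Group T'] (e : T ≃* T') (h : KillE T) : KillE T' := by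
  rintro A Γ hA ⟨t, ht, h2⟩
  refine h _ _ (hA.map e.symm) ⟨e.symm t, ⟨t, ht, rfl⟩, ?_⟩
  rw [MulEquiv.orderOf_eq, h2]

theorem map_center_equiv {G H : Type*} [Group G] [Group H] (e : G ≃* H) :
    (Subgroup.center G).map e.toMonoidHom = Subgroup.center H := by
  ext x
  constructor
  · rintro ⟨z, hz, rfl⟩
    have hz' := Subgroup.mem_center_iff.1 hz
    rw [Subgroup.mem_center_iff]
    intro y
    obtain ⟨w, rfl⟩ := e.surjective y
    show e w * e z = e z * e w
    rw [← map_mul, hz' w, map_mul]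
  · intro hx
    rw [Subgroup.mem_center_iff] at hx
    refine ⟨e.symm x, Subgroup.mem_center_iff.2 fun y => ?_, e.apply_symm_apply x⟩
    apply e.injective
    rw [map_mul, map_mul, e.apply_symm_apply, hx]

section Reindex

variable {ι ι' : Type} [Fintype ι] [DecidableEq ι] [Fintype ι'] [DecidableEq ι'] {F : Type} [Field F]

/-- Reindexing of `SL`. -/
def slR (e : ι ≃ ι') : _root_.Matrix.SpecialLinearGroup ι F ≃* _root_.Matrix.SpecialLinearGroup ι' F where
  toFun A := ⟨Matrix.reindex e e A.1, by rw [Matrix.det_reindex_self]; exact A.2⟩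
  invFun A := ⟨Matrix.reindex e.symm e.symm A.1, by rw [Matrix.det_reindex_self]; exact A.2⟩
  left_inv A := Subtype.ext (by ext i j; simp)
  right_inv A := Subtype.ext (by ext i j; simp)
  map_mul' A B := Subtype.ext (by
    show Matrix.reindex e e (A.1 * B.1) = Matrix.reindex e e A.1 * Matrix.reindex e e B.1
    exact map_mul (Matrix.reindexAlgEquiv F F e) A.1 B.1)

/-- Reindexing of `PSL`. -/
noncomputable def pslR (e : ι ≃ ι') : ProjectiveSpecialLinearGroup ι F ≃* ProjectiveSpecialLinearGroup ι' F :=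
  QuotientGroup.congr _ _ (slR e) (map_center_equiv _)

end Reindex

variable {ι : Type} [Fintype ι] [DecidableEq ι] {F : Type} [Field F]

/-- the projection -/
abbrev pr : _root_.Matrix.SpecialLinearGroup ι F →* ProjectiveSpecialLinearGroup ι F :=
  QuotientGroup.mk' (Subgroup.center (_root_.Matrix.SpecialLinearGroup ι F))

theorem pr_surj : Function.Surjective (pr : _root_.Matrix.SpecialLinearGroup ι F →* _) := QuotientGroup.mk'_surjective _

theorem inv_mul_val (s : _root_.Matrix.SpecialLinearGroup ι F) : (s⁻¹ : _root_.Matrix.SpecialLinearGroup ι F).val * s.val = 1 :=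
  congrArg Subtype.val (inv_mul_cancel s)

theorem mul_inv_val (s : _root_.Matrix.SpecialLinearGroup ι F) : s.val * (s⁻¹ : _root_.Matrix.SpecialLinearGroup ι F).val = 1 :=
  congrArg Subtype.val (mul_inv_cancel s)

theorem mem_center_of_smul {s : _root_.Matrix.SpecialLinearGroup ι F} {c : F} (h : s.val = c • (1 : Matrix ι ι F)) :
    s ∈ Subgroup.center (_root_.Matrix.SpecialLinearGroup ι F) := by
  rw [Subgroup.mem_center_iff]
  intro g
  apply Subtype.ext
  show g.val * s.val = s.val * g.val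
  rw [h, Matrix.mul_smul, Matrix.smul_mul, mul_one, one_mul]

theorem exists_smul_of_mem_center {s : _root_.Matrix.SpecialLinearGroup ι F} (h : s ∈ Subgroup.center (_root_.Matrix.SpecialLinearGroup ι F)) :
    ∃ c : F, c ^ Fintype.card ι = 1 ∧ s.val = c • (1 : Matrix ι ι F) := by
  rw [Matrix.SpecialLinearGroup.mem_center_iff] at h
  obtain ⟨c, hc, h1⟩ := h
  refine ⟨c, hc, ?_⟩
  rw [← h1, Matrix.scalar_apply, ← Matrix.smul_one_eq_diagonal]

theorem pr_eq_iff {s t : _root_.Matrix.SpecialLinearGroup ι F} : pr s = pr t ↔ ∃ c : F, t.val = c • s.val := by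
  rw [QuotientGroup.mk'_apply, QuotientGroup.mk'_apply, QuotientGroup.eq]
  constructor
  · intro h
    obtain ⟨c, -, hc⟩ := exists_smul_of_mem_center h
    refine ⟨c, ?_⟩
    have h1 : t = s * (s⁻¹ * t) := by group
    calc t.val = s.val * (s⁻¹ * t).val := congrArg Subtype.val h1
      _ = c • s.val := by rw [hc, Matrix.mul_smul, mul_one]
  · rintro ⟨c, hc⟩
    apply mem_center_of_smul (c := c)
    show (s⁻¹ : _root_.Matrix.SpecialLinearGroup ι F).val * t.val = _
    rw [hc, Matrix.mul_smul, inv_mul_val]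

/-- the preimage of `A` -/
abbrev At (A : Subgroup (ProjectiveSpecialLinearGroup ι F)) : Subgroup (_root_.Matrix.SpecialLinearGroup ι F) := A.comap pr

variable {A : Subgroup (ProjectiveSpecialLinearGroup ι F)}

theorem mem_At_of_smul {s t : _root_.Matrix.SpecialLinearGroup ι F} {c : F} (h : t.val = c • s.val) (hs : s ∈ At A) : t ∈ At A := by
  have h1 : pr s = pr t := pr_eq_iff.2 ⟨c, h⟩
  rw [Subgroup.mem_comap] at hs ⊢
  rwa [← h1]

theorem eq_top_of_At (h : At A = ⊤) : A = ⊤ := by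
  rw [Subgroup.eq_top_iff']
  intro x
  obtain ⟨s, rfl⟩ := pr_surj x
  have : s ∈ At A := by rw [h]; trivial
  exact this

theorem index_At : (At A).index = A.index := Subgroup.index_comap_of_surjective _ pr_surj

/-- conjugation by `g ∈ GL` on `SL` -/
def cS (g : GL ι F) : _root_.Matrix.SpecialLinearGroup ι F ≃* _root_.Matrix.SpecialLinearGroup ι F where
  toFun s := ⟨g.val * s.val * (g⁻¹ : GL ι F).val, by
    rw [det_mul, det_mul, s.2, mul_one, ← det_mul, ← Units.val_mul, mul_inv_cancel, Units.val_one, det_one]⟩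
  invFun s := ⟨(g⁻¹ : GL ι F).val * s.val * g.val, by
    rw [det_mul, det_mul, s.2, mul_one, ← det_mul, ← Units.val_mul, inv_mul_cancel, Units.val_one, det_one]⟩
  left_inv s := Subtype.ext (by
    show (g⁻¹ : GL ι F).val * (g.val * s.val * (g⁻¹ : GL ι F).val) * g.val = s.val
    rw [mul_assoc, mul_assoc, mul_assoc, Units.inv_mul, mul_one, Units.inv_mul_cancel_left])
  right_inv s := Subtype.ext (by
    show g.val * ((g⁻¹ : GL ι F).val * s.val * g.val) * (g⁻¹ : GL ι F).val = s.val
    rw [mul_assoc, mul_assoc, mul_assoc, Units.mul_inv, mul_one, Units.mul_inv_cancel_left])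
  map_mul' s t := Subtype.ext (by
    show g.val * (s.val * t.val) * (g⁻¹ : GL ι F).val =
      g.val * s.val * (g⁻¹ : GL ι F).val * (g.val * t.val * (g⁻¹ : GL ι F).val)
    simp only [mul_assoc, Units.inv_mul_cancel_left])

theorem cS_val (g : GL ι F) (s : _root_.Matrix.SpecialLinearGroup ι F) : (cS g s).val = g.val * s.val * (g⁻¹ : GL ι F).val := rfl

/-- conjugation on `PSL` -/
noncomputable def cP (g : GL ι F) : ProjectiveSpecialLinearGroup ι F ≃* ProjectiveSpecialLinearGroup ι F :=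
  QuotientGroup.congr _ _ (cS g) (map_center_equiv _)

theorem cP_pr (g : GL ι F) (s : _root_.Matrix.SpecialLinearGroup ι F) : cP g (pr s) = pr (cS g s) := rfl

/-- `A` belongs to a counterexample -/
def IFA (A : Subgroup (ProjectiveSpecialLinearGroup ι F)) : Prop :=
  ∃ Γ : Subgroup (MulAut (ProjectiveSpecialLinearGroup ι F)), IF A Γ

/-- the conjugate of `A` -/
noncomputable abbrev cA (g : GL ι F) (A : Subgroup (ProjectiveSpecialLinearGroup ι F)) :
    Subgroup (ProjectiveSpecialLinearGroup ι F) := A.map (cP g).toMonoidHom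

theorem IFA.conj (h : IFA A) (g : GL ι F) : IFA (cA g A) := by
  obtain ⟨Γ, h⟩ := h
  exact ⟨_, h.map (cP g)⟩

theorem mem_cA {g : GL ι F} {s : _root_.Matrix.SpecialLinearGroup ι F} : cS g s ∈ At (cA g A) ↔ s ∈ At A := by
  rw [Subgroup.mem_comap, Subgroup.mem_comap, ← cP_pr]
  exact Subgroup.mem_map_iff_mem (f := (cP g).toMonoidHom) (cP g).injective

theorem IFA.not_top (h : IFA A) (h1 : At A = ⊤) : False := by
  obtain ⟨Γ, h⟩ := h
  exact h.ne_top (eq_top_of_At h1)

theorem IFA.big (h : IFA A) : 729 < (At A).index := by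
  obtain ⟨Γ, h⟩ := h
  rw [index_At]
  exact h.big

theorem exists_nc (h3 : 3 ≤ Fintype.card ι) : ∃ a b : ProjectiveSpecialLinearGroup ι F, a * b ≠ b * a := by
  by_contra hcon
  push Not at hcon
  have h1 : commutator (_root_.Matrix.SpecialLinearGroup ι F) ≤ Subgroup.center (_root_.Matrix.SpecialLinearGroup ι F) := by
    rw [← QuotientGroup.ker_mk' (Subgroup.center (_root_.Matrix.SpecialLinearGroup ι F)), commutator_def,
      Subgroup.commutator_le]
    intro a _ b _
    rw [MonoidHom.mem_ker, map_commutatorElement, commutatorElement_eq_one_iff_mul_comm]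
    exact hcon _ _
  rw [LieClassical.SLGen.commutator_eq_top h3] at h1
  have h2 : commutator (_root_.Matrix.SpecialLinearGroup ι F) ≤ ⊥ := by
    rw [commutator_def, Subgroup.commutator_le]
    intro a _ b _
    rw [Subgroup.mem_bot, commutatorElement_eq_one_iff_mul_comm]
    exact (Subgroup.mem_center_iff.1 (h1 (Subgroup.mem_top a)) b).symm
  rw [LieClassical.SLGen.commutator_eq_top h3] at h2
  have : Nontrivial ι := Fintype.one_lt_card_iff_nontrivial.1 (by omega)
  obtain ⟨i, j, hij⟩ := exists_pair_ne ι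
  have h4 : SpecialLinearGroup.transvection hij (1 : F) = 1 := h2 (Subgroup.mem_top _)
  have h5 := congrArg (fun s : _root_.Matrix.SpecialLinearGroup ι F => s.val i j) h4
  simp only [SpecialLinearGroup.transvection, Matrix.transvection, hij, _root_.Matrix.SpecialLinearGroup.transvection, _root_.Matrix.transvection, _root_.Matrix.add_apply, _root_.ne_eq, _root_.not_false_eq_true, _root_.Matrix.one_apply_ne, _root_.Matrix.single_apply_same, _root_.zero_add, _root_.Matrix.SpecialLinearGroup.coe_one, _root_.one_ne_zero] at h5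

theorem ord_pr {t : _root_.Matrix.SpecialLinearGroup ι F} {c : F} (h1 : t.val * t.val = c • (1 : Matrix ι ι F))
    (h2 : ∀ d : F, t.val ≠ d • (1 : Matrix ι ι F)) : orderOf (pr t) = 2 := by
  apply orderOf_eq_prime
  · rw [pow_two, ← map_mul, ← map_one pr, eq_comm, pr_eq_iff]
    exact ⟨c, h1⟩
  · intro h3
    rw [← map_one pr, eq_comm, pr_eq_iff] at h3
    obtain ⟨d, hd⟩ := h3
    exact h2 d hd

section Fin

variable [Fintype F]

theorem IFA.key (h3 : 3 ≤ Fintype.card ι) (h : IFA A) {t : _root_.Matrix.SpecialLinearGroup ι F} (ht : t ∈ At A)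
    (h2 : orderOf (pr t) = 2) {B : Subgroup (_root_.Matrix.SpecialLinearGroup ι F)} (hB : ∀ b ∈ B, pr (b * t) = pr (t * b))
    {C : Set (_root_.Matrix.SpecialLinearGroup ι F)} (hC : ∀ c ∈ C, pr (c * t) = pr (t * c)) :
    (At A).relIndex B ^ 5 * C.ncard < Nat.card (_root_.Matrix.SpecialLinearGroup ι F) ∧ (At A).relIndex B ^ 6 < (At A).index ∧
    (At A).index ^ 5 * C.ncard ^ 6 < Nat.card (_root_.Matrix.SpecialLinearGroup ι F) ^ 6 := by
  obtain ⟨Γ, h⟩ := h
  have : IsSimpleGroup (ProjectiveSpecialLinearGroup ι F) := LieClassical.SLGen.psl_isSimpleGroup h3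
  obtain ⟨-, -, -, h6, h5⟩ := H999.IFB.IF.E2' h (exists_nc h3) ht h2
  have hc : ∀ b : _root_.Matrix.SpecialLinearGroup ι F, pr (b * t) = pr (t * b) → pr b ∈ Subgroup.centralizer {pr t} := by
    intro b hb
    rw [Subgroup.mem_centralizer_singleton_iff, ← map_mul, ← map_mul]
    exact hb
  obtain ⟨h7, h8⟩ := h5 (B.map pr) (by
    rintro _ ⟨b, hb, rfl⟩
    exact hc b (hB b hb))
  have h9 : (At A).relIndex B = A.relIndex (B.map pr) := Subgroup.relIndex_comap _ _ _
  have h10 : C.ncard ≤ Nat.card ((Subgroup.centralizer {pr t}).comap pr : Subgroup (_root_.Matrix.SpecialLinearGroup ι F)) := by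
    rw [← Nat.card_coe_set_eq C]
    have hsub : C ⊆ (((Subgroup.centralizer {pr t}).comap pr : Subgroup (_root_.Matrix.SpecialLinearGroup ι F)) :
        Set (_root_.Matrix.SpecialLinearGroup ι F)) := fun c hc' => hc c (hC c hc')
    exact Nat.card_mono (Set.toFinite _) hsub
  have h11 : (Subgroup.centralizer {pr t}).index * C.ncard ≤ Nat.card (_root_.Matrix.SpecialLinearGroup ι F) := by
    rw [← Subgroup.index_comap_of_surjective _ (pr_surj (ι := ι) (F := F)),
      ← ((Subgroup.centralizer {pr t}).comap (pr : _root_.Matrix.SpecialLinearGroup ι F →* _)).index_mul_card]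
    exact Nat.mul_le_mul_left _ h10
  have hCpos : 0 < C.ncard ∨ C.ncard = 0 := by omega
  rw [h9, index_At]
  have hS : 0 < Nat.card (_root_.Matrix.SpecialLinearGroup ι F) := Nat.card_pos
  refine ⟨?_, h8, ?_⟩
  · rcases hCpos with h12 | h12
    · exact (Nat.mul_lt_mul_of_pos_right h7 h12).trans_le h11
    · rw [h12, mul_zero]
      exact hS
  · rcases hCpos with h12 | h12
    · calc A.index ^ 5 * C.ncard ^ 6 < (Subgroup.centralizer {pr t}).index ^ 6 * C.ncard ^ 6 :=
          Nat.mul_lt_mul_of_pos_right h6 (pow_pos h12 6)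
        _ = ((Subgroup.centralizer {pr t}).index * C.ncard) ^ 6 := by rw [mul_pow]
        _ ≤ _ := Nat.pow_le_pow_left h11 6
    · rw [h12, zero_pow (by norm_num), mul_zero]
      exact pow_pos hS 6

end Fin

/-! ### transvections -/

/-- `X_ij ≤ A` -/
def Rt (A : Subgroup (ProjectiveSpecialLinearGroup ι F)) (i j : ι) : Prop :=
  ∀ (hij : i ≠ j) (a : F), SpecialLinearGroup.transvection hij a ∈ At A

theorem Rt.left {i j k : ι} (h : Rt A i k) (hik : i ≠ k) (hkj : k ≠ j) {b : F} (hb : b ≠ 0)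
    (hx : SpecialLinearGroup.transvection hkj b ∈ At A) : Rt A i j := by
  intro hij a
  have h1 := LieClassical.SLGen.commutator_transvection hij hik hkj (a * b⁻¹) b
  rw [mul_assoc, inv_mul_cancel₀ hb, mul_one] at h1
  rw [← h1, commutatorElement_def]
  exact mul_mem (mul_mem (mul_mem (h hik _) hx) (inv_mem (h hik _))) (inv_mem hx)

theorem Rt.right {i j k : ι} (h : Rt A k j) (hik : i ≠ k) (hkj : k ≠ j) {b : F} (hb : b ≠ 0)
    (hx : SpecialLinearGroup.transvection hik b ∈ At A) : Rt A i j := by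
  intro hij a
  have h1 := LieClassical.SLGen.commutator_transvection hij hik hkj b (b⁻¹ * a)
  rw [← mul_assoc, mul_inv_cancel₀ hb, one_mul] at h1
  rw [← h1, commutatorElement_def]
  exact mul_mem (mul_mem (mul_mem hx (h hkj _)) (inv_mem hx)) (inv_mem (h hkj _))

theorem Rt.trans {i j k : ι} (h1 : Rt A i k) (h2 : Rt A k j) (hik : i ≠ k) (hkj : k ≠ j) : Rt A i j :=
  h1.left hik hkj one_ne_zero (h2 hkj 1)

theorem IFA.not_all [Nontrivial ι] (h : IFA A) (hR : ∀ i j : ι, i ≠ j → Rt A i j) : False := by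
  apply h.not_top
  rw [← top_le_iff, ← LieClassical.SLGen.closure_transvections, Subgroup.closure_le]
  rintro _ ⟨i, j, hij, a, rfl⟩
  exact hR i j hij hij a

end Cfsg.Agent.H358.IF
end

-- part: H358/IF/Blk
section
/-!
# S5719, cell `PSL four` (helper358): block matrices

Index type `Fin 2 ⊕ Fin 2`.  `dg d e hd : SL` is `diag(d, e)` for `d, e : M2(F)` with `det d * det e = 1`; `blk a b` for `a, b ∈ SL2`;
`up M`, `lo M` the block unipotent matrices `[[1,M],[0,1]]`, `[[1,0],[M,1]]`.
-/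

set_option autoImplicit false
set_option linter.unusedSectionVars false

namespace Cfsg.Agent.H358.IF

open Matrix Cfsg.Agent.H209.Fxy

/-- index type -/
abbrev I4 := Fin 2 ⊕ Fin 2

/-- `2 × 2` matrices -/
abbrev M2 (F : Type) := Matrix (Fin 2) (Fin 2) F

/-- `SL_2(F)` -/
abbrev S2 (F : Type) [Field F] := _root_.Matrix.SpecialLinearGroup (Fin 2) F

/-- `SL_4(F)` -/
abbrev S4 (F : Type) [Field F] := _root_.Matrix.SpecialLinearGroup I4 F

/-- `PSL_4(F)` -/
abbrev P4 (F : Type) [Field F] := ProjectiveSpecialLinearGroup I4 F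

variable {F : Type} [Field F]

/-- `diag(d, e)` -/
def dg (d e : M2 F) (h : d.det * e.det = 1) : S4 F :=
  ⟨fromBlocks d 0 0 e, by rw [det_fromBlocks_zero₂₁, h]⟩

theorem dg_val (d e : M2 F) (h : d.det * e.det = 1) : (dg d e h).val = fromBlocks d 0 0 e := rfl

theorem det_dg_aux (a b : S2 F) : a.val.det * b.val.det = 1 := by rw [a.2, b.2, mul_one]

/-- `diag(a, b)`, `a, b ∈ SL_2` -/
def blk : S2 F × S2 F →* S4 F where
  toFun x := dg x.1.val x.2.val (det_dg_aux _ _)
  map_one' := Subtype.ext fromBlocks_one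
  map_mul' x y := Subtype.ext (by
    show fromBlocks (x.1.val * y.1.val) 0 0 (x.2.val * y.2.val) =
      fromBlocks x.1.val 0 0 x.2.val * fromBlocks y.1.val 0 0 y.2.val
    rw [fromBlocks_multiply]
    simp)

theorem blk_val (a b : S2 F) : (blk (a, b)).val = fromBlocks a.val 0 0 b.val := rfl

/-- `diag(g, h)` for `g, h ∈ GL_2` -/
def gg (g h : GL (Fin 2) F) : GL I4 F where
  val := fromBlocks g.val 0 0 h.val
  inv := fromBlocks (g⁻¹ : GL (Fin 2) F).val 0 0 (h⁻¹ : GL (Fin 2) F).val
  val_inv := by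
    rw [fromBlocks_multiply]
    simp only [_root_.Matrix.coe_units_inv, _root_.Matrix.mul_inv_of_invertible, _root_.MulZeroClass.mul_zero, _root_.add_zero, _root_.MulZeroClass.zero_mul, _root_.zero_add, _root_.Matrix.fromBlocks_one]
  inv_val := by
    rw [fromBlocks_multiply]
    simp only [_root_.Matrix.coe_units_inv, _root_.Matrix.inv_mul_of_invertible, _root_.MulZeroClass.mul_zero, _root_.add_zero, _root_.MulZeroClass.zero_mul, _root_.zero_add, _root_.Matrix.fromBlocks_one]

/-- the exchange of the two blocks -/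
def sw : GL I4 F where
  val := fromBlocks 0 1 1 0
  inv := fromBlocks 0 1 1 0
  val_inv := by
    rw [fromBlocks_multiply]
    simp
  inv_val := by
    rw [fromBlocks_multiply]
    simp

theorem sw_inv_val : ((sw : GL I4 F)⁻¹ : GL I4 F).val = fromBlocks 0 1 1 0 := rfl

theorem sw_val : (sw : GL I4 F).val = fromBlocks 0 1 1 0 := rfl

theorem gg_inv_val (g h : GL (Fin 2) F) : ((gg g h)⁻¹ : GL I4 F).val =
    fromBlocks (g⁻¹ : GL (Fin 2) F).val 0 0 (h⁻¹ : GL (Fin 2) F).val := rfl

theorem cS_sw_dg (d e : M2 F) (h : d.det * e.det = 1) :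
    cS sw (dg d e h) = dg e d (by rw [mul_comm]; exact h) := by
  apply Subtype.ext
  rw [cS_val, dg_val, dg_val, sw_val, sw_inv_val, fromBlocks_multiply, fromBlocks_multiply]
  simp

theorem cS_sw_blk (a b : S2 F) : cS sw (blk (a, b)) = blk (b, a) := cS_sw_dg _ _ (det_dg_aux a b)

theorem cS_gg_dg (g k : GL (Fin 2) F) (d e : M2 F) (h : d.det * e.det = 1)
    (h' : (g.val * d * (g⁻¹ : GL (Fin 2) F).val).det * (k.val * e * (k⁻¹ : GL (Fin 2) F).val).det = 1) :
    cS (gg g k) (dg d e h) = dg (g.val * d * (g⁻¹ : GL (Fin 2) F).val) (k.val * e * (k⁻¹ : GL (Fin 2) F).val) h' := by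
  apply Subtype.ext
  rw [cS_val, dg_val, dg_val, gg_inv_val]
  show fromBlocks g.val 0 0 k.val * _ * _ = _
  rw [fromBlocks_multiply, fromBlocks_multiply]
  simp only [_root_.MulZeroClass.mul_zero, _root_.add_zero, _root_.Matrix.coe_units_inv, _root_.MulZeroClass.zero_mul, _root_.zero_add]

theorem cS_gg_blk (g k : GL (Fin 2) F) (a b : S2 F) : cS (gg g k) (blk (a, b)) = blk (cS g a, cS k b) :=
  cS_gg_dg g k _ _ (det_dg_aux a b) (det_dg_aux (cS g a) (cS k b))

/-- `[[1, M], [0, 1]]` -/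
def up : Multiplicative (M2 F) →* S4 F where
  toFun M := ⟨fromBlocks 1 (Multiplicative.toAdd M) 0 1, by rw [det_fromBlocks_zero₂₁, det_one, mul_one]⟩
  map_one' := Subtype.ext fromBlocks_one
  map_mul' M N := Subtype.ext (by
    show fromBlocks 1 (Multiplicative.toAdd M + Multiplicative.toAdd N) 0 1 =
      fromBlocks 1 (Multiplicative.toAdd M) 0 1 * fromBlocks 1 (Multiplicative.toAdd N) 0 1
    rw [fromBlocks_multiply]
    simp [add_comm])

/-- `[[1, 0], [M, 1]]` -/
def lo : Multiplicative (M2 F) →* S4 F where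
  toFun M := ⟨fromBlocks 1 0 (Multiplicative.toAdd M) 1, by rw [det_fromBlocks_zero₁₂, det_one, mul_one]⟩
  map_one' := Subtype.ext fromBlocks_one
  map_mul' M N := Subtype.ext (by
    show fromBlocks 1 0 (Multiplicative.toAdd M + Multiplicative.toAdd N) 1 =
      fromBlocks 1 0 (Multiplicative.toAdd M) 1 * fromBlocks 1 0 (Multiplicative.toAdd N) 1
    rw [fromBlocks_multiply]
    simp)

theorem up_val (M : M2 F) : (up (Multiplicative.ofAdd M)).val = fromBlocks 1 M 0 1 := rfl

theorem lo_val (M : M2 F) : (lo (Multiplicative.ofAdd M)).val = fromBlocks 1 0 M 1 := rfl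

end Cfsg.Agent.H358.IF
end

-- part: H358/IF/Gour
section
/-!
# Subgroups of small index of `G × G` (helper358, S5719)
-/

set_option autoImplicit false
set_option linter.unusedSectionVars false

namespace Cfsg.Agent.H358.IF

open Subgroup

variable {G : Type*} [Group G] [Finite G]

theorem index_split (D : Subgroup (G × G)) :
    D.index = (D.map (MonoidHom.fst G G)).index * (D.comap (MonoidHom.inr G G)).index := by
  set D1 := D.map (MonoidHom.fst G G) with hD1
  set N := D.comap (MonoidHom.inr G G) with hN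
  let f : D →* G := (MonoidHom.fst G G).comp D.subtype
  have h1 : Nat.card D = Nat.card N * Nat.card D1 := by
    rw [← f.ker.card_mul_index, index_ker]
    congr 1
    · refine Nat.card_congr ⟨fun x => ⟨x.1.1.2, ?_⟩, fun b => ⟨⟨(1, b.1), b.2⟩, rfl⟩, ?_, ?_⟩
      · have h2 : x.1.1.1 = 1 := x.2
        have h3 : (x.1.1.1, x.1.1.2) ∈ D := x.1.2
        rw [h2] at h3
        exact h3
      · rintro ⟨⟨⟨a, b⟩, h⟩, h2⟩
        have h3 : a = 1 := h2
        subst h3
        rfl
      · rintro ⟨b, h⟩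
        rfl
    · refine Nat.card_congr (Equiv.subtypeEquivRight fun x => ?_)
      constructor
      · rintro ⟨y, rfl⟩
        exact ⟨y.1, y.2, rfl⟩
      · rintro ⟨y, hy, rfl⟩
        exact ⟨⟨y, hy⟩, rfl⟩
  have h2 := D.card_mul_index
  have h3 := D1.card_mul_index
  have h4 := N.card_mul_index
  have h5 : Nat.card (G × G) = Nat.card G * Nat.card G := Nat.card_prod _ _
  have h6 : Nat.card D * D.index = Nat.card D * (D1.index * N.index) := by
    rw [h2, h5, h1]
    calc Nat.card G * Nat.card G = (Nat.card D1 * D1.index) * (Nat.card N * N.index) := by rw [h3, h4]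
      _ = _ := by ring
  exact Nat.eq_of_mul_eq_mul_left Nat.card_pos h6

/-- swap of the two factors -/
theorem index_swap (D : Subgroup (G × G)) :
    (D.comap (MulEquiv.prodComm : G × G ≃* G × G).toMonoidHom).index = D.index :=
  Subgroup.index_comap_of_surjective _ (MulEquiv.prodComm : G × G ≃* G × G).surjective

theorem one_side (D : Subgroup (G × G)) {m : ℕ} (hm : ∀ H : Subgroup G, H ≠ ⊤ → m ≤ H.index)
    (hD : D.index < m * m) (h : ¬ ∀ b, (1, b) ∈ D) : ∀ a, ∃ b, (a, b) ∈ D := by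
  have h1 : D.comap (MonoidHom.inr G G) ≠ ⊤ := by
    intro h2
    apply h
    intro b
    have : b ∈ D.comap (MonoidHom.inr G G) := by rw [h2]; trivial
    exact this
  have h2 := hm _ h1
  have h3 : D.map (MonoidHom.fst G G) = ⊤ := by
    by_contra h4
    have h5 := hm _ h4
    have h6 := index_split D
    have h7 : m * m ≤ D.index := by
      rw [h6]
      exact Nat.mul_le_mul h5 h2
    omega
  intro a
  have : a ∈ D.map (MonoidHom.fst G G) := by rw [h3]; trivial
  obtain ⟨⟨a', b⟩, hb, rfl⟩ := this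
  exact ⟨b, hb⟩

/-- **Goursat** for subgroups of small index. -/
theorem goursat (D : Subgroup (G × G)) {m : ℕ} (hm : ∀ H : Subgroup G, H ≠ ⊤ → m ≤ H.index)
    (hD : D.index < m * m) : (∀ a, (a, 1) ∈ D) ∨ (∀ b, (1, b) ∈ D) ∨
    ((∀ a, ∃ b, (a, b) ∈ D) ∧ ∃ N : Subgroup G, N.Normal ∧ N ≠ ⊤ ∧ N.index ≤ D.index ∧ ∀ b, b ∈ N ↔ (1, b) ∈ D) := by
  by_cases h1 : ∀ b, (1, b) ∈ D
  · exact Or.inr (Or.inl h1)
  by_cases h2 : ∀ a, (a, 1) ∈ D
  · exact Or.inl h2
  refine Or.inr (Or.inr ⟨one_side D hm hD h1, D.comap (MonoidHom.inr G G), ?_, ?_, ?_, fun b => Iff.rfl⟩)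
  · have h3 := one_side (D.comap (MulEquiv.prodComm : G × G ≃* G × G).toMonoidHom) hm
      (by rw [index_swap]; exact hD) h2
    constructor
    intro n hn g
    obtain ⟨a, ha⟩ := h3 g
    have ha' : (a, g) ∈ D := ha
    have h4 := D.mul_mem (D.mul_mem ha' (show (1, n) ∈ D from hn)) (D.inv_mem ha')
    rw [Prod.mk_mul_mk, Prod.inv_mk, Prod.mk_mul_mk, mul_one, mul_inv_cancel] at h4
    exact h4
  · intro h3
    apply h1
    intro b
    have : b ∈ D.comap (MonoidHom.inr G G) := by rw [h3]; trivial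
    exact this
  · rw [index_split D]
    refine Nat.le_mul_of_pos_left _ (Nat.pos_of_ne_zero ?_)
    exact Subgroup.index_ne_zero_of_finite

end Cfsg.Agent.H358.IF
end

-- part: H358/IF/L1
section
/-!
# S5719, cell `PSL four` (helper358): the involution `t0 = diag(-1,-1,1,1)`
-/

set_option autoImplicit false
set_option linter.unusedSectionVars false

namespace Cfsg.Agent.H358.IF

open Matrix Cfsg.Agent.H209.Fxy

variable {F : Type} [Field F]

section Fin

variable [Fintype F]

theorem card_S4_aux {q : ℕ} (hq : 2 ≤ q) {x : ℕ} (h : (q - 1) * x = (q ^ 4 - 1) * (q ^ 4 - q) * (q ^ 4 - q ^ 2) * (q ^ 4 - q ^ 3)) :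
    x = q ^ 6 * ((q ^ 4 - 1) * (q ^ 3 - 1) * (q ^ 2 - 1)) := by
  have h1 : q ^ 4 - q = q * (q ^ 3 - 1) := by rw [Nat.mul_sub]; ring_nf
  have h2 : q ^ 4 - q ^ 2 = q ^ 2 * (q ^ 2 - 1) := by rw [Nat.mul_sub]; ring_nf
  have h3 : q ^ 4 - q ^ 3 = q ^ 3 * (q - 1) := by rw [Nat.mul_sub]; ring_nf
  rw [h1, h2, h3] at h
  apply Nat.eq_of_mul_eq_mul_left (show 0 < q - 1 by omega)
  rw [h]
  ring

theorem card_S4 : Nat.card (S4 F) = Fintype.card F ^ 6 *
    ((Fintype.card F ^ 4 - 1) * (Fintype.card F ^ 3 - 1) * (Fintype.card F ^ 2 - 1)) := by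
  have h1 := Cfsg.Agent.S0242.result (F := F) rfl 4 (by norm_num)
  rw [Fin.prod_univ_four] at h1
  have h2 : Nat.card (S4 F) = Nat.card (_root_.Matrix.SpecialLinearGroup (Fin 4) F) :=
    Nat.card_congr (slR (F := F) (finSumFinEquiv : Fin 2 ⊕ Fin 2 ≃ Fin 4)).toEquiv
  rw [h2]
  apply card_S4_aux Fintype.one_lt_card
  simpa only [_root_.Fin.isValue, _root_.Fin.coe_ofNat_eq_mod, _root_.Nat.zero_mod, _root_.pow_zero, _root_.Nat.one_mod, _root_.pow_one, _root_.Nat.reduceMod, _root_.Nat.mod_succ] using h1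

theorem card_S2 : Nat.card (S2 F) = Fintype.card F * (Fintype.card F ^ 2 - 1) := by
  have h1 := Cfsg.Agent.S0242.result (F := F) rfl 2 (by norm_num)
  rw [Fin.prod_univ_two] at h1
  have hq : 2 ≤ Fintype.card F := Fintype.one_lt_card
  apply Nat.eq_of_mul_eq_mul_left (show 0 < Fintype.card F - 1 by omega)
  rw [h1]
  have h3 : Fintype.card F ^ 2 - Fintype.card F ^ 1 = (Fintype.card F - 1) * Fintype.card F := by
    rw [Nat.sub_mul, one_mul, pow_one, pow_two]
  simp only [Fin.val_zero, Fin.val_one, pow_zero]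
  rw [h3]
  ring

theorem card_G2 : Nat.card (GL (Fin 2) F) = (Fintype.card F ^ 2 - 1) * (Fintype.card F * (Fintype.card F - 1)) := by
  rw [Matrix.card_GL_field, Fin.prod_univ_two]
  have h3 : Fintype.card F ^ 2 - Fintype.card F ^ 1 = Fintype.card F * (Fintype.card F - 1) := by
    rw [Nat.mul_sub, mul_one, pow_one, pow_two]
  simp only [Fin.val_zero, Fin.val_one, pow_zero]
  rw [h3]

end Fin

/-- the element exchanging the blocks -/
def w0 : S4 F := up (Multiplicative.ofAdd 1) * lo (Multiplicative.ofAdd (-1)) * up (Multiplicative.ofAdd 1)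

theorem w0_val : (w0 : S4 F).val = fromBlocks 0 1 (-1) 0 := by
  show (up (Multiplicative.ofAdd 1)).val * (lo (Multiplicative.ofAdd (-1))).val * (up (Multiplicative.ofAdd 1)).val = _
  rw [up_val, lo_val, fromBlocks_multiply, fromBlocks_multiply]
  simp

/-- `diag(-1,-1,1,1)` -/
def t0 : S4 F := dg (-1) 1 (by rw [det_neg]; simp only [_root_.Fintype.card_fin, _root_.even_two, _root_.Even.neg_pow, _root_.one_pow, _root_.Matrix.det_one, _root_.mul_one])

theorem t0_val : (t0 : S4 F).val = fromBlocks (-1) 0 0 1 := rfl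

theorem ord_t0 (h2 : (2 : F) ≠ 0) : orderOf (pr (t0 : S4 F)) = 2 := by
  apply ord_pr (c := 1)
  · rw [t0_val, fromBlocks_multiply]
    simp
  · intro d hd
    have h3 := congrFun (congrFun hd (Sum.inl 0)) (Sum.inl 0)
    have h4 := congrFun (congrFun hd (Sum.inr 0)) (Sum.inr 0)
    rw [t0_val] at h3 h4
    simp at h3 h4
    apply h2
    linear_combination h4 - h3

theorem det_ne (g : GL (Fin 2) F) : g.val.det ≠ 0 := ((Matrix.isUnit_iff_isUnit_det _).1 g.isUnit).ne_zero

theorem det_aux (g : GL (Fin 2) F) (s : S2 F) : g.val.det * (s.val * !![(g.val.det)⁻¹, 0; 0, 1]).det = 1 := by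
  rw [det_mul, s.2, det_fin_two_of, one_mul, mul_one, zero_mul, sub_zero, mul_inv_cancel₀ (det_ne g)]

/-- the elements commuting with `t0` modulo scalars -/
def Phi (x : Bool × GL (Fin 2) F × S2 F) : S4 F :=
  if x.1 then w0 * dg x.2.1.val (x.2.2.val * !![(x.2.1.val.det)⁻¹, 0; 0, 1]) (det_aux _ _)
  else dg x.2.1.val (x.2.2.val * !![(x.2.1.val.det)⁻¹, 0; 0, 1]) (det_aux _ _)

theorem dg_comm (d e : M2 F) (h : d.det * e.det = 1) : dg d e h * t0 = t0 * dg d e h := by
  apply Subtype.ext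
  show (dg d e h).val * (t0 : S4 F).val = (t0 : S4 F).val * (dg d e h).val
  rw [dg_val, t0_val, fromBlocks_multiply, fromBlocks_multiply]
  simp

theorem w0_comm (y : S4 F) (hy : y * t0 = t0 * y) : pr (w0 * y * t0) = pr (t0 * (w0 * y)) := by
  rw [pr_eq_iff]
  refine ⟨-1, ?_⟩
  rw [mul_assoc, hy, ← mul_assoc, ← mul_assoc]
  show (t0 : S4 F).val * (w0 : S4 F).val * y.val = (-1 : F) • ((w0 : S4 F).val * (t0 : S4 F).val * y.val)
  rw [← Matrix.smul_mul]
  congr 1
  rw [w0_val, t0_val, fromBlocks_multiply, fromBlocks_multiply, fromBlocks_smul]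
  simp

theorem Phi_comm (x : Bool × GL (Fin 2) F × S2 F) : pr (Phi x * t0) = pr (t0 * Phi x) := by
  obtain ⟨b, g, s⟩ := x
  cases b
  · exact congrArg pr (dg_comm _ _ (det_aux g s))
  · exact w0_comm _ (dg_comm _ _ (det_aux g s))

theorem Phi_val_false (g : GL (Fin 2) F) (s : S2 F) :
    (Phi (false, g, s)).val = fromBlocks g.val 0 0 (s.val * !![(g.val.det)⁻¹, 0; 0, 1]) := rfl

theorem Phi_val_true (g : GL (Fin 2) F) (s : S2 F) :
    (Phi (true, g, s)).val = fromBlocks 0 (s.val * !![(g.val.det)⁻¹, 0; 0, 1]) (-g.val) 0 := by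
  show (w0 : S4 F).val * (dg _ _ _).val = _
  rw [w0_val, dg_val, fromBlocks_multiply]
  simp

theorem diag_cancel {d : F} (hd : d ≠ 0) {a b : M2 F} (h : a * !![d⁻¹, 0; 0, 1] = b * !![d⁻¹, 0; 0, 1]) : a = b := by
  have h1 : (!![d⁻¹, 0; 0, 1] : M2 F) * !![d, 0; 0, 1] = 1 := by
    ext i j
    (revert i j; simp only [Matrix.mul_apply, Fin.sum_univ_two, inv_mul_cancel₀ hd, _root_.Fin.forall_fin_succ, _root_.Matrix.of_apply, _root_.Matrix.cons_val', _root_.Matrix.cons_val_fin_one, Fin.isValue, _root_.Matrix.cons_val_zero, _root_.Matrix.cons_val_one, _root_.MulZeroClass.mul_zero, _root_.add_zero, _root_.Matrix.cons_val_succ, _root_.mul_one, _root_.zero_add, _root_.IsEmpty.forall_iff, _root_.and_true, _root_.Matrix.one_apply_eq, Nat.reduceAdd, _root_.Fin.succ_zero_eq_one, _root_.ne_eq, _root_.zero_ne_one, _root_.not_false_eq_true, _root_.Matrix.one_apply_ne, _root_.and_self, _root_.MulZeroClass.zero_mul, _root_.Fin.succ_ne_zero, _root_.true_and])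
  have h2 := congrArg (· * (!![d, 0; 0, 1] : M2 F)) h
  simp only [mul_assoc, h1, mul_one] at h2
  exact h2

theorem Phi_inj : Function.Injective (Phi : Bool × GL (Fin 2) F × S2 F → S4 F) := by
  rintro ⟨b, g, s⟩ ⟨b', g', s'⟩ h
  have h1 := congrArg Subtype.val h
  cases b <;> cases b'
  · rw [Phi_val_false, Phi_val_false, fromBlocks_inj] at h1
    obtain ⟨h3, -, -, h4⟩ := h1
    have h5 : g = g' := Units.ext h3
    subst h5
    rw [Subtype.ext (diag_cancel (det_ne g) h4)]
  · rw [Phi_val_false, Phi_val_true, fromBlocks_inj] at h1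
    exact absurd h1.1 (fun h6 => det_ne g (by rw [h6, det_zero]))
  · rw [Phi_val_true, Phi_val_false, fromBlocks_inj] at h1
    exact absurd h1.1.symm (fun h6 => det_ne g' (by rw [h6, det_zero]))
  · rw [Phi_val_true, Phi_val_true, fromBlocks_inj] at h1
    obtain ⟨-, h4, h3, -⟩ := h1
    have h5 : g = g' := Units.ext (neg_injective h3)
    subst h5
    rw [Subtype.ext (diag_cancel (det_ne g) h4)]

section Fin

variable [Fintype F] {A : Subgroup (P4 F)}

theorem card_Phi : (Set.range (Phi : Bool × GL (Fin 2) F × S2 F → S4 F)).ncard =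
    2 * (((Fintype.card F ^ 2 - 1) * (Fintype.card F * (Fintype.card F - 1))) * (Fintype.card F * (Fintype.card F ^ 2 - 1))) := by
  rw [← Nat.card_coe_set_eq, Nat.card_range_of_injective Phi_inj, Nat.card_prod, Nat.card_prod, card_G2, card_S2,
    Nat.card_eq_fintype_card, Fintype.card_bool]

theorem num1 {q x : ℕ} (hq : 2 ≤ q) (h : x * (2 * (((q ^ 2 - 1) * (q * (q - 1))) * (q * (q ^ 2 - 1)))) <
    q ^ 6 * ((q ^ 4 - 1) * (q ^ 3 - 1) * (q ^ 2 - 1))) : 2 * x < q ^ 4 * (q ^ 2 + q + 1) * (q ^ 2 + 1) := by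
  obtain ⟨r, rfl⟩ : ∃ r, q = r + 1 := ⟨q - 1, by omega⟩
  have e2 : (r + 1) ^ 2 - 1 = r * (r + 2) := by
    have : (r + 1) ^ 2 = r * (r + 2) + 1 := by ring
    omega
  have e3 : (r + 1) ^ 3 - 1 = r * ((r + 1) ^ 2 + (r + 1) + 1) := by
    have : (r + 1) ^ 3 = r * ((r + 1) ^ 2 + (r + 1) + 1) + 1 := by ring
    omega
  have e4 : (r + 1) ^ 4 - 1 = r * (r + 2) * ((r + 1) ^ 2 + 1) := by
    have : (r + 1) ^ 4 = r * (r + 2) * ((r + 1) ^ 2 + 1) + 1 := by ring
    omega
  rw [e2, e3, e4, Nat.add_sub_cancel] at h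
  have hr : 0 < r := by omega
  have h5 : (2 * x) * ((r + 1) ^ 2 * r ^ 3 * (r + 2) ^ 2) <
      ((r + 1) ^ 4 * ((r + 1) ^ 2 + (r + 1) + 1) * ((r + 1) ^ 2 + 1)) * ((r + 1) ^ 2 * r ^ 3 * (r + 2) ^ 2) := by
    calc (2 * x) * ((r + 1) ^ 2 * r ^ 3 * (r + 2) ^ 2) =
        x * (2 * (r * (r + 2) * ((r + 1) * r) * ((r + 1) * (r * (r + 2))))) := by ring
      _ < _ := h
      _ = _ := by ring
  exact lt_of_mul_lt_mul_right h5 (Nat.zero_le _)

/-- the preimage of `A` in `SL2 × SL2` -/
abbrev Dt (A : Subgroup (P4 F)) : Subgroup (S2 F × S2 F) := (At A).comap blk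

theorem idx_t0 (h2 : (2 : F) ≠ 0) (h : IFA A) (ht : t0 ∈ At A) :
    2 * (Dt A).index ^ 5 < Fintype.card F ^ 4 * (Fintype.card F ^ 2 + Fintype.card F + 1) * (Fintype.card F ^ 2 + 1) ∧
    (Dt A).index ^ 6 < (At A).index := by
  have h1 := h.key (by simp) ht (ord_t0 h2) (B := blk.range) (by
    rintro _ ⟨⟨a, b⟩, rfl⟩
    exact congrArg pr (dg_comm _ _ (det_dg_aux a b))) (C := Set.range Phi) (by
    rintro _ ⟨x, rfl⟩
    exact Phi_comm x)
  rw [← Subgroup.index_comap, card_Phi, card_S4] at h1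
  exact ⟨num1 Fintype.one_lt_card h1.1, h1.2.1⟩

/-- the lower bound for the index of a proper subgroup of `SL2(q)` -/
def MIodd (F : Type) [Field F] [Fintype F] : Prop :=
  ∀ H : Subgroup (S2 F), H ≠ ⊤ →
    Fintype.card F ^ 4 * (Fintype.card F ^ 2 + Fintype.card F + 1) * (Fintype.card F ^ 2 + 1) ≤ 2 * H.index ^ 10 ∧
    Fintype.card F ^ 4 ≤ H.index ^ 6

/-- **(L1)**, `q ≥ 5`. -/
theorem L1_five (h2 : (2 : F) ≠ 0) (h5 : 5 ≤ Fintype.card F) (hMI : MIodd F) (h : IFA A) (ht : t0 ∈ At A) :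
    (∀ a : S2 F, blk (a, 1) ∈ At A) ∨ (∀ b : S2 F, blk (1, b) ∈ At A) := by
  obtain ⟨h3, -⟩ := idx_t0 h2 h ht
  have hne : ({H : Subgroup (S2 F) | H ≠ ⊤}).Nonempty := by
    refine ⟨⊥, ?_⟩
    intro h4
    have h5' := congrArg (fun H : Subgroup (S2 F) => Nat.card H) h4
    simp only [Subgroup.card_bot, Subgroup.card_top] at h5'
    rw [card_S2] at h5'
    have h6 : 2 ≤ Fintype.card F ^ 2 - 1 := by
      have : 5 ^ 2 ≤ Fintype.card F ^ 2 := Nat.pow_le_pow_left h5 2
      omega
    have h7 : 5 * 2 ≤ Fintype.card F * (Fintype.card F ^ 2 - 1) := Nat.mul_le_mul h5 h6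
    omega
  obtain ⟨H0, hH0, hmin⟩ := Set.exists_min_image _ (fun H : Subgroup (S2 F) => H.index) (Set.toFinite _) hne
  have h4 := (hMI H0 hH0).1
  have h6 : (Dt A).index < H0.index * H0.index := by
    have h7 : (Dt A).index ^ 5 < (H0.index * H0.index) ^ 5 := by
      have : (H0.index * H0.index) ^ 5 = H0.index ^ 10 := by ring
      omega
    exact lt_of_pow_lt_pow_left₀ 5 (Nat.zero_le _) h7
  rcases goursat (Dt A) (fun H hH => hmin H hH) h6 with h7 | h7 | ⟨-, N, hN, hNt, hNi, hNm⟩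
  · exact Or.inl h7
  · exact Or.inr h7
  · exfalso
    have hqs := SignalizersComponents.SLQuasisimple.isQuasisimple_two (F := F) (by
      rw [Nat.card_eq_fintype_card]; omega)
    have h8 := SignalizersComponents.QsBasic.normal_le_center_of_ne_top hqs N hNt
    have h9 : Nat.card N ≤ 2 :=
      (Subgroup.card_le_of_le h8).trans (le_of_eq (ClassicalGeometry.PSL2Basic.card_center_SL2_odd h2))
    have h10 := N.card_mul_index
    rw [card_S2] at h10
    set q := Fintype.card F with hq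
    have h11 : q * (q ^ 2 - 1) ≤ 2 * (Dt A).index := by
      rw [← h10]
      exact Nat.mul_le_mul h9 hNi
    have h12 : (q * (q ^ 2 - 1)) ^ 5 ≤ 32 * (Dt A).index ^ 5 := by
      calc (q * (q ^ 2 - 1)) ^ 5 ≤ (2 * (Dt A).index) ^ 5 := Nat.pow_le_pow_left h11 5
        _ = _ := by ring
    have h13 : q ^ 2 ≤ 2 * (q ^ 2 - 1) := by
      have : 5 ^ 2 ≤ q ^ 2 := Nat.pow_le_pow_left h5 2
      omega
    have h14 : (q * q ^ 2) ^ 5 ≤ 32 * (q * (q ^ 2 - 1)) ^ 5 := by
      calc (q * q ^ 2) ^ 5 ≤ (q * (2 * (q ^ 2 - 1))) ^ 5 := Nat.pow_le_pow_left (Nat.mul_le_mul_left _ h13) 5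
        _ = _ := by ring
    have h15 : q ^ 2 + q + 1 ≤ 2 * q ^ 2 := by nlinarith only [h5]
    have h16 : q ^ 2 + 1 ≤ 2 * q ^ 2 := by linarith only [h15]
    have h17 : q ^ 4 * (q ^ 2 + q + 1) * (q ^ 2 + 1) ≤ 4 * q ^ 8 := by
      calc q ^ 4 * (q ^ 2 + q + 1) * (q ^ 2 + 1) ≤ q ^ 4 * (2 * q ^ 2) * (2 * q ^ 2) := by gcongr
        _ = _ := by ring
    have h18 : q ^ 15 < 2048 * q ^ 8 := by
      calc q ^ 15 = (q * q ^ 2) ^ 5 := by ring
        _ ≤ 32 * (32 * (Dt A).index ^ 5) := h14.trans (Nat.mul_le_mul_left _ h12)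
        _ = 512 * (2 * (Dt A).index ^ 5) := by ring
        _ < 512 * (4 * q ^ 8) := by omega
        _ = _ := by ring
    have h19 : q ^ 7 < 2048 := by
      have : q ^ 8 * q ^ 7 < q ^ 8 * 2048 := by
        calc q ^ 8 * q ^ 7 = q ^ 15 := by ring
          _ < _ := h18
          _ = _ := by ring
      exact lt_of_mul_lt_mul_left this (Nat.zero_le _)
    have h20 : 5 ^ 7 ≤ q ^ 7 := Nat.pow_le_pow_left h5 7
    omega

theorem tv_pow_three (h3 : (3 : F) = 0) {i j : Fin 2} (hij : i ≠ j) (a : F) :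
    (SpecialLinearGroup.transvection hij a : S2 F) ^ 3 = 1 := by
  have h : ∀ a b : F, (SpecialLinearGroup.transvection hij a : S2 F) * SpecialLinearGroup.transvection hij b =
      SpecialLinearGroup.transvection hij (a + b) := fun a b =>
    Subtype.ext (Matrix.transvection_mul_transvection_same i j hij a b)
  rw [pow_succ, pow_two, h, h, show a + a + a = 3 * a by ring, h3, zero_mul]
  exact Subtype.ext (Matrix.transvection_zero _ _)

/-- a subgroup of `SL2(3)` of index prime to 3 containing the transvections ... -/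
theorem tv_top {N : Subgroup (S2 F)} (h : ∀ (i j : Fin 2) (hij : i ≠ j) (a : F), SpecialLinearGroup.transvection hij a ∈ N) :
    N = ⊤ := by
  rw [← top_le_iff, ← LieClassical.SLGen.closure_transvections, Subgroup.closure_le]
  rintro _ ⟨i, j, hij, a, rfl⟩
  exact h i j hij a

theorem normal_three (h3 : (3 : F) = 0) {N : Subgroup (S2 F)} [N.Normal] (hN : N ≠ ⊤) : 3 ∣ N.index := by
  by_contra hcon
  apply hN
  apply tv_top
  intro i j hij a
  have h1 := N.pow_index_mem (SpecialLinearGroup.transvection hij a)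
  have h2 := tv_pow_three h3 hij a
  have h4 : IsCoprime (N.index : ℤ) 3 := by
    rw [show (3 : ℤ) = ((3 : ℕ) : ℤ) by norm_num, Nat.isCoprime_iff_coprime, Nat.coprime_comm]
    exact (Nat.Prime.coprime_iff_not_dvd Nat.prime_three).2 hcon
  obtain ⟨u, v, huv⟩ := h4
  have h5 : (SpecialLinearGroup.transvection hij a : S2 F) =
      ((SpecialLinearGroup.transvection hij a : S2 F) ^ N.index) ^ u * ((SpecialLinearGroup.transvection hij a : S2 F) ^ 3) ^ v := by
    rw [← zpow_natCast, ← zpow_natCast, ← _root_.zpow_mul, ← _root_.zpow_mul, ← _root_.zpow_add]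
    rw [mul_comm (N.index : ℤ) u, mul_comm ((3 : ℕ) : ℤ) v]
    have : u * (N.index : ℤ) + v * ((3 : ℕ) : ℤ) = 1 := by exact_mod_cast huv
    rw [this, zpow_one]
  rw [h5, h2, _root_.one_zpow, mul_one]
  exact N.zpow_mem h1 u

theorem mi_three (h3 : (3 : F) = 0) (H : Subgroup (S2 F)) (hH : H ≠ ⊤) : 3 ≤ H.index := by
  have h0 : H.index ≠ 0 := Subgroup.index_ne_zero_of_finite
  have h1 : H.index ≠ 1 := fun h => hH (Subgroup.index_eq_one.1 h)
  by_contra hcon
  have h2 : H.index = 2 := by omega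
  have : H.Normal := Subgroup.normal_of_index_eq_two h2
  have h4 := normal_three h3 hH
  rw [h2] at h4
  omega

/-- **(L1)**, `q = 3`. -/
theorem L1_three (hq : Fintype.card F = 3) (h : IFA A) (ht : t0 ∈ At A) :
    (∀ a : S2 F, blk (a, 1) ∈ At A) ∨ (∀ b : S2 F, blk (1, b) ∈ At A) ∨
    (∀ a : S2 F, a.val * a.val = -1 → blk (a, 1) ∈ At A ∧ blk (1, a) ∈ At A) := by
  have h3 : (3 : F) = 0 := by
    have := Nat.cast_card_eq_zero F
    rw [hq] at this
    exact_mod_cast this
  have h2 : (2 : F) ≠ 0 := by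
    intro h2
    have : (1 : F) = 0 := by linear_combination h3 - h2
    exact one_ne_zero this
  obtain ⟨h4, -⟩ := idx_t0 h2 h ht
  rw [hq] at h4
  have h5 : (Dt A).index < 6 := by
    by_contra hcon
    have h6 : 6 ^ 5 ≤ (Dt A).index ^ 5 := Nat.pow_le_pow_left (by omega) 5
    omega
  rcases goursat (Dt A) (mi_three h3) (by omega) with h7 | h7 | ⟨hall, N, hN, hNt, hNi, hNm⟩
  · exact Or.inl h7
  · exact Or.inr (Or.inl h7)
  · right
    right
    have h8 := normal_three h3 hNt
    have h9 : N.index ≠ 0 := Subgroup.index_ne_zero_of_finite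
    have h10 : N.index = 3 := by
      obtain ⟨k, hk⟩ := h8
      omega
    have h11 : ∀ b : S2 F, b ^ 3 ∈ N := by
      intro b
      rw [← h10]
      exact N.pow_index_mem b
    have hfour : ∀ a : S2 F, a.val * a.val = -1 → a ^ 4 = 1 := by
      intro a ha
      apply Subtype.ext
      show a.val ^ 4 = 1
      rw [show 4 = 2 + 2 by norm_num, pow_add, pow_two, ha, neg_mul_neg, one_mul]
    intro a ha
    have h12 : a ∈ N := by
      have h13 := N.mul_mem (h11 a) (N.mul_mem (h11 a) (h11 a))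
      rw [← pow_add, ← pow_add] at h13
      norm_num at h13
      rwa [show 9 = 4 + 4 + 1 by norm_num, pow_add, pow_add, hfour a ha, one_mul, one_mul, pow_one] at h13
    refine ⟨?_, (hNm a).1 h12⟩
    obtain ⟨b, hb⟩ := hall a
    have h14 : (a, b) ^ 3 ∈ Dt A := (Dt A).pow_mem hb 3
    have h15 : ((1 : S2 F), b ^ 3) ∈ Dt A := (hNm _).1 (h11 b)
    have h16 : (a ^ 3, (1 : S2 F)) ∈ Dt A := by
      have := (Dt A).mul_mem h14 ((Dt A).inv_mem h15)
      rw [Prod.pow_mk, Prod.inv_mk, Prod.mk_mul_mk, inv_one, mul_one, mul_inv_cancel] at this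
      exact this
    have h17 := (Dt A).pow_mem h16 3
    rw [Prod.pow_mk, one_pow, ← pow_mul, show 3 * 3 = 4 + 4 + 1 by norm_num, pow_add, pow_add, hfour a ha, one_mul,
      one_mul, pow_one] at h17
    exact h17

end Fin

end Cfsg.Agent.H358.IF
end

-- part: H411/L4/MI
section
/-!
# S5719, `PSL_4(q)`, piece (MI) of helper358: indices of proper subgroups of `SL₂(q)` (helper411)
-/

set_option autoImplicit false

namespace Cfsg.Agent.H411.L4

open Matrix Subgroup

variable {F : Type*} [Field F] [Fintype F]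

/-- `q` even: proper subgroups of `SL₂(q)` have index at least `q + 1` -/
theorem mi_even (h4 : 4 ≤ Fintype.card F) (he : Even (Fintype.card F))
    (H : Subgroup (_root_.Matrix.SpecialLinearGroup (Fin 2) F)) (hH : H ≠ ⊤) : Fintype.card F + 1 ≤ H.index := by
  classical
  have h2 : (2 : F) = 0 := by
    have h3 : ringChar F = 2 := FiniteField.even_card_iff_char_two.2 (Nat.even_iff.1 he)
    have h4 := ringChar.Nat.cast_ringChar (R := F)
    rw [h3] at h4
    exact_mod_cast h4
  have hne : Fintype.card F ∉ ({2, 3, 5, 7, 9, 11} : Finset ℕ) := by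
    simp only [Finset.mem_insert, Finset.mem_singleton, not_or]
    rcases he with ⟨r, hr⟩
    refine ⟨?_, ?_, ?_, ?_, ?_, ?_⟩ <;> omega
  let π : _root_.Matrix.SpecialLinearGroup (Fin 2) F →* ProjectiveSpecialLinearGroup (Fin 2) F :=
    QuotientGroup.mk' (Subgroup.center (_root_.Matrix.SpecialLinearGroup (Fin 2) F))
  have hπ : Function.Surjective π := QuotientGroup.mk'_surjective _
  have hidx : (H.map π).index ≤ H.index := Nat.le_of_dvd (Nat.pos_of_ne_zero H.index_ne_zero_of_finite)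
    (Subgroup.index_map_dvd H hπ)
  have hinj : Function.Injective π := by
    rw [← MonoidHom.ker_eq_bot_iff, eq_bot_iff]
    intro z hz
    have h3 : z ∈ Subgroup.center (_root_.Matrix.SpecialLinearGroup (Fin 2) F) := (QuotientGroup.eq_one_iff z).1 hz
    obtain ⟨r, hr, hrz⟩ := Matrix.SpecialLinearGroup.mem_center_iff.1 h3
    rw [Fintype.card_fin] at hr
    have hr' : (r - 1) * (r - 1) = 0 := by linear_combination hr + (1 - r) * h2
    have h5 : r = 1 := by
      have := mul_self_eq_zero.1 hr'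
      linear_combination this
    rw [Subgroup.mem_bot]
    apply Subtype.ext
    rw [← hrz, h5, map_one]
    rfl
  have hm : H.map π ≠ ⊤ := by
    intro h
    apply hH
    have h6 := Subgroup.comap_map_eq_self_of_injective hinj H
    rw [h, Subgroup.comap_top] at h6
    exact h6.symm
  exact ((Cfsg.Agent.S0806.result (F := F) rfl hne).1 _ hm).trans hidx

/-- `q` odd, `q ≥ 5` -/
theorem mi_odd5 (ho : Odd (Fintype.card F)) (h5 : 5 ≤ Fintype.card F) (H : Subgroup (_root_.Matrix.SpecialLinearGroup (Fin 2) F))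
    (hH : H ≠ ⊤) : (Fintype.card F ^ 2 + Fintype.card F + 1) * Fintype.card F ^ 2 ≤ H.index ^ 5 := by
  by_contra hcon
  push Not at hcon
  exact hH (Cfsg.Agent.H771.IFx.idx_top ho h5 H hcon)

theorem mi_odd (ho : Odd (Fintype.card F)) (h4 : 4 ≤ Fintype.card F) (H : Subgroup (_root_.Matrix.SpecialLinearGroup (Fin 2) F))
    (hH : H ≠ ⊤) : Fintype.card F ^ 4 * (Fintype.card F ^ 2 + Fintype.card F + 1) * (Fintype.card F ^ 2 + 1) ≤
      2 * H.index ^ 10 ∧ Fintype.card F ^ 4 ≤ H.index ^ 6 := by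
  have h5 : 5 ≤ Fintype.card F := by
    rcases ho with ⟨r, hr⟩
    omega
  have h6 := mi_odd5 ho h5 H hH
  have hpos : 0 < H.index := Nat.pos_of_ne_zero H.index_ne_zero_of_finite
  set q := Fintype.card F with hq
  set i := H.index with hi
  constructor
  · have h7 := Nat.mul_le_mul h6 h6
    have h8 : i ^ 10 = i ^ 5 * i ^ 5 := by rw [← pow_add]
    rw [h8]
    have h9 : q ^ 4 * (q ^ 2 + q + 1) * (q ^ 2 + 1) ≤ (q ^ 2 + q + 1) * q ^ 2 * ((q ^ 2 + q + 1) * q ^ 2) := by
      linarith only [Nat.zero_le (q ^ 5 * (q ^ 2 + q + 1))]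
    omega
  · have h7 : i ^ 5 ≤ i ^ 6 := Nat.pow_le_pow_right hpos (by norm_num)
    have h8 : q ^ 4 ≤ (q ^ 2 + q + 1) * q ^ 2 := by linarith only [Nat.zero_le (q ^ 3), _root_.sq_nonneg (↑q : ℤ)]
    omega

end Cfsg.Agent.H411.L4
end

-- part: H358/IF/Cls
section
/-!
# S5719, cell `PSL four` (helper358): classes of involutions, `q` odd
-/

set_option autoImplicit false
set_option linter.unusedSectionVars false

namespace Cfsg.Agent.H358.IF

open Matrix Cfsg.Agent.H209.Fxy Module

variable {F : Type} [Field F]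

/-- the change of coordinates given by a basis -/
theorem conj_of_basis {ι : Type} [Fintype ι] [DecidableEq ι] (b : Basis ι F (ι → F)) :
    ∃ g : GL ι F, ∀ (s : _root_.Matrix.SpecialLinearGroup ι F) (M : Matrix ι ι F), (∀ j, s.val *ᵥ b j = ∑ i, M i j • b i) →
      (cS g s).val = M := by
  let P : Matrix ι ι F := Matrix.of fun i j => b j i
  have hP : P = (Pi.basisFun F ι).toMatrix b := by
    ext i j
    simp [P, Basis.toMatrix_apply]
  have hu : IsUnit P := by
    rw [hP]
    exact ⟨⟨(Pi.basisFun F ι).toMatrix b, b.toMatrix (Pi.basisFun F ι), Basis.toMatrix_mul_toMatrix_flip _ _,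
      Basis.toMatrix_mul_toMatrix_flip _ _⟩, rfl⟩
  obtain ⟨g, hg⟩ := hu
  refine ⟨g⁻¹, fun s M h => ?_⟩
  have h1 : s.val * g.val = g.val * M := by
    rw [hg]
    ext i j
    have h2 := congrFun (h j) i
    rw [Finset.sum_apply] at h2
    rw [Matrix.mul_apply, Matrix.mul_apply]
    simp only [Matrix.mulVec, dotProduct, Pi.smul_apply, smul_eq_mul] at h2
    simp only [P, Matrix.of_apply]
    rw [h2]
    exact Finset.sum_congr rfl fun k _ => mul_comm _ _
  rw [cS_val, inv_inv, mul_assoc, h1, ← mul_assoc, Units.inv_mul, one_mul]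

theorem mulVec_sq {s : S4 F} {c : F} (h : s.val * s.val = c • (1 : Matrix I4 I4 F)) (v : I4 → F) :
    s.val *ᵥ (s.val *ᵥ v) = c • v := by
  rw [mulVec_mulVec, h, smul_mulVec, one_mulVec]

/-- the matrix `[[0,-1],[1,0]]` -/
def J2 : M2 F := !![0, -1; 1, 0]

theorem J2_sq : (J2 : M2 F) * J2 = -1 := by
  ext i j
  (revert i j; simp only [J2, Matrix.mul_apply, Fin.sum_univ_two, _root_.Fin.forall_fin_succ, _root_.Matrix.of_apply, _root_.Matrix.cons_val', _root_.Matrix.cons_val_fin_one, Fin.isValue, _root_.Matrix.cons_val_zero, _root_.Matrix.cons_val_one, _root_.Matrix.neg_apply, _root_.MulZeroClass.mul_zero, _root_.mul_one, _root_.zero_add, _root_.Matrix.cons_val_succ, _root_.mul_neg, _root_.add_zero, _root_.neg_inj, _root_.IsEmpty.forall_iff, _root_.and_true, _root_.Matrix.one_apply_eq, Nat.reduceAdd, _root_.Fin.succ_zero_eq_one, _root_.ne_eq, _root_.zero_ne_one, _root_.not_false_eq_true, _root_.Matrix.one_apply_ne, _root_.and_self, _root_.Fin.succ_ne_zero, _root_.neg_zero,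 _root_.true_and])

theorem J2_det : (J2 : M2 F).det = 1 := by
  rw [J2, det_fin_two_of]
  ring

/-- `[[0,-1],[1,0]]` in `SL2` -/
def j2 : S2 F := ⟨J2, J2_det⟩

theorem j2_sq : (j2 : S2 F).val * (j2 : S2 F).val = -1 := J2_sq

/-- the involution `j (+) j`, `j² = -1` -/
def tJ : S4 F := blk (j2, j2)

theorem lin_indep_aux {s : S4 F} {c : F} (h : s.val * s.val = c • (1 : Matrix I4 I4 F)) (hc : ¬ IsSquare c)
    {v w : I4 → F} (hv : v ≠ 0) (hw : ∀ a b : F, w ≠ a • v + b • (s.val *ᵥ v)) :
    ∀ a b x y : F, a • v + b • (s.val *ᵥ v) + x • w + y • (s.val *ᵥ w) = 0 → a = 0 ∧ b = 0 ∧ x = 0 ∧ y = 0 := by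
  have key : ∀ (u : I4 → F) (x y : F), (x ≠ 0 ∨ y ≠ 0) → x ^ 2 - y ^ 2 * c ≠ 0 := by
    intro u x y hxy h0
    by_cases hy : y = 0
    · subst hy
      rcases hxy with h1 | h1
      · apply h1
        have : x ^ 2 = 0 := by linear_combination h0
        exact pow_eq_zero_iff (two_ne_zero) |>.1 this
      · exact h1 rfl
    · apply hc
      refine ⟨x / y, ?_⟩
      field_simp
      linear_combination -h0
  intro a b x y hsum
  have h1 : x = 0 ∧ y = 0 := by
    by_contra hcon
    have hxy : x ≠ 0 ∨ y ≠ 0 := by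
      by_contra h2
      push Not at h2
      exact hcon h2
    have hd := key v x y hxy
    -- apply x - y s
    have h2 := congrArg (fun u => x • u - y • (s.val *ᵥ u)) hsum
    simp only [mulVec_add, mulVec_smul, mulVec_sq h, mulVec_zero, smul_zero, sub_zero] at h2
    apply hw (-(x * a - y * b * c) / (x ^ 2 - y ^ 2 * c)) (-(x * b - y * a) / (x ^ 2 - y ^ 2 * c))
    have h3 : (x ^ 2 - y ^ 2 * c) • w = -(x * a - y * b * c) • v + -(x * b - y * a) • (s.val *ᵥ v) := by
      have h4 : (x ^ 2 - y ^ 2 * c) • w - (-(x * a - y * b * c) • v + -(x * b - y * a) • (s.val *ᵥ v)) = 0 := by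
        rw [← h2]
        module
      exact sub_eq_zero.1 h4
    rw [div_eq_inv_mul, div_eq_inv_mul, mul_smul, mul_smul, ← smul_add, ← h3, smul_smul, inv_mul_cancel₀ hd, one_smul]
  obtain ⟨hx, hy⟩ := h1
  subst hx
  subst hy
  rw [zero_smul, zero_smul, add_zero, add_zero] at hsum
  have h2 : a = 0 ∧ b = 0 := by
    by_contra hcon
    have hxy : a ≠ 0 ∨ b ≠ 0 := by
      by_contra h2
      push Not at h2
      exact hcon h2
    have hd := key v a b hxy
    have h2 := congrArg (fun u => a • u - b • (s.val *ᵥ u)) hsum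
    simp only [mulVec_add, mulVec_smul, mulVec_sq h, mulVec_zero, smul_zero, sub_zero] at h2
    apply hv
    have h3 : (a ^ 2 - b ^ 2 * c) • v = 0 := by
      rw [← h2]
      module
    exact (smul_eq_zero.1 h3).resolve_left hd
  exact ⟨h2.1, h2.2, rfl, rfl⟩

/-- `s² = c`, `c` not a square: `s` is conjugate to `tJ` -/
theorem cls_J {s : S4 F} {c : F} (h : s.val * s.val = c • (1 : Matrix I4 I4 F)) (hc : ¬ IsSquare c) :
    c = -1 ∧ ∃ g : GL I4 F, cS g s = tJ := by
  classical
  let e : I4 → F := Pi.single (Sum.inl 0) 1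
  have he : e ≠ 0 := Pi.single_ne_zero_iff.2 one_ne_zero
  obtain ⟨w, hw⟩ : ∃ w : I4 → F, w ∉ Submodule.span F {e, s.val *ᵥ e} := by
    by_contra hcon
    push Not at hcon
    have h1 : Submodule.span F {e, s.val *ᵥ e} = ⊤ := Submodule.eq_top_iff'.2 hcon
    have h2 := finrank_span_le_card (R := F) ({e, s.val *ᵥ e} : Set (I4 → F))
    rw [h1, finrank_top, Module.finrank_fintype_fun_eq_card] at h2
    have h3 : ({e, s.val *ᵥ e} : Set (I4 → F)).toFinset.card ≤ 2 := by
      rw [Set.toFinset_insert, Set.toFinset_singleton]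
      exact Finset.card_le_two
    rw [Fintype.card_sum, Fintype.card_fin] at h2
    omega
  have hw' : ∀ a b : F, w ≠ a • e + b • (s.val *ᵥ e) := by
    intro a b hab
    apply hw
    rw [Submodule.mem_span_pair]
    exact ⟨a, b, hab.symm⟩
  have hli := lin_indep_aux h hc he hw'
  let b : I4 → (I4 → F) := fun i => match i with
    | Sum.inl i => ![e, s.val *ᵥ e] i
    | Sum.inr i => ![w, s.val *ᵥ w] i
  have hb : LinearIndependent F b := by
    rw [Fintype.linearIndependent_iff]
    intro g hg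
    rw [Fintype.sum_sum_type, Fin.sum_univ_two, Fin.sum_univ_two] at hg
    have h1 := hli (g (Sum.inl 0)) (g (Sum.inl 1)) (g (Sum.inr 0)) (g (Sum.inr 1)) (by
      rw [← hg]
      simp only [b, Matrix.cons_val_zero, Matrix.cons_val_one]
      abel)
    rintro (i | i) <;> fin_cases i
    · exact h1.1
    · exact h1.2.1
    · exact h1.2.2.1
    · exact h1.2.2.2
  let B : Basis I4 F (I4 → F) := basisOfLinearIndependentOfCardEqFinrank hb (by
    rw [Module.finrank_fintype_fun_eq_card])
  have hB : ∀ i, B i = b i := fun i => by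
    simp [B]
  obtain ⟨g, hg⟩ := conj_of_basis B
  have h4 : ∀ c' : F, c' = c → (cS g s).val = fromBlocks !![0, c'; 1, 0] 0 0 !![0, c'; 1, 0] := by
    intro c' hc'
    apply hg
    rintro (j | j) <;> (revert j; simp only [Fintype.sum_sum_type, Fin.sum_univ_two, hB, b, mulVec_sq h, hc', fromBlocks, _root_.Fin.forall_fin_succ, _root_.Nat.succ_eq_add_one, Nat.reduceAdd, _root_.Matrix.of_apply, _root_.Sum.elim_inl, _root_.Matrix.cons_val', _root_.Matrix.cons_val_fin_one, Fin.isValue, _root_.Matrix.cons_val_zero, _root_.Matrix.cons_val_one, _root_.Sum.elim_inr, _root_.Matrix.zero_apply, _root_.zero_smul, _root_.Finset.sum_const_zero, _root_.add_zero, _root_.one_smul, _root_.zero_add, _root_.Matrix.cons_val_succ, _root_.implies_true, _root_.and_self])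
  have h5 := h4 c rfl
  have h6 := (cS g s).2
  rw [h5, det_fromBlocks_zero₂₁, det_fin_two_of] at h6
  have h7 : (c - 1) * (c + 1) = 0 := by linear_combination h6
  have h8 : c = -1 := by
    rcases mul_eq_zero.1 h7 with h8 | h8
    · exfalso
      apply hc
      rw [sub_eq_zero.1 h8]
      exact ⟨1, by ring⟩
    · exact eq_neg_of_add_eq_zero_left h8
  refine ⟨h8, g, ?_⟩
  apply Subtype.ext
  rw [h5, h8]
  rfl

section L1

variable [Fintype F] {A : Subgroup (P4 F)}

/-- **(L1)**, all odd `q`: if `t0 = diag(-1,-1,1,1) ∈ A` then `SL(U) ≤ A` or `SL(W) ≤ A`. (`hJ`: there are no involutions of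
type `j (+) j`) -/
theorem L1 (h2 : (2 : F) ≠ 0) (h : IFA A) (ht : t0 ∈ At A) (hJ : ¬ IsSquare (-1 : F) → tJ ∉ At A) :
    (∀ a : S2 F, blk (a, 1) ∈ At A) ∨ (∀ b : S2 F, blk (1, b) ∈ At A) := by
  have hq2 : 2 ≤ Fintype.card F := Fintype.one_lt_card
  have hodd := (ClassicalGeometry.PSL2Basic.two_ne_zero_iff_odd (F := F)).1 h2
  by_cases h5 : 5 ≤ Fintype.card F
  · exact L1_five h2 h5 (fun H hH => H411.L4.mi_odd hodd (by omega) H hH) h ht
  · have h3 : Fintype.card F = 3 := by
      obtain ⟨k, hk⟩ := hodd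
      omega
    rcases L1_three h3 h ht with h4 | h4 | h4
    · exact Or.inl h4
    · exact Or.inr h4
    · exfalso
      apply hJ (by rw [FiniteField.isSquare_neg_one_iff, h3]; norm_num)
      obtain ⟨h6, h7⟩ := h4 j2 j2_sq
      have h8 := mul_mem h6 h7
      rw [← map_mul, Prod.mk_mul_mk, one_mul, mul_one] at h8
      exact h8

end L1

end Cfsg.Agent.H358.IF
end

-- part: H358/IF/JK
section
/-!
# S5719, cell `PSL four` (helper358): `tJ = j (+) j`, `j² = -1`, is not in `A` (`q ≡ 3 mod 4`)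
-/

set_option autoImplicit false
set_option linter.unusedSectionVars false

namespace Cfsg.Agent.H358.IF

open Matrix Cfsg.Agent.H209.Fxy Module

variable {F : Type} [Field F]

/-- `F(√-1)` -/
abbrev QE (F : Type) [Field F] := QuadraticAlgebra F (-1) 0

/-- the embedding of `F(√-1)` in `M2(F)` -/
noncomputable def rE : QE F →ₐ[F] M2 F := QuadraticAlgebra.lift ⟨J2, by rw [J2_sq]; simp only [_root_.neg_smul, _root_.one_smul, _root_.zero_smul, _root_.add_zero]⟩

theorem rE_apply (z : QE F) : rE z = z.re • (1 : M2 F) + z.im • J2 := rfl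

theorem rE_inj : Function.Injective (rE : QE F → M2 F) := by
  intro z w h
  rw [rE_apply, rE_apply] at h
  have h1 := congrFun (congrFun h 0) 0
  have h2 := congrFun (congrFun h 1) 0
  simp only [J2, _root_.Cfsg.Agent.H358.IF.J2, _root_.Matrix.smul_of, _root_.Matrix.smul_cons, _root_.smul_eq_mul, _root_.MulZeroClass.mul_zero, _root_.mul_neg, _root_.mul_one, _root_.Matrix.smul_empty, _root_.Fin.isValue, _root_.Matrix.add_apply, _root_.Matrix.smul_apply, _root_.Matrix.one_apply_eq, _root_.Matrix.of_apply, _root_.Matrix.cons_val', _root_.Matrix.cons_val_zero, _root_.Matrix.cons_val_fin_one, _root_.add_zero, _root_.ne_eq, _root_.one_ne_zero, _root_.not_false_eq_true, _root_.Matrix.one_apply_ne, _root_.Matrix.cons_val_one, _root_.zero_add] at h1 h2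
  exact QuadraticAlgebra.ext h1 h2

theorem rE_omega : rE (⟨0, 1⟩ : QE F) = J2 := by
  rw [rE_apply]
  simp

/-- the block matrix -/
noncomputable def bE (M : Matrix (Fin 2) (Fin 2) (QE F)) : Matrix I4 I4 F :=
  fromBlocks (rE (M 0 0)) (rE (M 0 1)) (rE (M 1 0)) (rE (M 1 1))

theorem bE_mul (M N : Matrix (Fin 2) (Fin 2) (QE F)) : bE (M * N) = bE M * bE N := by
  rw [bE, bE, bE, fromBlocks_multiply]
  simp only [Matrix.mul_apply, Fin.sum_univ_two, map_add, map_mul]

theorem bE_one : bE (1 : Matrix (Fin 2) (Fin 2) (QE F)) = 1 := by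
  rw [bE, ← fromBlocks_one]
  simp

theorem bE_inj {M N : Matrix (Fin 2) (Fin 2) (QE F)} (h : bE M = bE N) : M = N := by
  rw [bE, bE, fromBlocks_inj] at h
  obtain ⟨h1, h2, h3, h4⟩ := h
  ext1 i j
  fin_cases i <;> fin_cases j
  · exact rE_inj h1
  · exact rE_inj h2
  · exact rE_inj h3
  · exact rE_inj h4

section Fld

variable [Hab : Fact (∀ r : F, r ^ 2 ≠ (-1) + 0 * r)]

theorem det_bE (s : _root_.Matrix.SpecialLinearGroup (Fin 2) (QE F)) : (bE s.val).det = 1 := by
  refine LieClassical.SLGen.transvection_induction (fun s => (bE s.val).det = 1) ?_ ?_ s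
  · intro i j hij c
    have h1 : ∀ M : Matrix (Fin 2) (Fin 2) (QE F), M = Matrix.transvection i j c → (bE M).det = 1 := by
      rintro M rfl
      fin_cases i <;> fin_cases j
      · exact absurd rfl hij
      · rw [bE]
        simp only [Matrix.transvection, Matrix.single, _root_.Matrix.transvection, _root_.Matrix.single, _root_.Fin.zero_eta, _root_.Fin.isValue, _root_.Fin.mk_one, _root_.Matrix.add_apply, _root_.Matrix.one_apply_eq, _root_.Matrix.of_apply, _root_.one_ne_zero, _root_.and_false, ↓ _root_.reduceIte, _root_.add_zero, _root_.map_one, _root_.ne_eq, _root_.zero_ne_one, _root_.not_false_eq_true, _root_.Matrix.one_apply_ne, _root_.and_self, _root_.zero_add, _root_.map_zero, _root_.and_true, _root_.Matrix.det_fromBlocks_one₂₂, _root_.MulZeroClass.mul_zero, _root_.sub_zero, _root_.Matrix.det_one]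
      · rw [bE]
        simp only [Matrix.transvection, Matrix.single, _root_.Matrix.transvection, _root_.Matrix.single, _root_.Fin.mk_one, _root_.Fin.isValue, _root_.Fin.zero_eta, _root_.Matrix.add_apply, _root_.Matrix.one_apply_eq, _root_.Matrix.of_apply, _root_.one_ne_zero, _root_.and_true, ↓ _root_.reduceIte, _root_.add_zero, _root_.map_one, _root_.ne_eq, _root_.zero_ne_one, _root_.not_false_eq_true, _root_.Matrix.one_apply_ne, _root_.and_self, _root_.map_zero, _root_.zero_add, _root_.and_false, _root_.Matrix.det_fromBlocks_one₂₂, _root_.MulZeroClass.zero_mul, _root_.sub_zero, _root_.Matrix.det_one]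
      · exact absurd rfl hij
    exact h1 _ rfl
  · intro a b ha hb
    show (bE (a.val * b.val)).det = 1
    rw [bE_mul, det_mul, ha, hb, one_mul]

/-- `SL2(E) → SL4(F)` -/
noncomputable def Psi : _root_.Matrix.SpecialLinearGroup (Fin 2) (QE F) →* S4 F where
  toFun s := ⟨bE s.val, det_bE s⟩
  map_one' := Subtype.ext bE_one
  map_mul' s t := Subtype.ext (bE_mul s.val t.val)

theorem Psi_val (s : _root_.Matrix.SpecialLinearGroup (Fin 2) (QE F)) : (Psi s).val = bE s.val := rfl

theorem Psi_inj : Function.Injective (Psi : _root_.Matrix.SpecialLinearGroup (Fin 2) (QE F) → S4 F) := by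
  intro s t h
  exact Subtype.ext (bE_inj (congrArg Subtype.val h))

theorem tJ_val : (tJ : S4 F).val = bE ((⟨0, 1⟩ : QE F) • (1 : Matrix (Fin 2) (Fin 2) (QE F))) := by
  show fromBlocks J2 0 0 J2 = _
  rw [bE]
  simp [rE_omega]

theorem Psi_comm (s : _root_.Matrix.SpecialLinearGroup (Fin 2) (QE F)) : Psi s * tJ = tJ * Psi s := by
  apply Subtype.ext
  show (Psi s).val * (tJ : S4 F).val = (tJ : S4 F).val * (Psi s).val
  rw [Psi_val, tJ_val, ← bE_mul, ← bE_mul, Matrix.mul_smul, Matrix.smul_mul, mul_one, one_mul]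

end Fld

theorem ord_tJ : orderOf (pr (tJ : S4 F)) = 2 := by
  apply ord_pr (c := -1)
  · show fromBlocks J2 0 0 J2 * fromBlocks J2 0 0 J2 = _
    rw [fromBlocks_multiply]
    simp only [mul_zero, zero_mul, add_zero, zero_add]
    rw [J2_sq, ← fromBlocks_one, fromBlocks_smul]
    simp
  · intro d hd
    have h1 := congrFun (congrFun hd (Sum.inl 1)) (Sum.inl 0)
    have h2 : (tJ : S4 F).val (Sum.inl 1) (Sum.inl 0) = 1 := by
      show (fromBlocks J2 0 0 J2 : Matrix I4 I4 F) _ _ = 1
      simp [J2]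
    rw [h2] at h1
    simp at h1

theorem exists_ne_one {G : Type*} [Group G] [Finite G] {H B : Subgroup G} (h : H.relIndex B < Nat.card B) :
    ∃ b ∈ B, b ∈ H ∧ b ≠ 1 := by
  by_contra hcon
  push Not at hcon
  have h1 : H.subgroupOf B = ⊥ := by
    rw [Subgroup.eq_bot_iff_forall]
    rintro ⟨b, hb⟩ hb'
    exact Subtype.ext (hcon b hb hb')
  rw [Subgroup.relIndex, h1, Subgroup.index_bot] at h
  omega

section Fin

variable [Fintype F] {A : Subgroup (P4 F)} [Hab : Fact (∀ r : F, r ^ 2 ≠ (-1) + 0 * r)]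

noncomputable instance : Fintype (QE F) := Fintype.ofEquiv (F × F) (QuadraticAlgebra.equivProd _ _).symm

theorem card_QE : Fintype.card (QE F) = Fintype.card F ^ 2 := by
  rw [Fintype.card_congr (QuadraticAlgebra.equivProd (-1 : F) 0), Fintype.card_prod, pow_two]

theorem numJ {q f : ℕ} (hq : 2 ≤ q) (h : f ^ 5 * (q ^ 2 * ((q ^ 2) ^ 2 - 1)) <
    q ^ 6 * ((q ^ 4 - 1) * (q ^ 3 - 1) * (q ^ 2 - 1))) : f < q ^ 2 := by
  have e : (q ^ 2) ^ 2 = q ^ 4 := by ring
  rw [e] at h
  have hpos : 0 < q ^ 4 - 1 := by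
    have : 2 ^ 4 ≤ q ^ 4 := Nat.pow_le_pow_left hq 4
    omega
  have h1 : f ^ 5 * (q ^ 2 * (q ^ 4 - 1)) < q ^ 9 * (q ^ 2 * (q ^ 4 - 1)) := by
    calc f ^ 5 * (q ^ 2 * (q ^ 4 - 1)) < q ^ 6 * ((q ^ 4 - 1) * (q ^ 3 - 1) * (q ^ 2 - 1)) := h
      _ ≤ q ^ 6 * ((q ^ 4 - 1) * q ^ 3 * q ^ 2) := by
          gcongr
          · omega
          · omega
      _ = _ := by ring
  have h2 : f ^ 5 < q ^ 9 := lt_of_mul_lt_mul_right h1 (Nat.zero_le _)
  have h3 : q ^ 9 ≤ (q ^ 2) ^ 5 := by
    rw [← pow_mul]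
    exact Nat.pow_le_pow_right (by omega) (by norm_num)
  exact lt_of_pow_lt_pow_left₀ 5 (Nat.zero_le _) (h2.trans_le h3)

theorem idx_tJ (h : IFA A) (ht : tJ ∈ At A) {B : Subgroup (_root_.Matrix.SpecialLinearGroup (Fin 2) (QE F))} :
    (At A).relIndex (B.map Psi) < Fintype.card F ^ 2 := by
  have h1 := h.key (by simp) ht ord_tJ (B := B.map Psi) (by
    rintro _ ⟨b, -, rfl⟩
    exact congrArg pr (Psi_comm b)) (C := Set.range Psi) (by
    rintro _ ⟨x, rfl⟩
    exact congrArg pr (Psi_comm x))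
  have h2 := h1.1
  rw [← Nat.card_coe_set_eq, Nat.card_range_of_injective Psi_inj, card_S4] at h2
  have h3 : Nat.card (_root_.Matrix.SpecialLinearGroup (Fin 2) (QE F)) = Fintype.card F ^ 2 * ((Fintype.card F ^ 2) ^ 2 - 1) := by
    rw [← card_QE]
    exact card_S2
  rw [h3] at h2
  exact numJ Fintype.one_lt_card h2

/-- the unipotent group of `SL2(E)` -/
noncomputable def uE {i j : Fin 2} (hij : i ≠ j) : Multiplicative (QE F) →* _root_.Matrix.SpecialLinearGroup (Fin 2) (QE F) where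
  toFun z := SpecialLinearGroup.transvection hij (Multiplicative.toAdd z)
  map_one' := Subtype.ext (Matrix.transvection_zero i j)
  map_mul' _ _ := Subtype.ext (Matrix.transvection_mul_transvection_same i j hij _ _).symm

theorem uE_inj {i j : Fin 2} (hij : i ≠ j) : Function.Injective (uE (F := F) hij) := by
  intro _ _ h
  have h1 := congrFun (congrFun (congrArg Subtype.val h) i) j
  have h2 : ∀ z : Multiplicative (QE F), (uE hij z).val i j = Multiplicative.toAdd z := by
    intro z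
    show Matrix.transvection i j (Multiplicative.toAdd z) i j = _
    simp [Matrix.transvection, hij]
  rw [h2, h2] at h1
  exact h1

theorem exists_tv (h : IFA A) (ht : tJ ∈ At A) {i j : Fin 2} (hij : i ≠ j) :
    ∃ z : QE F, z ≠ 0 ∧ Psi (SpecialLinearGroup.transvection hij z) ∈ At A := by
  have h1 := idx_tJ h ht (B := (uE hij).range)
  have h2 : Nat.card (((uE hij).range).map (Psi : _ →* S4 F)) = Fintype.card F ^ 2 := by
    rw [← card_QE, ← Nat.card_eq_fintype_card, ← MonoidHom.range_comp]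
    exact Nat.card_range_of_injective (Psi_inj.comp (uE_inj hij))
  rw [← h2] at h1
  obtain ⟨_, ⟨_, ⟨z, rfl⟩, rfl⟩, h3, h4⟩ := exists_ne_one h1
  refine ⟨Multiplicative.toAdd z, ?_, h3⟩
  intro h5
  apply h4
  have : z = 1 := h5
  rw [this, map_one, map_one]

theorem exists_up (h : IFA A) (ht : tJ ∈ At A) : ∃ M : M2 F, IsUnit M ∧ up (Multiplicative.ofAdd M) ∈ At A := by
  obtain ⟨z, hz, h1⟩ := exists_tv h ht zero_ne_one
  refine ⟨rE z, (IsUnit.mk0 z hz).map (rE : QE F →ₐ[F] M2 F), ?_⟩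
  have : Psi (SpecialLinearGroup.transvection zero_ne_one z) = up (Multiplicative.ofAdd (rE z)) := by
    apply Subtype.ext
    show bE (Matrix.transvection 0 1 z) = fromBlocks 1 (rE z) 0 1
    rw [bE]
    simp only [Matrix.transvection, Matrix.single, _root_.Matrix.transvection, _root_.Matrix.single, _root_.Fin.isValue, _root_.Matrix.add_apply, _root_.Matrix.one_apply_eq, _root_.Matrix.of_apply, _root_.one_ne_zero, _root_.and_false, ↓ _root_.reduceIte, _root_.add_zero, _root_.map_one, _root_.ne_eq, _root_.zero_ne_one, _root_.not_false_eq_true, _root_.Matrix.one_apply_ne, _root_.and_self, _root_.zero_add, _root_.map_zero, _root_.and_true]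
  rwa [this] at h1

theorem exists_lo (h : IFA A) (ht : tJ ∈ At A) : ∃ M : M2 F, IsUnit M ∧ lo (Multiplicative.ofAdd M) ∈ At A := by
  obtain ⟨z, hz, h1⟩ := exists_tv h ht one_ne_zero
  refine ⟨rE z, (IsUnit.mk0 z hz).map (rE : QE F →ₐ[F] M2 F), ?_⟩
  have : Psi (SpecialLinearGroup.transvection one_ne_zero z) = lo (Multiplicative.ofAdd (rE z)) := by
    apply Subtype.ext
    show bE (Matrix.transvection 1 0 z) = fromBlocks 1 0 (rE z) 1
    rw [bE]
    simp only [Matrix.transvection, Matrix.single, _root_.Matrix.transvection, _root_.Matrix.single, _root_.Fin.isValue, _root_.Matrix.add_apply, _root_.Matrix.one_apply_eq, _root_.Matrix.of_apply, _root_.one_ne_zero, _root_.and_true, ↓ _root_.reduceIte, _root_.add_zero, _root_.map_one, _root_.ne_eq, _root_.zero_ne_one, _root_.not_false_eq_true, _root_.Matrix.one_apply_ne, _root_.and_self, _root_.map_zero, _root_.zero_add, _root_.and_false]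
  rwa [this] at h1

omit [Fintype F] in
theorem sq_add_sq {a b : F} (h : a ^ 2 + b ^ 2 = 0) : a = 0 ∧ b = 0 := by
  by_cases hb : b = 0
  · subst hb
    refine ⟨?_, rfl⟩
    have : a ^ 2 = 0 := by linear_combination h
    exact pow_eq_zero_iff two_ne_zero |>.1 this
  · exfalso
    apply Hab.out (a / b)
    field_simp
    linear_combination h

omit [Fintype F] in
theorem two_QE (h2 : (2 : F) ≠ 0) : (2 : QE F) ≠ 0 := by
  intro h
  apply h2
  rw [← one_add_one_eq_two] at h
  have h3 : (1 : F) + 1 = 0 := congrArg QuadraticAlgebra.re h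
  rw [← h3, one_add_one_eq_two]

theorem exists_t0 (h2 : (2 : F) ≠ 0) (h : IFA A) (ht : tJ ∈ At A) :
    ∃ g : GL I4 F, t0 ∈ At (cA g A) ∧ tJ ∈ At (cA g A) := by
  obtain ⟨z, hz, h3⟩ := exists_tv h ht zero_ne_one
  obtain ⟨c, hc, h4⟩ := exists_tv h ht one_ne_zero
  obtain ⟨y, hy, hyy⟩ := H411.L4.exists_sq (two_QE h2) hz hc ((At A).comap Psi)
    (x := SpecialLinearGroup.transvection zero_ne_one z) (x' := SpecialLinearGroup.transvection one_ne_zero c) h3 h4
    (by
      show Matrix.transvection 0 1 z = _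
      ext1 i j
      (revert i j; simp only [Matrix.transvection, Matrix.single, _root_.Fin.forall_fin_succ, Fin.isValue, _root_.Matrix.add_apply, _root_.Matrix.of_apply, _root_.Matrix.cons_val', _root_.Matrix.cons_val_fin_one, _root_.one_ne_zero, _root_.and_false, ↓reduceIte, _root_.add_zero, _root_.Matrix.cons_val_zero, _root_.Matrix.cons_val_succ, _root_.Fin.succ_zero_eq_one, _root_.and_true, _root_.IsEmpty.forall_iff, _root_.Matrix.one_apply_eq, Nat.reduceAdd, _root_.ne_eq, _root_.zero_ne_one, _root_.not_false_eq_true, _root_.Matrix.one_apply_ne, _root_.zero_add, _root_.and_self, _root_.Fin.succ_ne_zero, _root_.true_and]))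
    (by
      show Matrix.transvection 1 0 c = _
      ext1 i j
      (revert i j; simp only [Matrix.transvection, Matrix.single, _root_.Fin.forall_fin_succ, Fin.isValue, _root_.Matrix.add_apply, _root_.Matrix.of_apply, _root_.Matrix.cons_val', _root_.Matrix.cons_val_fin_one, _root_.and_true, _root_.Matrix.cons_val_zero, _root_.Matrix.cons_val_succ, _root_.Fin.succ_zero_eq_one, _root_.zero_ne_one, _root_.and_false, ↓reduceIte, _root_.add_zero, _root_.IsEmpty.forall_iff, _root_.Matrix.one_apply_eq, _root_.one_ne_zero, Nat.reduceAdd, _root_.ne_eq, _root_.not_false_eq_true, _root_.Matrix.one_apply_ne, _root_.and_self, _root_.Fin.succ_ne_zero, _root_.zero_add, _root_.ite_eq_left_iff, _root_.not_true_eq_false]))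
  have hs : Psi y ∈ At A := hy
  set! J : Matrix I4 I4 F := (tJ : S4 F).val with hJ
  set! Y : Matrix I4 I4 F := (Psi y).val with hY
  have hJJ : J * J = -1 := by
    show fromBlocks J2 0 0 J2 * fromBlocks J2 0 0 J2 = _
    rw [fromBlocks_multiply]
    simp only [mul_zero, zero_mul, add_zero, zero_add]
    rw [J2_sq, ← fromBlocks_one, fromBlocks_neg, neg_zero]
  have hYY : Y * Y = -1 := by
    have h5 : bE (y.val * y.val) = Y * Y := bE_mul _ _
    rw [← h5, hyy, bE]
    simp only [Matrix.neg_apply, map_neg, Matrix.one_apply_eq, map_one]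
    rw [← fromBlocks_one, fromBlocks_neg]
    simp only [_root_.Fin.isValue, _root_.ne_eq, _root_.zero_ne_one, _root_.not_false_eq_true, _root_.Matrix.one_apply_ne, _root_.map_zero, _root_.neg_zero, _root_.one_ne_zero]
  have hcomm : Y * J = J * Y := congrArg Subtype.val (Psi_comm y)
  have hT : tJ * Psi y ∈ At A := mul_mem ht hs
  set T : Matrix I4 I4 F := J * Y with hTd
  have hTT : T * T = 1 := by
    rw [hTd, mul_assoc, ← mul_assoc Y J Y, hcomm, mul_assoc, hYY, mul_neg_one, mul_neg, hJJ, neg_neg]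
  have hTJ : T * J = J * T := by rw [hTd, mul_assoc, hcomm]
  have hsc : ∀ e : F, T ≠ e • (1 : Matrix I4 I4 F) := by
    intro e he
    have h5 : Y = bE ((⟨0, -e⟩ : QE F) • (1 : Matrix (Fin 2) (Fin 2) (QE F))) := by
      have h6 : Y = (-e) • J := by
        calc Y = -(J * J) * Y := by rw [hJJ, neg_neg, one_mul]
          _ = -(J * T) := by rw [hTd, neg_mul, mul_assoc]
          _ = (-e) • J := by rw [he, Matrix.mul_smul, mul_one, neg_smul]
      rw [h6, hJ, tJ_val]
      rw [bE, bE, fromBlocks_smul]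
      simp only [Matrix.smul_apply, Matrix.one_apply_eq, Matrix.one_apply_ne (show (0 : Fin 2) ≠ 1 by decide),
        Matrix.one_apply_ne (show (1 : Fin 2) ≠ 0 by decide), smul_eq_mul, mul_one, mul_zero, map_zero, smul_zero]
      have h7 : (-e) • rE (⟨0, 1⟩ : QE F) = rE (⟨0, -e⟩ : QE F) := by
        rw [rE_apply, rE_apply]
        simp only [_root_.zero_smul, _root_.one_smul, _root_.zero_add, _root_.neg_smul]
      rw [h7]
    have h6 : y.val = (⟨0, -e⟩ : QE F) • (1 : Matrix (Fin 2) (Fin 2) (QE F)) := bE_inj h5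
    have h7 := y.2
    have h8 := congrFun (congrFun hyy 0) 0
    rw [h6] at h7 h8
    rw [Matrix.det_smul, Matrix.det_one, Fintype.card_fin, mul_one] at h7
    have h9 : (⟨0, -e⟩ : QE F) * ⟨0, -e⟩ = -1 := by simpa using h8
    apply two_QE h2
    linear_combination h9 - h7
  obtain ⟨v, hv⟩ : ∃ v : I4 → F, T *ᵥ v ≠ v := by
    by_contra hcon
    push Not at hcon
    apply hsc 1
    rw [one_smul]
    ext i j
    have h5 := congrFun (hcon (Pi.single j 1)) i
    rw [mulVec_single_one] at h5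
    rw [Matrix.one_apply]
    simpa [Pi.single_apply] using h5
  obtain ⟨v', hv'⟩ : ∃ v : I4 → F, T *ᵥ v ≠ -v := by
    by_contra hcon
    push Not at hcon
    apply hsc (-1)
    ext i j
    have h5 := congrFun (hcon (Pi.single j 1)) i
    rw [mulVec_single_one] at h5
    rw [Matrix.smul_apply, Matrix.one_apply]
    simpa [Pi.single_apply, neg_ite] using h5
  set! u := T *ᵥ v - v with hu
  set! w := T *ᵥ v' + v' with hw
  have hu0 : u ≠ 0 := sub_ne_zero.2 hv
  have hw0 : w ≠ 0 := fun h5 => hv' (eq_neg_of_add_eq_zero_left h5)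
  have hTu : T *ᵥ u = -u := by
    rw [hu, mulVec_sub, mulVec_mulVec, hTT, one_mulVec, neg_sub]
  have hTw : T *ᵥ w = w := by
    rw [hw, mulVec_add, mulVec_mulVec, hTT, one_mulVec, add_comm]
  have hTJv : ∀ x, T *ᵥ (J *ᵥ x) = J *ᵥ (T *ᵥ x) := fun x => by rw [mulVec_mulVec, hTJ, ← mulVec_mulVec]
  have hJJv : ∀ x, J *ᵥ (J *ᵥ x) = -x := fun x => by rw [mulVec_mulVec, hJJ, neg_mulVec, one_mulVec]
  have hcan : ∀ (x : I4 → F) (a b : F), x ≠ 0 → a • x + b • (J *ᵥ x) = 0 → a = 0 ∧ b = 0 := by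
    intro x a b hx hab
    have h5 := congrArg (fun z => a • z - b • (J *ᵥ z)) hab
    simp only [mulVec_add, mulVec_smul, hJJv, mulVec_zero, smul_zero, sub_zero] at h5
    have h6 : (a ^ 2 + b ^ 2) • x = 0 := by
      rw [← h5]
      module
    exact sq_add_sq ((smul_eq_zero.1 h6).resolve_right hx)
  let b : I4 → (I4 → F) := fun i => match i with
    | Sum.inl i => ![u, J *ᵥ u] i
    | Sum.inr i => ![w, J *ᵥ w] i
  have hb : LinearIndependent F b := by
    rw [Fintype.linearIndependent_iff]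
    intro g hg
    rw [Fintype.sum_sum_type, Fin.sum_univ_two, Fin.sum_univ_two] at hg
    simp only [b, Matrix.cons_val_zero, Matrix.cons_val_one] at hg
    have h5 := congrArg (fun z => T *ᵥ z) hg
    simp only [mulVec_add, mulVec_smul, hTJv, hTu, hTw, mulVec_neg, mulVec_zero] at h5
    have h6 : g (Sum.inr 0) • w + g (Sum.inr 1) • (J *ᵥ w) = 0 := by
      have h7 : (2 : F) • (g (Sum.inr 0) • w + g (Sum.inr 1) • (J *ᵥ w)) = 0 := by
        have h8 := congrArg₂ (· + ·) hg h5
        simp only [add_zero] at h8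
        rw [← h8]
        module
      exact (smul_eq_zero.1 h7).resolve_left h2
    have h7 : g (Sum.inl 0) • u + g (Sum.inl 1) • (J *ᵥ u) = 0 := by
      rw [h6, add_zero] at hg
      exact hg
    have h8 := hcan w _ _ hw0 h6
    have h9 := hcan u _ _ hu0 h7
    rintro (i | i) <;> fin_cases i
    · exact h9.1
    · exact h9.2
    · exact h8.1
    · exact h8.2
  let B : Basis I4 F (I4 → F) := basisOfLinearIndependentOfCardEqFinrank hb (by
    rw [Module.finrank_fintype_fun_eq_card])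
  have hB : ∀ i, B i = b i := fun i => by
    simp [B]
  obtain ⟨g, hg⟩ := conj_of_basis B
  refine ⟨g, ?_, ?_⟩
  · have h5 : cS g (tJ * Psi y) = t0 := by
      apply Subtype.ext
      rw [t0_val]
      apply hg
      have hval : (tJ * Psi y).val = T := rfl
      rw [hval]
      rintro (j | j) <;> fin_cases j <;>
        simp [Fintype.sum_sum_type, Fin.sum_univ_two, hB, b, hTu, hTw, hTJv, mulVec_neg, fromBlocks]
    rw [← h5]
    exact mem_cA.2 hT
  · have h5 : cS g tJ = tJ := by
      apply Subtype.ext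
      have hval : (tJ : S4 F).val = fromBlocks J2 0 0 J2 := rfl
      rw [hval]
      apply hg
      rintro (j | j) <;> (revert j; simp only [Fintype.sum_sum_type, Fin.sum_univ_two, hB, b, J2, ← hJ, hJJv, fromBlocks, _root_.Fin.forall_fin_succ, _root_.Nat.succ_eq_add_one, Nat.reduceAdd, _root_.Matrix.of_apply, _root_.Sum.elim_inl, _root_.Matrix.cons_val', _root_.Matrix.cons_val_fin_one, Fin.isValue, _root_.Matrix.cons_val_zero, _root_.Matrix.cons_val_one, _root_.Sum.elim_inr, _root_.Matrix.zero_apply, _root_.zero_smul, _root_.Finset.sum_const_zero, _root_.add_zero, _root_.one_smul, _root_.zero_add, _root_.Matrix.cons_val_succ, _root_.neg_smul, _root_.implies_true, _root_.and_self])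
    have h6 := (mem_cA (g := g) (s := tJ)).2 ht
    rwa [h5] at h6

/-! ### the end -/

omit [Fintype F] Hab in
/-- a subring of `M2(F)` containing the trace 0, determinant 1 matrices is everything -/
theorem ring_top (h2 : (2 : F) ≠ 0) (R : Subring (M2 F)) (hR : ∀ a : S2 F, a.val * a.val = -1 → a.val ∈ R) (X : M2 F) :
    X ∈ R := by
  have hmem : ∀ x y z : F, -(x ^ 2) - y * z = 1 → !![x, y; z, -x] ∈ R := by
    intro x y z h
    refine hR ⟨!![x, y; z, -x], ?_⟩ ?_
    · rw [det_fin_two_of]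
      linear_combination h
    · show !![x, y; z, -x] * !![x, y; z, -x] = -1
      ext i j
      (revert i j; simp only [Matrix.mul_apply, Fin.sum_univ_two, _root_.Fin.forall_fin_succ, _root_.Matrix.of_apply, _root_.Matrix.cons_val', _root_.Matrix.cons_val_fin_one, Fin.isValue, _root_.Matrix.cons_val_zero, _root_.Matrix.cons_val_one, _root_.Matrix.neg_apply, _root_.Matrix.cons_val_succ, _root_.mul_neg, _root_.IsEmpty.forall_iff, _root_.Matrix.one_apply_eq, Nat.reduceAdd, _root_.Fin.succ_zero_eq_one, _root_.ne_eq, _root_.zero_ne_one, _root_.not_false_eq_true, _root_.Matrix.one_apply_ne, _root_.neg_zero, _root_.neg_mul, _root_.Fin.succ_ne_zero, _root_.neg_neg, _root_.and_true, _root_.true_and]) <;> (repeat' with_reducible apply And.intro)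
      · linear_combination -h
      · ring
      · ring
      · linear_combination -h
  have h1 : ∀ x : F, !![x, 0; 0, -x] ∈ R := by
    intro x
    have h3 := R.add_mem (hmem (x / 2) 1 (-1 - (x / 2) ^ 2) (by ring)) (hmem (x / 2) (-1) (-(-1 - (x / 2) ^ 2)) (by ring))
    have h4 : (!![x / 2, 1; -1 - (x / 2) ^ 2, -(x / 2)] + !![x / 2, -1; -(-1 - (x / 2) ^ 2), -(x / 2)] : M2 F) =
        !![x, 0; 0, -x] := by
      have h5 : x / 2 + x / 2 = x := by
        field_simp
        ring
      ext i j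
      (revert i j; simp only [_root_.Fin.forall_fin_succ, _root_.neg_sub, _root_.sub_neg_eq_add, _root_.Matrix.add_apply, _root_.Matrix.of_apply, _root_.Matrix.cons_val', _root_.Matrix.cons_val_fin_one, Fin.isValue, _root_.Matrix.cons_val_zero, _root_.Matrix.cons_val_succ, _root_.forall_const, _root_.add_neg_cancel, _root_.and_true, _root_.true_and]) <;> (repeat' with_reducible apply And.intro)
      · exact h5
      · ring
      · linear_combination -h5
    rwa [h4] at h3
  have h3 : ∀ x : F, !![x, 0; 0, x] ∈ R := by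
    intro x
    have h4 := R.mul_mem (h1 x) (h1 1)
    have h5 : (!![x, 0; 0, -x] * !![1, 0; 0, -1] : M2 F) = !![x, 0; 0, x] := by
      ext i j
      (revert i j; simp only [Matrix.mul_apply, Fin.sum_univ_two, _root_.Fin.forall_fin_succ, _root_.Matrix.of_apply, _root_.Matrix.cons_val', _root_.Matrix.cons_val_fin_one, Fin.isValue, _root_.Matrix.cons_val_zero, _root_.Matrix.cons_val_one, _root_.mul_one, _root_.MulZeroClass.mul_zero, _root_.add_zero, _root_.Matrix.cons_val_succ, _root_.mul_neg, _root_.zero_add, _root_.forall_const, _root_.true_and, _root_.neg_zero, _root_.neg_neg, _root_.implies_true, _root_.and_self])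
    rwa [h5] at h4
  have h4 : ∀ x : F, !![x, 0; 0, 0] ∈ R := by
    intro x
    have h5 := R.add_mem (h1 (x / 2)) (h3 (x / 2))
    have h6 : (!![x / 2, 0; 0, -(x / 2)] + !![x / 2, 0; 0, x / 2] : M2 F) = !![x, 0; 0, 0] := by
      ext i j
      (revert i j; simp only [_root_.Fin.forall_fin_succ, _root_.Matrix.add_apply, _root_.Matrix.of_apply, _root_.Matrix.cons_val', _root_.Matrix.cons_val_fin_one, Fin.isValue, _root_.Matrix.cons_val_zero, _root_.Matrix.cons_val_succ, _root_.forall_const, _root_.add_zero, _root_.neg_add_cancel, _root_.implies_true, _root_.and_true, _root_.true_and]) <;> (repeat' with_reducible apply And.intro)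
      field_simp
      ring
    rwa [h6] at h5
  have h5 : ∀ x : F, !![0, 0; 0, x] ∈ R := by
    intro x
    have h5 := R.sub_mem (h3 x) (h4 x)
    have h6 : (!![x, 0; 0, x] - !![x, 0; 0, 0] : M2 F) = !![0, 0; 0, x] := by
      ext i j
      (revert i j; simp only [_root_.Fin.forall_fin_succ, _root_.Matrix.sub_apply, _root_.Matrix.of_apply, _root_.Matrix.cons_val', _root_.Matrix.cons_val_fin_one, Fin.isValue, _root_.Matrix.cons_val_zero, _root_.sub_self, _root_.Matrix.cons_val_succ, _root_.sub_eq_self, _root_.forall_const, _root_.and_self, _root_.implies_true])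
    rwa [h6] at h5
  have h6 : !![0, -1; 1, 0] ∈ R := by
    have := hmem 0 (-1) 1 (by ring)
    rwa [neg_zero] at this
  have h7 : ∀ x : F, !![0, x; 0, 0] ∈ R := by
    intro x
    have h7 := R.mul_mem (h4 (-x)) h6
    have h8 : (!![-x, 0; 0, 0] * !![0, -1; 1, 0] : M2 F) = !![0, x; 0, 0] := by
      ext i j
      (revert i j; simp only [Matrix.mul_apply, Fin.sum_univ_two, _root_.Fin.forall_fin_succ, _root_.Matrix.of_apply, _root_.Matrix.cons_val', _root_.Matrix.cons_val_fin_one, Fin.isValue, _root_.Matrix.cons_val_zero, _root_.Matrix.cons_val_one, _root_.MulZeroClass.mul_zero, _root_.mul_one, _root_.zero_add, _root_.Matrix.cons_val_succ, _root_.mul_neg, _root_.add_zero, _root_.forall_const, _root_.true_and, _root_.neg_neg, _root_.neg_zero, _root_.implies_true, _root_.and_self])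
    rwa [h8] at h7
  have h8 : ∀ x : F, !![0, 0; x, 0] ∈ R := by
    intro x
    have h7 := R.mul_mem (h5 x) h6
    have h8 : (!![0, 0; 0, x] * !![0, -1; 1, 0] : M2 F) = !![0, 0; x, 0] := by
      ext i j
      (revert i j; simp only [Matrix.mul_apply, Fin.sum_univ_two, _root_.Fin.forall_fin_succ, _root_.Matrix.of_apply, _root_.Matrix.cons_val', _root_.Matrix.cons_val_fin_one, Fin.isValue, _root_.Matrix.cons_val_zero, _root_.Matrix.cons_val_one, _root_.MulZeroClass.mul_zero, _root_.mul_one, _root_.zero_add, _root_.Matrix.cons_val_succ, _root_.mul_neg, _root_.add_zero, _root_.forall_const, _root_.true_and, _root_.neg_zero, _root_.implies_true, _root_.and_self])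
    rwa [h8] at h7
  have h9 := R.add_mem (R.add_mem (h4 (X 0 0)) (h7 (X 0 1))) (R.add_mem (h8 (X 1 0)) (h5 (X 1 1)))
  have h10 : (!![X 0 0, 0; 0, 0] + !![0, X 0 1; 0, 0] + (!![0, 0; X 1 0, 0] + !![0, 0; 0, X 1 1]) : M2 F) = X := by
    ext i j
    (revert i j; simp only [_root_.Fin.forall_fin_succ, Fin.isValue, _root_.Matrix.of_add_of, _root_.Matrix.add_cons, _root_.Matrix.head_cons, _root_.add_zero, _root_.Matrix.tail_cons, _root_.zero_add, _root_.Matrix.empty_add_empty, _root_.Matrix.add_apply, _root_.Matrix.of_apply, _root_.Matrix.cons_val', _root_.Matrix.cons_val_fin_one, _root_.Matrix.cons_val_zero, _root_.Matrix.cons_val_succ, _root_.Fin.succ_zero_eq_one, _root_.IsEmpty.forall_iff, _root_.and_true, _root_.and_self])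
  rwa [h10] at h9

omit Hab in
theorem up_all (h2 : (2 : F) ≠ 0) (ha : ∀ a : S2 F, a.val * a.val = -1 → blk (a, 1) ∈ At A)
    (hM : ∃ M : M2 F, IsUnit M ∧ up (Multiplicative.ofAdd M) ∈ At A) (X : M2 F) : up (Multiplicative.ofAdd X) ∈ At A := by
  let R : Subring (M2 F) :=
    { carrier := {Y | ∀ M, up (Multiplicative.ofAdd M) ∈ At A → up (Multiplicative.ofAdd (Y * M)) ∈ At A}
      mul_mem' := by
        intro a b hA hB M hM
        rw [mul_assoc]
        exact hA _ (hB _ hM)
      one_mem' := by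
        intro M hM
        rwa [one_mul]
      add_mem' := by
        intro a b hA hB M hM
        rw [add_mul, ofAdd_add, map_mul]
        exact mul_mem (hA _ hM) (hB _ hM)
      zero_mem' := by
        intro M hM
        rw [zero_mul, ofAdd_zero, map_one]
        exact one_mem _
      neg_mem' := by
        intro a hA M hM
        rw [neg_mul, ofAdd_neg, map_inv]
        exact inv_mem (hA _ hM) }
  obtain ⟨M, ⟨m, rfl⟩, hM⟩ := hM
  have h3 : X * (m⁻¹ : (M2 F)ˣ).val ∈ R := by
    apply ring_top h2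
    intro a hA M hM
    have h4 := mul_mem (mul_mem (ha a hA) hM) (inv_mem (ha a hA))
    have h5 : blk (a, 1) * up (Multiplicative.ofAdd M) * (blk (a, 1))⁻¹ = up (Multiplicative.ofAdd (a.val * M)) := by
      rw [mul_inv_eq_iff_eq_mul]
      apply Subtype.ext
      show (blk (a, 1)).val * (up (Multiplicative.ofAdd M)).val = (up (Multiplicative.ofAdd (a.val * M))).val * (blk (a, 1)).val
      rw [blk_val, up_val, up_val, fromBlocks_multiply, fromBlocks_multiply]
      simp
    rwa [h5] at h4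
  have h4 := h3 _ hM
  rwa [mul_assoc, Units.inv_mul, mul_one] at h4

omit Hab in
theorem lo_all (h2 : (2 : F) ≠ 0) (ha : ∀ a : S2 F, a.val * a.val = -1 → blk (a, 1) ∈ At A)
    (hM : ∃ M : M2 F, IsUnit M ∧ lo (Multiplicative.ofAdd M) ∈ At A) (X : M2 F) : lo (Multiplicative.ofAdd X) ∈ At A := by
  let R : Subring (M2 F) :=
    { carrier := {Y | ∀ M, lo (Multiplicative.ofAdd M) ∈ At A → lo (Multiplicative.ofAdd (M * Y)) ∈ At A}
      mul_mem' := by
        intro a b hA hB M hM
        rw [← mul_assoc]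
        exact hB _ (hA _ hM)
      one_mem' := by
        intro M hM
        rwa [mul_one]
      add_mem' := by
        intro a b hA hB M hM
        rw [mul_add, ofAdd_add, map_mul]
        exact mul_mem (hA _ hM) (hB _ hM)
      zero_mem' := by
        intro M hM
        rw [mul_zero, ofAdd_zero, map_one]
        exact one_mem _
      neg_mem' := by
        intro a hA M hM
        rw [mul_neg, ofAdd_neg, map_inv]
        exact inv_mem (hA _ hM) }
  obtain ⟨M, ⟨m, rfl⟩, hM⟩ := hM
  have h3 : (m⁻¹ : (M2 F)ˣ).val * X ∈ R := by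
    apply ring_top h2
    intro a hA M hM
    have h4 := mul_mem (mul_mem (inv_mem (ha a hA)) hM) (ha a hA)
    have h5 : (blk (a, 1))⁻¹ * lo (Multiplicative.ofAdd M) * (blk (a, 1)) = lo (Multiplicative.ofAdd (M * a.val)) := by
      rw [mul_assoc, inv_mul_eq_iff_eq_mul]
      apply Subtype.ext
      show (lo (Multiplicative.ofAdd M)).val * (blk (a, 1)).val = (blk (a, 1)).val * (lo (Multiplicative.ofAdd (M * a.val))).val
      rw [blk_val, lo_val, lo_val, fromBlocks_multiply, fromBlocks_multiply]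
      simp
    rwa [h5] at h4
  have h4 := h3 _ hM
  rwa [← mul_assoc, Units.mul_inv, one_mul] at h4

omit Hab in
/-- `A` contains all block unipotent matrices -/
theorem top_of (h : IFA A) (hu : ∀ X : M2 F, up (Multiplicative.ofAdd X) ∈ At A)
    (hl : ∀ X : M2 F, lo (Multiplicative.ofAdd X) ∈ At A) : False := by
  have h1 : ∀ i j : Fin 2, Rt A (Sum.inl i) (Sum.inr j) := by
    intro i j hij a
    have h2 : SpecialLinearGroup.transvection hij a = up (Multiplicative.ofAdd (Matrix.single i j a)) := by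
      apply Subtype.ext
      show Matrix.transvection (Sum.inl i) (Sum.inr j) a = fromBlocks 1 (Matrix.single i j a) 0 1
      ext x y
      rcases x with x | x <;> rcases y with y | y <;>
        simp [Matrix.transvection, Matrix.single, Matrix.one_apply]
    rw [h2]
    exact hu _
  have h3 : ∀ i j : Fin 2, Rt A (Sum.inr i) (Sum.inl j) := by
    intro i j hij a
    have h2 : SpecialLinearGroup.transvection hij a = lo (Multiplicative.ofAdd (Matrix.single i j a)) := by
      apply Subtype.ext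
      show Matrix.transvection (Sum.inr i) (Sum.inl j) a = fromBlocks 1 0 (Matrix.single i j a) 1
      ext x y
      rcases x with x | x <;> rcases y with y | y <;>
        simp [Matrix.transvection, Matrix.single, Matrix.one_apply]
    rw [h2]
    exact hl _
  have : Nontrivial I4 := ⟨⟨Sum.inl 0, Sum.inr 0, by simp⟩⟩
  apply h.not_all
  rintro (i | i) (j | j) hij
  · exact (h1 i 0).trans (h3 0 j) (by simp) (by simp)
  · exact h1 i j
  · exact h3 i j
  · exact (h3 i 0).trans (h1 0 j) (by simp) (by simp)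

omit Hab in
/-- weak form of (L1) -/
theorem L1w (h2 : (2 : F) ≠ 0) (h : IFA A) (ht : t0 ∈ At A) :
    (∀ a : S2 F, a.val * a.val = -1 → blk (a, 1) ∈ At A) ∨ (∀ b : S2 F, b.val * b.val = -1 → blk (1, b) ∈ At A) := by
  have hq2 : 2 ≤ Fintype.card F := Fintype.one_lt_card
  have hodd := (ClassicalGeometry.PSL2Basic.two_ne_zero_iff_odd (F := F)).1 h2
  by_cases h5 : 5 ≤ Fintype.card F
  · rcases L1_five h2 h5 (fun H hH => H411.L4.mi_odd hodd (by omega) H hH) h ht with h3 | h3
    · exact Or.inl fun a _ => h3 a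
    · exact Or.inr fun a _ => h3 a
  · have h3 : Fintype.card F = 3 := by
      obtain ⟨k, hk⟩ := hodd
      omega
    rcases L1_three h3 h ht with h4 | h4 | h4
    · exact Or.inl fun a _ => h4 a
    · exact Or.inr fun a _ => h4 a
    · exact Or.inl fun a ha => (h4 a ha).1

theorem tJ_kill_aux (h2 : (2 : F) ≠ 0) (h : IFA A) (hJ : tJ ∈ At A)
    (ha : ∀ a : S2 F, a.val * a.val = -1 → blk (a, 1) ∈ At A) : False :=
  top_of h (up_all h2 ha (exists_up h hJ)) (lo_all h2 ha (exists_lo h hJ))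

theorem tJ_kill (h2 : (2 : F) ≠ 0) (h : IFA A) (hJ : tJ ∈ At A) : False := by
  obtain ⟨g, h3, h4⟩ := exists_t0 h2 h hJ
  have h5 := h.conj g
  rcases L1w h2 h5 h3 with h6 | h6
  · exact tJ_kill_aux h2 h5 h4 h6
  · have h7 := h5.conj sw
    apply tJ_kill_aux h2 h7
    · have h8 := (mem_cA (g := sw) (s := tJ)).2 h4
      have h9 : cS sw (tJ : S4 F) = tJ := cS_sw_blk j2 j2
      rwa [h9] at h8
    · intro a hA
      have h8 := (mem_cA (g := sw) (s := blk (1, a))).2 (h6 a hA)
      rwa [cS_sw_blk] at h8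

end Fin

/-- **No involution `j (+) j` in `A`** (`-1` not a square). -/
theorem tJ_not_mem [Fintype F] (h2 : (2 : F) ≠ 0) {A : Subgroup (P4 F)} (h : IFA A) (hs : ¬ IsSquare (-1 : F)) :
    tJ ∉ At A := by
  have : Fact (∀ r : F, r ^ 2 ≠ (-1) + 0 * r) := ⟨fun r hr => hs ⟨r, by
    rw [← pow_two, hr]
    ring⟩⟩
  exact fun hJ => tJ_kill h2 h hJ

end Cfsg.Agent.H358.IF
end

-- part: H411/L4/Perm
section
/-!
# S5719, `PSL_4(q)`, `q` odd, FRAME of helper358: permutation matrices and parabolic subgroups (helper411)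
-/

set_option autoImplicit false
set_option linter.unusedSectionVars false

namespace Cfsg.Agent.H411.L4

open Matrix Cfsg.Agent.H209.Fxy Cfsg.Agent.H358.IF

section Perm

variable {ι : Type} [Fintype ι] [DecidableEq ι] {F : Type} [Field F]

/-- the permutation matrix -/
def pm (π : Equiv.Perm ι) : GL ι F where
  val := π.symm.toPEquiv.toMatrix
  inv := π.toPEquiv.toMatrix
  val_inv := by
    rw [← PEquiv.toMatrix_trans, ← Equiv.toPEquiv_trans, Equiv.symm_trans_self, Equiv.toPEquiv_refl,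
      PEquiv.toMatrix_refl]
  inv_val := by
    rw [← PEquiv.toMatrix_trans, ← Equiv.toPEquiv_trans, Equiv.self_trans_symm, Equiv.toPEquiv_refl,
      PEquiv.toMatrix_refl]

theorem cS_pm_val (π : Equiv.Perm ι) (s : _root_.Matrix.SpecialLinearGroup ι F) :
    (cS (pm π) s).val = s.val.submatrix π.symm π.symm := by
  rw [cS_val]
  show π.symm.toPEquiv.toMatrix * s.val * π.toPEquiv.toMatrix = _
  rw [PEquiv.toMatrix_toPEquiv_mul, PEquiv.mul_toMatrix_toPEquiv, submatrix_submatrix]
  rfl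

theorem cS_pm_transvection (π : Equiv.Perm ι) {i j : ι} (hij : i ≠ j) (a : F) :
    cS (pm π) (SpecialLinearGroup.transvection hij a) =
      SpecialLinearGroup.transvection (fun h => hij (π.injective h) : π i ≠ π j) a := by
  apply Subtype.ext
  rw [cS_pm_val]
  show (Matrix.transvection i j a).submatrix π.symm π.symm = Matrix.transvection (π i) (π j) a
  ext x y
  obtain ⟨x, rfl⟩ := π.surjective x
  obtain ⟨y, rfl⟩ := π.surjective y
  rw [submatrix_apply, Equiv.symm_apply_apply, Equiv.symm_apply_apply, Matrix.transvection, Matrix.transvection,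
    Matrix.add_apply, Matrix.add_apply, Matrix.one_apply, Matrix.one_apply, Matrix.single_apply, Matrix.single_apply]
  simp only [π.injective.eq_iff]

variable {A : Subgroup (ProjectiveSpecialLinearGroup ι F)}

theorem Rt_pm (π : Equiv.Perm ι) {i j : ι} : Rt (cA (pm π) A) (π i) (π j) ↔ Rt A i j := by
  constructor
  · intro h hij a
    rw [← mem_cA (g := pm π), cS_pm_transvection]
    exact h _ a
  · intro h hij a
    have hij' : i ≠ j := fun e => hij (by rw [e])
    have h1 := h hij' a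
    rw [← mem_cA (g := pm π), cS_pm_transvection] at h1
    exact h1

end Perm

end Cfsg.Agent.H411.L4
end

private theorem dce_acb4369946ef : _root_.True := by
  try have : _root_.True := by simp only [_root_.Cfsg.Agent.H358.IF.bE.eq_1]
  try have : _root_.True := by simp only [_root_.Cfsg.Agent.H358.IF.J2.eq_1]
  try have : _root_.True := by simp only [_root_.Matrix.SpecialLinearGroup.transvection.eq_1]
  exact _root_.True.intro
end

-- part: H895/IF/CoChk
section
prune_inst 0x8000000000000000000000010000014010000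
set_option linter.all false
open scoped Cfsg.Agent.FastGrp

/-!
# S5719, row `Co3`: kernel checks (helper895)
-/

set_option autoImplicit false
set_option maxRecDepth 1000000
set_option exponentiation.threshold 6000

namespace Cfsg.Agent.H895.CoIF

open Equiv Cfsg.Agent.H123.Cls Cfsg.Agent.H895.IFT Cfsg.Agent.H763.Co3.Dat
open Cfsg.Agent.H763.Co3.Model (N tabs_ok)

/-- an element of `Co3` with the table `P` -/
def Has (P : ℕ) : Prop := ∃ x : N, Tab N.subtype 10 x P

theorem has_gens {i : ℕ} (hi : i < 16) : Has (nth gens i) := by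
  obtain ⟨g, hg, h⟩ := tabs_ok i hi
  exact ⟨⟨g, hg⟩, h⟩

theorem choose_of {l : List ℕ} (h : ∀ P ∈ l, Has P) : ∃ d : ℕ → N, ∀ i < l.length, Tab N.subtype 10 (d i) (nth l i) := by
  have h1 : ∀ i : ℕ, ∃ x : N, i < l.length → Tab N.subtype 10 x (nth l i) := by
    intro i
    by_cases hi : i < l.length
    · obtain ⟨x, hx⟩ := h (nth l i) (by rw [nth_eq, List.getD_eq_getElem _ _ hi]; exact List.getElem_mem _)
      exact ⟨x, fun _ => hx⟩
    · exact ⟨1, fun h => absurd h hi⟩
  choose d hd using h1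
  exact ⟨d, fun i hi => hd i hi⟩

theorem Has.word {l : List ℕ} {P : ℕ} {u : List ℕ} (hc : chkW 552 10 l P u = true) (h : ∀ P ∈ l, Has P) : Has P := by
  obtain ⟨d, hd⟩ := choose_of h
  exact ⟨_, tab_wd hd hc⟩

theorem ht0 : Has t0 := has_gens (i := 0) (by norm_num)
theorem ht1 : Has t1 := has_gens (i := 1) (by norm_num)
theorem ht2 : Has t2 := has_gens (i := 2) (by norm_num)
theorem ht3 : Has t3 := has_gens (i := 3) (by norm_num)
theorem ht4 : Has t4 := has_gens (i := 4) (by norm_num)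
theorem ht5 : Has t5 := has_gens (i := 5) (by norm_num)
theorem ht6 : Has t6 := has_gens (i := 6) (by norm_num)
theorem ht7 : Has t7 := has_gens (i := 7) (by norm_num)
theorem ht8 : Has t8 := has_gens (i := 8) (by norm_num)
theorem ht9 : Has t9 := has_gens (i := 9) (by norm_num)
theorem ht10 : Has t10 := has_gens (i := 10) (by norm_num)
theorem ht11 : Has t11 := has_gens (i := 11) (by norm_num)
theorem ht12 : Has t12 := has_gens (i := 12) (by norm_num)
theorem ht13 : Has t13 := has_gens (i := 13) (by norm_num)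
theorem ht15 : Has t15 := has_gens (i := 15) (by norm_num)

theorem cp40 : chkW 552 10 [t4, t1, t12, t9] p40 [0, 1, 2, 3] = true := by decide +kernel
theorem hp40 : Has p40 := Has.word cp40 (List.forall_mem_cons.2 ⟨ht4, List.forall_mem_cons.2 ⟨ht1, List.forall_mem_cons.2 ⟨ht12, List.forall_mem_cons.2 ⟨ht9, List.forall_mem_nil _⟩⟩⟩⟩)
theorem cp17 : chkW 552 10 [t7, t1, t2, t4, t9, t15, t12, t10] p17 [0, 1, 2, 0, 2, 3, 4, 5, 6, 7, 5, 7] = true := by decide +kernel
theorem hp17 : Has p17 := Has.word cp17 (List.forall_mem_cons.2 ⟨ht7, List.forall_mem_cons.2 ⟨ht1, List.forall_mem_cons.2 ⟨ht2, List.forall_mem_cons.2 ⟨ht4, List.forall_mem_cons.2 ⟨ht9, List.forall_mem_cons.2 ⟨ht15, List.forall_mem_cons.2 ⟨ht12, List.forall_mem_cons.2 ⟨ht10, List.forall_mem_nil _⟩⟩⟩⟩⟩⟩⟩⟩)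
theorem ce2 : chkW 552 10 [t5, t8, t12] e2 [0, 1, 2] = true := by decide +kernel
theorem he2 : Has e2 := Has.word ce2 (List.forall_mem_cons.2 ⟨ht5, List.forall_mem_cons.2 ⟨ht8, List.forall_mem_cons.2 ⟨ht12, List.forall_mem_nil _⟩⟩⟩)
theorem ce3 : chkW 552 10 [t1, t12, t10] e3 [0, 1, 2] = true := by decide +kernel
theorem he3 : Has e3 := Has.word ce3 (List.forall_mem_cons.2 ⟨ht1, List.forall_mem_cons.2 ⟨ht12, List.forall_mem_cons.2 ⟨ht10, List.forall_mem_nil _⟩⟩⟩)
theorem ce4 : chkW 552 10 [t11, t4, t3] e4 [0, 1, 2] = true := by decide +kernel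
theorem he4 : Has e4 := Has.word ce4 (List.forall_mem_cons.2 ⟨ht11, List.forall_mem_cons.2 ⟨ht4, List.forall_mem_cons.2 ⟨ht3, List.forall_mem_nil _⟩⟩⟩)
theorem ce5 : chkW 552 10 [p40, t15, t7] e5 [0, 1, 0, 2] = true := by decide +kernel
theorem he5 : Has e5 := Has.word ce5 (List.forall_mem_cons.2 ⟨hp40, List.forall_mem_cons.2 ⟨ht15, List.forall_mem_cons.2 ⟨ht7, List.forall_mem_nil _⟩⟩⟩)
theorem ce6 : chkW 552 10 [t11, t9] e6 [0, 1] = true := by decide +kernel
theorem he6 : Has e6 := Has.word ce6 (List.forall_mem_cons.2 ⟨ht11, List.forall_mem_cons.2 ⟨ht9, List.forall_mem_nil _⟩⟩)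
theorem ce7 : chkW 552 10 [t4, t10, t6] e7 [0, 1, 2] = true := by decide +kernel
theorem he7 : Has e7 := Has.word ce7 (List.forall_mem_cons.2 ⟨ht4, List.forall_mem_cons.2 ⟨ht10, List.forall_mem_cons.2 ⟨ht6, List.forall_mem_nil _⟩⟩⟩)
theorem ce8 : chkW 552 10 [t11, t2, t9] e8 [0, 1, 2] = true := by decide +kernel
theorem he8 : Has e8 := Has.word ce8 (List.forall_mem_cons.2 ⟨ht11, List.forall_mem_cons.2 ⟨ht2, List.forall_mem_cons.2 ⟨ht9, List.forall_mem_nil _⟩⟩⟩)
theorem ce9 : chkW 552 10 [t11, t7, t4, t12, t13] e9 [0, 1, 2, 3, 4] = true := by decide +kernel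
theorem he9 : Has e9 := Has.word ce9 (List.forall_mem_cons.2 ⟨ht11, List.forall_mem_cons.2 ⟨ht7, List.forall_mem_cons.2 ⟨ht4, List.forall_mem_cons.2 ⟨ht12, List.forall_mem_cons.2 ⟨ht13, List.forall_mem_nil _⟩⟩⟩⟩⟩)
theorem ce10 : chkW 552 10 [e9] e10 [0, 0, 0, 0] = true := by decide +kernel
theorem he10 : Has e10 := Has.word ce10 (List.forall_mem_cons.2 ⟨he9, List.forall_mem_nil _⟩)
theorem ce11 : chkW 552 10 [p17, e10, e9] e11 [0, 1, 0, 2] = true := by decide +kernel
theorem he11 : Has e11 := Has.word ce11 (List.forall_mem_cons.2 ⟨hp17, List.forall_mem_cons.2 ⟨he10, List.forall_mem_cons.2 ⟨he9, List.forall_mem_nil _⟩⟩⟩)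
theorem ce12 : chkW 552 10 [e11] e12 [0, 0, 0, 0, 0] = true := by decide +kernel
theorem he12 : Has e12 := Has.word ce12 (List.forall_mem_cons.2 ⟨he11, List.forall_mem_nil _⟩)
theorem ce13 : chkW 552 10 [t3, t12, t5, t8, t9] e13 [0, 1, 2, 2, 3, 4] = true := by decide +kernel
theorem he13 : Has e13 := Has.word ce13 (List.forall_mem_cons.2 ⟨ht3, List.forall_mem_cons.2 ⟨ht12, List.forall_mem_cons.2 ⟨ht5, List.forall_mem_cons.2 ⟨ht8, List.forall_mem_cons.2 ⟨ht9, List.forall_mem_nil _⟩⟩⟩⟩⟩)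
theorem ce14 : chkW 552 10 [e13] e14 [0, 0, 0, 0, 0, 0, 0] = true := by decide +kernel
theorem he14 : Has e14 := Has.word ce14 (List.forall_mem_cons.2 ⟨he13, List.forall_mem_nil _⟩)
theorem ce15 : chkW 552 10 [p17, e14, e13] e15 [0, 1, 0, 2] = true := by decide +kernel
theorem he15 : Has e15 := Has.word ce15 (List.forall_mem_cons.2 ⟨hp17, List.forall_mem_cons.2 ⟨he14, List.forall_mem_cons.2 ⟨he13, List.forall_mem_nil _⟩⟩⟩)
theorem ce16 : chkW 552 10 [e13, e15] e16 [0, 1] = true := by decide +kernel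
theorem he16 : Has e16 := Has.word ce16 (List.forall_mem_cons.2 ⟨he13, List.forall_mem_cons.2 ⟨he15, List.forall_mem_nil _⟩⟩)
theorem ce17 : chkW 552 10 [t13, t3, t15, t2] e17 [0, 1, 2, 3] = true := by decide +kernel
theorem he17 : Has e17 := Has.word ce17 (List.forall_mem_cons.2 ⟨ht13, List.forall_mem_cons.2 ⟨ht3, List.forall_mem_cons.2 ⟨ht15, List.forall_mem_cons.2 ⟨ht2, List.forall_mem_nil _⟩⟩⟩⟩)
theorem ce18 : chkW 552 10 [e17] e18 [0, 0, 0, 0, 0, 0, 0, 0, 0, 0, 0, 0, 0, 0, 0, 0, 0, 0, 0, 0, 0] = true := by decide +kernel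
theorem he18 : Has e18 := Has.word ce18 (List.forall_mem_cons.2 ⟨he17, List.forall_mem_nil _⟩)
theorem ce19 : chkW 552 10 [p17, e18, e17] e19 [0, 1, 0, 2] = true := by decide +kernel
theorem he19 : Has e19 := Has.word ce19 (List.forall_mem_cons.2 ⟨hp17, List.forall_mem_cons.2 ⟨he18, List.forall_mem_cons.2 ⟨he17, List.forall_mem_nil _⟩⟩⟩)
theorem ce20 : chkW 552 10 [e19] e20 [0, 0, 0] = true := by decide +kernel
theorem he20 : Has e20 := Has.word ce20 (List.forall_mem_cons.2 ⟨he19, List.forall_mem_nil _⟩)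
theorem ce21 : chkW 552 10 [t2, t10, t3] e21 [0, 1, 2, 0] = true := by decide +kernel
theorem he21 : Has e21 := Has.word ce21 (List.forall_mem_cons.2 ⟨ht2, List.forall_mem_cons.2 ⟨ht10, List.forall_mem_cons.2 ⟨ht3, List.forall_mem_nil _⟩⟩⟩)
theorem ce22 : chkW 552 10 [e21] e22 [0, 0, 0, 0, 0] = true := by decide +kernel
theorem he22 : Has e22 := Has.word ce22 (List.forall_mem_cons.2 ⟨he21, List.forall_mem_nil _⟩)
theorem ce23 : chkW 552 10 [p17, e22, e21] e23 [0, 1, 0, 2] = true := by decide +kernel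
theorem he23 : Has e23 := Has.word ce23 (List.forall_mem_cons.2 ⟨hp17, List.forall_mem_cons.2 ⟨he22, List.forall_mem_cons.2 ⟨he21, List.forall_mem_nil _⟩⟩⟩)
theorem ce24 : chkW 552 10 [e21, e23] e24 [0, 1] = true := by decide +kernel
theorem he24 : Has e24 := Has.word ce24 (List.forall_mem_cons.2 ⟨he21, List.forall_mem_cons.2 ⟨he23, List.forall_mem_nil _⟩⟩)
theorem ce25 : chkW 552 10 [e2, e6] e25 [0, 1] = true := by decide +kernel
theorem he25 : Has e25 := Has.word ce25 (List.forall_mem_cons.2 ⟨he2, List.forall_mem_cons.2 ⟨he6, List.forall_mem_nil _⟩⟩)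
theorem ce26 : chkW 552 10 [e25] e26 [0, 0, 0, 0] = true := by decide +kernel
theorem he26 : Has e26 := Has.word ce26 (List.forall_mem_cons.2 ⟨he25, List.forall_mem_nil _⟩)
theorem ce27 : chkW 552 10 [t0, e4, e2, e5] e27 [0, 1, 2, 3] = true := by decide +kernel
theorem he27 : Has e27 := Has.word ce27 (List.forall_mem_cons.2 ⟨ht0, List.forall_mem_cons.2 ⟨he4, List.forall_mem_cons.2 ⟨he2, List.forall_mem_cons.2 ⟨he5, List.forall_mem_nil _⟩⟩⟩⟩)
theorem ce28 : chkW 552 10 [e27] e28 [0, 0] = true := by decide +kernel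
theorem he28 : Has e28 := Has.word ce28 (List.forall_mem_cons.2 ⟨he27, List.forall_mem_nil _⟩)
theorem ce29 : chkW 552 10 [e5, e7, e4, t0] e29 [0, 1, 2, 3] = true := by decide +kernel
theorem he29 : Has e29 := Has.word ce29 (List.forall_mem_cons.2 ⟨he5, List.forall_mem_cons.2 ⟨he7, List.forall_mem_cons.2 ⟨he4, List.forall_mem_cons.2 ⟨ht0, List.forall_mem_nil _⟩⟩⟩⟩)
theorem ce30 : chkW 552 10 [e29] e30 [0, 0] = true := by decide +kernel
theorem he30 : Has e30 := Has.word ce30 (List.forall_mem_cons.2 ⟨he29, List.forall_mem_nil _⟩)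
theorem ce31 : chkW 552 10 [e26] e31 [0, 0, 0, 0] = true := by decide +kernel
theorem he31 : Has e31 := Has.word ce31 (List.forall_mem_cons.2 ⟨he26, List.forall_mem_nil _⟩)
theorem ce32 : chkW 552 10 [e28] e32 [0, 0, 0, 0] = true := by decide +kernel
theorem he32 : Has e32 := Has.word ce32 (List.forall_mem_cons.2 ⟨he28, List.forall_mem_nil _⟩)
theorem ce33 : chkW 552 10 [e30] e33 [0, 0, 0, 0] = true := by decide +kernel
theorem he33 : Has e33 := Has.word ce33 (List.forall_mem_cons.2 ⟨he30, List.forall_mem_nil _⟩)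
theorem ce34 : chkW 552 10 [e28, e33] e34 [0, 1] = true := by decide +kernel
theorem he34 : Has e34 := Has.word ce34 (List.forall_mem_cons.2 ⟨he28, List.forall_mem_cons.2 ⟨he33, List.forall_mem_nil _⟩⟩)
theorem ce35 : chkW 552 10 [e34] e35 [0, 0, 0] = true := by decide +kernel
theorem he35 : Has e35 := Has.word ce35 (List.forall_mem_cons.2 ⟨he34, List.forall_mem_nil _⟩)
theorem ce36 : chkW 552 10 [t2, t0, t4, t11, t9] e36 [0, 1, 2, 3, 4] = true := by decide +kernel
theorem he36 : Has e36 := Has.word ce36 (List.forall_mem_cons.2 ⟨ht2, List.forall_mem_cons.2 ⟨ht0, List.forall_mem_cons.2 ⟨ht4, List.forall_mem_cons.2 ⟨ht11, List.forall_mem_cons.2 ⟨ht9, List.forall_mem_nil _⟩⟩⟩⟩⟩)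
theorem ce37 : chkW 552 10 [e36] e37 [0, 0, 0, 0, 0, 0, 0] = true := by decide +kernel
theorem he37 : Has e37 := Has.word ce37 (List.forall_mem_cons.2 ⟨he36, List.forall_mem_nil _⟩)
theorem ce38 : chkW 552 10 [e35, e37, e36] e38 [0, 1, 0, 2] = true := by decide +kernel
theorem he38 : Has e38 := Has.word ce38 (List.forall_mem_cons.2 ⟨he35, List.forall_mem_cons.2 ⟨he37, List.forall_mem_cons.2 ⟨he36, List.forall_mem_nil _⟩⟩⟩)
theorem ce39 : chkW 552 10 [e36, e38] e39 [0, 1] = true := by decide +kernel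
theorem he39 : Has e39 := Has.word ce39 (List.forall_mem_cons.2 ⟨he36, List.forall_mem_cons.2 ⟨he38, List.forall_mem_nil _⟩⟩)
theorem ce40 : chkW 552 10 [t1, t7] e40 [0, 1] = true := by decide +kernel
theorem he40 : Has e40 := Has.word ce40 (List.forall_mem_cons.2 ⟨ht1, List.forall_mem_cons.2 ⟨ht7, List.forall_mem_nil _⟩⟩)
theorem ce41 : chkW 552 10 [e40] e41 [0, 0, 0, 0, 0] = true := by decide +kernel
theorem he41 : Has e41 := Has.word ce41 (List.forall_mem_cons.2 ⟨he40, List.forall_mem_nil _⟩)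
theorem ce42 : chkW 552 10 [e35, e41, e40] e42 [0, 1, 0, 2] = true := by decide +kernel
theorem he42 : Has e42 := Has.word ce42 (List.forall_mem_cons.2 ⟨he35, List.forall_mem_cons.2 ⟨he41, List.forall_mem_cons.2 ⟨he40, List.forall_mem_nil _⟩⟩⟩)
theorem ce43 : chkW 552 10 [e40, e42] e43 [0, 1, 1] = true := by decide +kernel
theorem he43 : Has e43 := Has.word ce43 (List.forall_mem_cons.2 ⟨he40, List.forall_mem_cons.2 ⟨he42, List.forall_mem_nil _⟩⟩)
theorem ce44 : chkW 552 10 [p40, e39, e43] e44 [0, 1, 2] = true := by decide +kernel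
theorem he44 : Has e44 := Has.word ce44 (List.forall_mem_cons.2 ⟨hp40, List.forall_mem_cons.2 ⟨he39, List.forall_mem_cons.2 ⟨he43, List.forall_mem_nil _⟩⟩⟩)
theorem ce45 : chkW 552 10 [e44] e45 [0, 0, 0, 0, 0, 0] = true := by decide +kernel
theorem he45 : Has e45 := Has.word ce45 (List.forall_mem_cons.2 ⟨he44, List.forall_mem_nil _⟩)
theorem ce46 : chkW 552 10 [e8, e2] e46 [0, 1] = true := by decide +kernel
theorem he46 : Has e46 := Has.word ce46 (List.forall_mem_cons.2 ⟨he8, List.forall_mem_cons.2 ⟨he2, List.forall_mem_nil _⟩⟩)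
theorem ce47 : chkW 552 10 [e46] e47 [0, 0, 0] = true := by decide +kernel
theorem he47 : Has e47 := Has.word ce47 (List.forall_mem_cons.2 ⟨he46, List.forall_mem_nil _⟩)
theorem ce48 : chkW 552 10 [e47] e48 [0, 0] = true := by decide +kernel
theorem he48 : Has e48 := Has.word ce48 (List.forall_mem_cons.2 ⟨he47, List.forall_mem_nil _⟩)
theorem ce49 : chkW 552 10 [e48, e5] e49 [0, 1, 0, 1] = true := by decide +kernel
theorem he49 : Has e49 := Has.word ce49 (List.forall_mem_cons.2 ⟨he48, List.forall_mem_cons.2 ⟨he5, List.forall_mem_nil _⟩⟩)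
theorem ce50 : chkW 552 10 [e48, e3] e50 [0, 1, 0, 1] = true := by decide +kernel
theorem he50 : Has e50 := Has.word ce50 (List.forall_mem_cons.2 ⟨he48, List.forall_mem_cons.2 ⟨he3, List.forall_mem_nil _⟩⟩)
theorem ce51 : chkW 552 10 [e3, e50] e51 [0, 1] = true := by decide +kernel
theorem he51 : Has e51 := Has.word ce51 (List.forall_mem_cons.2 ⟨he3, List.forall_mem_cons.2 ⟨he50, List.forall_mem_nil _⟩⟩)
theorem ce52 : chkW 552 10 [e2, t0] e52 [0, 1] = true := by decide +kernel
theorem he52 : Has e52 := Has.word ce52 (List.forall_mem_cons.2 ⟨he2, List.forall_mem_cons.2 ⟨ht0, List.forall_mem_nil _⟩⟩)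
theorem ce53 : chkW 552 10 [e52] e53 [0, 0, 0, 0, 0] = true := by decide +kernel
theorem he53 : Has e53 := Has.word ce53 (List.forall_mem_cons.2 ⟨he52, List.forall_mem_nil _⟩)
theorem ce54 : chkW 552 10 [e48, e53, e52] e54 [0, 1, 0, 2] = true := by decide +kernel
theorem he54 : Has e54 := Has.word ce54 (List.forall_mem_cons.2 ⟨he48, List.forall_mem_cons.2 ⟨he53, List.forall_mem_cons.2 ⟨he52, List.forall_mem_nil _⟩⟩⟩)
theorem ce55 : chkW 552 10 [e52, e54] e55 [0, 1] = true := by decide +kernel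
theorem he55 : Has e55 := Has.word ce55 (List.forall_mem_cons.2 ⟨he52, List.forall_mem_cons.2 ⟨he54, List.forall_mem_nil _⟩⟩)
theorem ce56 : chkW 552 10 [e55, e49, e51] e56 [0, 1, 2] = true := by decide +kernel
theorem he56 : Has e56 := Has.word ce56 (List.forall_mem_cons.2 ⟨he55, List.forall_mem_cons.2 ⟨he49, List.forall_mem_cons.2 ⟨he51, List.forall_mem_nil _⟩⟩⟩)
theorem ce57 : chkW 552 10 [e16, e12, p40] e57 [0, 1, 2, 0, 0] = true := by decide +kernel
theorem he57 : Has e57 := Has.word ce57 (List.forall_mem_cons.2 ⟨he16, List.forall_mem_cons.2 ⟨he12, List.forall_mem_cons.2 ⟨hp40, List.forall_mem_nil _⟩⟩⟩)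
theorem ce58 : chkW 552 10 [e57] e58 [0, 0] = true := by decide +kernel
theorem he58 : Has e58 := Has.word ce58 (List.forall_mem_cons.2 ⟨he57, List.forall_mem_nil _⟩)
theorem ce59 : chkW 552 10 [p40, e20, e12, e24] e59 [0, 0, 1, 2, 3] = true := by decide +kernel
theorem he59 : Has e59 := Has.word ce59 (List.forall_mem_cons.2 ⟨hp40, List.forall_mem_cons.2 ⟨he20, List.forall_mem_cons.2 ⟨he12, List.forall_mem_cons.2 ⟨he24, List.forall_mem_nil _⟩⟩⟩⟩)
theorem ce60 : chkW 552 10 [e58] e60 [0, 0, 0, 0, 0, 0, 0, 0, 0, 0] = true := by decide +kernel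
theorem he60 : Has e60 := Has.word ce60 (List.forall_mem_cons.2 ⟨he58, List.forall_mem_nil _⟩)
theorem ce61 : chkW 552 10 [e59] e61 [0, 0, 0, 0, 0, 0, 0, 0, 0, 0] = true := by decide +kernel
theorem he61 : Has e61 := Has.word ce61 (List.forall_mem_cons.2 ⟨he59, List.forall_mem_nil _⟩)
theorem ce62 : chkW 552 10 [e59, e58] e62 [0, 1] = true := by decide +kernel
theorem he62 : Has e62 := Has.word ce62 (List.forall_mem_cons.2 ⟨he59, List.forall_mem_cons.2 ⟨he58, List.forall_mem_nil _⟩⟩)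
theorem ce63 : chkW 552 10 [e62] e63 [0, 0] = true := by decide +kernel
theorem he63 : Has e63 := Has.word ce63 (List.forall_mem_cons.2 ⟨he62, List.forall_mem_nil _⟩)
theorem ce64 : chkW 552 10 [e58, e59] e64 [0, 0, 1] = true := by decide +kernel
theorem he64 : Has e64 := Has.word ce64 (List.forall_mem_cons.2 ⟨he58, List.forall_mem_cons.2 ⟨he59, List.forall_mem_nil _⟩⟩)
theorem ce65 : chkW 552 10 [e64] e65 [0, 0, 0, 0, 0, 0, 0, 0, 0, 0] = true := by decide +kernel
theorem he65 : Has e65 := Has.word ce65 (List.forall_mem_cons.2 ⟨he64, List.forall_mem_nil _⟩)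
theorem ce66 : chkW 552 10 [e63, e65, e64] e66 [0, 1, 0, 2] = true := by decide +kernel
theorem he66 : Has e66 := Has.word ce66 (List.forall_mem_cons.2 ⟨he63, List.forall_mem_cons.2 ⟨he65, List.forall_mem_cons.2 ⟨he64, List.forall_mem_nil _⟩⟩⟩)
theorem ce67 : chkW 552 10 [e66] e67 [0, 0, 0] = true := by decide +kernel
theorem he67 : Has e67 := Has.word ce67 (List.forall_mem_cons.2 ⟨he66, List.forall_mem_nil _⟩)
theorem ce68 : chkW 552 10 [e63, e60, e58] e68 [0, 1, 0, 2] = true := by decide +kernel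
theorem he68 : Has e68 := Has.word ce68 (List.forall_mem_cons.2 ⟨he63, List.forall_mem_cons.2 ⟨he60, List.forall_mem_cons.2 ⟨he58, List.forall_mem_nil _⟩⟩⟩)
theorem ce69 : chkW 552 10 [e68] e69 [0, 0] = true := by decide +kernel
theorem he69 : Has e69 := Has.word ce69 (List.forall_mem_cons.2 ⟨he68, List.forall_mem_nil _⟩)
theorem ce70 : chkW 552 10 [e58, e59] e70 [0, 1] = true := by decide +kernel
theorem he70 : Has e70 := Has.word ce70 (List.forall_mem_cons.2 ⟨he58, List.forall_mem_cons.2 ⟨he59, List.forall_mem_nil _⟩⟩)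
theorem ce71 : chkW 552 10 [e59] e71 [0, 0] = true := by decide +kernel
theorem he71 : Has e71 := Has.word ce71 (List.forall_mem_cons.2 ⟨he59, List.forall_mem_nil _⟩)
theorem ce72 : chkW 552 10 [e71] e72 [0, 0, 0, 0, 0, 0, 0, 0, 0, 0] = true := by decide +kernel
theorem he72 : Has e72 := Has.word ce72 (List.forall_mem_cons.2 ⟨he71, List.forall_mem_nil _⟩)
theorem ce73 : chkW 552 10 [e63, e72, e71] e73 [0, 1, 0, 2] = true := by decide +kernel
theorem he73 : Has e73 := Has.word ce73 (List.forall_mem_cons.2 ⟨he63, List.forall_mem_cons.2 ⟨he72, List.forall_mem_cons.2 ⟨he71, List.forall_mem_nil _⟩⟩⟩)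
theorem ce74 : chkW 552 10 [e73] e74 [0, 0] = true := by decide +kernel
theorem he74 : Has e74 := Has.word ce74 (List.forall_mem_cons.2 ⟨he73, List.forall_mem_nil _⟩)
theorem ce75 : chkW 552 10 [e69, e62] e75 [0, 1] = true := by decide +kernel
theorem he75 : Has e75 := Has.word ce75 (List.forall_mem_cons.2 ⟨he69, List.forall_mem_cons.2 ⟨he62, List.forall_mem_nil _⟩⟩)
theorem ce76 : chkW 552 10 [e74, e67] e76 [0, 1] = true := by decide +kernel
theorem he76 : Has e76 := Has.word ce76 (List.forall_mem_cons.2 ⟨he74, List.forall_mem_cons.2 ⟨he67, List.forall_mem_nil _⟩⟩)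
theorem ce77 : chkW 552 10 [e58] e77 [0, 0] = true := by decide +kernel
theorem he77 : Has e77 := Has.word ce77 (List.forall_mem_cons.2 ⟨he58, List.forall_mem_nil _⟩)
theorem ce78 : chkW 552 10 [e77] e78 [0, 0, 0, 0, 0, 0, 0, 0, 0, 0] = true := by decide +kernel
theorem he78 : Has e78 := Has.word ce78 (List.forall_mem_cons.2 ⟨he77, List.forall_mem_nil _⟩)
theorem ce79 : chkW 552 10 [e70] e79 [0, 0] = true := by decide +kernel
theorem he79 : Has e79 := Has.word ce79 (List.forall_mem_cons.2 ⟨he70, List.forall_mem_nil _⟩)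
theorem ce80 : chkW 552 10 [e79, e65, e64] e80 [0, 1, 0, 2] = true := by decide +kernel
theorem he80 : Has e80 := Has.word ce80 (List.forall_mem_cons.2 ⟨he79, List.forall_mem_cons.2 ⟨he65, List.forall_mem_cons.2 ⟨he64, List.forall_mem_nil _⟩⟩⟩)
theorem ce81 : chkW 552 10 [e80] e81 [0, 0] = true := by decide +kernel
theorem he81 : Has e81 := Has.word ce81 (List.forall_mem_cons.2 ⟨he80, List.forall_mem_nil _⟩)
theorem ce82 : chkW 552 10 [e79, e72, e71] e82 [0, 1, 0, 2] = true := by decide +kernel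
theorem he82 : Has e82 := Has.word ce82 (List.forall_mem_cons.2 ⟨he79, List.forall_mem_cons.2 ⟨he72, List.forall_mem_cons.2 ⟨he71, List.forall_mem_nil _⟩⟩⟩)
theorem ce83 : chkW 552 10 [e82] e83 [0, 0] = true := by decide +kernel
theorem he83 : Has e83 := Has.word ce83 (List.forall_mem_cons.2 ⟨he82, List.forall_mem_nil _⟩)
theorem ce84 : chkW 552 10 [e79, e78, e77] e84 [0, 1, 0, 2] = true := by decide +kernel
theorem he84 : Has e84 := Has.word ce84 (List.forall_mem_cons.2 ⟨he79, List.forall_mem_cons.2 ⟨he78, List.forall_mem_cons.2 ⟨he77, List.forall_mem_nil _⟩⟩⟩)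
theorem ce85 : chkW 552 10 [e84] e85 [0, 0] = true := by decide +kernel
theorem he85 : Has e85 := Has.word ce85 (List.forall_mem_cons.2 ⟨he84, List.forall_mem_nil _⟩)
theorem ce86 : chkW 552 10 [e81, e85, e83] e86 [0, 1, 2] = true := by decide +kernel
theorem he86 : Has e86 := Has.word ce86 (List.forall_mem_cons.2 ⟨he81, List.forall_mem_cons.2 ⟨he85, List.forall_mem_cons.2 ⟨he83, List.forall_mem_nil _⟩⟩⟩)

/-- the letters and their inverses -/
noncomputable def Yt : List ℕ := [e26, e28, e30, e31, e32, e33]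
noncomputable def Yi : List ℕ := [e31, e32, e33, e26, e28, e30]
noncomputable def Zt : List ℕ := [e26, e28, e30, e31, e32, e33, e44, e45]
noncomputable def Zi : List ℕ := [e31, e32, e33, e26, e28, e30, e45, e44]
noncomputable def Mt : List ℕ := [e58, e59, e60, e61]
noncomputable def Mi : List ℕ := [e60, e61, e58, e59]

theorem hYt : ∀ P ∈ Yt, Has P := List.forall_mem_cons.2 ⟨he26, List.forall_mem_cons.2 ⟨he28, List.forall_mem_cons.2 ⟨he30, List.forall_mem_cons.2 ⟨he31, List.forall_mem_cons.2 ⟨he32, List.forall_mem_cons.2 ⟨he33, List.forall_mem_nil _⟩⟩⟩⟩⟩⟩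
theorem hYi : ∀ P ∈ Yi, Has P := List.forall_mem_cons.2 ⟨he31, List.forall_mem_cons.2 ⟨he32, List.forall_mem_cons.2 ⟨he33, List.forall_mem_cons.2 ⟨he26, List.forall_mem_cons.2 ⟨he28, List.forall_mem_cons.2 ⟨he30, List.forall_mem_nil _⟩⟩⟩⟩⟩⟩
theorem hZt : ∀ P ∈ Zt, Has P := List.forall_mem_cons.2 ⟨he26, List.forall_mem_cons.2 ⟨he28, List.forall_mem_cons.2 ⟨he30, List.forall_mem_cons.2 ⟨he31, List.forall_mem_cons.2 ⟨he32, List.forall_mem_cons.2 ⟨he33, List.forall_mem_cons.2 ⟨he44, List.forall_mem_cons.2 ⟨he45, List.forall_mem_nil _⟩⟩⟩⟩⟩⟩⟩⟩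
theorem hZi : ∀ P ∈ Zi, Has P := List.forall_mem_cons.2 ⟨he31, List.forall_mem_cons.2 ⟨he32, List.forall_mem_cons.2 ⟨he33, List.forall_mem_cons.2 ⟨he26, List.forall_mem_cons.2 ⟨he28, List.forall_mem_cons.2 ⟨he30, List.forall_mem_cons.2 ⟨he45, List.forall_mem_cons.2 ⟨he44, List.forall_mem_nil _⟩⟩⟩⟩⟩⟩⟩⟩
theorem hMt : ∀ P ∈ Mt, Has P := List.forall_mem_cons.2 ⟨he58, List.forall_mem_cons.2 ⟨he59, List.forall_mem_cons.2 ⟨he60, List.forall_mem_cons.2 ⟨he61, List.forall_mem_nil _⟩⟩⟩⟩
theorem hMi : ∀ P ∈ Mi, Has P := List.forall_mem_cons.2 ⟨he60, List.forall_mem_cons.2 ⟨he61, List.forall_mem_cons.2 ⟨he58, List.forall_mem_cons.2 ⟨he59, List.forall_mem_nil _⟩⟩⟩⟩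

/-- `P ^ k = 1` -/
noncomputable def chkP (P k : ℕ) : Bool := allN (fun p => Nat.beq (it 10 P k p) p) 552

theorem iY : allN (fun i => chkI 552 10 (nth Yt i) (nth Yi i)) 6 = true := by decide +kernel
theorem iZ : allN (fun i => chkI 552 10 (nth Zt i) (nth Zi i)) 8 = true := by decide +kernel
theorem iM : allN (fun i => chkI 552 10 (nth Mt i) (nth Mi i)) 4 = true := by decide +kernel
theorem mY : allN (fun i => chkM 552 10 (nth Yt i) p40) 6 = true := by decide +kernel
theorem mM : allN (fun i => chkM 552 10 (nth Mt i) p17) 4 = true := by decide +kernel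
theorem pY : allN (fun i => chkP (nth Yt i) 5) 6 = true := by decide +kernel
theorem mz : chkM 552 10 e44 e35 = true := by decide +kernel
theorem mz' : chkM 552 10 e45 e35 = true := by decide +kernel
theorem pz : chkP e44 7 = true := by decide +kernel
theorem pz' : chkP e45 7 = true := by decide +kernel
theorem w2 : chkW 552 10 Yt e35 [1, 5, 1, 5, 1, 5] = true := by decide +kernel
theorem pp0 : chkI 552 10 p40 p40 = true := by decide +kernel
theorem pp1 : chkI 552 10 p17 p17 = true := by decide +kernel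
theorem pp2 : chkI 552 10 e35 e35 = true := by decide +kernel
/-- codes -/
noncomputable def kT : List ℕ := [0x6442, 0x6616, 0x6124, 0x223, 0x32, 0x1, 0x6456, 0x6126, 0x326, 0x312, 0x6564, 0x456, 0x6624, 0x6645, 0x132, 0x1122, 0x64, 0x6231, 0x332, 0x6451, 0x6121, 0x161, 0x151, 0x335, 0x164, 0x453, 0x261, 0x34, 0x6556, 0x1261, 0x6516, 0x65, 0x11, 0x6656, 0x331, 0x351, 0x61, 0x6265, 0x266, 0x322, 0x1622, 0x4, 0x613, 0x33, 0x1351, 0x1266, 0x1151, 0x1324, 0x6112, 0x354, 0x443, 0x6455, 0x1321, 0x1344, 0x6462, 0x6132, 0x153, 0x612, 0x45, 0x1645, 0x1642, 0x1612, 0x6242, 0x653, 0x16, 0x643, 0x646, 0x6243, 0x1153, 0x1653, 0x6615, 0x321, 0x1356, 0x221, 0x344, 0x13, 0x6211, 0x461, 0x6611, 0x24, 0x1132, 0x6216, 0x2, 0x246, 0x44, 0x116, 0x6561, 0x6566, 0x623, 0x6221, 0x6226, 0x1124, 0x6453, 0x1355, 0x6422, 0x235, 0x115, 0x645, 0x112, 0x162, 0x6423, 0x1651, 0x1156, 0x6164, 0x12, 0x1312, 0x245, 0x6612, 0x6123, 0x323, 0x1164, 0x23, 0x6154, 0x435, 0x665, 0x1543, 0x465, 0x6655, 0x343,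 0x6232, 0x242, 0x134, 0x131, 0x166, 0x6623, 0x661, 0x1644, 0x6426, 0x6445, 0x1165, 0x121, 0x324, 0x1262, 0x234, 0x1516, 0x6135, 0x622, 0x1213, 0x6134, 0x462, 0x1342, 0x1315, 0x6166, 0x6542, 0x66, 0x1353, 0x6621, 0x6244, 0x1654, 0x6215, 0x43, 0x6224, 0x1323, 0x346, 0x6264, 0x6443, 0x2611, 0x6233, 0x265, 0x123, 0x316, 0x35, 0x6512, 0x6151, 0x233, 0x264, 0x126, 0x311, 0x626, 0x1664, 0x1621, 0x644, 0x431, 0x62, 0x46, 0x1232, 0x1155, 0x1234, 0x621, 0x1542, 0x156, 0x232, 0x1345, 0x6644, 0x432, 0x342, 0x26, 0x345, 0x6513, 0x1235, 0x31, 0x6626, 0x6155, 0x6562, 0x315, 0x135, 0x1662, 0x2615, 0x224, 0x464, 0x6, 0x6534, 0x6223, 0x624, 0x6162, 0x334, 0x433, 0x2613, 0x655, 0x154, 0x1264, 0x1216, 0x6212, 0x1534, 0x6565, 0x1126, 0x6511, 0x656, 0x1656, 0x6246, 0x6651, 0, 0x2661, 0x1626, 0x6532, 0x6131, 0x6653, 0x3, 0x6654, 0x1322, 0x226, 0x6554, 0x1661, 0x6153, 0x1135, 0x15, 0x6161, 0x243, 0x22, 0x654, 0x651, 0x1561, 0x113, 0x6235, 0x662, 0x6531, 0x6535, 0x6156, 0x6553, 0x6266, 0x6262,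 0x611, 0x6424, 0x6261, 0x6434, 0x165, 0x262, 0x6245, 0x1655, 0x642, 0x616, 0x6642, 0x6622, 0x231, 0x615, 0x356, 0x6122, 0x6435, 0x1533, 0x6165, 0x353, 0x6113, 0x1513, 0x664]
theorem oT : chkO 552 10 6 Yt Yi e35 4 [0, 1, 4, 5, 26] kT = true := by decide +kernel
theorem lT : kT.length = 274 := rfl
/-- codes -/
noncomputable def kF : List ℕ := [0x7161, 0x6327, 0x68263, 0x6158, 0x6818, 0x63, 0x711, 0x68117, 0x7512, 0x6322, 0x7286, 0x7571, 0x6334, 0x6356, 0x6563, 0x6132, 0x6878, 0x7132, 0x681, 0x732, 0x7137, 0x68231, 0x7771, 0x622, 0x6275, 0x68118, 0x68154, 0x7875, 0x634, 0x7366, 0x6265, 0x68178, 0x68235, 0x68264, 0x688, 0x6288, 0x68151, 0x6537, 0x7587, 0x6428, 0x6266, 0x7261, 0x6661, 0x6688, 0x771, 0x7215, 0x7585, 0x7717, 0x7511, 0x6612, 0x7423, 0x6858, 0x6532, 0x6124, 0x6433, 0x6665, 0x65, 0x7117, 0x68868, 0x7421, 0x6215, 0x6364, 0x7813, 0x7882, 0x6821, 0x657, 0x68161, 0x68216, 0x7323, 0x7227, 0x6511, 0x61, 0x7563, 0x6684, 0x6865, 0x7865, 0x7446, 0x7223, 0x772, 0x7548,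 0x6223, 0x7312, 0x68133, 0x6574, 0x7173, 0x636, 0x7378, 0x68228, 0x7748, 0x6366, 0x7181, 0x721, 0x6548, 0x686, 0x6178, 0x7171, 0x6247, 0x6484, 0x68174, 0x7331, 0x6328, 0x7328, 0x68818, 0x6171, 0x68124, 0x7126, 0x785, 0x6887, 0x7543, 0x743, 0x68424, 0x632, 0x68184, 0x7868, 0x68275, 0x7431, 0x6177, 0x7243, 0x685, 0x7471, 0x6277, 0x68436, 0x7772, 0x6686, 0x68128, 0x68278, 0x7335, 0x6824, 0x6151, 0x6845, 0x6323, 0x7281, 0x7844, 0x6181, 0x6585, 0x68871, 0x7554, 0x7343, 0x6861, 0x7315, 0x6466, 0x7468, 0x7247, 0x7213, 0x6216, 0x7166, 0x6166, 0x6864, 0x7872, 0x7747, 0x6187, 0x781, 0x7372, 0x6446, 0x7727, 0x68442, 0x6427, 0x6424, 0x6331, 0x6316, 0x6662, 0x7758, 0x68816, 0x6454, 0x68875, 0x7354, 0x7454, 0x7581, 0x6533, 0x7547, 0x753, 0x68212, 0x624, 0x68277, 0x6261, 0x7556, 0x628, 0x6531, 0x6544, 0x68237, 0x7347, 0x7488, 0x68186, 0x778, 0x6855, 0x646, 0x7886, 0x7533, 0x6368, 0x68842, 0x751, 0x651, 0x6213, 0x775, 0x7, 0x6547, 0x777, 0x75, 0x6317, 0x6157, 0x7275, 0x7737, 0x7277,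 0x7781, 0x6622, 0x68172, 0x6642, 0x6348, 0x6118, 0x744, 0x7358, 0x7535, 0x68121, 0x7546, 0x7482, 0x68824, 0x6378, 0x7881, 0x7353, 0x6881, 0x7344, 0x7424, 0x64, 0x6616, 0x68866, 0x6422, 0x7461, 0x68217, 0x68843, 0x7713, 0x7823, 0x7262, 0x6848, 0x6285, 0x7285, 0x6354, 0x68846, 0x7553, 0x656, 0x7816, 0x7326, 0x6471, 0x77, 0, 0x7718, 0x7187, 0x7316, 0x7745, 0x7317, 0x7724, 0x7153, 0x6643, 0x7723, 0x6651, 0x7477, 0x7711, 0x6613, 0x7562, 0x6562, 0x655, 0x755, 0x68242, 0x7728, 0x7451, 0x7785, 0x7812, 0x6244, 0x68848, 0x613, 0x6221, 0x6873, 0x7873, 0x73, 0x6811, 0x68245, 0x7436, 0x7811, 0x7815, 0x647, 0x6587, 0x7157, 0x7487, 0x742, 0x68164, 0x7465, 0x7211, 0x6812, 0x6248, 0x724, 0x623, 0x7715, 0x6448, 0x68813, 0x68218, 0x7172, 0x7124, 0x6161, 0x6271, 0x68135, 0x68232, 0x713, 0x7422, 0x7536, 0x7216, 0x6487, 0x6644, 0x6885, 0x7154, 0x7155, 0x6551, 0x7575, 0x7237, 0x737, 0x7826, 0x6116, 0x7265, 0x6646, 0x7757, 0x6188, 0x6128, 0x6635, 0x7434, 0x7123, 0x7244, 0x6235, 0x6553,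 0x68226, 0x7177, 0x611, 0x6634, 0x68282, 0x7118, 0x7351, 0x6117, 0x6278, 0x6451, 0x7545, 0x6556, 0x6365, 0x68262, 0x7464, 0x7365, 0x68115, 0x68484, 0x6828, 0x6637, 0x7534, 0x734, 0x6281, 0x6127, 0x7184, 0x6453, 0x6315, 0x7787, 0x7532, 0x6554, 0x666, 0x6566, 0x7226, 0x6457, 0x6827, 0x6633, 0x68815, 0x6185, 0x68828, 0x7185, 0x68127, 0x6121, 0x7773, 0x7874, 0x6226, 0x7756, 0x6886, 0x6344, 0x7481, 0x7518, 0x68822, 0x788, 0x68265, 0x68426, 0x6842, 0x68873, 0x6473, 0x7473, 0x6628, 0x6621, 0x6165, 0x7133, 0x6231, 0x7513, 0x621, 0x6245, 0x6, 0x68246, 0x7736, 0x7817, 0x616, 0x716, 0x7334, 0x7348, 0x626, 0x6246, 0x6375, 0x7782, 0x7321, 0x7375, 0x633, 0x6447, 0x6156, 0x6581, 0x754, 0x717, 0x617, 0x6535, 0x6611, 0x6113, 0x6458, 0x68223, 0x7862, 0x7221, 0x7236, 0x68171, 0x7364, 0x68181, 0x7324, 0x7565, 0x68431, 0x6656, 0x6648, 0x66, 0x7457, 0x6884, 0x6561, 0x612, 0x6455, 0x6311, 0x731, 0x7531, 0x68211, 0x68153, 0x68858, 0x7845, 0x7188, 0x6164, 0x6361, 0x6377, 0x6875, 0x7743,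 0x68113, 0x6233, 0x6155, 0x6623, 0x6475, 0x68856, 0x6871, 0x68163, 0x7136, 0x6336, 0x68137, 0x7847, 0x6374, 0x654, 0x6351, 0x6342, 0x6645, 0x6577, 0x715, 0x7551, 0x68166, 0x6421, 0x71, 0x7362, 0x7755, 0x7248, 0x7212, 0x6853, 0x68878, 0x663, 0x6432, 0x68134, 0x6846, 0x7268, 0x7818, 0x728, 0x7217, 0x68288, 0x6657, 0x6217, 0x6456, 0x7342, 0x7287, 0x6478, 0x7863, 0x7231, 0x7455, 0x7355, 0x6557, 0x68428, 0x7848, 0x6131, 0x6636, 0x6663, 0x722, 0x68215, 0x6227, 0x68423, 0x7463, 0x68861, 0x687, 0x6212, 0x7242, 0x6324, 0x6232, 0x7828, 0x72, 0x7721, 0x7263, 0x6263, 0x68862, 0x62, 0x6262, 0x6218, 0x6472, 0x68132, 0x7442, 0x6442, 0x68162, 0x68116, 0x7165, 0x747, 0x7866, 0x7778, 0x68122, 0x6512, 0x68281, 0x68432, 0x6445, 0x7462, 0x7578, 0x7311, 0x7726, 0x68233, 0x6624, 0x7174, 0x7332, 0x6468, 0x7371, 0x756, 0x68285, 0x6443, 0x68244, 0x7443, 0x6571, 0x6137, 0x661, 0x7851, 0x6851, 0x7885, 0x7345, 0x68487, 0x6362, 0x6163, 0x7573, 0x7377, 0x643, 0x68421, 0x7558, 0x7272, 0x6857, 0x726,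 0x7857, 0x7542, 0x644, 0x68865, 0x6486, 0x684, 0x7116, 0x642, 0x7544, 0x6546, 0x7218, 0x6284, 0x6874, 0x68485, 0x68877, 0x7233, 0x6687, 0x68187, 0x6816, 0x6332, 0x6282, 0x7732, 0x6423, 0x68273, 0x6133, 0x68853, 0x7856, 0x6168, 0x6568, 0x6347, 0x7445, 0x6545, 0x6431, 0x727, 0x6184, 0x7288, 0x6313, 0x7115, 0x6658, 0x6115, 0x6234, 0x7182, 0x6211, 0x6371, 0x6287, 0x68435, 0x6543, 0x7246, 0x6154, 0x6462, 0x68213, 0x7577, 0x6573, 0x7478, 0x6437, 0x6465, 0x6312, 0x6617, 0x68157, 0x7163, 0x7274, 0x637, 0x6668, 0x6682, 0x68422, 0x658, 0x68243, 0x782, 0x6461, 0x6618, 0x7232, 0x68236, 0x6162, 0x68844, 0x6435, 0x7564, 0x6434, 0x7432, 0x6564, 0x7437, 0x68284, 0x6584, 0x6358, 0x7561, 0x7735, 0x7484, 0x7716, 0x68823, 0x6534, 0x787, 0x6627, 0x68177, 0x6844, 0x7453, 0x6372, 0x7235, 0x6631, 0x7733, 0x735, 0x6243, 0x68864, 0x631, 0x7842, 0x68175, 0x757, 0x6847, 0x7821, 0x68437, 0x6482, 0x7271, 0x6862, 0x7537, 0x68272, 0x7458, 0x7574, 0x645, 0x7318, 0x7864, 0x6823, 0x6868, 0x7887, 0x68857,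 0x6286, 0x7516, 0x7164, 0x7775, 0x6357, 0x6872, 0x6664, 0x665, 0x6242, 0x6565, 0x7827, 0x7584, 0x7568, 0x68872, 0x78, 0x773, 0x6882, 0x7168, 0x68, 0x6224, 0x718, 0x6477, 0x7131, 0x6685, 0x6582, 0x68427, 0x7175, 0x6268, 0x7746, 0x6464, 0x7557, 0x6485, 0x7284, 0x7282, 0x7447, 0x6373, 0x7264, 0x6264, 0x68131, 0x68482, 0x68234, 0x68274, 0x7753, 0x7357, 0x7472, 0x68847, 0x6813, 0x7486, 0x6153, 0x6572, 0x7374, 0x6345, 0x68112, 0x7474, 0x7774, 0x68123, 0x6815, 0x68433, 0x668, 0x7586, 0x6355, 0x7843, 0x68165, 0x6236, 0x6474, 0x68266, 0x68845, 0x6856, 0x68227, 0x68261, 0x6136, 0x68817, 0x635, 0x6843, 0x68486, 0x7858, 0x7162, 0x7134, 0x68811, 0x6516, 0x6318, 0x7266, 0x6172, 0x7373, 0x7582, 0x6272, 0x618, 0x6126, 0x68248, 0x7245, 0x6542, 0x6877, 0x7877, 0x68136, 0x68271, 0x68268, 0x746, 0x6578, 0x68182, 0x7426, 0x7517, 0x68855, 0x68488, 0x7336, 0x7751, 0x733, 0x627, 0x7156, 0x664, 0x6588, 0x6817, 0x662, 0x7327, 0x7186, 0x7346, 0x6536, 0x7127, 0x7572, 0x7788, 0x7158, 0x6182,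 0x6863, 0x6463, 0x74, 0x7228, 0x6481, 0x6436, 0x6335, 0x6134, 0x68854, 0x786, 0x6558, 0x68826, 0x6186, 0x7846, 0x6632, 0x7224, 0x6615, 0x7112, 0x6681, 0x6112, 0x615, 0x7448, 0x6488, 0x6175, 0x68874, 0x7456, 0x7861, 0x7878, 0x6655, 0x7588, 0x6822, 0x7822, 0x68168, 0x68156, 0x7273, 0x7731, 0x653, 0x7854, 0x7435, 0x6866, 0x7122, 0x6273, 0x6274, 0x7368, 0x7475, 0x748, 0x7234, 0x6517, 0x6174, 0x68851, 0x7363, 0x68481, 0x6426, 0x6343, 0x7128, 0x6237, 0x6135, 0x6653, 0x784, 0x7742, 0x745, 0x6346, 0x6321, 0x7744, 0x68287, 0x6647, 0x723, 0x6586, 0x68173, 0x7121, 0x6854, 0x68155, 0x68434, 0x648, 0x6122, 0x7178, 0x7113, 0x68185, 0x68224, 0x7786, 0x6228, 0x6518, 0x712, 0x6173, 0x7871, 0x7151, 0x6626, 0x7361, 0x68247, 0x7337, 0x68188, 0x6654, 0x7855, 0x68812, 0x682, 0x7135, 0x7428, 0x7313, 0x7433, 0x7712, 0x68821, 0x6353, 0x7566, 0x6363, 0x7784, 0x7356, 0x758, 0x6326, 0x7884, 0x774, 0x7427, 0x68221, 0x68863, 0x7466, 0x6123, 0x7278, 0x68448, 0x7485, 0x7322, 0x68126, 0x736, 0x6826,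 0x68827]
theorem oF : chkO 552 10 8 Zt Zi p40 5 [0, 1, 4, 5, 26] kF = true := by decide +kernel
theorem lF : kF.length = 936 := rfl
noncomputable def s1 : ℕ := 0x8098083a0388cac8851f3d4fc719bf35d407217c6b94478ddf04d246fa1073e255d9ff3057f751225a96f51a0489227561ac8314738dca6b5a16e5ee0dd9f7a587779b358cd67bdf851520449d97d50e71c5e79526855053fde0851f350dd876dda7a9dc38597732093898a745c983dce529d54f9fc7421979e1d624d970dc27058b872116f46328d7e7e52f634b929da67c87c5d1a7302177ee006ad0f2640b6c1b464c861a8677e9a07d87934c7227054664567586d2943f6959227888108956dd27701d2715617d0b813865188cb60626829ba42618348704781e5c20d5d5b1538b733177818af26d0655a0755d675a166595647c562620112ad5e0a95c061364aa015a56b31935469382746e399733a0df3bdcd525487fa057b616775425061a4f5cb4fd2928461099522ed5a550f44042e31d306e0dd3e8bd041594f0a6631e43b61248e08485ec881794750a46d533110845cf8308f3175eb018ee6a9e81a44c1d11c5f5181056c7883323d024cd00784b43f61e2fd2d23916070f687d34450f2168e052d10494ec0d4b507d4d0754f17c7a7f5d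375cf0530914b8d1350d0710cf86df0354db6757b370da3604a1617160840324c84c555125192cd1582daf3ec2c4b0594dc936d9865c8b03a8fe30c310f8b65b8782b62257c981d8466d5286547e6ec664ec801a1915459b5b49a6a4aa0c096638072e8923785740cf92348222c8a0ed90111a40486c20c8c058a01fca41f5b21cce4678ae154a91490b1ed9c1c57a181506588414da34349f688a2610516f1834e86f395e644c4f16cf12f0cd241981dd9a1ac751901b171850a10c120ce3144b11ca8114870f58f41cca650b110c03224240a4387dc2d3ac23410322c897031320d8be0ad5d0e44d089390943a0d027068203a57839cf7140210355b024810541484c855812b0200e0642f6a00a05c0f25111004040f00201400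
noncomputable def s2 : ℕ := 0x9d6c0312b091a08649f7d548819cd1a1b08857204c9b4bde67dd003bdcc7806a40d1135d095a92e73a1d548093d0bd4709d64d47070e4450ec7c53384d7387c1868c1f7e5d0134260dd700384371c595fe14211d26e5b529e0f1e43b188825c4aa689d513c8a7602a0cde4281f012207872102f0cf544527a4d91680454d161d02160d8e128881609e78d762c035788c25051f3321a644346498255c816413903417008d67cdd920e2245d7542d021e17d4550711c1b300f77fdad6bda91b1be3b4ae4a1124b5234b0f50f00f6fdac2b00b79ca5668c43493e0fcfe241b8678987da1876dec4c0193722638609108014142c0e0b939406508bf430b7354200447219d0f6ac1e438f870e05724f14a8bb3ccc3171322321e7f94021cf249d616cd464197a4ec294f4eb6a0031f43a468007e14a1ed6f85608625878914f4818b50cc91042b62092465296c8e3042011bd35484ce67dc2665fb0158a830de561552a15f674ea828806613f59c168359c28612021780545b0f86e2ad546506361a0353544540d0844a6635fa4e90a2f8c828c3658dfc478ca5ac232e9101996d1dc44718b682da4574640a17b1fcf0729180e5b1118e2498e8068932917c531b415595580e9809cb538df590b2578d8100951c0b8089b71398c029813e5da2390d784ee5f8c539c96405d1881ba8002e858971c574268a22d06d31922049771aca917949051d601dbc514691cde5685dc6a9083443d4dc514c45677d9b36c4c181c12155a264b346cfa2518f23e0e21a1b564dd174d43d9dd0c87514c8d1954b3f1c57a1bb0747a3043117dc81f02f75caf7bc760c1bd0b5cf65ccb094da7a969494b55e4fb1f98577936335657b4e66d9ae74c611504b1409c12566491d44f0d389dee11623380b17015c7c95615dfd658c75b9f4699043f48b85c9156d1d611eb69e25600ad810ff2256244dc44e1a55a134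
/-- codes -/
noncomputable def kR : List ℕ := [0x1233, 0x112, 0x1244, 0x24, 0x655, 0x431, 0x1221, 0x6455, 0x6542, 0x26, 0x546, 0x311, 0x561, 0x44, 0x6655, 0x6211, 0x1656, 0x21, 0x322, 0x6615, 0x16, 0x653, 0x1553, 0x344, 0x6653, 0x45, 0x332, 0x6424, 0, 0x6432, 0x1645, 0x1654, 0x1223, 0x231, 0x235, 0x554, 0x434, 0x3, 0x331, 0x6566, 0x1261, 0x1123, 0x232, 0x12, 0x6564, 0x6553, 0x624, 0x215, 0x661, 0x32, 0x1532, 0x2, 0x165, 0x162, 0x6456, 0x355, 0x6246, 0x453, 0x161, 0x15, 0x446, 0x1124, 0x6126, 0x511, 0x1156, 0x6551, 0x265, 0x261, 0x6621, 0x6644, 0x223, 0x353, 0x6543, 0x122, 0x542, 0x1245, 0x1626, 0x622, 0x216, 0x432, 0x654, 0x6422, 0x224, 0x1556, 0x1231, 0x656, 0x221, 0x233, 0x621, 0x6426, 0x6245, 0x246, 0x445, 0x1612, 0x6162, 0x1213, 0x1242, 0x64, 0x245, 0x1356, 0x121, 0x6622, 0x6642, 0x23, 0x124, 0x6434, 0x6451, 0x6544, 0x351, 0x616, 0x54, 0x6435, 0x1132, 0x465, 0x354, 0x6565, 0x6212, 0x6265, 0x6623, 0x6243, 0x646, 0x664, 0x1616, 0x6264, 0x461, 0x164, 0x1266, 0x556,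 0x115, 0x1622, 0x264, 0x1246, 0x6421, 0x6244, 0x35, 0x645, 0x6511, 0x123, 0x6115, 0x422, 0x1234, 0x535, 0x34, 0x544, 0x6462, 0x6645, 0x66, 0x46, 0x6156, 0x612, 0x1126, 0x1644, 0x135, 0x131, 0x513, 0x113, 0x6531, 0x611, 0x1154, 0x262, 0x153, 0x226, 0x651, 0x1135, 0x343, 0x51, 0x516, 0x6151, 0x662, 0x426, 0x564, 0x1351, 0x11, 0x1264, 0x42, 0x533, 0x6546, 0x421, 0x266, 0x211, 0x356, 0x6534, 0x6155, 0x1355, 0x335, 0x6624, 0x6221, 0x6453, 0x126, 0x1215, 0x6234, 0x55, 0x644, 0x566, 0x543, 0x1321, 0x315, 0x1554, 0x6656, 0x323, 0x4, 0x6651, 0x6423, 0x512, 0x565, 0x6123, 0x424, 0x1623, 0x643, 0x62, 0x33, 0x1322, 0x6533, 0x455, 0x243, 0x615, 0x6224, 0x1224, 0x531, 0x1621, 0x456, 0x6443, 0x312, 0x6561, 0x6121, 0x642, 0x43, 0x31, 0x433, 0x6235, 0x623, 0x342, 0x316, 0x53, 0x61, 0x515, 0x213, 0x212, 0x451, 0x551, 0x1134, 0x6215, 0x462, 0x244, 0x1354, 0x665, 0x56, 0x1211, 0x132, 0x6113, 0x166, 0x6232, 0x1, 0x1216, 0x6166, 0x626, 0x1615, 0x1642, 0x442, 0x534, 0x6, 0x6445, 0x5, 0x1155,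 0x562, 0x22, 0x155, 0x6446, 0x65, 0x1265, 0x13, 0x324, 0x464, 0x1651]
theorem oR : chkO 552 10 6 Yt Yi s1 4 [0, 1, 4, 5, 26] kR = true := by decide +kernel
theorem lR : kR.length = 274 := rfl
/-- codes -/
noncomputable def kW : List ℕ := [0x12332, 0x12232, 0x11444, 0x43321, 0x2232, 0x43214, 0x2332, 0x33344, 0x4344, 0x4441, 0x4412, 0x44144, 0x3332, 0x433, 0x411143, 0x1211, 0x1441, 0x2144, 0x1143, 0x4112, 0x114, 0x12121, 0x22143, 0x33343, 0x21111, 0x434, 0x411233, 0x4123, 0x14121, 0x22121, 0x33441, 0x1233, 0x44143, 0x22111, 0x441, 0x1141, 0x11434, 0x44444, 0x3433, 0x22, 0x23321, 0x23214, 0x12223, 0x144, 0x411232, 0x22344, 0x441123, 0x1214, 0x22141, 0x11143, 0x4111, 0x4334, 0x44412, 0x412122, 0x41221, 0x4433, 0x441434, 0x441212, 0x1412, 0x41211, 0x1111, 0x334, 0x11232, 0x3432, 0x4332, 0x4443, 0x412111, 0x411, 0x1121, 0x41123, 0x2141, 0x432, 0x11112, 0x1414, 0x343, 0x23432, 0x43444, 0x33412, 0x43412, 0x34332, 0x222, 0x33341, 0x234, 0x1433, 0x3443, 0x11411, 0x2233, 0x21223,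 0x41114, 0x23332, 0x12114, 0x22341, 0x441144, 0x4, 0x11432, 0x4444, 0x1432, 0x41223, 0x1223, 0x21221, 0x43443, 0x23341, 0x11222, 0x14334, 0x211, 0x44334, 0x22233, 0x44333, 0x223, 0, 0x2211, 0x41, 0x2212, 0x43341, 0x22334, 0x4322, 0x4122, 0x1114, 0x23343, 0x3341, 0x21441, 0x2111, 0x14122, 0x441441, 0x41112, 0x43, 0x2321, 0x43343, 0x43332, 0x11223, 0x14, 0x412112, 0x14333, 0x4341, 0x2322, 0x11212, 0x443, 0x23322, 0x344, 0x14144, 0x12143, 0x143, 0x22144, 0x232, 0x14332, 0x43234, 0x21114, 0x441122, 0x2234, 0x12214, 0x12111, 0x1222, 0x441444, 0x12211, 0x44, 0x33411, 0x233, 0x21144, 0x4321, 0x43334, 0x41214, 0x214, 0x412144, 0x43233, 0x141, 0x21, 0x332, 0x41222, 0x2341, 0x1212, 0x12, 0x33, 0x411121, 0x44433, 0x44112, 0x1221, 0x22112, 0x23, 0x11214, 0x2343, 0x11433, 0x12341, 0x11144, 0x41212, 0x412211, 0x3323, 0x2114, 0x444414, 0x2334, 0x441214, 0x441223, 0x11233, 0x444334, 0x4411, 0x44141, 0x11114, 0x3343, 0x443332, 0x412212, 0x43222, 0x2122, 0x43433, 0x412, 0x43221, 0x112,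 0x34, 0x123, 0x14322, 0x33443, 0x212, 0x441412, 0x4414, 0x41234, 0x444122, 0x23211, 0x121, 0x21411, 0x22333, 0x12144, 0x1, 0x44443, 0x412221, 0x12344, 0x333, 0x1144, 0x4323, 0x44121, 0x1234, 0x111, 0x444433, 0x3344, 0x444, 0x23433, 0x12233, 0x1122, 0x22321, 0x11221, 0x4333, 0x2121, 0x43434, 0x11211, 0x1123, 0x4343, 0x21412, 0x21444, 0x221, 0x3, 0x23223, 0x2214, 0x44114, 0x11, 0x4121, 0x43411, 0x43441, 0x441143, 0x44122, 0x14321, 0x43432, 0x444434, 0x43344, 0x443343, 0x122, 0x33432, 0x43414, 0x444123, 0x23344, 0x14412, 0x44111, 0x21414, 0x2, 0x2223, 0x44441, 0x3334, 0x2333]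
theorem oW : chkO 552 10 4 Mt Mi s2 6 [0, 1, 4, 5, 26] kW = true := by decide +kernel
theorem lW : kW.length = 274 := rfl

/-- not an involution -/
def NI (P : ℕ) : Prop := ∃ b, band (Nat.blt b 552) (Nat.beq (Nat.succ (Bool.rec 0 1 (Nat.beq (lk 10 P (lk 10 P b)) b))) 1) = true

/-- a fixed point -/
def FP (P : ℕ) : Prop := ∃ b, band (Nat.blt b 552) (Nat.beq (lk 10 P b) b) = true

/-- conjugate of the representative -/
def CJ (m : ℕ) (Dt Di : List ℕ) (S P : ℕ) : Prop := ∃ f c, chkJ 552 10 m Dt Di S f c P = true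

/-- certificates -/
def CeR0 (a : ℕ × List ℕ × List ℕ) : Prop := a.2.1 = [] ∨ NI a.1 ∨ CJ 6 Yt Yi s1 a.1
def CeW1 (a : ℕ × List ℕ × List ℕ) : Prop := a.2.1 = [] ∨ NI a.1 ∨ FP a.1 ∨ CJ 4 Mt Mi s2 a.1
def CeW2 (a : ℕ × List ℕ × List ℕ) : Prop := a.2.1 = [] ∨ NI a.1 ∨ FP a.1

/-- generators of R0 -/
noncomputable def GR0 : List ℕ := [e47, e56]
theorem hGR0 : ∀ P ∈ GR0, Has P := List.forall_mem_cons.2 ⟨he47, List.forall_mem_cons.2 ⟨he56, List.forall_mem_nil _⟩⟩
theorem mGR0 : allN (fun i => chkM 552 10 (nth GR0 i) p40) 2 = true := by decide +kernel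
theorem kGR0 : incK (kt 10 [0, 1]) (LR0.map fun a => a.1) 0 = true := by decide +kernel
theorem lGR0 : LR0.length = 16 := rfl
theorem qR0_0 : chkE 552 10 GR0 (LR0.map fun a => a.1) (0x89e268962488e228862087e1e8761c86e1a8661885e168561484e128461083e0e8360c82e0a8260881e068160480e02806007fdfe7f5fc7edfa7e5f87ddf67d5f47cdf27c5f07bdee7b5ec7adea7a5e879de6795e478de2785e077dde775dc76dda765d875dd6755d474dd2745d073dce735cc72dca725c871dc6715c470dc2705c06fdbe6f5bc6edba6e5b86ddb66d5b46cdb26c5b06bdae6b5ac6adaa6a5a869da6695a468da2685a067d9e6759c66d9a6659865d966559464d926459063d8e6358c62d8a6258861d866158460d82605805fd7e5f57c5ed7a5e5785dd765d5745cd725c5705bd6e5b56c5ad6a5a56859d665956458d625856057d5e5755c56d5a5655855d565555454d525455053d4e5354c52d4a5254851d465154450d42505404fd3e4f53c4ed3a4e5384dd364d5344cd324c5304bd2e4b52c4ad2a4a52849d264952448d224852047d1e4751c46d1a4651845d164551444d124451043d0e4350c42d0a4250841d064150440d02405003fcfe3f4fc3ecfa3e4f83dcf63d4f43ccf23c4f03bcee3b4ec3a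cea3a4e839ce6394e438ce2384e037cde374dc36cda364d835cd6354d434cd2344d033cce334cc32cca324c831cc6314c430cc2304c02fcbe2f4bc2ecba2e4b82dcb62d4b42ccb22c4b02bcae2b4ac2acaa2a4a829ca6294a428ca2284a027c9e2749c26c9a2649825c962549424c922449023c8e2348c22c8a2248821c862148420c82204801fc7e1f47c1ec7a1e4781dc761d4741cc721c4701bc6e1b46c1ac6a1a46819c661946418c621846017c5e1745c16c5a1645815c561545414c521445013c4e1344c12c4a1244811c461144410c42104400fc3e0f43c0ec3a0e4380dc360d4340cc320c4300bc2e0b42c0ac2a0a42809c260942408c220842007c1e0741c06c1a0641805c160541404c120441003c0e0340c02c0a0240801c060140400c0200400, [], [5, 14]) = true := by decide +kernel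
theorem rR0_0 : CeR0 (0x89e268962488e228862087e1e8761c86e1a8661885e168561484e128461083e0e8360c82e0a8260881e068160480e02806007fdfe7f5fc7edfa7e5f87ddf67d5f47cdf27c5f07bdee7b5ec7adea7a5e879de6795e478de2785e077dde775dc76dda765d875dd6755d474dd2745d073dce735cc72dca725c871dc6715c470dc2705c06fdbe6f5bc6edba6e5b86ddb66d5b46cdb26c5b06bdae6b5ac6adaa6a5a869da6695a468da2685a067d9e6759c66d9a6659865d966559464d926459063d8e6358c62d8a6258861d866158460d82605805fd7e5f57c5ed7a5e5785dd765d5745cd725c5705bd6e5b56c5ad6a5a56859d665956458d625856057d5e5755c56d5a5655855d565555454d525455053d4e5354c52d4a5254851d465154450d42505404fd3e4f53c4ed3a4e5384dd364d5344cd324c5304bd2e4b52c4ad2a4a52849d264952448d224852047d1e4751c46d1a4651845d164551444d124451043d0e4350c42d0a4250841d064150440d02405003fcfe3f4fc3ecfa3e4f83dcf63d4f43ccf23c4f03bcee3b4ec3acea3a4e839ce6394e438ce2384e037cde374dc36cda364d835cd6354d434cd2344d033cce334cc32cca324c831cc6314c430cc2304c02fcbe2f4bc2ecba2e4b82dcb62d4b42ccb22c4b02bcae2b4ac2acaa2a4a829ca6294a428ca2284a027c9e2749c26c9a2649825c962549424c922449023c8e2348c22c8a2248821c862148420c82204801fc7e1f47c1ec7a1e4781dc761d4741cc721c4701bc6e1b46c1ac6a1a46819c661946418c621846017c5e1745c16c5a1645815c561545414c521445013c4e1344c12c4a1244811c461144410c42104400fc3e0f43c0ec3a0e4380dc360d4340cc320c4300bc2e0b42c0ac2a0a42809c260942408c220842007c1e0741c06c1a0641805c160541404c120441003c0e0340c02c0a0240801c060140400c0200400,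 [], [5, 14]) := Or.inl rfl
theorem qR0_1 : chkE 552 10 GR0 (LR0.map fun a => a.1) (0x8098083a0388cac8851f3d4fc719bf35d407217c6b94478ddf04d246fa1073e255d9ff3057f751225a96f51a0489227561ac8314738dca6b5a16e5ee0dd9f7a587779b358cd67bdf851520449d97d50e71c5e79526855053fde0851f350dd876dda7a9dc38597732093898a745c983dce529d54f9fc7421979e1d624d970dc27058b872116f46328d7e7e52f634b929da67c87c5d1a7302177ee006ad0f2640b6c1b464c861a8677e9a07d87934c7227054664567586d2943f6959227888108956dd27701d2715617d0b813865188cb60626829ba42618348704781e5c20d5d5b1538b733177818af26d0655a0755d675a166595647c562620112ad5e0a95c061364aa015a56b31935469382746e399733a0df3bdcd525487fa057b616775425061a4f5cb4fd2928461099522ed5a550f44042e31d306e0dd3e8bd041594f0a6631e43b61248e08485ec881794750a46d533110845cf8308f3175eb018ee6a9e81a44c1d11c5f5181056c7883323d024cd00784b43f61e2fd2d23916070f687d34450f2168e052d10494ec0d4b507d4d0754f17c7a7f5d375cf0530914b8d1350d0710cf86df0354db6757b370da3604a1617160840324c84c555125192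cd1582daf3ec2c4b0594dc936d9865c8b03a8fe30c310f8b65b8782b62257c981d8466d5286547e6ec664ec801a1915459b5b49a6a4aa0c096638072e8923785740cf92348222c8a0ed90111a40486c20c8c058a01fca41f5b21cce4678ae154a91490b1ed9c1c57a181506588414da34349f688a2610516f1834e86f395e644c4f16cf12f0cd241981dd9a1ac751901b171850a10c120ce3144b11ca8114870f58f41cca650b110c03224240a4387dc2d3ac23410322c897031320d8be0ad5d0e44d089390943a0d027068203a57839cf7140210355b024810541484c855812b0200e0642f6a00a05c0f25111004040f00201400, [0, 0], [9, 2]) = true := by decide +kernel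
theorem rR0_1 : CeR0 (0x8098083a0388cac8851f3d4fc719bf35d407217c6b94478ddf04d246fa1073e255d9ff3057f751225a96f51a0489227561ac8314738dca6b5a16e5ee0dd9f7a587779b358cd67bdf851520449d97d50e71c5e79526855053fde0851f350dd876dda7a9dc38597732093898a745c983dce529d54f9fc7421979e1d624d970dc27058b872116f46328d7e7e52f634b929da67c87c5d1a7302177ee006ad0f2640b6c1b464c861a8677e9a07d87934c7227054664567586d2943f6959227888108956dd27701d2715617d0b813865188cb60626829ba42618348704781e5c20d5d5b1538b733177818af26d0655a0755d675a166595647c562620112ad5e0a95c061364aa015a56b31935469382746e399733a0df3bdcd525487fa057b616775425061a4f5cb4fd2928461099522ed5a550f44042e31d306e0dd3e8bd041594f0a6631e43b61248e08485ec881794750a46d533110845cf8308f3175eb018ee6a9e81a44c1d11c5f5181056c7883323d024cd00784b43f61e2fd2d23916070f687d34450f2168e052d10494ec0d4b507d4d0754f17c7a7f5d375cf0530914b8d1350d0710cf86df0354db6757b370da3604a1617160840324c84c555125192cd1582daf3ec2c4b0594dc936d9865c8b03a8fe30c310f8b65b8782b62257c981d8466d5286547e6ec664ec801a1915459b5b49a6a4aa0c096638072e8923785740cf92348222c8a0ed90111a40486c20c8c058a01fca41f5b21cce4678ae154a91490b1ed9c1c57a181506588414da34349f688a2610516f1834e86f395e644c4f16cf12f0cd241981dd9a1ac751901b171850a10c120ce3144b11ca8114870f58f41cca650b110c03224240a4387dc2d3ac23410322c897031320d8be0ad5d0e44d089390943a0d027068203a57839cf7140210355b024810541484c855812b0200e0642f6a00a05c0f25111004040f00201400,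 [0, 0], [9, 2]) := Or.inr (Or.inr ⟨0, 0, by decide +kernel⟩)
theorem qR0_2 : chkE 552 10 GR0 (LR0.map fun a => a.1) (0x42a1c5ddff5996126a1f6e17c686056b60078e1e635e918dd60f1d27f20471d7030e032e1b22ddcb6715a775e58311c3e9f8890d22d2116e61d7d9d00661b821aa4a4ce8294a6adc93859567534489f12e58f705b46f0d85491b65d3c899e6605a03d05e29ddf30972541245061a79e2335915511be502156d9fa3ed1848d42841a5519ca738db6bd9667d554154c52deb129e84d4d07b1b77e5ee666021adf73691262c4e6e835719db35ddc791f21d8d15255f851916ec697007f68c73678237898264e122fcac43e0d1187a0718c769bf1f06d1dcfc51c5f1585d7ccb332554378e9469de4d8ae0f4864947242da76c1bd402215fcad888402d8042001556dc44c52d1d0ed881745c4f00fe0126c911460f7b5f07bc835ed4375df5601c3409ac5a21659e0e7843184ce023cd96c5d90b8af4a9213194f389c50b4c78948832da65ad8a7093e4c0a53d598115f40c8cc752063c8985a421254d32147e89d631309d731871556f195a433c113a0d54c9654e08e3b2183c5d313caa271e04bdea068c84b13b514a4558fd124ea4646406d6d5f4443f86e6d4a173d14398938653f422177edcd745c8499fe2e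93d6ba0701d5349c3e5d4965651f122093055761920168246246140c6637d7607d1e2d4f982c300cd791e133009882c116189063bd9028d10300543fc2c6a46a650a910c7114cf8165170d01d289923cc905345c038280e02b2247b10585018175204d204be1f4ee2490e14887761011c183299d51d5b3590e527d58278091bd7e430993ad9a390bb350f72c86842442638e3080bd4e89415cab5e8dc181284dc587f4a82115119d6a12da20516c001074b879610b1435043740f0ec2a0e48b0352b3141e580f625cbc0bd6e0403a228a00a46c09c134755d5e0225cc5b311131419b3354e01418208165704700d11328364e48d0040c0dd622302639c126a15e0200a02c25, [1, 0, 0], [13, 15]) = true := by decide +kernel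
theorem rR0_2 : CeR0 (0x42a1c5ddff5996126a1f6e17c686056b60078e1e635e918dd60f1d27f20471d7030e032e1b22ddcb6715a775e58311c3e9f8890d22d2116e61d7d9d00661b821aa4a4ce8294a6adc93859567534489f12e58f705b46f0d85491b65d3c899e6605a03d05e29ddf30972541245061a79e2335915511be502156d9fa3ed1848d42841a5519ca738db6bd9667d554154c52deb129e84d4d07b1b77e5ee666021adf73691262c4e6e835719db35ddc791f21d8d15255f851916ec697007f68c73678237898264e122fcac43e0d1187a0718c769bf1f06d1dcfc51c5f1585d7ccb332554378e9469de4d8ae0f4864947242da76c1bd402215fcad888402d8042001556dc44c52d1d0ed881745c4f00fe0126c911460f7b5f07bc835ed4375df5601c3409ac5a21659e0e7843184ce023cd96c5d90b8af4a9213194f389c50b4c78948832da65ad8a7093e4c0a53d598115f40c8cc752063c8985a421254d32147e89d631309d731871556f195a433c113a0d54c9654e08e3b2183c5d313caa271e04bdea068c84b13b514a4558fd124ea4646406d6d5f4443f86e6d4a173d14398938653f422177edcd745c8499fe2e93d6ba0701d5349c3e5d4965651f122093055761920168246246140c6637d7607d1e2d4f982c300cd791e133009882c116189063bd9028d10300543fc2c6a46a650a910c7114cf8165170d01d289923cc905345c038280e02b2247b10585018175204d204be1f4ee2490e14887761011c183299d51d5b3590e527d58278091bd7e430993ad9a390bb350f72c86842442638e3080bd4e89415cab5e8dc181284dc587f4a82115119d6a12da20516c001074b879610b1435043740f0ec2a0e48b0352b3141e580f625cbc0bd6e0403a228a00a46c09c134755d5e0225cc5b311131419b3354e01418208165704700d11328364e48d0040c0dd622302639c126a15e0200a02c25,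 [1, 0, 0], [13, 15]) := Or.inr (Or.inl ⟨0, by decide +kernel⟩)
theorem qR0_3 : chkE 552 10 GR0 (LR0.map fun a => a.1) (0x43ddd4a5ff7396159155882187ea267d9d036cfc3613e721974e58a7f1c15313c61a032cdf1311f53391887210831aa5421a890d213e1135dc66b6006a1f95111c5dd9c7a14a525ac52daf6d0f4859b273ddc8119d8658d4ecf6759708159e681814d079516141d1193ea12355f837dbd3590b821be7b8d483da14b15a5092379593601ca599e3655a37ee1f6b9c7385e41ca0a4d5676eccf86d407bdf427c055a1267010664448875da6e58f7ae07070666ad1e77dba7b09d62c92658a67985d85d82695242f4ac428c1218411d98c76d4358c6a3961e51c552c023894b832554085d454e0e4202e398464944a4553f4f623400714380a88833660040901556e0631c6e308ed6e174331e1131d34b81a23db66d5f0664835edbf3bdcb519c2745c936922341de3c05903cff1456f6c5ea2b901565213d443560f10d9317cc5232cd35add270de94c0c0318b609602781713a5c4258aa730de079a6048a461c7c0fc695a62717cd9110a86dc3e2ed411e165284e33b17c716012d0981883247dd9245173ed5229c7e558fd19cea5c90301cdd1c0651712d7b5382e5730f4546f1a74d9e267dcd40863449fe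669b0415f206d1a49c115d4f24a92f0d41f835d530ca36248016830190d179e0b8255f2d5fd5d861100ab4c96e58988158f82704e75c75480ee294933802a1bc6d430f753e211a1160c4c844c583707d538904dcfe038090e02b225281e96c4444d520172055d649101fd7f22184108af5f59b1cd576416a268771ace25f8286a49e6506012cba41ce8854a92f0535e9d85e08e080bf25c5015d79424a22647b5341d3e5a42090d125b33acc505185474e426c5e21d60544ca5b6130ec2c0e48b02c10688952c51b4e8b20bd334aca02283a0a48c09c08000be638224505b2dc342518339cf37dc182101657047098064102d0f08d0dc0c004021b003334850655e04cad03445, [1, 1, 1, 0, 0], [12, 1]) = true := by decide +kernel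
theorem rR0_3 : CeR0 (0x43ddd4a5ff7396159155882187ea267d9d036cfc3613e721974e58a7f1c15313c61a032cdf1311f53391887210831aa5421a890d213e1135dc66b6006a1f95111c5dd9c7a14a525ac52daf6d0f4859b273ddc8119d8658d4ecf6759708159e681814d079516141d1193ea12355f837dbd3590b821be7b8d483da14b15a5092379593601ca599e3655a37ee1f6b9c7385e41ca0a4d5676eccf86d407bdf427c055a1267010664448875da6e58f7ae07070666ad1e77dba7b09d62c92658a67985d85d82695242f4ac428c1218411d98c76d4358c6a3961e51c552c023894b832554085d454e0e4202e398464944a4553f4f623400714380a88833660040901556e0631c6e308ed6e174331e1131d34b81a23db66d5f0664835edbf3bdcb519c2745c936922341de3c05903cff1456f6c5ea2b901565213d443560f10d9317cc5232cd35add270de94c0c0318b609602781713a5c4258aa730de079a6048a461c7c0fc695a62717cd9110a86dc3e2ed411e165284e33b17c716012d0981883247dd9245173ed5229c7e558fd19cea5c90301cdd1c0651712d7b5382e5730f4546f1a74d9e267dcd40863449fe669b0415f206d1a49c115d4f24a92f0d41f835d530ca36248016830190d179e0b8255f2d5fd5d861100ab4c96e58988158f82704e75c75480ee294933802a1bc6d430f753e211a1160c4c844c583707d538904dcfe038090e02b225281e96c4444d520172055d649101fd7f22184108af5f59b1cd576416a268771ace25f8286a49e6506012cba41ce8854a92f0535e9d85e08e080bf25c5015d79424a22647b5341d3e5a42090d125b33acc505185474e426c5e21d60544ca5b6130ec2c0e48b02c10688952c51b4e8b20bd334aca02283a0a48c09c08000be638224505b2dc342518339cf37dc182101657047098064102d0f08d0dc0c004021b003334850655e04cad03445,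 [1, 1, 1, 0, 0], [12, 1]) := Or.inr (Or.inl ⟨0, by decide +kernel⟩)
theorem qR0_4 : chkE 552 10 GR0 (LR0.map fun a => a.1) (0x6a9434f20c73988590c647d7c6858067dc93521e33dcb865d6099d2729c137d292e22430d63465e9129086fe107fd0f1b94080d7b171be86e1d7edac02db98590a5c072439cd526003bcc0699345107c83dd8810d3721b7284f665d7751879681813d19e7b5df42cc44b524355ee531bd7c07448a117e0db73dfa2f53650923795a5899fc59a152946a6b4f585de775d266717f5516828cd835e1a7bd871a00159de462d6c2784b719da7e4424496a3dca26ad798517e48151700921b528179136b8cb64e124b2224720b691072a52776ddd7c5a317cfc7f8772d834839863253506a0946a254613253ca83b4ce3093d4fe23400717a00a2b104158040e8150616f4c550455254bdb15c4ff430e23742140cb929cd66648334a1c52d3e815c2745d034208369f3380bc021e1192065d1d91e1334a92187c3d8045a0b4c7778756099d5598a70df54c1af554b009627780cc07cd925898754915e1b42147e7d1b26510d55e02395c421c46634b14dd412b9654edfd3b218625583f8aa60c32881ea379172fd386d4a45acfd688b52dc8f2512e5e98413cfa515526d94e10d9a18db0569057d94a409bc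7ad47151a7789b314153631605d4f2565b83ace95d9cc2cdbb714a03c497144dc71cc1750ab3a8e38353a3295f0b8af589616611666d85384527b110654ba3c15d181961301c39a2127cf82c8c8174cd3447d5cc572ecb4038170e02b0eca63910601828520090582a648ee1fe0a6406563d6e4249c1ed69222072685514dd36e84d265910fc6f120931054d78c761646b1c1dc078f9080fb0c01b2411e5f4666a4733a0e72388623069315f20d4490504e4747a5b5e6110112744026c13224be0a48b6a12b19d8e0f91b184310310104080228240e4820880f0002c254273cc5b5c82301c62075140dd5b1b081570474e5110cc3600c8d7dc2f014022103c160120355e84cad06445, [1, 1, 1], [7, 0]) = true := by decide +kernel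
theorem rR0_4 : CeR0 (0x6a9434f20c73988590c647d7c6858067dc93521e33dcb865d6099d2729c137d292e22430d63465e9129086fe107fd0f1b94080d7b171be86e1d7edac02db98590a5c072439cd526003bcc0699345107c83dd8810d3721b7284f665d7751879681813d19e7b5df42cc44b524355ee531bd7c07448a117e0db73dfa2f53650923795a5899fc59a152946a6b4f585de775d266717f5516828cd835e1a7bd871a00159de462d6c2784b719da7e4424496a3dca26ad798517e48151700921b528179136b8cb64e124b2224720b691072a52776ddd7c5a317cfc7f8772d834839863253506a0946a254613253ca83b4ce3093d4fe23400717a00a2b104158040e8150616f4c550455254bdb15c4ff430e23742140cb929cd66648334a1c52d3e815c2745d034208369f3380bc021e1192065d1d91e1334a92187c3d8045a0b4c7778756099d5598a70df54c1af554b009627780cc07cd925898754915e1b42147e7d1b26510d55e02395c421c46634b14dd412b9654edfd3b218625583f8aa60c32881ea379172fd386d4a45acfd688b52dc8f2512e5e98413cfa515526d94e10d9a18db0569057d94a409bc7ad47151a7789b314153631605d4f2565b83ace95d9cc2cdbb714a03c497144dc71cc1750ab3a8e38353a3295f0b8af589616611666d85384527b110654ba3c15d181961301c39a2127cf82c8c8174cd3447d5cc572ecb4038170e02b0eca63910601828520090582a648ee1fe0a6406563d6e4249c1ed69222072685514dd36e84d265910fc6f120931054d78c761646b1c1dc078f9080fb0c01b2411e5f4666a4733a0e72388623069315f20d4490504e4747a5b5e6110112744026c13224be0a48b6a12b19d8e0f91b184310310104080228240e4820880f0002c254273cc5b5c82301c62075140dd5b1b081570474e5110cc3600c8d7dc2f014022103c160120355e84cad06445,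 [1, 1, 1], [7, 0]) := Or.inr (Or.inl ⟨0, by decide +kernel⟩)
theorem qR0_5 : chkE 552 10 GR0 (LR0.map fun a => a.1) (0x2e16e17d7b6adb13c850161df490ae1456c6a5d66106614e1e1361d5add14e8e5429fe6a9603e4dc2859b4cd41349863148651dff3a5252edd223d852814d150c3155380cccb7384e44c7b544f4668b12c8b64090d1ac87671923f0770b95f76dda4d0ab6397c4f48e689a184046185ef6313f24ced2a0990c6124518370dc2355931e1565246f4a09b40c94390970d04c548402b169220654dda488cc17202a55d0c7020053ce2629a03a1980fcff5bdf559879860431499d62de04b9af478e11e94a695fa3cd542ce277b9ae365f0604af0456d5dd9780d3c63d4b4251c236221685c2617d271806e9406f93b69cc24559959517410024d57f761216a02b0a476290496c21107561459f2448351a8f167c59079276f43883101174a24c94281106754ba7307081dcf209b37eca9621ea519dd4400401c9e12cde0d87e5e8a373469729c648cd15787306c420020d1fcf83f81c5911a5a1895149d048c782c3e499b4369765c0f73621a111f17e5e5815001c8c43f614084487515346092335d9716215ccce5e1317f0ec5402f38df6555a38958d07c672544a2f0bd6452227c741884119182704686522482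10b41ce087caa359b20389a3b8e7560b461d6743d90068192454c6b5cb0c20213c5e031197d1c7439e6899bf0297477171569d008dbb1d52a29a165a837350dd7ae065f8c8864cc2e47175d2f4f8f64b0226e6095d53920c15204c0415ac4440322c260edf746d590c8ca481b715a1c7cd36654d07b1e12592918ceb0f43c854e6790db74d4485e1b181c483dbc838b07b4b716d4e37cf509d9e779e978ca535d1f5c9f804da63e8f08052d11dc9095e21b57933c7c34de8658840580156d48200101b8a758c7d79db62d5434ac0d5700b062132408c114056d4572fc207f4ef31908880fb0b03902089228140a0068282d05cc92f8ea574ad03c096e0850e9301b1620911d, [0], [1, 6]) = true := by decide +kernel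
theorem rR0_5 : CeR0 (0x2e16e17d7b6adb13c850161df490ae1456c6a5d66106614e1e1361d5add14e8e5429fe6a9603e4dc2859b4cd41349863148651dff3a5252edd223d852814d150c3155380cccb7384e44c7b544f4668b12c8b64090d1ac87671923f0770b95f76dda4d0ab6397c4f48e689a184046185ef6313f24ced2a0990c6124518370dc2355931e1565246f4a09b40c94390970d04c548402b169220654dda488cc17202a55d0c7020053ce2629a03a1980fcff5bdf559879860431499d62de04b9af478e11e94a695fa3cd542ce277b9ae365f0604af0456d5dd9780d3c63d4b4251c236221685c2617d271806e9406f93b69cc24559959517410024d57f761216a02b0a476290496c21107561459f2448351a8f167c59079276f43883101174a24c94281106754ba7307081dcf209b37eca9621ea519dd4400401c9e12cde0d87e5e8a373469729c648cd15787306c420020d1fcf83f81c5911a5a1895149d048c782c3e499b4369765c0f73621a111f17e5e5815001c8c43f614084487515346092335d9716215ccce5e1317f0ec5402f38df6555a38958d07c672544a2f0bd6452227c74188411918270468652248210b41ce087caa359b20389a3b8e7560b461d6743d90068192454c6b5cb0c20213c5e031197d1c7439e6899bf0297477171569d008dbb1d52a29a165a837350dd7ae065f8c8864cc2e47175d2f4f8f64b0226e6095d53920c15204c0415ac4440322c260edf746d590c8ca481b715a1c7cd36654d07b1e12592918ceb0f43c854e6790db74d4485e1b181c483dbc838b07b4b716d4e37cf509d9e779e978ca535d1f5c9f804da63e8f08052d11dc9095e21b57933c7c34de8658840580156d48200101b8a758c7d79db62d5434ac0d5700b062132408c114056d4572fc207f4ef31908880fb0b03902089228140a0068282d05cc92f8ea574ad03c096e0850e9301b1620911d,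 [0], [1, 6]) := Or.inr (Or.inl ⟨1, by decide +kernel⟩)
theorem qR0_6 : chkE 552 10 GR0 (LR0.map fun a => a.1) (0x834785f5fe66554320cd01dd6749012eda414e14390541be181b1fa3b5412c9097d17b89cca170ba784a94c90251d7612c4e34a033115623e123a0a82f8643460b1c0f00458c88c4663875651d93710425d793550c181076cc7f5f17a2bcb0605a07a8b60d21e5a04f3ae1d811060c5ab32d671996b5b06b0c18a068f748d427458b4cd257bc686403d534e721cbc5e09d3803e584741cc7a40d85598b878c8042d5164dee5b550491db144ab1a552569226f5dc3f0dd299266951b39920158a7110d6701c6085b13051c7418d461cd768ae10043779df7fe251e5451dd87039884b1fd458551da1c1b6007f0ff3416955d49400f25800a5d1b2799300dc8a0e4623b848369ca06cac2a84a674496e8bd86c61175827388b8902e2559a5b9c379486454a23085f1c9c70a0ce7e583888f4775802915e075a3688f304110395af7c04c845a170893010521619e094b31f4983e49c885716c0fb3843f0192a618336d1124f4c37cd9b6b9ac1057f67dc150d657c9d43b197538672dccc5bd92251342fc9a2456a44d596f8fd5600c2d0d747d7e5c1054643508e074e9c51a9cb265cc070654dd27841a94360c4f9d5611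3b4bcf85290e234711f8503e88e6a9a78087b5cc01451cf6e6161650a38d8f0be0943cb97c4426fe05589351795336540078c04a131221f5670198654f34d36658968551a531646d555511e0624277d972324135215c059ec361f80480f0e2132240d0c8c73d8b1655e257d464f1c428d3f2953845e0e36cc54b8086f09b699c81b9e96ddfb27d0879cd45dd1e75ce9080de83db8089d84a60818dbb6b61f07dc90f1eb388a14b5d30521a474cf6459885de87916327809205a8060830b02d8054b828926d8df3aa260d805055f756c0315c4d0000b3bc903c45b3f9ed882063d45a090294e43b0ac47210851f12b231750e8b52800209882319115752105cad0a845, [1, 0], [2, 10]) = true := by decide +kernel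
theorem rR0_6 : CeR0 (0x834785f5fe66554320cd01dd6749012eda414e14390541be181b1fa3b5412c9097d17b89cca170ba784a94c90251d7612c4e34a033115623e123a0a82f8643460b1c0f00458c88c4663875651d93710425d793550c181076cc7f5f17a2bcb0605a07a8b60d21e5a04f3ae1d811060c5ab32d671996b5b06b0c18a068f748d427458b4cd257bc686403d534e721cbc5e09d3803e584741cc7a40d85598b878c8042d5164dee5b550491db144ab1a552569226f5dc3f0dd299266951b39920158a7110d6701c6085b13051c7418d461cd768ae10043779df7fe251e5451dd87039884b1fd458551da1c1b6007f0ff3416955d49400f25800a5d1b2799300dc8a0e4623b848369ca06cac2a84a674496e8bd86c61175827388b8902e2559a5b9c379486454a23085f1c9c70a0ce7e583888f4775802915e075a3688f304110395af7c04c845a170893010521619e094b31f4983e49c885716c0fb3843f0192a618336d1124f4c37cd9b6b9ac1057f67dc150d657c9d43b197538672dccc5bd92251342fc9a2456a44d596f8fd5600c2d0d747d7e5c1054643508e074e9c51a9cb265cc070654dd27841a94360c4f9d56113b4bcf85290e234711f8503e88e6a9a78087b5cc01451cf6e6161650a38d8f0be0943cb97c4426fe05589351795336540078c04a131221f5670198654f34d36658968551a531646d555511e0624277d972324135215c059ec361f80480f0e2132240d0c8c73d8b1655e257d464f1c428d3f2953845e0e36cc54b8086f09b699c81b9e96ddfb27d0879cd45dd1e75ce9080de83db8089d84a60818dbb6b61f07dc90f1eb388a14b5d30521a474cf6459885de87916327809205a8060830b02d8054b828926d8df3aa260d805055f756c0315c4d0000b3bc903c45b3f9ed882063d45a090294e43b0ac47210851f12b231750e8b52800209882319115752105cad0a845,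 [1, 0], [2, 10]) := Or.inr (Or.inl ⟨0, by decide +kernel⟩)
theorem qR0_7 : chkE 552 10 GR0 (LR0.map fun a => a.1) (0x305321c1fe7bd5445ce706d97628af3a0a81a1df41c936a57c231a13b4d52f17a8097b61d043f99a3c0f71e1d151e0b3ad0634a032dd56145242eda457503199765f5e10f98c6f4865e190431ea288ca4e8ab50594264e45a8928610940456681817659844cfc368b412dc67044e1654932cd03456b6149f185d2244a950923409c05b925664531d4e64dccd610b2638693fc11584c2298411916c738b336c244550d69540374fa849da23d792753b4621688d8f8796d1cd1264cf60f4a32c145194d662e1d379b1835aa800d8569cd76c2e0cd4f83a147fdf3178a739627039883ecf93e05f071dd1a9d07f0e059dcc755ab400962c4ad5d1f1679300048a0e49c440355a1ca01cac260726d067644bf7e43008d825988b890ae078ba4cdc28404642cdc1d0551294c0259c86d9b88934871461f95e161963154e4acee1dd957c03f845fa70c5401088075e6114b8648aa7f4621c4cc4f52c52c4c4455930c40675266c18689583415c91e90e7ee046fd6581ce93b1d63cc49311713647d140f42f564069b30d12a6f8fd3880c13db94bc9e4f1ae5c848175f225cf11b5f5181691d844535277946f5460c7a55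721d5247d165297f2362129094540e34713f7d128450375ccb935d220c50f239dc0bc1f429cf6c9d850e26009351e51a5bdee254a51ecc7149cb339a86f0436990868cf23515371c9a7b61f82032168276b519324085215c059bb6361a216130e00f2240b7813146d606be17479805c206481a7300a1321de78da226c138652e34c634b53e33d9f1ad3637e154a55f3bdd4080216da20088425dd44721ec7d955825ac4e5e4561381ba01051f8001b76e8b678a0a7ac7c5f82820419060830a83674ce17a07f83de73aa050b5f70540556c2615c174740d75c907145b171b56e1c431989200290f03b0ac472081258c101b175280b50e96200c843d4062f9211340a0b025, [1, 1, 1, 0], [3, 5]) = true := by decide +kernel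
theorem rR0_7 : CeR0 (0x305321c1fe7bd5445ce706d97628af3a0a81a1df41c936a57c231a13b4d52f17a8097b61d043f99a3c0f71e1d151e0b3ad0634a032dd56145242eda457503199765f5e10f98c6f4865e190431ea288ca4e8ab50594264e45a8928610940456681817659844cfc368b412dc67044e1654932cd03456b6149f185d2244a950923409c05b925664531d4e64dccd610b2638693fc11584c2298411916c738b336c244550d69540374fa849da23d792753b4621688d8f8796d1cd1264cf60f4a32c145194d662e1d379b1835aa800d8569cd76c2e0cd4f83a147fdf3178a739627039883ecf93e05f071dd1a9d07f0e059dcc755ab400962c4ad5d1f1679300048a0e49c440355a1ca01cac260726d067644bf7e43008d825988b890ae078ba4cdc28404642cdc1d0551294c0259c86d9b88934871461f95e161963154e4acee1dd957c03f845fa70c5401088075e6114b8648aa7f4621c4cc4f52c52c4c4455930c40675266c18689583415c91e90e7ee046fd6581ce93b1d63cc49311713647d140f42f564069b30d12a6f8fd3880c13db94bc9e4f1ae5c848175f225cf11b5f5181691d844535277946f5460c7a55721d5247d165297f2362129094540e34713f7d128450375ccb935d220c50f239dc0bc1f429cf6c9d850e26009351e51a5bdee254a51ecc7149cb339a86f0436990868cf23515371c9a7b61f82032168276b519324085215c059bb6361a216130e00f2240b7813146d606be17479805c206481a7300a1321de78da226c138652e34c634b53e33d9f1ad3637e154a55f3bdd4080216da20088425dd44721ec7d955825ac4e5e4561381ba01051f8001b76e8b678a0a7ac7c5f82820419060830a83674ce17a07f83de73aa050b5f70540556c2615c174740d75c907145b171b56e1c431989200290f03b0ac472081258c101b175280b50e96200c843d4062f9211340a0b025,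 [1, 1, 1, 0], [3, 5]) := Or.inr (Or.inl ⟨0, by decide +kernel⟩)
theorem qR0_8 : chkE 552 10 GR0 (LR0.map fun a => a.1) (0x61e057ce246f6221c5b8554fc719dd7e5f86f17c78922351df03d24845e56d9de3060c5d9e807d447c9c4899c180df474dd07fdfe3e5fc67da186e1a015ad72e02896076c9f0665406d5bb791d94fa0a37d9e841eb36e173c0328520e8718f769db7a8423bd9755ce98058a40a002e566735697d5ca6b0635321d3c606709c38118b50dbe88e197b19135e2033e0f7b59d5a9f16c53d655057d9c95251c1bc194fcd364ca8658c57e9817ede66d0ce60cba7bcb6759a36bd0c6947d6e875771783618c701d21698889cc35b08766d82681464389e1c2185ed092ad8e4a60b5d574451193313c36533375855adb3730da341ce5949a1f002584b14795e2f95c56d184a8e27555687d544693b434fa10cf34ddc73854a6ad4851d8029e086fd23355ee69de96c170548970f0a1535084d4f45b87831d3047c9b1b8fb041595dc7b49d124961250a16484a34bd5f001aa3d9535c95a320f842d730d126018ee4297f545944550f5e9363904e6b8ca191d12bd003805c3f61e4b1507f5162a51b3193453896715e175d103b4ec12cea750bb3343d1dd072395852cff79c215b4a278d685bd8d6e4d650615698d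2199676dd9c39d7132d04325174c4f5688b761874834a52f55d2fcb23a19a73cb3311982d44f2e0bc580564042e028ac5e4983dda4514733007e480dc4e03a1ad7e1a4624b964180aa4e8f2078501507f06890144e32346c22c8a22452610460488220c8420424248a4649634a041179323941c640c22984a8857d6a52d1a88c27c6d27453124d1111037209c0c0991547908cfe16d890c41d15cb017c931a08823c942d10605c3f3ac7219c3511c860946553dd81e83313011399390eca00e4380042d12113101e0164610bcae0d82a0ac2c0a40909c03114801742237820824951607601c916a0181341605414020850f92b84c0e02c0c034ad0a01306d117dc04099620dd1d, [1, 1], [10, 4]) = true := by decide +kernel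
theorem rR0_8 : CeR0 (0x61e057ce246f6221c5b8554fc719dd7e5f86f17c78922351df03d24845e56d9de3060c5d9e807d447c9c4899c180df474dd07fdfe3e5fc67da186e1a015ad72e02896076c9f0665406d5bb791d94fa0a37d9e841eb36e173c0328520e8718f769db7a8423bd9755ce98058a40a002e566735697d5ca6b0635321d3c606709c38118b50dbe88e197b19135e2033e0f7b59d5a9f16c53d655057d9c95251c1bc194fcd364ca8658c57e9817ede66d0ce60cba7bcb6759a36bd0c6947d6e875771783618c701d21698889cc35b08766d82681464389e1c2185ed092ad8e4a60b5d574451193313c36533375855adb3730da341ce5949a1f002584b14795e2f95c56d184a8e27555687d544693b434fa10cf34ddc73854a6ad4851d8029e086fd23355ee69de96c170548970f0a1535084d4f45b87831d3047c9b1b8fb041595dc7b49d124961250a16484a34bd5f001aa3d9535c95a320f842d730d126018ee4297f545944550f5e9363904e6b8ca191d12bd003805c3f61e4b1507f5162a51b3193453896715e175d103b4ec12cea750bb3343d1dd072395852cff79c215b4a278d685bd8d6e4d650615698d2199676dd9c39d7132d04325174c4f5688b761874834a52f55d2fcb23a19a73cb3311982d44f2e0bc580564042e028ac5e4983dda4514733007e480dc4e03a1ad7e1a4624b964180aa4e8f2078501507f06890144e32346c22c8a22452610460488220c8420424248a4649634a041179323941c640c22984a8857d6a52d1a88c27c6d27453124d1111037209c0c0991547908cfe16d890c41d15cb017c931a08823c942d10605c3f3ac7219c3511c860946553dd81e83313011399390eca00e4380042d12113101e0164610bcae0d82a0ac2c0a40909c03114801742237820824951607601c916a0181341605414020850f92b84c0e02c0c034ad0a01306d117dc04099620dd1d,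 [1, 1], [10, 4]) := Or.inr (Or.inr ⟨4, 0x6162, by decide +kernel⟩)
theorem qR0_9 : chkE 552 10 GR0 (LR0.map fun a => a.1) (0x618af394d26ad743c81b33614848781910626597194a21acfc0a1c6559d11845f4714743c11238d14ec9c405415ecb8125a47fa0c07ced4dd8a40c4e200e8668b31dd52411827398517473275341503e0c4b04086914c441c992878554c8ab76dda3d15f256184fcf919dfa840a84e9ef49d3d2e925119a92c9243cc6270dc2355a52b96b524602996d23c071e83008d0c4e0ca88957641842ec8688e0b8655d5a44c62dac399d3749a053456651e1819e95999e5f03d1d4d3701e0374c05e5d7391cd64da14513530e027e217710d66056e5809b5c1d689129108ef5f50a234ac3c44f2a90966e265fa1a844a16c11530999595170cc025520a7712102c2b0e4a91f8c569dbe39d883e1b37aceb68c5a7d8bc5e18c6f4387fd3344c660b9428116c730937557a5aa0f231f26b476585d9815433b80425191120910b4a41c1bb5290d7f21d48cdc5787b1418f001761fd162d0f75915359dc57b55121531304b1791a63420d5dc1c33d4021d636e5e551900671193f5df0684b8251a42092161ea626215384a078c7728ec1b80c7f59f3186a839b73a5a2638ce1652c27a081a10b60d07144cb7049f0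fe0348874104f03d4987c07c0389a4401d804fe7d1686a8880840d378df7ed3e25e27171e60bcc461de77a05e6021c029b1760cc4d9c90d0a3149594a14481df736d2e4496f6e8c8721716d871385b872cf62f4277e5d45d42620c15059af78a000183c22d392243746d2a0c8407b18d661bf7795a294da480ff2593c6f03510c0378d4f498d438a166b8d71bcd973c63894b65157216d735321f088797cdf58559586e202ddee84db44b4e0560fa11dd0095056591e361b26750e1b46c20405061482812b541b57c47d71cb93a9dd04019571a856c1315c821140129c903ec2038d4b5551847cbf2f82903c3b22814135115fc36024c90b0b50a8ad020174bc1209130211620e91d, [0, 0, 0], [0, 13]) = true := by decide +kernel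
theorem rR0_9 : CeR0 (0x618af394d26ad743c81b33614848781910626597194a21acfc0a1c6559d11845f4714743c11238d14ec9c405415ecb8125a47fa0c07ced4dd8a40c4e200e8668b31dd52411827398517473275341503e0c4b04086914c441c992878554c8ab76dda3d15f256184fcf919dfa840a84e9ef49d3d2e925119a92c9243cc6270dc2355a52b96b524602996d23c071e83008d0c4e0ca88957641842ec8688e0b8655d5a44c62dac399d3749a053456651e1819e95999e5f03d1d4d3701e0374c05e5d7391cd64da14513530e027e217710d66056e5809b5c1d689129108ef5f50a234ac3c44f2a90966e265fa1a844a16c11530999595170cc025520a7712102c2b0e4a91f8c569dbe39d883e1b37aceb68c5a7d8bc5e18c6f4387fd3344c660b9428116c730937557a5aa0f231f26b476585d9815433b80425191120910b4a41c1bb5290d7f21d48cdc5787b1418f001761fd162d0f75915359dc57b55121531304b1791a63420d5dc1c33d4021d636e5e551900671193f5df0684b8251a42092161ea626215384a078c7728ec1b80c7f59f3186a839b73a5a2638ce1652c27a081a10b60d07144cb7049f0fe0348874104f03d4987c07c0389a4401d804fe7d1686a8880840d378df7ed3e25e27171e60bcc461de77a05e6021c029b1760cc4d9c90d0a3149594a14481df736d2e4496f6e8c8721716d871385b872cf62f4277e5d45d42620c15059af78a000183c22d392243746d2a0c8407b18d661bf7795a294da480ff2593c6f03510c0378d4f498d438a166b8d71bcd973c63894b65157216d735321f088797cdf58559586e202ddee84db44b4e0560fa11dd0095056591e361b26750e1b46c20405061482812b541b57c47d71cb93a9dd04019571a856c1315c821140129c903ec2038d4b5551847cbf2f82903c3b22814135115fc36024c90b0b50a8ad020174bc1209130211620e91d,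 [0, 0, 0], [0, 13]) := Or.inr (Or.inl ⟨1, by decide +kernel⟩)
theorem qR0_10 : chkE 552 10 GR0 (LR0.map fun a => a.1) (0x2cd331557b525b125894076148482e23d851bd9721cd11a0fc05dc65ad0225c7743dfe470b17f4a24e1835b8d5348c36884651dff751253a18a1456c0e93724d8617ca1100cb599060d128435342e9602f1987455127d843387d878e52b91e769db3d1795e2186c0e3315fa794860c199631a7150ed69060165245cd9b709c3505a54c9566ada91ed2e1905041d3a44c3f4ec332b1cc14844534a86f60d18c2c7559462dd010d58749812ecb6130e0365cb7385e5f14f221b47003226d9557d4b1054a64da1539542e187501055bdf0681010f8dd4a5d680d70770e15e9aa23622624fe2a87018946645ee6f9524fc7442def594c8329624d50e109210642b0a41c1f8674f611161613e207498481b5c57ec312552788c38830af08cdc1e1237044e55d9a5a57d7c8b92116a67cf7621d96021c3b80406d7e3ac210b4a4425207349d72a1d50866578a601dd8474c12491617076269533685a29c69215315d8114499d5a20b4f0a9635f8195b286e1089900128b73f5df378353a51a5687f39dea3c4714519c638c77f0ec3e82f239ad87d967ccd882449078722c8bf6ea161acc22707a40d828105343224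51115390ff55498359f103964440cd3884f89cd042875245a8069c77d9f5185f42d079031728094c5fd9e815432b57463ccc46200175ec641591cd226cc018556d791c4279176f17173e213bd1f7a51b3ec2235c1f5d43c20c15204a56b9c90182622c030ec053d92a7810428ccf2c1dd895086bd676ecf03c9777204b399393503d7ade380608789f9266066da19778566d4c416cf379cc609de68393e36cc06e52f4661a020d3541e174c6e11dac116171a8ab6dd6369a0a68c820583756d480912b4b5451f19237e0f2d5bf0400b5700d0600f2406c095f77b4572f4203e5d73d5366e12c0a83904c8922814025117a036134c9574ea2f80a84c2888012281302300220000, [1, 1, 0], [15, 7]) = true := by decide +kernel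
theorem rR0_10 : CeR0 (0x2cd331557b525b125894076148482e23d851bd9721cd11a0fc05dc65ad0225c7743dfe470b17f4a24e1835b8d5348c36884651dff751253a18a1456c0e93724d8617ca1100cb599060d128435342e9602f1987455127d843387d878e52b91e769db3d1795e2186c0e3315fa794860c199631a7150ed69060165245cd9b709c3505a54c9566ada91ed2e1905041d3a44c3f4ec332b1cc14844534a86f60d18c2c7559462dd010d58749812ecb6130e0365cb7385e5f14f221b47003226d9557d4b1054a64da1539542e187501055bdf0681010f8dd4a5d680d70770e15e9aa23622624fe2a87018946645ee6f9524fc7442def594c8329624d50e109210642b0a41c1f8674f611161613e207498481b5c57ec312552788c38830af08cdc1e1237044e55d9a5a57d7c8b92116a67cf7621d96021c3b80406d7e3ac210b4a4425207349d72a1d50866578a601dd8474c12491617076269533685a29c69215315d8114499d5a20b4f0a9635f8195b286e1089900128b73f5df378353a51a5687f39dea3c4714519c638c77f0ec3e82f239ad87d967ccd882449078722c8bf6ea161acc22707a40d82810534322451115390ff55498359f103964440cd3884f89cd042875245a8069c77d9f5185f42d079031728094c5fd9e815432b57463ccc46200175ec641591cd226cc018556d791c4279176f17173e213bd1f7a51b3ec2235c1f5d43c20c15204a56b9c90182622c030ec053d92a7810428ccf2c1dd895086bd676ecf03c9777204b399393503d7ade380608789f9266066da19778566d4c416cf379cc609de68393e36cc06e52f4661a020d3541e174c6e11dac116171a8ab6dd6369a0a68c820583756d480912b4b5451f19237e0f2d5bf0400b5700d0600f2406c095f77b4572f4203e5d73d5366e12c0a83904c8922814025117a036134c9574ea2f80a84c2888012281302300220000,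 [1, 1, 0], [15, 7]) := Or.inr (Or.inl ⟨1, by decide +kernel⟩)
theorem qR0_11 : chkE 552 10 GR0 (LR0.map fun a => a.1) (0x30d011dcd2525742580739ddf4913240c4e181d6110dc27e1e0261d559020c0556a9474283e38c66548622bcd55ecb319ca87fa0c824ed535d219106090bb2e8b83953b329825996c08ca61a4f424c11164567449d1a0651287d3f05f1e179769db4d11e0797c69dfd125a1795a425d9949db0669252186f2f2125389c709c3505930b96b6ac991ccdd1441b104611759428504889d51d4873a0466f5766f0be7303f701c90f601629814dcb0430f07113e739e6860e6641a662c325b4a52acef41dcd695fa5cd35619f4869e2818d6681332c52e4f19789177761d71c10f234ac714b42617a60e05279f8845384f50b1d1ef594c810162551e863d210342b0e4f7291a24fdbe335884596a7904b659896b4b26398c88c387fd6e0d0d12b923705855a45455d096cdb61b2077d81c585ea899bf44004141ba0d41a0d87e5f5ec529517f1c6508a257928251dc4760b248f813ca92691a340f16d50d048c7835607acd359cc14a4766ddee6107c35e1060100339723f614244eb07d534d87f075d9168713cc7225531728ec4b40c3e5fb3d46d778cf750c55e19c0c4fb5f94414d1566ce423ccb8106b13203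858c21e9e1318aa7c163039643b85874c5c808da470523780b085e767de94e9873f99e0bcb789cdf82879519dd2b5b110971421ac44d202212a1ee087c80578c9b498d96451718ccc83e2152e207d51b2fc2786ce95d40320c150599585dd04453922c3c224013d959780336ecd82d943839183016828ce03c9708644853c2636c4344a1556122415b96a56f2e5c87cd9829d1916d1471d550885e895cb351af7e5b83114003d9d1b8ff3895011e00115ae68d5f635f16d17f1a88c205f7061480e8103e9ed6c992531cf3aa1c4ada85701956c0815c8409437514904b020238e187d5a4bcbd5742984c3b2281405c064382d0a0c90a8b50b00a04c4d47c85201302080228000, [1, 1, 0, 0, 0], [8, 12]) = true := by decide +kernel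
theorem rR0_11 : CeR0 (0x30d011dcd2525742580739ddf4913240c4e181d6110dc27e1e0261d559020c0556a9474283e38c66548622bcd55ecb319ca87fa0c824ed535d219106090bb2e8b83953b329825996c08ca61a4f424c11164567449d1a0651287d3f05f1e179769db4d11e0797c69dfd125a1795a425d9949db0669252186f2f2125389c709c3505930b96b6ac991ccdd1441b104611759428504889d51d4873a0466f5766f0be7303f701c90f601629814dcb0430f07113e739e6860e6641a662c325b4a52acef41dcd695fa5cd35619f4869e2818d6681332c52e4f19789177761d71c10f234ac714b42617a60e05279f8845384f50b1d1ef594c810162551e863d210342b0e4f7291a24fdbe335884596a7904b659896b4b26398c88c387fd6e0d0d12b923705855a45455d096cdb61b2077d81c585ea899bf44004141ba0d41a0d87e5f5ec529517f1c6508a257928251dc4760b248f813ca92691a340f16d50d048c7835607acd359cc14a4766ddee6107c35e1060100339723f614244eb07d534d87f075d9168713cc7225531728ec4b40c3e5fb3d46d778cf750c55e19c0c4fb5f94414d1566ce423ccb8106b13203858c21e9e1318aa7c163039643b85874c5c808da470523780b085e767de94e9873f99e0bcb789cdf82879519dd2b5b110971421ac44d202212a1ee087c80578c9b498d96451718ccc83e2152e207d51b2fc2786ce95d40320c150599585dd04453922c3c224013d959780336ecd82d943839183016828ce03c9708644853c2636c4344a1556122415b96a56f2e5c87cd9829d1916d1471d550885e895cb351af7e5b83114003d9d1b8ff3895011e00115ae68d5f635f16d17f1a88c205f7061480e8103e9ed6c992531cf3aa1c4ada85701956c0815c8409437514904b020238e187d5a4bcbd5742984c3b2281405c064382d0a0c90a8b50b00a04c4d47c85201302080228000,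 [1, 1, 0, 0, 0], [8, 12]) := Or.inr (Or.inl ⟨1, by decide +kernel⟩)
theorem qR0_12 : chkE 552 10 GR0 (LR0.map fun a => a.1) (0x82c2e5e9477bd3545c1d141d67496e5344627e14104ba26618209fa494d51647089cd27d0332d0543801c2b9d17f8c10d56c5ee245c96b192124dc860a88f28a0d424ff2c5276f5a407888131d9198401855f5043f6a47a81c925f17d4cd98681817a8561761e340fe1221d705852f149608da37156138684e98a37876509234098b2bced6646b1494f2ec58194312550d78560621154a10714506738c33503a3086964e1a4b92d491da40d1e544a14214488c423f09b1edeb694f610dbb2d9ed611f0701c6245745d90f6b0cf4d94a76d32410e6895df831de799b517e02039612fc8e458e53dd4368dc9728f05a1d5731ab400960f8ad6c5631e5300148a0a59b3b8eb59dfc252222a99c699a2278fb6e4970d0cb5988b80c785e093405c2840a81d0d142c77338df05c7235c9c2b0f46fe052915e3346d1257304110154a5359946f9a170d9a0119039c5e115866489838d831c5714fcbd3bd0c0192a2ccca34de469cb883862789d0391e86b604871655a81f3b197450c5464cc7107d06d344b164085f208d59844fd74c2f171f96e1914a6172dc4b44db30c05a659e91bd572a4873a18c7946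0275ff7d56911138880f87360a236211f8071b9fd4293d61ca63cdf7539b686e082c9aa3e5d8030e94720f1f1dc775800095467953819f8639951cd311d53e1280b18c3d6d1181a8f236d1a79c9a514f5488323c4227ecc43240f5215c204a36dd40048130e0080eda8780c746c11301ae5e6265dd6f7b1b06bd3b321f3854675b613720dd675bc3e9cb361f614d5a531e34f0ab52e090801a2e51f09d8f5c2168652067cc675200099268055254158051ee0018d5f8b04157f449b26e84d0580d56c835742d389d74387f73dc72d5460d83705401061392400947419384576245b13ca74bcd9555c52803900c890ac47230857c52b21175200ea091620f06c87d110b1210a00a2f825, [1, 1, 1, 0, 0, 0], [4, 9]) = true := by decide +kernel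
theorem rR0_12 : CeR0 (0x82c2e5e9477bd3545c1d141d67496e5344627e14104ba26618209fa494d51647089cd27d0332d0543801c2b9d17f8c10d56c5ee245c96b192124dc860a88f28a0d424ff2c5276f5a407888131d9198401855f5043f6a47a81c925f17d4cd98681817a8561761e340fe1221d705852f149608da37156138684e98a37876509234098b2bced6646b1494f2ec58194312550d78560621154a10714506738c33503a3086964e1a4b92d491da40d1e544a14214488c423f09b1edeb694f610dbb2d9ed611f0701c6245745d90f6b0cf4d94a76d32410e6895df831de799b517e02039612fc8e458e53dd4368dc9728f05a1d5731ab400960f8ad6c5631e5300148a0a59b3b8eb59dfc252222a99c699a2278fb6e4970d0cb5988b80c785e093405c2840a81d0d142c77338df05c7235c9c2b0f46fe052915e3346d1257304110154a5359946f9a170d9a0119039c5e115866489838d831c5714fcbd3bd0c0192a2ccca34de469cb883862789d0391e86b604871655a81f3b197450c5464cc7107d06d344b164085f208d59844fd74c2f171f96e1914a6172dc4b44db30c05a659e91bd572a4873a18c79460275ff7d56911138880f87360a236211f8071b9fd4293d61ca63cdf7539b686e082c9aa3e5d8030e94720f1f1dc775800095467953819f8639951cd311d53e1280b18c3d6d1181a8f236d1a79c9a514f5488323c4227ecc43240f5215c204a36dd40048130e0080eda8780c746c11301ae5e6265dd6f7b1b06bd3b321f3854675b613720dd675bc3e9cb361f614d5a531e34f0ab52e090801a2e51f09d8f5c2168652067cc675200099268055254158051ee0018d5f8b04157f449b26e84d0580d56c835742d389d74387f73dc72d5460d83705401061392400947419384576245b13ca74bcd9555c52803900c890ac47230857c52b21175200ea091620f06c87d110b1210a00a2f825,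 [1, 1, 1, 0, 0, 0], [4, 9]) := Or.inr (Or.inl ⟨0, by decide +kernel⟩)
theorem qR0_13 : chkE 552 10 GR0 (LR0.map fun a => a.1) (0x5d8ae42547665353205825197629334dc861addf1e99a1817c211a1495410c57d61cd28084013c933fc760b9027fa0d121855ee244656b40d24534460b051370c15e8e05812788ca8254520fdea344330c11e3544c1bc417c87f860705b8b6605a0764b008cfc59c5c0d5c68116c2c9ab60968289564185325dd20841c48d42745c0404ed7bc9f220433a01d11059079513c0b16210b1ece423c4e59986854a01d09d695f826c6e849db1915f435384da086f5d88792e4a1e464d1b53dec661b521df062e1d0697482d0a725b74214a768783283d7ce148320e679ed155f4039612f4e33e0772a5bf659ac729e1369575a549400f20440a6c47c179307dc8a0a5834404b341fc14222260ce34cc55f92c35d3a44ccb7388b80d32638542bdc3795a430866454e5671e71344a6e4622b13450e261f95e39c6a19d144acee17cc03590c6f9fa708ba0107533479094c31f4aa2399b884cc69cbf75d94445592e104699eb4fcb37789c85e0041e0a7d9c1775656ce093b1d65cda25c9718199201cf43ec9a37a071752a844fd8042f3fa1b881ba5dde2310eb0d16a1858968d3e6a5d53dd842ed8c84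0991a5ff72dcc194a16e116735e8234712901b4b4f943db089c73538053ce0f7e5442f11c7f442031d46a9b658d8f87146589547991a7121a5e1af298c7641e91c80d720e66755a1b49678d5337d6429cc6859e07142267cb7326135215c2052033dee214080e0130ec190c9313d83e295052ae054a4d96ed3d6555245e25350493740f18d6d6d219541f5635ad1a11871cdb5c1793841f0809173d2f09ddc4f1226f0a37ecf53a5d000d1274d3b3e8e205140474d8278566b90e499f1644170580b56c832f836560ef5fc922e54c2d5800b401054370603c24028001a852c571685b2d14547d6f87cf10e839098890ac471b0126c81020975090ea200024e48c554060a921024ad57445, [1, 0, 0, 0], [14, 11]) = true := by decide +kernel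
theorem rR0_13 : CeR0 (0x5d8ae42547665353205825197629334dc861addf1e99a1817c211a1495410c57d61cd28084013c933fc760b9027fa0d121855ee244656b40d24534460b051370c15e8e05812788ca8254520fdea344330c11e3544c1bc417c87f860705b8b6605a0764b008cfc59c5c0d5c68116c2c9ab60968289564185325dd20841c48d42745c0404ed7bc9f220433a01d11059079513c0b16210b1ece423c4e59986854a01d09d695f826c6e849db1915f435384da086f5d88792e4a1e464d1b53dec661b521df062e1d0697482d0a725b74214a768783283d7ce148320e679ed155f4039612f4e33e0772a5bf659ac729e1369575a549400f20440a6c47c179307dc8a0a5834404b341fc14222260ce34cc55f92c35d3a44ccb7388b80d32638542bdc3795a430866454e5671e71344a6e4622b13450e261f95e39c6a19d144acee17cc03590c6f9fa708ba0107533479094c31f4aa2399b884cc69cbf75d94445592e104699eb4fcb37789c85e0041e0a7d9c1775656ce093b1d65cda25c9718199201cf43ec9a37a071752a844fd8042f3fa1b881ba5dde2310eb0d16a1858968d3e6a5d53dd842ed8c840991a5ff72dcc194a16e116735e8234712901b4b4f943db089c73538053ce0f7e5442f11c7f442031d46a9b658d8f87146589547991a7121a5e1af298c7641e91c80d720e66755a1b49678d5337d6429cc6859e07142267cb7326135215c2052033dee214080e0130ec190c9313d83e295052ae054a4d96ed3d6555245e25350493740f18d6d6d219541f5635ad1a11871cdb5c1793841f0809173d2f09ddc4f1226f0a37ecf53a5d000d1274d3b3e8e205140474d8278566b90e499f1644170580b56c832f836560ef5fc922e54c2d5800b401054370603c24028001a852c571685b2d14547d6f87cf10e839098890ac471b0126c81020975090ea200024e48c554060a921024ad57445,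 [1, 0, 0, 0], [14, 11]) := Or.inr (Or.inl ⟨0, by decide +kernel⟩)
theorem qR0_14 : chkE 552 10 GR0 (LR0.map fun a => a.1) (0x471bf5c20c59988268f54be187e9467edac854fc6ddf56f19700d8a72a0479d772ce246187c5c93e1c93650de57fd0a4b5ee80d7b3f9be7e5c667dc9034d74890f4f04a5fdcd6add075ca534cf4821636d842705a618ccf4e11b759296005e605a04d1e66d614454b71ba125054071e237c0c285a11869e32e5a12fd0848d4284193815fc738d43006d7d8c6788df3bd123390e550da4818d6e5f86662714c37341eb701855f8eb875db86dd8499b32a4dc524ab77c9e28d0d62c7f1a87b1e434414cb695243ee226a9762a0e43dd2776a1c6c9961561e7f8e566113778c3325352441f54df35687810da43b59c1d1b069dbd40221828ad2b0ca2c00428015060d931cfa42d2547db1330e0651585b4de191cf514d67bc83349dd385e9899c340a0059d445a2253fcb204cf040dc45d1ea4c96e56521554e674d890d93183990609b4559d2709cb4c19587c56115870c9718256f3c8aa55c1a6399d048a4809f143151755f41de066108636160534d50b965548f93b17c168e21709866de06e1d9084c82f4a17b47e5acfd314b5310511409b424872d15029d3b83cf353cba7213d461ae6b54a746197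914724d3f85d6a2511a630b15d4964aa2012dd482d692e1ec3c43a7153a23ca25320d3a5793a88e304974111e2b901009612d8f860d6c52c886ecee6bd9a784be265a30fc760f4711ad162f11708ce719992450573a04f0384d0e02b0ec7341c4e44409520280582c1f510249e81d444771335e8624a1cc149f25905f1a20164417181ba131a90d4541e93736c1c0c49f5f58f255fd0812c184072415f1c0d11bca62eccd38c461b09d68a071206705106000413759e1943e1a4334b8082255d0a48b0641012578044f60c059030af4ac24228800e48408a134742a078275385b4645d06c9c161730055b23081570470f0061002d0988d0142f7dd62209390748502d5e03c0a6a025, [1], [6, 8]) = true := by decide +kernel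
theorem rR0_14 : CeR0 (0x471bf5c20c59988268f54be187e9467edac854fc6ddf56f19700d8a72a0479d772ce246187c5c93e1c93650de57fd0a4b5ee80d7b3f9be7e5c667dc9034d74890f4f04a5fdcd6add075ca534cf4821636d842705a618ccf4e11b759296005e605a04d1e66d614454b71ba125054071e237c0c285a11869e32e5a12fd0848d4284193815fc738d43006d7d8c6788df3bd123390e550da4818d6e5f86662714c37341eb701855f8eb875db86dd8499b32a4dc524ab77c9e28d0d62c7f1a87b1e434414cb695243ee226a9762a0e43dd2776a1c6c9961561e7f8e566113778c3325352441f54df35687810da43b59c1d1b069dbd40221828ad2b0ca2c00428015060d931cfa42d2547db1330e0651585b4de191cf514d67bc83349dd385e9899c340a0059d445a2253fcb204cf040dc45d1ea4c96e56521554e674d890d93183990609b4559d2709cb4c19587c56115870c9718256f3c8aa55c1a6399d048a4809f143151755f41de066108636160534d50b965548f93b17c168e21709866de06e1d9084c82f4a17b47e5acfd314b5310511409b424872d15029d3b83cf353cba7213d461ae6b54a746197914724d3f85d6a2511a630b15d4964aa2012dd482d692e1ec3c43a7153a23ca25320d3a5793a88e304974111e2b901009612d8f860d6c52c886ecee6bd9a784be265a30fc760f4711ad162f11708ce719992450573a04f0384d0e02b0ec7341c4e44409520280582c1f510249e81d444771335e8624a1cc149f25905f1a20164417181ba131a90d4541e93736c1c0c49f5f58f255fd0812c184072415f1c0d11bca62eccd38c461b09d68a071206705106000413759e1943e1a4334b8082255d0a48b0641012578044f60c059030af4ac24228800e48408a134742a078275385b4645d06c9c161730055b23081570470f0061002d0988d0142f7dd62209390748502d5e03c0a6a025,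 [1], [6, 8]) := Or.inr (Or.inl ⟨0, by decide +kernel⟩)
theorem qR0_15 : chkE 552 10 GR0 (LR0.map fun a => a.1) (0x7d14677a036f4ac1c52f31a1e875436e5ee18e184160836e14022126f9e52e5f382dff8350e3a6166ccd9601c189187389c983147239ca7d9fa35d40005fb4fa278396a1f0d66661a29ca3499ea72d7f5307984112351ae3803277e256fc42769db7658f52dd65a41f561d2409ac6d966529577a5fc801bc37dc61696f709c3811c07761188dc84809e86d1f361cf514d381d635d13f295e267dd05250a1800d4f59d694461b449685816b45e6984a188937bcb065c6a3004c64c7d5f8527601e33d2762d8a3c561808b341844270cb682057a1915e97c3497d57c954f0c15d5b13ccc45c529711014b84e559f2754d0369ce5949a6c8026203e5e55e0b15c06108565d37316b3d53554ca11a52d0f5142ede775dcd6ad487fa266d52287123355f86c1f569d774e03000d3b3a118551342bcae4c5308816d540bf4ad2a5c073631eb3b52450944485bb6e0ab0010f3d91a2dd36321161d14e08de4445104720a2743f309aa1c15a1e98585c40145d15b9003c04f3f4fc2f46e38cf81d91b554f45cc96624ff384ee494ec120b58253716043154413e6013bde171c1a26c6685567819b77e5f0505e36d17b2896863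472074cc608333251731e1f19d722e10b5d9954b02a3ec315345483cc3464563a85c61859045984cd3202a22478aa070867b47b6bca47b0d15482414dba43583375641bc98184f25e01b6687f08457191fd2348422c8a0ec75194a82148c20c6c0583a2487e649f1299077982e17cf7221154a0ce88509264fa68c821a1965446b314dc21c8f8659b25da91dd9e0d0b416dc52c8e7240b6394ba27d9040c073f96c025940d59c688eb11da409584399dc391044316053c26224800a4380143612c5d329e02f13a030780b55d0acbe0e4170883c114a044c27244207518e334a9250de02d5b0a0810541403c122c41004c0e6a02f064ad13613140060dc044e5627dd1d, [1, 1, 0, 0], [11, 3]) = true := by decide +kernel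
theorem rR0_15 : CeR0 (0x7d14677a036f4ac1c52f31a1e875436e5ee18e184160836e14022126f9e52e5f382dff8350e3a6166ccd9601c189187389c983147239ca7d9fa35d40005fb4fa278396a1f0d66661a29ca3499ea72d7f5307984112351ae3803277e256fc42769db7658f52dd65a41f561d2409ac6d966529577a5fc801bc37dc61696f709c3811c07761188dc84809e86d1f361cf514d381d635d13f295e267dd05250a1800d4f59d694461b449685816b45e6984a188937bcb065c6a3004c64c7d5f8527601e33d2762d8a3c561808b341844270cb682057a1915e97c3497d57c954f0c15d5b13ccc45c529711014b84e559f2754d0369ce5949a6c8026203e5e55e0b15c06108565d37316b3d53554ca11a52d0f5142ede775dcd6ad487fa266d52287123355f86c1f569d774e03000d3b3a118551342bcae4c5308816d540bf4ad2a5c073631eb3b52450944485bb6e0ab0010f3d91a2dd36321161d14e08de4445104720a2743f309aa1c15a1e98585c40145d15b9003c04f3f4fc2f46e38cf81d91b554f45cc96624ff384ee494ec120b58253716043154413e6013bde171c1a26c6685567819b77e5f0505e36d17b2896863472074cc608333251731e1f19d722e10b5d9954b02a3ec315345483cc3464563a85c61859045984cd3202a22478aa070867b47b6bca47b0d15482414dba43583375641bc98184f25e01b6687f08457191fd2348422c8a0ec75194a82148c20c6c0583a2487e649f1299077982e17cf7221154a0ce88509264fa68c821a1965446b314dc21c8f8659b25da91dd9e0d0b416dc52c8e7240b6394ba27d9040c073f96c025940d59c688eb11da409584399dc391044316053c26224800a4380143612c5d329e02f13a030780b55d0acbe0e4170883c114a044c27244207518e334a9250de02d5b0a0810541403c122c41004c0e6a02f064ad13613140060dc044e5627dd1d,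 [1, 1, 0, 0], [11, 3]) := Or.inr (Or.inr ⟨4, 0x6511, by decide +kernel⟩)
theorem QR0 : ∀ a ∈ LR0, chkE 552 10 GR0 (LR0.map fun a => a.1) a = true :=
  List.forall_mem_cons.2 ⟨qR0_0, List.forall_mem_cons.2 ⟨qR0_1, List.forall_mem_cons.2 ⟨qR0_2, List.forall_mem_cons.2 ⟨qR0_3, List.forall_mem_cons.2 ⟨qR0_4, List.forall_mem_cons.2 ⟨qR0_5, List.forall_mem_cons.2 ⟨qR0_6, List.forall_mem_cons.2 ⟨qR0_7, List.forall_mem_cons.2 ⟨qR0_8, List.forall_mem_cons.2 ⟨qR0_9, List.forall_mem_cons.2 ⟨qR0_10, List.forall_mem_cons.2 ⟨qR0_11, List.forall_mem_cons.2 ⟨qR0_12, List.forall_mem_cons.2 ⟨qR0_13, List.forall_mem_cons.2 ⟨qR0_14, List.forall_mem_cons.2 ⟨qR0_15, List.forall_mem_nil _⟩⟩⟩⟩⟩⟩⟩⟩⟩⟩⟩⟩⟩⟩⟩⟩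
theorem CR0 : ∀ a ∈ LR0, CeR0 a :=
  List.forall_mem_cons.2 ⟨rR0_0, List.forall_mem_cons.2 ⟨rR0_1, List.forall_mem_cons.2 ⟨rR0_2, List.forall_mem_cons.2 ⟨rR0_3, List.forall_mem_cons.2 ⟨rR0_4, List.forall_mem_cons.2 ⟨rR0_5, List.forall_mem_cons.2 ⟨rR0_6, List.forall_mem_cons.2 ⟨rR0_7, List.forall_mem_cons.2 ⟨rR0_8, List.forall_mem_cons.2 ⟨rR0_9, List.forall_mem_cons.2 ⟨rR0_10, List.forall_mem_cons.2 ⟨rR0_11, List.forall_mem_cons.2 ⟨rR0_12, List.forall_mem_cons.2 ⟨rR0_13, List.forall_mem_cons.2 ⟨rR0_14, List.forall_mem_cons.2 ⟨rR0_15, List.forall_mem_nil _⟩⟩⟩⟩⟩⟩⟩⟩⟩⟩⟩⟩⟩⟩⟩⟩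
theorem NR0 : ∃ a ∈ LR0, a.2.1 = [] := ⟨_, List.getElem_mem (n := 0) (by rw [lGR0]; norm_num), rfl⟩
/-- generators of W1 -/
noncomputable def GW1 : List ℕ := [e62, e75, e76]
theorem hGW1 : ∀ P ∈ GW1, Has P := List.forall_mem_cons.2 ⟨he62, List.forall_mem_cons.2 ⟨he75, List.forall_mem_cons.2 ⟨he76, List.forall_mem_nil _⟩⟩⟩
theorem mGW1 : allN (fun i => chkM 552 10 (nth GW1 i) p17) 3 = true := by decide +kernel
theorem kGW1 : incK (kt 10 [0, 1]) (LW1.map fun a => a.1) 0 = true := by decide +kernel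
theorem lGW1 : LW1.length = 32 := rfl
theorem qW1_0 : chkE 552 10 GW1 (LW1.map fun a => a.1) (0x89e268962488e228862087e1e8761c86e1a8661885e168561484e128461083e0e8360c82e0a8260881e068160480e02806007fdfe7f5fc7edfa7e5f87ddf67d5f47cdf27c5f07bdee7b5ec7adea7a5e879de6795e478de2785e077dde775dc76dda765d875dd6755d474dd2745d073dce735cc72dca725c871dc6715c470dc2705c06fdbe6f5bc6edba6e5b86ddb66d5b46cdb26c5b06bdae6b5ac6adaa6a5a869da6695a468da2685a067d9e6759c66d9a6659865d966559464d926459063d8e6358c62d8a6258861d866158460d82605805fd7e5f57c5ed7a5e5785dd765d5745cd725c5705bd6e5b56c5ad6a5a56859d665956458d625856057d5e5755c56d5a5655855d565555454d525455053d4e5354c52d4a5254851d465154450d42505404fd3e4f53c4ed3a4e5384dd364d5344cd324c5304bd2e4b52c4ad2a4a52849d264952448d224852047d1e4751c46d1a4651845d164551444d124451043d0e4350c42d0a4250841d064150440d02405003fcfe3f4fc3ecfa3e4f83dcf63d4f43ccf23c4f03bcee3b4ec3acea3a4e839ce6394e438ce2384e037cde374dc36cda364d835cd6354d434cd2344d033cce334cc32cca324c8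31cc6314c430cc2304c02fcbe2f4bc2ecba2e4b82dcb62d4b42ccb22c4b02bcae2b4ac2acaa2a4a829ca6294a428ca2284a027c9e2749c26c9a2649825c962549424c922449023c8e2348c22c8a2248821c862148420c82204801fc7e1f47c1ec7a1e4781dc761d4741cc721c4701bc6e1b46c1ac6a1a46819c661946418c621846017c5e1745c16c5a1645815c561545414c521445013c4e1344c12c4a1244811c461144410c42104400fc3e0f43c0ec3a0e4380dc360d4340cc320c4300bc2e0b42c0ac2a0a42809c260942408c220842007c1e0741c06c1a0641805c160541404c120441003c0e0340c02c0a0240801c060140400c0200400, [], [3, 17, 23]) = true := by decide +kernel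
theorem rW1_0 : CeW1 (0x89e268962488e228862087e1e8761c86e1a8661885e168561484e128461083e0e8360c82e0a8260881e068160480e02806007fdfe7f5fc7edfa7e5f87ddf67d5f47cdf27c5f07bdee7b5ec7adea7a5e879de6795e478de2785e077dde775dc76dda765d875dd6755d474dd2745d073dce735cc72dca725c871dc6715c470dc2705c06fdbe6f5bc6edba6e5b86ddb66d5b46cdb26c5b06bdae6b5ac6adaa6a5a869da6695a468da2685a067d9e6759c66d9a6659865d966559464d926459063d8e6358c62d8a6258861d866158460d82605805fd7e5f57c5ed7a5e5785dd765d5745cd725c5705bd6e5b56c5ad6a5a56859d665956458d625856057d5e5755c56d5a5655855d565555454d525455053d4e5354c52d4a5254851d465154450d42505404fd3e4f53c4ed3a4e5384dd364d5344cd324c5304bd2e4b52c4ad2a4a52849d264952448d224852047d1e4751c46d1a4651845d164551444d124451043d0e4350c42d0a4250841d064150440d02405003fcfe3f4fc3ecfa3e4f83dcf63d4f43ccf23c4f03bcee3b4ec3acea3a4e839ce6394e438ce2384e037cde374dc36cda364d835cd6354d434cd2344d033cce334cc32cca324c831cc6314c430cc2304c02fcbe2f4bc2ecba2e4b82dcb62d4b42ccb22c4b02bcae2b4ac2acaa2a4a829ca6294a428ca2284a027c9e2749c26c9a2649825c962549424c922449023c8e2348c22c8a2248821c862148420c82204801fc7e1f47c1ec7a1e4781dc761d4741cc721c4701bc6e1b46c1ac6a1a46819c661946418c621846017c5e1745c16c5a1645815c561545414c521445013c4e1344c12c4a1244811c461144410c42104400fc3e0f43c0ec3a0e4380dc360d4340cc320c4300bc2e0b42c0ac2a0a42809c260942408c220842007c1e0741c06c1a0641805c160541404c120441003c0e0340c02c0a0240801c060140400c0200400,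 [], [3, 17, 23]) := Or.inl rfl
theorem qW1_1 : chkE 552 10 GW1 (LW1.map fun a => a.1) (0x160650ccfc5f568886157617503e1c4290d734023d0dc880003402c5c9c77c1b88119782e027c57b3b84466e0d80e0a49daf7fdf67f4385348443c5d3c1fe4a59a220b98260f3a42864d8254416525e77a1ca7142373939709e0289035410259dc65721f071216b9990300563dd02f5e3865595dde634c6a841da79583629e16b0394201550cc909d663560e0fd306a0f26cc7f42c10801d5081c16adaa4fdb5090c13ec1f0f072611a0589482582f815f4750b683134654517b55a1544174560394af22dc3120ff0d4e1499a1711ec604804505288d378217a5e4b272ca5879065ce115c4325b96f27d3b5ad4518e2276dba53c1158d9f5858e57d5e299d9359927308755d1a320ce11c067addd594a97ecb830c897a59e51c6f5a8146f542504976a53e4cd3c5b0a1788095f070405964f4421edb626d2e424193646d7d4c2805852611348d1d7583447cc648871131562287d1e1160897f49111448bf7e50e868dd6c61b4b5bf14d7441468779dc4d4b56205c37a24694fa118c424c073d617165b42cdf70fa073b457078437bce82c436634941f0826182b2e8fd4321617c834ac7735d5b6e464724d23461306d542f079138506f1550c11e29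0f852d28698c04404d73ccd2ecdf7c94c2dd98400253c57839cb0630ab2b4ac2b85b5389229d5d5d8c50a9df4e86c5b44005c494bc76129255019d254e43dca8048211ac8e2346762d19529f356086215fa368e2205806c860460e34c47a331173609a1d4611a5a2471365186e4a8a023dc81cd0423066898d45a43a1d07e36c5e7e0fe2a81d3ce273b00a6443141d7e650ca13ccb2f91b12c992718954cf9116063a9326409e6dcef0f5a300c62701fc0dce661d2089570150c76702e0b612380a30a5ee6ec0e2d1a779115241ad690eb169d733c1a4b00d275ea6f94404c91591b087426061d3010564e0083d9527480b0ee1800614, [0, 1], [2, 16, 22]) = true := by decide +kernel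
theorem rW1_1 : CeW1 (0x160650ccfc5f568886157617503e1c4290d734023d0dc880003402c5c9c77c1b88119782e027c57b3b84466e0d80e0a49daf7fdf67f4385348443c5d3c1fe4a59a220b98260f3a42864d8254416525e77a1ca7142373939709e0289035410259dc65721f071216b9990300563dd02f5e3865595dde634c6a841da79583629e16b0394201550cc909d663560e0fd306a0f26cc7f42c10801d5081c16adaa4fdb5090c13ec1f0f072611a0589482582f815f4750b683134654517b55a1544174560394af22dc3120ff0d4e1499a1711ec604804505288d378217a5e4b272ca5879065ce115c4325b96f27d3b5ad4518e2276dba53c1158d9f5858e57d5e299d9359927308755d1a320ce11c067addd594a97ecb830c897a59e51c6f5a8146f542504976a53e4cd3c5b0a1788095f070405964f4421edb626d2e424193646d7d4c2805852611348d1d7583447cc648871131562287d1e1160897f49111448bf7e50e868dd6c61b4b5bf14d7441468779dc4d4b56205c37a24694fa118c424c073d617165b42cdf70fa073b457078437bce82c436634941f0826182b2e8fd4321617c834ac7735d5b6e464724d23461306d542f079138506f1550c11e290f852d28698c04404d73ccd2ecdf7c94c2dd98400253c57839cb0630ab2b4ac2b85b5389229d5d5d8c50a9df4e86c5b44005c494bc76129255019d254e43dca8048211ac8e2346762d19529f356086215fa368e2205806c860460e34c47a331173609a1d4611a5a2471365186e4a8a023dc81cd0423066898d45a43a1d07e36c5e7e0fe2a81d3ce273b00a6443141d7e650ca13ccb2f91b12c992718954cf9116063a9326409e6dcef0f5a300c62701fc0dce661d2089570150c76702e0b612380a30a5ee6ec0e2d1a779115241ad690eb169d733c1a4b00d275ea6f94404c91591b087426061d3010564e0083d9527480b0ee1800614,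 [0, 1], [2, 16, 22]) := Or.inr (Or.inr (Or.inl ⟨1, by decide +kernel⟩))
theorem qW1_2 : chkE 552 10 GW1 (LW1.map fun a => a.1) (0x5e87682cea56d0238a081861e20d9c16e1a141be4017b0fdfc2f9053f4052c5c802490895377e62081cee814890b1cf1c5f3211fb166147f8a78244c1b1e87600d80018265d43c1283b032098d9491f6071e6709592998f15ca32580361dcd599041c9f5535d65c1f035c2b341158080f771cc11d650a20e19dc664c0b335e54a5122021843c174f8f4684a23703a3a40e5053f149b06bd2060c7455daa1f8a0691a6581a7325806e48267d9e1aa1c58964620d865d96300ab714200f11f7898e394933098a42599774e1615846b434031a25cd760907d85a2727cb80e57e520d15fd72279d51c16e349405ad1c0ecca2d5db7299a58d9b161a54315e3690888c04791456acc828448445525115053cbb75cb23f842525753cd3356151128276cd6c6c9bb1bd3c25cc713532829363a094519384c52c4b92f311302a81b705ee21cc11fde90a922229ae6404e4356a17430464bd45c5a7404f44dc054c3e6f4eb4755f330166255c17c3d849da3da2206a1739d4b844fc3ec6e3dcce3e5033d5ba51c14065ef00a063b5ed43a246d5353fc6b634e42be216188c37cde199b714d5d7a99874c1f3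54d422d6d5d1d1000f870d0b1456868d564e8ae3152d1718b4999505613460bc538ba045782dc7759c451894c83c9b38cc6158336512b238107e9e31e4a4781b8555a85e5711549c2c0657c4604eddf09534630920c60c23ca9234e034d218108849c85219ff875a0205bf495a95f0461ec0a294062da26105ac1cdd98056f4f4fa0e1f73999d1a46871cdd2686401cb387c9841c5e46cc386d167f561784ad2745436db132e194511e4e5f8079431255472c7c2d04410d4a1d41385510419915a5b65dc6d074360d5822b1ec2451a0042d0ba03749230a5c9509eb2557d08c08085923584b0dde74a9013c5f26f10a2fcf2100122e4a8739b47d1817107a8342218c788415a778ef0bccf, [1, 0, 0], [27, 26, 24]) = true := by decide +kernel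
theorem rW1_2 : CeW1 (0x5e87682cea56d0238a081861e20d9c16e1a141be4017b0fdfc2f9053f4052c5c802490895377e62081cee814890b1cf1c5f3211fb166147f8a78244c1b1e87600d80018265d43c1283b032098d9491f6071e6709592998f15ca32580361dcd599041c9f5535d65c1f035c2b341158080f771cc11d650a20e19dc664c0b335e54a5122021843c174f8f4684a23703a3a40e5053f149b06bd2060c7455daa1f8a0691a6581a7325806e48267d9e1aa1c58964620d865d96300ab714200f11f7898e394933098a42599774e1615846b434031a25cd760907d85a2727cb80e57e520d15fd72279d51c16e349405ad1c0ecca2d5db7299a58d9b161a54315e3690888c04791456acc828448445525115053cbb75cb23f842525753cd3356151128276cd6c6c9bb1bd3c25cc713532829363a094519384c52c4b92f311302a81b705ee21cc11fde90a922229ae6404e4356a17430464bd45c5a7404f44dc054c3e6f4eb4755f330166255c17c3d849da3da2206a1739d4b844fc3ec6e3dcce3e5033d5ba51c14065ef00a063b5ed43a246d5353fc6b634e42be216188c37cde199b714d5d7a99874c1f354d422d6d5d1d1000f870d0b1456868d564e8ae3152d1718b4999505613460bc538ba045782dc7759c451894c83c9b38cc6158336512b238107e9e31e4a4781b8555a85e5711549c2c0657c4604eddf09534630920c60c23ca9234e034d218108849c85219ff875a0205bf495a95f0461ec0a294062da26105ac1cdd98056f4f4fa0e1f73999d1a46871cdd2686401cb387c9841c5e46cc386d167f561784ad2745436db132e194511e4e5f8079431255472c7c2d04410d4a1d41385510419915a5b65dc6d074360d5822b1ec2451a0042d0ba03749230a5c9509eb2557d08c08085923584b0dde74a9013c5f26f10a2fcf2100122e4a8739b47d1817107a8342218c788415a778ef0bccf,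 [1, 0, 0], [27, 26, 24]) := Or.inr (Or.inr (Or.inl ⟨18, by decide +kernel⟩))
theorem qW1_3 : chkE 552 10 GW1 (LW1.map fun a => a.1) (0x5849a2b0fc090ca3883f7d5487399c0591d770ef6e9b7820cf746035c867750a222597895cf2661681844588090b13721daf211e81646d75dff6f51b7bdfb70564220117e4b16d5c9714345110a5241c7d96564c2303c4d794a36e0f6542222d5c64206179c8a481886061078915460a6141e40e5e622d9d01504709ad628571d177570bf129a3509db355c88552c2801450525330a87cd706492955daa6c8e95f5263ecd6645d96108266d7577c018140d7c07724094300cb3b00427475341a5634e334ccd550e70d586305b902c32031bf13db156e0a8822727d4c11c798783d5fcfd279ec5b8705e4975ad5801d02598f453cb958d9f1618e4315e78c7207c20731276ac30558f872c78099877288e7f978172044919e3cd3d470f243c276cd3b1f9bb5193c5015563e0d1f56f069961bd4a1ec3a2c12f624f17a8387618b1c585181130a90d75982640ae48a017e0c84857c0185a021737a55370015824eb868661485b3108036cd18486800dcd3a167664c3378ea5806e1f12d630633d5007f40e1886c442073b5e112c433c13583c3639534119a0385d22ea1157d7b41e1d2a8b67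4e23684640a16d5d0be4a8482f0a547a1905ca14684e290ce3f9ee699950f939809c3538df060b22dcd885c95064b83fc9b24d941583331a1b2ec927e8da5f8c548c9631df7348136f0494ba2650c7f5b06a094e43e41004821398a9235c73091910a0051485218a757621205a24fc982f4af4c40a42d17660651061f1a5805a9364ccfa06da823e0e1cdda380dd1d8d40edb66b1a914c5e1314b4ac3751d7a7b47a0f09117d762ad684505184c5d079f127109444f72d0ee8913847d7137002418c9778b344a140746b775ae82dd51513a8702d0b905231e00a5284f9b4115a4565d08318369d0e4594d001014c1f4154d98615110031669b020deb7c8d7568ad4c82240d520adc45a5be0bdfc, [0], [26, 27, 25]) = true := by decide +kernel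
theorem rW1_3 : CeW1 (0x5849a2b0fc090ca3883f7d5487399c0591d770ef6e9b7820cf746035c867750a222597895cf2661681844588090b13721daf211e81646d75dff6f51b7bdfb70564220117e4b16d5c9714345110a5241c7d96564c2303c4d794a36e0f6542222d5c64206179c8a481886061078915460a6141e40e5e622d9d01504709ad628571d177570bf129a3509db355c88552c2801450525330a87cd706492955daa6c8e95f5263ecd6645d96108266d7577c018140d7c07724094300cb3b00427475341a5634e334ccd550e70d586305b902c32031bf13db156e0a8822727d4c11c798783d5fcfd279ec5b8705e4975ad5801d02598f453cb958d9f1618e4315e78c7207c20731276ac30558f872c78099877288e7f978172044919e3cd3d470f243c276cd3b1f9bb5193c5015563e0d1f56f069961bd4a1ec3a2c12f624f17a8387618b1c585181130a90d75982640ae48a017e0c84857c0185a021737a55370015824eb868661485b3108036cd18486800dcd3a167664c3378ea5806e1f12d630633d5007f40e1886c442073b5e112c433c13583c3639534119a0385d22ea1157d7b41e1d2a8b674e23684640a16d5d0be4a8482f0a547a1905ca14684e290ce3f9ee699950f939809c3538df060b22dcd885c95064b83fc9b24d941583331a1b2ec927e8da5f8c548c9631df7348136f0494ba2650c7f5b06a094e43e41004821398a9235c73091910a0051485218a757621205a24fc982f4af4c40a42d17660651061f1a5805a9364ccfa06da823e0e1cdda380dd1d8d40edb66b1a914c5e1314b4ac3751d7a7b47a0f09117d762ad684505184c5d079f127109444f72d0ee8913847d7137002418c9778b344a140746b775ae82dd51513a8702d0b905231e00a5284f9b4115a4565d08318369d0e4594d001014c1f4154d98615110031669b020deb7c8d7568ad4c82240d520adc45a5be0bdfc,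 [0], [26, 27, 25]) := Or.inr (Or.inl ⟨0, by decide +kernel⟩)
theorem qW1_4 : chkE 552 10 GW1 (LW1.map fun a => a.1) (0x508976045b88ce23297987e1e81d024101020a11278b04b9ca280f4861590a89601c47030481c49b874da01a045987d51591794597a09413d931286f135141d0b96f15b7c42278951169ae3c8ea231fd5cc387fce0611ef210e75d8633c5a0100d9200325fdd64a5232b1cc6d599338ee0bdd2336140510b44c16459924481d70490081606f5f358571574524bd877448b6cc416c50d68dec6b5206ac8147cbe668c90f9a46bda203ddc1e19e1e568549a7740db5dc6d654467e9c4800603c0023b51e0a0393e0a36d8f5155e3600618958375ccc0450927c27880c365ddf5207e79c156e970064b30fc9a3850f2259c0b2034a964395176edbe57cb76e55a7c95c8414355c4b079542f19b7b92c33ca951cfe52c090ad755353b80544562275053d0f458500295190e1b1034dd3031c1b46d324c5366de154b55010d65755282643c1d405750a8229ac6a58c2491c4cce8464c4589c53fdf671dc3084fd5a93a6c0dd720fc5f1081dc7f4021b4e21c321054554c4410a2fcfa145892b8f661a12071eb7758f379ce634a70c1ea3411a780e658c0032e225ade437cef430d266206768d80cc2420cd434cdc26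0e953dcf72d7e38e21699014d4af315185e02605cc03eda82f5532ecba7d0b8578b604cb45b8b202216318f71e9d324c68539223b044294a4620a206a135ee172202d8216c49cd189a0e115fc2ad1d245c00d88e179e96d1215a49d21c731a5e1356196a9d9419748084e1ecad6759f41c5d495f52180b8243a7e06e659391ac6a214aa08c6613064778356099017c8d1d85c891ed7f93e0dc566141214db83e4017ec7c7dc65559f90ba0a83194254a64ac036c9db5b5a54fd260ec70629e615c8f1883435dd80c4eb73449271675260f4f18b5e8c2094d619df0445bf03555708f34d0a15bc18305c65c9c92d4545f61a6840e07e0b1c80a528b183605490041098e140e4, [1, 2, 1], [14, 30, 19]) = true := by decide +kernel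
theorem rW1_4 : CeW1 (0x508976045b88ce23297987e1e81d024101020a11278b04b9ca280f4861590a89601c47030481c49b874da01a045987d51591794597a09413d931286f135141d0b96f15b7c42278951169ae3c8ea231fd5cc387fce0611ef210e75d8633c5a0100d9200325fdd64a5232b1cc6d599338ee0bdd2336140510b44c16459924481d70490081606f5f358571574524bd877448b6cc416c50d68dec6b5206ac8147cbe668c90f9a46bda203ddc1e19e1e568549a7740db5dc6d654467e9c4800603c0023b51e0a0393e0a36d8f5155e3600618958375ccc0450927c27880c365ddf5207e79c156e970064b30fc9a3850f2259c0b2034a964395176edbe57cb76e55a7c95c8414355c4b079542f19b7b92c33ca951cfe52c090ad755353b80544562275053d0f458500295190e1b1034dd3031c1b46d324c5366de154b55010d65755282643c1d405750a8229ac6a58c2491c4cce8464c4589c53fdf671dc3084fd5a93a6c0dd720fc5f1081dc7f4021b4e21c321054554c4410a2fcfa145892b8f661a12071eb7758f379ce634a70c1ea3411a780e658c0032e225ade437cef430d266206768d80cc2420cd434cdc260e953dcf72d7e38e21699014d4af315185e02605cc03eda82f5532ecba7d0b8578b604cb45b8b202216318f71e9d324c68539223b044294a4620a206a135ee172202d8216c49cd189a0e115fc2ad1d245c00d88e179e96d1215a49d21c731a5e1356196a9d9419748084e1ecad6759f41c5d495f52180b8243a7e06e659391ac6a214aa08c6613064778356099017c8d1d85c891ed7f93e0dc566141214db83e4017ec7c7dc65559f90ba0a83194254a64ac036c9db5b5a54fd260ec70629e615c8f1883435dd80c4eb73449271675260f4f18b5e8c2094d619df0445bf03555708f34d0a15bc18305c65c9c92d4545f61a6840e07e0b1c80a528b183605490041098e140e4,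 [1, 2, 1], [14, 30, 19]) := Or.inr (Or.inr (Or.inl ⟨4, by decide +kernel⟩))
theorem qW1_5 : chkE 552 10 GW1 (LW1.map fun a => a.1) (0x4f84c35d0a0459c3292e0c948685023f1b00bd8e848d25e4e43a5670551308852811770307d7c49f738a65480759848265a3795147a1e651de15a87663c59755a7275f41c42a3418b7e8617b9c60ad737f614458673b86c074e7289384b21c0b01656a1f3cc8a7b1d082d243c1992f58420a1065c3834c6a564d97fd800e4844818a42172561a65ea0320c965b5362f9eb6cd067221a645296fdc16ac810f5d1358172fc0d4980b78ddc45d75839cd018b948cb611c1b654f91695c615b26d5be58cc66d112829151896b0f00f649ae895d97d9b888d3726c27880b2334a58787f79e186e9d82cc195ed4638601778e21017133d7d394786ec0257cb711080091c47488755ce8405cf832053c8f14a94e13cb85e1692319e535f843dc96f6275062647c5846c292681a7bd4a4243a3206d500031ed87822155f16f769961d02651455345c775092758346a4af2a2091944b4860267dc57c1d70142170cfb1293a0410c6c5044b42014c7e400aa18da031c1328c5c3bc5b0f8fa651182ae0d6189e7f88b5b84d6961d634375552b7891a0208f3b5fc13a193d5492e910374b017cd510d070c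df257464050dc260a04d15454d9d1f0017cc1e3ad8c2918952d28324c03f5f7339cb2ecdf56cfe578db41425774c378216478931e9d33de242a51d3b1b977cc583d76439390fddb3042e6dc5d7e4754f479114002b922151111ac8e178230a119025bc50c731a59381a226a98310590310cb4c4ad5f9623616c49582215a2471304ec6e596130d90b21a1b7a46625cd4224707d5746608d1bd4c1a1c20714229c0a800311dccc11a217ece36a133559270b4f82f051254da7a932182174bcde4fdaf108352409415ce66d9ac60570049355a049270f4791884f1515840e2d19a380ff701ad690307b57f53ca15401f220ea581442d4915910d81cc2060ac0105640cb13d99b730720ee11141ca, [1, 0, 2], [15, 31, 18]) = true := by decide +kernel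
theorem rW1_5 : CeW1 (0x4f84c35d0a0459c3292e0c948685023f1b00bd8e848d25e4e43a5670551308852811770307d7c49f738a65480759848265a3795147a1e651de15a87663c59755a7275f41c42a3418b7e8617b9c60ad737f614458673b86c074e7289384b21c0b01656a1f3cc8a7b1d082d243c1992f58420a1065c3834c6a564d97fd800e4844818a42172561a65ea0320c965b5362f9eb6cd067221a645296fdc16ac810f5d1358172fc0d4980b78ddc45d75839cd018b948cb611c1b654f91695c615b26d5be58cc66d112829151896b0f00f649ae895d97d9b888d3726c27880b2334a58787f79e186e9d82cc195ed4638601778e21017133d7d394786ec0257cb711080091c47488755ce8405cf832053c8f14a94e13cb85e1692319e535f843dc96f6275062647c5846c292681a7bd4a4243a3206d500031ed87822155f16f769961d02651455345c775092758346a4af2a2091944b4860267dc57c1d70142170cfb1293a0410c6c5044b42014c7e400aa18da031c1328c5c3bc5b0f8fa651182ae0d6189e7f88b5b84d6961d634375552b7891a0208f3b5fc13a193d5492e910374b017cd510d070cdf257464050dc260a04d15454d9d1f0017cc1e3ad8c2918952d28324c03f5f7339cb2ecdf56cfe578db41425774c378216478931e9d33de242a51d3b1b977cc583d76439390fddb3042e6dc5d7e4754f479114002b922151111ac8e178230a119025bc50c731a59381a226a98310590310cb4c4ad5f9623616c49582215a2471304ec6e596130d90b21a1b7a46625cd4224707d5746608d1bd4c1a1c20714229c0a800311dccc11a217ece36a133559270b4f82f051254da7a932182174bcde4fdaf108352409415ce66d9ac60570049355a049270f4791884f1515840e2d19a380ff701ad690307b57f53ca15401f220ea581442d4915910d81cc2060ac0105640cb13d99b730720ee11141ca,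 [1, 0, 2], [15, 31, 18]) := Or.inr (Or.inl ⟨0, by decide +kernel⟩)
theorem qW1_6 : chkE 552 10 GW1 (LW1.map fun a => a.1) (0x5e94682d047c8ca6717b60a1e874e236522771106ea086dd2a2f971580e075176778cd8955451616355b967d691010950d26075e84501b7d916561401b1fb4817d3062349cb13c144715ac7245b791fe75d96785e978d8f795153320d5be192d4ea081ae79dd67060f35dd2340a3624da14149448947ad7e71cfc7b5bf24057754477103e5a9914fa17819b1854f13a4d3505256e092699d8601ec55daa180a0591af3f59a68d833b82f8159e2962166da43fc53629e63004e3b0726f0d1788de6347c0519773ce71c1862204468a1f031ad51dc87d0f88822726c5c5de0e5211f3ccfb84929774354b84c3d5bd81102599674d1a73b562162113755e03c0406108491f96ad5555a0a54d174a1363908e0714b53007731755fe26825ee804276cdf81fdbb2693c46c30134f612150439651d9034c5303496d4612c4ae145c1517c6006c95908a1a229f55d0ab4750f4ecc74652d549fa781fd08dcb4461847135434662590a8095a2d87527a244c96812cf4664b2695c65c86e38d7c2bd385ad005ccc26d9ef3bda158d933a1da6d4eb6206b3954f3e61c3861037d8e57c3f361ce86cdb74c1181cd46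d12f641d133c7d831df31a22324a1468cb314bd2e0f27cd952fe13310212a4ba07cc32dd0776c952ccfe7c09f3dc5102833478aa2eca8168a6674a474052321a82c105274495e53d21c7e1750b2d1ca119b00c5c323d4e23405039210ed85264862143720c012040b4fc983398c1ec561a87817d33418321a59212987194fa1b5f7398791cc4319d0c1bc64108620d1a91dc5e25d787a8a713d617087a15454660a22b9cd165944e56c404712713770093095841a0630f603371be10417224190e438210365b8612b0742453a6802e0b4130ac080a426508281140d44d232f1d92e41a7fd4d7f01e0e95b0f0160558b0b012358105748b09181200ad00c2a528062315c0240220800, [2, 1, 2, 0, 0], [29, 28, 21]) = true := by decide +kernel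
theorem rW1_6 : CeW1 (0x5e94682d047c8ca6717b60a1e874e236522771106ea086dd2a2f971580e075176778cd8955451616355b967d691010950d26075e84501b7d916561401b1fb4817d3062349cb13c144715ac7245b791fe75d96785e978d8f795153320d5be192d4ea081ae79dd67060f35dd2340a3624da14149448947ad7e71cfc7b5bf24057754477103e5a9914fa17819b1854f13a4d3505256e092699d8601ec55daa180a0591af3f59a68d833b82f8159e2962166da43fc53629e63004e3b0726f0d1788de6347c0519773ce71c1862204468a1f031ad51dc87d0f88822726c5c5de0e5211f3ccfb84929774354b84c3d5bd81102599674d1a73b562162113755e03c0406108491f96ad5555a0a54d174a1363908e0714b53007731755fe26825ee804276cdf81fdbb2693c46c30134f612150439651d9034c5303496d4612c4ae145c1517c6006c95908a1a229f55d0ab4750f4ecc74652d549fa781fd08dcb4461847135434662590a8095a2d87527a244c96812cf4664b2695c65c86e38d7c2bd385ad005ccc26d9ef3bda158d933a1da6d4eb6206b3954f3e61c3861037d8e57c3f361ce86cdb74c1181cd46d12f641d133c7d831df31a22324a1468cb314bd2e0f27cd952fe13310212a4ba07cc32dd0776c952ccfe7c09f3dc5102833478aa2eca8168a6674a474052321a82c105274495e53d21c7e1750b2d1ca119b00c5c323d4e23405039210ed85264862143720c012040b4fc983398c1ec561a87817d33418321a59212987194fa1b5f7398791cc4319d0c1bc64108620d1a91dc5e25d787a8a713d617087a15454660a22b9cd165944e56c404712713770093095841a0630f603371be10417224190e438210365b8612b0742453a6802e0b4130ac080a426508281140d44d232f1d92e41a7fd4d7f01e0e95b0f0160558b0b012358105748b09181200ad00c2a528062315c0240220800,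 [2, 1, 2, 0, 0], [29, 28, 21]) := Or.inr (Or.inr (Or.inl ⟨0, by decide +kernel⟩))
theorem qW1_7 : chkE 552 10 GW1 (LW1.map fun a => a.1) (0x5846f2b1c67d102671b76b948574e24290d140024003f5ec00744133edc72c5b15a58a8950949e206858466dde101547c5a6075fb4503807037470977bde85c1a46141f515d46d4263b21f4a016731d77f8947b5133684d15d15149324d968598fc011825348a760ff6048c788a3311e3771245dd966d079380ea785a265de57b03956815804c95096781d7637130280c25053f25810499c1765d555daa1fce9035f35c8b905d921102f5897542da067d7d83d0733565300ae715081543d34211394f7038904dd995b8e1800ee6fdac0300b7f4a27c84885a2726cfe4499d878753cd60848740d5dd2c11b3d609108ca2d617390d63b605160de3755e2982004472524996acc72847d700067256f4d0bb7d8c32e03b7919e5fc656f58b5a8276cc5d181bb1d93c130c863c033e18712de6268631ecf15e56d8083a86c6d480f250c881f8230891d758615d0cb8684a5b155484ce1e1fa48d475651172cbf561354895f6e0d9461c46611f2784383619439db39d78639043f46e24cbd1194a5adba13cd32cc6c6f8d558dc2068683c0eb7c036635ca630016182b2e9a519a081dc834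ac5f74c18818647ad2f640be7f20a0846a651cd645564e8ab2917c531516bd95861396260c2a4df88d4b2dc533d0456d85c6209f1f11e02833145ea239b01680f838c5020cc0c1f74ba030f09c349331c5b27e0a52d14f2bca8048bc3994e234670511901cc17e4862151673a1c205ad495a94b4f94c45677d5236d3d418341cd8343d50898fa851a823d7e1a6240150c518d4810190c8983605e500b22a9ff5cd7a64cad6f0912d9c813a22164c684d3b40487125cf54ce3095b97690334505854ef105a30246211c1b2106b1c1f582d291511a8842e0b571841d00a5444f88b255647a5e070d80668e829de733c1e4b0242745b0f9ee0b03169c928742856cd75707a3d82a4e11774880225102092a, [2, 1, 2, 1, 0], [28, 29, 20]) = true := by decide +kernel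
theorem rW1_7 : CeW1 (0x5846f2b1c67d102671b76b948574e24290d140024003f5ec00744133edc72c5b15a58a8950949e206858466dde101547c5a6075fb4503807037470977bde85c1a46141f515d46d4263b21f4a016731d77f8947b5133684d15d15149324d968598fc011825348a760ff6048c788a3311e3771245dd966d079380ea785a265de57b03956815804c95096781d7637130280c25053f25810499c1765d555daa1fce9035f35c8b905d921102f5897542da067d7d83d0733565300ae715081543d34211394f7038904dd995b8e1800ee6fdac0300b7f4a27c84885a2726cfe4499d878753cd60848740d5dd2c11b3d609108ca2d617390d63b605160de3755e2982004472524996acc72847d700067256f4d0bb7d8c32e03b7919e5fc656f58b5a8276cc5d181bb1d93c130c863c033e18712de6268631ecf15e56d8083a86c6d480f250c881f8230891d758615d0cb8684a5b155484ce1e1fa48d475651172cbf561354895f6e0d9461c46611f2784383619439db39d78639043f46e24cbd1194a5adba13cd32cc6c6f8d558dc2068683c0eb7c036635ca630016182b2e9a519a081dc834ac5f74c18818647ad2f640be7f20a0846a651cd645564e8ab2917c531516bd95861396260c2a4df88d4b2dc533d0456d85c6209f1f11e02833145ea239b01680f838c5020cc0c1f74ba030f09c349331c5b27e0a52d14f2bca8048bc3994e234670511901cc17e4862151673a1c205ad495a94b4f94c45677d5236d3d418341cd8343d50898fa851a823d7e1a6240150c518d4810190c8983605e500b22a9ff5cd7a64cad6f0912d9c813a22164c684d3b40487125cf54ce3095b97690334505854ef105a30246211c1b2106b1c1f582d291511a8842e0b571841d00a5444f88b255647a5e070d80668e829de733c1e4b0242745b0f9ee0b03169c928742856cd75707a3d82a4e11774880225102092a,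 [2, 1, 2, 1, 0], [28, 29, 20]) := Or.inr (Or.inl ⟨0, by decide +kernel⟩)
theorem qW1_8 : chkE 552 10 GW1 (LW1.map fun a => a.1) (0x50940604aa5f48214179761753b9dc1a1b038972100b04b9e61b217009cc28d9d3d95374d894712f03c8354a0d6e9185a855714f379ce413ded265462f97f185f2324d6825154e5eb075d56d04319dfd5cdfc7fc2b684e97e8b1295692cda02792b60170451217d5232b1596a1d455207670052f000511b1491ea4595a4445a6b0216b58e50c88585712997e26c3563d8b6cd9042e1a0f182080346ac8147c4d7d1bc3bc1f800728750245d4833222018247405f72d2a654f9211836bc7e7de183b4c67b9c03102a4c0f5645ce200740cdc4070795912d5b5bb8554b830a2678607a1be598324b0f16dc76619f95282f84a031b4116347809c1557cb7355922e5d971dbd55c4b3acce336050a01906d4e51c5c30d383821e7ed6c49c1421c58505330f62725c291bd0e281de5f1b60c0cf130421ec700fe20425dd3a94f6b8c2129a31d5d266492465c14fcaf2a0714f4e8228f867de5621fe8418a240de514a10410c1aa244ddbf361b22d50a0261c55505088b82fe1b440fa650482ac073842c75d51541d13f5e3394a731c1684d567803658e14139685ac232e83e374d22d84471877895a7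3686472616495ef594bd5dc521f221305354058c2907d2c80e274c0695b573c472ecdf6694c5799804c255bd78020dc478931e80c3dd042a51d15e065d8c53fddf068d0820f47cc2d5ed3b804d1195b8114382b922048393988e179493c9d618c17560691cdc26e5cd6a95c5d106828cb4c4ad2596214df826129218047c4621746e4d1e223dc82145b7906646cd440d877b04136c8d268fe3f1937d93e0dc0a4989141e0e11801534e33c2264690f0ba0265c512555d3643b1fd6727cfb6a58500d3670dca3b06b0e92035e1f1501e8649c125db7a5f04f08b5e9282d15b2320f44908060c8784596593a5b80d699da844d34003188d0d610266920b68856224e78119b44c0b4c96032894, [2, 1, 0], [24, 20, 27]) = true := by decide +kernel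
theorem rW1_8 : CeW1 (0x50940604aa5f48214179761753b9dc1a1b038972100b04b9e61b217009cc28d9d3d95374d894712f03c8354a0d6e9185a855714f379ce413ded265462f97f185f2324d6825154e5eb075d56d04319dfd5cdfc7fc2b684e97e8b1295692cda02792b60170451217d5232b1596a1d455207670052f000511b1491ea4595a4445a6b0216b58e50c88585712997e26c3563d8b6cd9042e1a0f182080346ac8147c4d7d1bc3bc1f800728750245d4833222018247405f72d2a654f9211836bc7e7de183b4c67b9c03102a4c0f5645ce200740cdc4070795912d5b5bb8554b830a2678607a1be598324b0f16dc76619f95282f84a031b4116347809c1557cb7355922e5d971dbd55c4b3acce336050a01906d4e51c5c30d383821e7ed6c49c1421c58505330f62725c291bd0e281de5f1b60c0cf130421ec700fe20425dd3a94f6b8c2129a31d5d266492465c14fcaf2a0714f4e8228f867de5621fe8418a240de514a10410c1aa244ddbf361b22d50a0261c55505088b82fe1b440fa650482ac073842c75d51541d13f5e3394a731c1684d567803658e14139685ac232e83e374d22d84471877895a73686472616495ef594bd5dc521f221305354058c2907d2c80e274c0695b573c472ecdf6694c5799804c255bd78020dc478931e80c3dd042a51d15e065d8c53fddf068d0820f47cc2d5ed3b804d1195b8114382b922048393988e179493c9d618c17560691cdc26e5cd6a95c5d106828cb4c4ad2596214df826129218047c4621746e4d1e223dc82145b7906646cd440d877b04136c8d268fe3f1937d93e0dc0a4989141e0e11801534e33c2264690f0ba0265c512555d3643b1fd6727cfb6a58500d3670dca3b06b0e92035e1f1501e8649c125db7a5f04f08b5e9282d15b2320f44908060c8784596593a5b80d699da844d34003188d0d610266920b68856224e78119b44c0b4c96032894,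 [2, 1, 0], [24, 20, 27]) := Or.inr (Or.inl ⟨0, by decide +kernel⟩)
theorem qW1_9 : chkE 552 10 GW1 (LW1.map fun a => a.1) (0x4f91b35e1b5902f1412e5c19e611dc89010671600b0d25e4947bddb6f9244557e835cb74d188256d78d5d018f66e9891283c7157f79dca51dc25149a744f36b82405d9a470a384c8b210740a1da381737f4004588c81ca0168b177c090661c849ea649d816519609d082d137ddd473da1389c7831fc725c87312b7fc80701fa0d1c36fe1121cc15ea033699d27c70135516cd741a90d155f5421ac6ac810f58f56c9d4401861404739021e21e6e219549f248d9854ccf65446075d94987f6a01558d1e3c911808220e96b68e1d569d50cd5c7fa0e5f57c4bdbb855782f1765d5b27a00259a1f3c52c8206f6192740c822797106e236351709e1857cb78198069d830155855ce84d4bd65d9b6d0b31b4a913d4c2c86319d487ec5d7e4d350c585046547e27130291d81a3a4894b4625552a25c3b4c4355ee204dd6e719341840e5a99134610664a8485204fd8c249f18984b75a0a589e583c1c74890629a5264a16c0dd42c68425ad41c602d45b5a5a00c0130a8fe0f8aa3bcfa1447d2ba04384407d98b5bcbe3ec0f39437320d94e5560206b3b43832dcd3d5e937cbf430b036db93a853894b9298d45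12164946c658ce11c9638c01220eb078af3144830cc26f0c0378f0551772ecba3585c5785f414b45414b780dc318f71e80c24cfc5392215cd5288a47c0a5439e26dd676982e0fdf843c754cccc116142ad1d0c51223c8e179e47b88a4e0c96f4691cded111686a9c4640413e04e1ecad1499f1dd3b261ec214721c5b65b06e53cd0399b12190a5246650064529364a5062d88d518b8411e175d4229c566bc54360793e6215347c6d53d46a010b4c43359425483058421f8f426cfd6a6004c987084e43b0364c1c160432245018889c1261708cff4f1eb58426095f40ad880e42007cc764d145953a775a47cc4363814400120461a3b928034ac02c0a778e701e05565a200d72329e6, [2, 0, 0], [25, 21, 26]) = true := by decide +kernel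
theorem rW1_9 : CeW1 (0x4f91b35e1b5902f1412e5c19e611dc89010671600b0d25e4947bddb6f9244557e835cb74d188256d78d5d018f66e9891283c7157f79dca51dc25149a744f36b82405d9a470a384c8b210740a1da381737f4004588c81ca0168b177c090661c849ea649d816519609d082d137ddd473da1389c7831fc725c87312b7fc80701fa0d1c36fe1121cc15ea033699d27c70135516cd741a90d155f5421ac6ac810f58f56c9d4401861404739021e21e6e219549f248d9854ccf65446075d94987f6a01558d1e3c911808220e96b68e1d569d50cd5c7fa0e5f57c4bdbb855782f1765d5b27a00259a1f3c52c8206f6192740c822797106e236351709e1857cb78198069d830155855ce84d4bd65d9b6d0b31b4a913d4c2c86319d487ec5d7e4d350c585046547e27130291d81a3a4894b4625552a25c3b4c4355ee204dd6e719341840e5a99134610664a8485204fd8c249f18984b75a0a589e583c1c74890629a5264a16c0dd42c68425ad41c602d45b5a5a00c0130a8fe0f8aa3bcfa1447d2ba04384407d98b5bcbe3ec0f39437320d94e5560206b3b43832dcd3d5e937cbf430b036db93a853894b9298d4512164946c658ce11c9638c01220eb078af3144830cc26f0c0378f0551772ecba3585c5785f414b45414b780dc318f71e80c24cfc5392215cd5288a47c0a5439e26dd676982e0fdf843c754cccc116142ad1d0c51223c8e179e47b88a4e0c96f4691cded111686a9c4640413e04e1ecad1499f1dd3b261ec214721c5b65b06e53cd0399b12190a5246650064529364a5062d88d518b8411e175d4229c566bc54360793e6215347c6d53d46a010b4c43359425483058421f8f426cfd6a6004c987084e43b0364c1c160432245018889c1261708cff4f1eb58426095f40ad880e42007cc764d145953a775a47cc4363814400120461a3b928034ac02c0a778e701e05565a200d72329e6,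 [2, 0, 0], [25, 21, 26]) := Or.inr (Or.inr (Or.inl ⟨3, by decide +kernel⟩))
theorem qW1_10 : chkE 552 10 GW1 (LW1.map fun a => a.1) (0x585462b1da669dc0bc3f7559e2988286e1a32a182d5b78221463c136961039d0b18dc30cd2d80615611a181503278ce824c11694d5fdfc75c371c5403a5e70c81f499a45a9996a00e15dd8309ea5641c7d8e464d2420cbe3b0225f8421c2226ea2402dec7ed1987d88604674e42a3e1ce4091372d343c8cc0ac4370872831c5609c0649be49dbc509db3b8a5859b61b128505a9675b0615ac571ae55daa6c9ef06088845f22755a8199c67e1e6c5a058a237c0532f14f300ab795bf6443d84d7263493098215f1d45bd866be07421c174c047f5df2e589370584bc5c444965d4751658e0b06161d502c04c3d5f14c850400f42515b3b59b89cfd4315e575ad591a27a44a6ac304e9180e55234d6e658bb7f94b5300308d484522650c8b515bb6cdf81f8272693c46d557443b3103512dca1d9694c4b35e49f828624292a0d1b46f5f3181e445522484744184e434994ecc87595445c8448d47731125dd1021d014755f8392b1f5832d91f100ea811cd439672c4b2580683786e3ddcf3e4895ad6613dc93c4a0055b958de1069047dc1e83ce6395e62bc01384e037cfb1997b360da364db0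300d110d45449b1044d0e202241c8146191551a284ae315372e1eb80195009e212197538ba5f4c32dd0785c454c0fe3fd6d38cc615a2565016238100761d6e0a40207931cf04ba0368c493493d4707f175760956563092244cd0d8a92348c5108a3d9a643c862151678e1c204202613f424461ec0a2880617d335d1201a5c47e5dd194fa001b51ac521ccfc748dd1bc648352c5c1251dc5e25d7816dff5cd7a7b4ad324126606a32d683cd1e3416c4d558270bd11c7c2d0d5719de345058803e6403c4e03a54ccf7e88f4d92982df50c5568842e0b57171dd00a4144f98b25411525e0628807d0e829de806ceb065a705caa3bc2884854090a803dee358d77647a01ca30247801580528bf3886d, [2, 1, 2], [18, 19, 15]) = true := by decide +kernel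
theorem rW1_10 : CeW1 (0x585462b1da669dc0bc3f7559e2988286e1a32a182d5b78221463c136961039d0b18dc30cd2d80615611a181503278ce824c11694d5fdfc75c371c5403a5e70c81f499a45a9996a00e15dd8309ea5641c7d8e464d2420cbe3b0225f8421c2226ea2402dec7ed1987d88604674e42a3e1ce4091372d343c8cc0ac4370872831c5609c0649be49dbc509db3b8a5859b61b128505a9675b0615ac571ae55daa6c9ef06088845f22755a8199c67e1e6c5a058a237c0532f14f300ab795bf6443d84d7263493098215f1d45bd866be07421c174c047f5df2e589370584bc5c444965d4751658e0b06161d502c04c3d5f14c850400f42515b3b59b89cfd4315e575ad591a27a44a6ac304e9180e55234d6e658bb7f94b5300308d484522650c8b515bb6cdf81f8272693c46d557443b3103512dca1d9694c4b35e49f828624292a0d1b46f5f3181e445522484744184e434994ecc87595445c8448d47731125dd1021d014755f8392b1f5832d91f100ea811cd439672c4b2580683786e3ddcf3e4895ad6613dc93c4a0055b958de1069047dc1e83ce6395e62bc01384e037cfb1997b360da364db0300d110d45449b1044d0e202241c8146191551a284ae315372e1eb80195009e212197538ba5f4c32dd0785c454c0fe3fd6d38cc615a2565016238100761d6e0a40207931cf04ba0368c493493d4707f175760956563092244cd0d8a92348c5108a3d9a643c862151678e1c204202613f424461ec0a2880617d335d1201a5c47e5dd194fa001b51ac521ccfc748dd1bc648352c5c1251dc5e25d7816dff5cd7a7b4ad324126606a32d683cd1e3416c4d558270bd11c7c2d0d5719de345058803e6403c4e03a54ccf7e88f4d92982df50c5568842e0b57171dd00a4144f98b25411525e0628807d0e829de806ceb065a705caa3bc2884854090a803dee358d77647a01ca30247801580528bf3886d,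 [2, 1, 2], [18, 19, 15]) := Or.inr (Or.inr (Or.inl ⟨5, by decide +kernel⟩))
theorem qW1_11 : chkE 552 10 GW1 (LW1.map fun a => a.1) (0x5e86f82c682e4500be087b17503c824ad1d408bf5997b0fc6d135716382b664a540cbc0ccce5a8dc6e4d5588632792d6f585169e75fccf7f91621c972814d0d2236997d804e77dc14795c134caa08df60713470949739d1714221e6045b9cd400436b5d57a1216b1f035c0584c2a12083329e9444e4544528422464d08084ec6b95360cef514554f8f41110b880b37bdc950498838a83061f2018255daa1f86c04600379f40f1c481d9c66d485da218141f6210770dca300cb15da2324d14e4fd394e35120c2f4b14d8e17ce061c9d874c2051c6a668c4854584bcfe72db86791f165a50b1f5541874b91b3d543835dc6e9db658243b59f89d724315e8740b035bf44d0f6acc846a0211c78308702508e75cc32e0f65661e450657c42849dbb6cc5d6c8271d93c130c72f807625dd4394f269de1edb63489f1f419364000c9eb825af1fdcc4550d46529418ae489f95b0302290901884781fd79177448021c501868666761b8299266075100fc10a2212e17751783edda8446e1f137630095acb55cd284c0e90f98458ded3a1c66a01e3fc8f6356511a1c619c72e96057db71dde34285f0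31643b8643c89b1058f06d1865ca2479686f13a5584e291cf531b422195440d03e090538df6914b2dc5359c953c45c83d6d24d9415a253185b2ec920755d258c57417e555b52c10505c9c5e533560607e1b1095e63e4101518a1aca9235d2099d600d26128862143736801204046a525550af4c40a7211736d3d5d1701cd5a26435898fa4a8f00d8cc1a4ea230dd518d44c83a4813f3605e500b2058a713d617847a644312d9df2ae193cc517893b4d51c1257c0e4f72d1a1411690f603858156409d5292c701fc7e8e65bc742b061048a16802e0b413380080a40e509ee11418491233355c7c81a7fdfb0e0eb188d668dea6f88b8489156db02998b69d81600ad0eca32255219dd94e21838a14, [2, 1, 2, 0, 1], [19, 18, 14]) = true := by decide +kernel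
theorem rW1_11 : CeW1 (0x5e86f82c682e4500be087b17503c824ad1d408bf5997b0fc6d135716382b664a540cbc0ccce5a8dc6e4d5588632792d6f585169e75fccf7f91621c972814d0d2236997d804e77dc14795c134caa08df60713470949739d1714221e6045b9cd400436b5d57a1216b1f035c0584c2a12083329e9444e4544528422464d08084ec6b95360cef514554f8f41110b880b37bdc950498838a83061f2018255daa1f86c04600379f40f1c481d9c66d485da218141f6210770dca300cb15da2324d14e4fd394e35120c2f4b14d8e17ce061c9d874c2051c6a668c4854584bcfe72db86791f165a50b1f5541874b91b3d543835dc6e9db658243b59f89d724315e8740b035bf44d0f6acc846a0211c78308702508e75cc32e0f65661e450657c42849dbb6cc5d6c8271d93c130c72f807625dd4394f269de1edb63489f1f419364000c9eb825af1fdcc4550d46529418ae489f95b0302290901884781fd79177448021c501868666761b8299266075100fc10a2212e17751783edda8446e1f137630095acb55cd284c0e90f98458ded3a1c66a01e3fc8f6356511a1c619c72e96057db71dde34285f031643b8643c89b1058f06d1865ca2479686f13a5584e291cf531b422195440d03e090538df6914b2dc5359c953c45c83d6d24d9415a253185b2ec920755d258c57417e555b52c10505c9c5e533560607e1b1095e63e4101518a1aca9235d2099d600d26128862143736801204046a525550af4c40a7211736d3d5d1701cd5a26435898fa4a8f00d8cc1a4ea230dd518d44c83a4813f3605e500b2058a713d617847a644312d9df2ae193cc517893b4d51c1257c0e4f72d1a1411690f603858156409d5292c701fc7e8e65bc742b061048a16802e0b413380080a40e509ee11418491233355c7c81a7fdfb0e0eb188d668dea6f88b8489156db02998b69d81600ad0eca32255219dd94e21838a14,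 [2, 1, 2, 0, 1], [19, 18, 14]) := Or.inr (Or.inl ⟨0, by decide +kernel⟩)
theorem qW1_12 : chkE 552 10 GW1 (LW1.map fun a => a.1) (0x5084c6052b0342f770b0481756e45010c92670fb0b179349961b0f43bd49454794c91174e026f56d36a1d45c03400c443c9d3b17f5354f7f59349c762f8f36095b68cb9560a34e4282112922c6871c4f51d2a0ddd2818e9169d41a88918801848aa60dc1165216b8082b1e96a0b14dcd5388e0084cf4a0a27921b29d5c54dfa0c8bc688de1c5855850578e0e27d6e63cf26cd7477d226f0611ca1f6ac813444d0903c008113042020cca54948259681e1f4780b6701fc654af07580698607dc3e58c51545cb460224b16b05d5d711ec0cc8075d9d690bd4bdbb370b270db16787e7ed102d5ac4c03a0fd463854518c82278130e01f3940609cbf198b781dd93599219d1c55c1a4d57c2419f7adb6850a95ccb85e1030161e7a1f8264c27c458506261d62746c29268e8280093381931c00500071eddd6de1673c70410e47d414804c90f42b39db046570494f9041431950e2287d814573fdf6231973358e7e5562a0dd295da5500b14c7f5981677a21321710a85c055ea6f8fa47a0a1384261840071ee4d9d1580a6635160c10a84ca1740363b41b2ae223d5132ea184312e17d843f1078959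a03c6409a204fdef2512d0e5b824e1c800eb07846290f852cd3154c0845b542512238df69cfe578db80cb461cc348e156507c2b40c38cea5390d795a1720c56210b12cd05ee174982e8205d1291f4f4522546d32e1a04977398bb179cc62dd652991824731a5e13ba196a95a64041120ae4c47a3319b3616c6a5d52150821cb34ec6e729e223d76218d94915f25cd44e16f1d1066608d1bd4c719ed7f93e7fc567cc911dd7e631a079cf73c1334e96a0b589628c6115ce16e046c9db26d722608883550831347146b3c5d835c341510173449271675660f4f1b45e944095f2841f011c0488d55709147991a0d57d6be246940e6e8310611d111c95920b6b40a5a5990ed6208dbf3d8fd40965, [1, 2, 0], [21, 25, 29]) = true := by decide +kernel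
theorem rW1_12 : CeW1 (0x5084c6052b0342f770b0481756e45010c92670fb0b179349961b0f43bd49454794c91174e026f56d36a1d45c03400c443c9d3b17f5354f7f59349c762f8f36095b68cb9560a34e4282112922c6871c4f51d2a0ddd2818e9169d41a88918801848aa60dc1165216b8082b1e96a0b14dcd5388e0084cf4a0a27921b29d5c54dfa0c8bc688de1c5855850578e0e27d6e63cf26cd7477d226f0611ca1f6ac813444d0903c008113042020cca54948259681e1f4780b6701fc654af07580698607dc3e58c51545cb460224b16b05d5d711ec0cc8075d9d690bd4bdbb370b270db16787e7ed102d5ac4c03a0fd463854518c82278130e01f3940609cbf198b781dd93599219d1c55c1a4d57c2419f7adb6850a95ccb85e1030161e7a1f8264c27c458506261d62746c29268e8280093381931c00500071eddd6de1673c70410e47d414804c90f42b39db046570494f9041431950e2287d814573fdf6231973358e7e5562a0dd295da5500b14c7f5981677a21321710a85c055ea6f8fa47a0a1384261840071ee4d9d1580a6635160c10a84ca1740363b41b2ae223d5132ea184312e17d843f1078959a03c6409a204fdef2512d0e5b824e1c800eb07846290f852cd3154c0845b542512238df69cfe578db80cb461cc348e156507c2b40c38cea5390d795a1720c56210b12cd05ee174982e8205d1291f4f4522546d32e1a04977398bb179cc62dd652991824731a5e13ba196a95a64041120ae4c47a3319b3616c6a5d52150821cb34ec6e729e223d76218d94915f25cd44e16f1d1066608d1bd4c719ed7f93e7fc567cc911dd7e631a079cf73c1334e96a0b589628c6115ce16e046c9db26d722608883550831347146b3c5d835c341510173449271675660f4f1b45e944095f2841f011c0488d55709147991a0d57d6be246940e6e8310611d111c95920b6b40a5a5990ed6208dbf3d8fd40965,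 [1, 2, 0], [21, 25, 29]) := Or.inr (Or.inl ⟨0, by decide +kernel⟩)
theorem qW1_13 : chkE 552 10 GW1 (LW1.map fun a => a.1) (0x4f89735dea69082770d27059e11050768a8388fd1012e2c1657bd67441e428e0e00dc074cc45612f299ce1e13240202805bc3b0f3535345cde17e46f7457f7d5f4645a76f51584db4075ec7ae240154713ccf29e10354a07e9d442dde6da2127a1b7652045119185e082c237dcb1426066706770d2a09976524aa0ddc472c5a87e0c02da57c6005e81303c7926ddd135ee6cd902951d275ae010326ac811d58f7c8556fa2322108574ca01a1e149cd45d5b020db444006558c211927cdb26a0bf3b59462d536242a3c4f532483571290cd5a7d97e034ce5b5bb370c3085c85d47f7ecef2d4340e9305ec9a384994e02f84905850183955209c3e198b768583669803820955d0e3ad2d6296222c620e14e7f4fe52d4a71d487a13b5140e1c4585053d34627500295184b3a5692f4b3321fc46e044c56e82216550353f1ca608d343c1747c8c39c10485d8494466c0874cc1a7584866c577c1d70accd65e1149d562490c77c4373da21dc7e598d92240131e030894c8612b008fa318f832c3b6182c7f8f261cbe5c8da635ff5545b4e4a148c6b58c6d2ba195ad5937c1537579660ee410d8894d678cd4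4a2204fc6c7997c448cc3dda061535404f93160a5e0140f0c0638f04dc39238ba2e4b8578b65c4254d8b274215144e32b40c1f1c62a61a796076c4a483c6a3a1e20fddb6bc2d6dd6c5a83d898962541b1390d0c44723cbb179245448a40da3470731a593612226a8805d1061f4ab1ec7a6e20541c5d6a4742182050c197e06e390d0398a2214167315f1306418d507544117c8d1d85c3a9c2071424580a6985414d9d2be1c79c936d4654e84a0b9182411e1161d428071821727d60260c13d96f2f14f714364b170605ac2441e5a049270f444d884f028585c92d024748ff5dc72044307b4592511a1c16449868378c26e81207d226e5445f4ac6fc56025991099f7a5ad834fb40996, [1, 2, 1, 0, 0], [20, 24, 28]) = true := by decide +kernel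
theorem rW1_13 : CeW1 (0x4f89735dea69082770d27059e11050768a8388fd1012e2c1657bd67441e428e0e00dc074cc45612f299ce1e13240202805bc3b0f3535345cde17e46f7457f7d5f4645a76f51584db4075ec7ae240154713ccf29e10354a07e9d442dde6da2127a1b7652045119185e082c237dcb1426066706770d2a09976524aa0ddc472c5a87e0c02da57c6005e81303c7926ddd135ee6cd902951d275ae010326ac811d58f7c8556fa2322108574ca01a1e149cd45d5b020db444006558c211927cdb26a0bf3b59462d536242a3c4f532483571290cd5a7d97e034ce5b5bb370c3085c85d47f7ecef2d4340e9305ec9a384994e02f84905850183955209c3e198b768583669803820955d0e3ad2d6296222c620e14e7f4fe52d4a71d487a13b5140e1c4585053d34627500295184b3a5692f4b3321fc46e044c56e82216550353f1ca608d343c1747c8c39c10485d8494466c0874cc1a7584866c577c1d70accd65e1149d562490c77c4373da21dc7e598d92240131e030894c8612b008fa318f832c3b6182c7f8f261cbe5c8da635ff5545b4e4a148c6b58c6d2ba195ad5937c1537579660ee410d8894d678cd44a2204fc6c7997c448cc3dda061535404f93160a5e0140f0c0638f04dc39238ba2e4b8578b65c4254d8b274215144e32b40c1f1c62a61a796076c4a483c6a3a1e20fddb6bc2d6dd6c5a83d898962541b1390d0c44723cbb179245448a40da3470731a593612226a8805d1061f4ab1ec7a6e20541c5d6a4742182050c197e06e390d0398a2214167315f1306418d507544117c8d1d85c3a9c2071424580a6985414d9d2be1c79c936d4654e84a0b9182411e1161d428071821727d60260c13d96f2f14f714364b170605ac2441e5a049270f444d884f028585c92d024748ff5dc72044307b4592511a1c16449868378c26e81207d226e5445f4ac6fc56025991099f7a5ad834fb40996,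 [1, 2, 1, 0, 0], [20, 24, 28]) := Or.inr (Or.inr (Or.inl ⟨9, by decide +kernel⟩))
theorem qW1_14 : chkE 552 10 GW1 (LW1.map fun a => a.1) (0x9d6c0312b091a08649f7d548819cd1a1b08857204c9b4bde67dd003bdcc7806a40d1135d095a92e73a1d548093d0bd4709d64d47070e4450ec7c53384d7387c1868c1f7e5d0134260dd700384371c595fe14211d26e5b529e0f1e43b188825c4aa689d513c8a7602a0cde4281f012207872102f0cf544527a4d91680454d161d02160d8e128881609e78d762c035788c25051f3321a644346498255c816413903417008d67cdd920e2245d7542d021e17d4550711c1b300f77fdad6bda91b1be3b4ae4a1124b5234b0f50f00f6fdac2b00b79ca5668c43493e0fcfe241b8678987da1876dec4c0193722638609108014142c0e0b939406508bf430b7354200447219d0f6ac1e438f870e05724f14a8bb3ccc3171322321e7f94021cf249d616cd464197a4ec294f4eb6a0031f43a468007e14a1ed6f85608625878914f4818b50cc91042b62092465296c8e3042011bd35484ce67dc2665fb0158a830de561552a15f674ea828806613f59c168359c28612021780545b0f86e2ad546506361a0353544540d0844a6635fa4e90a2f8c828c3658dfc478ca5ac232e9101996d1dc447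18b682da4574640a17b1fcf0729180e5b1118e2498e8068932917c531b415595580e9809cb538df590b2578d8100951c0b8089b71398c029813e5da2390d784ee5f8c539c96405d1881ba8002e858971c574268a22d06d31922049771aca917949051d601dbc514691cde5685dc6a9083443d4dc514c45677d9b36c4c181c12155a264b346cfa2518f23e0e21a1b564dd174d43d9dd0c87514c8d1954b3f1c57a1bb0747a3043117dc81f02f75caf7bc760c1bd0b5cf65ccb094da7a969494b55e4fb1f98577936335657b4e66d9ae74c611504b1409c12566491d44f0d389dee11623380b17015c7c95615dfd658c75b9f4699043f48b85c9156d1d611eb69e25600ad810ff2256244dc44e1a55a134, [1, 2, 0, 1], [13, 22, 11]) = true := by decide +kernel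
theorem rW1_14 : CeW1 (0x9d6c0312b091a08649f7d548819cd1a1b08857204c9b4bde67dd003bdcc7806a40d1135d095a92e73a1d548093d0bd4709d64d47070e4450ec7c53384d7387c1868c1f7e5d0134260dd700384371c595fe14211d26e5b529e0f1e43b188825c4aa689d513c8a7602a0cde4281f012207872102f0cf544527a4d91680454d161d02160d8e128881609e78d762c035788c25051f3321a644346498255c816413903417008d67cdd920e2245d7542d021e17d4550711c1b300f77fdad6bda91b1be3b4ae4a1124b5234b0f50f00f6fdac2b00b79ca5668c43493e0fcfe241b8678987da1876dec4c0193722638609108014142c0e0b939406508bf430b7354200447219d0f6ac1e438f870e05724f14a8bb3ccc3171322321e7f94021cf249d616cd464197a4ec294f4eb6a0031f43a468007e14a1ed6f85608625878914f4818b50cc91042b62092465296c8e3042011bd35484ce67dc2665fb0158a830de561552a15f674ea828806613f59c168359c28612021780545b0f86e2ad546506361a0353544540d0844a6635fa4e90a2f8c828c3658dfc478ca5ac232e9101996d1dc44718b682da4574640a17b1fcf0729180e5b1118e2498e8068932917c531b415595580e9809cb538df590b2578d8100951c0b8089b71398c029813e5da2390d784ee5f8c539c96405d1881ba8002e858971c574268a22d06d31922049771aca917949051d601dbc514691cde5685dc6a9083443d4dc514c45677d9b36c4c181c12155a264b346cfa2518f23e0e21a1b564dd174d43d9dd0c87514c8d1954b3f1c57a1bb0747a3043117dc81f02f75caf7bc760c1bd0b5cf65ccb094da7a969494b55e4fb1f98577936335657b4e66d9ae74c611504b1409c12566491d44f0d389dee11623380b17015c7c95615dfd658c75b9f4699043f48b85c9156d1d611eb69e25600ad810ff2256244dc44e1a55a134,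 [1, 2, 0, 1], [13, 22, 11]) := Or.inr (Or.inr (Or.inr ⟨0, 0, by decide +kernel⟩))
theorem qW1_15 : chkE 552 10 GW1 (LW1.map fun a => a.1) (0x6ec5d74c5b668018652f7559e611cd3a8a8871a580d6d27d343c166861e9741760244735cbd7e4d2298da1e1033d10950d9164d73071653cde556065341474817d6f1645a9e02f8d37fdac725042317f164cf168e081da845a0f25a0d3c59c414d9081f57f5190d115895131b1f0809b988467242140a20e730aa211bf448a7608cd200fd49d2689c2c5746a5e56f4e544504d16751d275d85707455c81419e288c550f9f26155a03e2201a1e28850548180a8d8444003007c0dc7230525280bf58c4e0515373c086d96b32483011702b1087edc80907d4b93e0fcb82f17e5213f7d8ef76c61065308813d384873d9a05c49e4a95b39517509be430b73b9a2691ad841456ad353a11865d62038620e08e450b25300771d757f91b8248b129616cc9a6417a7e029899016d604310b32841b4ed694c43585a088296e7189487db44703c5d00562010229ae6c893248991d81e7593766dc22c5e70ae0c629607c5556c066330686258317c9859e1b0ec824684048d4b4412b0086e32d7c31889618137a0c21c2133edce6341d559ea134c8088e63b46d145dc3d52437c1557c9b14da1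890db82c1178cd45457b1fdf7658f872ddf2bc2f2210e12ce3315541718b05d95379ef12039538ba07cc35790784845540fe28db72b8f902981630fc2ed22784d56e0a4750793ad8f370b56982d8544c6f4415190b2d1fc6510d245c023ca9179594a1214c9a343c691ccec110ca6a80b47c753391e1ec566c59f2d89718032219d98043a500fa53dd11ac5221416524dd5b064109367043d1dc8d4cd7876857534277e8ad6bc54660a53dce275c463a46f0c0710b92d70cab0961d4294a6a5ba2c2111f9f34e1dd084e47b4364b129031ec0c41a4089c1250008ce74f026161eb2540d749995dd923593a7144f728c761da780043638f285c122e61a819ee7d0337107a00cff18e0579180779725a1e6, [1, 2], [12, 23, 10]) = true := by decide +kernel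
theorem rW1_15 : CeW1 (0x6ec5d74c5b668018652f7559e611cd3a8a8871a580d6d27d343c166861e9741760244735cbd7e4d2298da1e1033d10950d9164d73071653cde556065341474817d6f1645a9e02f8d37fdac725042317f164cf168e081da845a0f25a0d3c59c414d9081f57f5190d115895131b1f0809b988467242140a20e730aa211bf448a7608cd200fd49d2689c2c5746a5e56f4e544504d16751d275d85707455c81419e288c550f9f26155a03e2201a1e28850548180a8d8444003007c0dc7230525280bf58c4e0515373c086d96b32483011702b1087edc80907d4b93e0fcb82f17e5213f7d8ef76c61065308813d384873d9a05c49e4a95b39517509be430b73b9a2691ad841456ad353a11865d62038620e08e450b25300771d757f91b8248b129616cc9a6417a7e029899016d604310b32841b4ed694c43585a088296e7189487db44703c5d00562010229ae6c893248991d81e7593766dc22c5e70ae0c629607c5556c066330686258317c9859e1b0ec824684048d4b4412b0086e32d7c31889618137a0c21c2133edce6341d559ea134c8088e63b46d145dc3d52437c1557c9b14da1890db82c1178cd45457b1fdf7658f872ddf2bc2f2210e12ce3315541718b05d95379ef12039538ba07cc35790784845540fe28db72b8f902981630fc2ed22784d56e0a4750793ad8f370b56982d8544c6f4415190b2d1fc6510d245c023ca9179594a1214c9a343c691ccec110ca6a80b47c753391e1ec566c59f2d89718032219d98043a500fa53dd11ac5221416524dd5b064109367043d1dc8d4cd7876857534277e8ad6bc54660a53dce275c463a46f0c0710b92d70cab0961d4294a6a5ba2c2111f9f34e1dd084e47b4364b129031ec0c41a4089c1250008ce74f026161eb2540d749995dd923593a7144f728c761da780043638f285c122e61a819ee7d0337107a00cff18e0579180779725a1e6,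 [1, 2], [12, 23, 10]) := Or.inr (Or.inl ⟨0, by decide +kernel⟩)
theorem qW1_16 : chkE 552 10 GW1 (LW1.map fun a => a.1) (0x5e89a82c43359dc2097b1d1753682f2a90d328152d6086dc3813505379d239c6a4e0210cd7c43e153ba0766d4a848bd470887e94d3cc007d8a77c51b281e787c186bc0d129997dcc215d700392b44dfe75dca785cc575d13b02a6743b0d6196e868689297ed210ca0f35ce084c2282a1d4095954d4f7b9b8231da7b4042f1c57d511600027e49d4fa17611df858627bc26505a95f810800347106155daa1806c07cc1638246f080354e2589487221c67c113fc7783134300ae795ad68d1f4e560634f74a1c34b5d454186499a10812074c725cca569d18370585b54c70052678d145211101ae4d96f348975ac7100c5040167799f458e0589cfb3755e20dbf5f40b08d6a6ad554e98944806051dd594bb07178171327a61e1653d21deb265bb6cd3b1fc275193c500302f842808703a0e41bc091ec194b89b3e1b616ccf6b028561a66c94928d1d465d5104cb869457e0c7229cf1e01d7404f4903911cef50c1e4895f1e5ea121d936c3d0b1c601d68068f42c4c35ca246946e24d54119de3d56651d444b0e9860443b593438fc6a1016208f3949463221384672e8fd1983f41ca6058b6031a46e46462c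9f4198f850c4629b1652220f11a284ab291093f88b615956f8d01f4cd2a4df590b22dcd876c450e8b87c12f1f11e02a25144d9239b0211ce330c57820e321b55e571644492c2268247e5b0a22d1962bca8151971ad4e2342b725d6835f380485219ff03da0205082613f4dcf94c4565d95266065641c11a55c49d6e4ccfa7f0f00d8961cd048410c1d8d43d8f17612514c5e1314b429167f561708ad05c3117d0b139cd5fcc67885d3adbd270ce5dce3096063a8891d413880bf5d05518d3072d2a168e661dec2b182049560042d0ba03015230a4d35095125623790082415a56c4b0dde81b5352ccb93261b441b4278917c89278cf26698160c7a811155a51771d9240c3e6701b, [0, 0, 0], [0, 1, 31]) = true := by decide +kernel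
theorem rW1_16 : CeW1 (0x5e89a82c43359dc2097b1d1753682f2a90d328152d6086dc3813505379d239c6a4e0210cd7c43e153ba0766d4a848bd470887e94d3cc007d8a77c51b281e787c186bc0d129997dcc215d700392b44dfe75dca785cc575d13b02a6743b0d6196e868689297ed210ca0f35ce084c2282a1d4095954d4f7b9b8231da7b4042f1c57d511600027e49d4fa17611df858627bc26505a95f810800347106155daa1806c07cc1638246f080354e2589487221c67c113fc7783134300ae795ad68d1f4e560634f74a1c34b5d454186499a10812074c725cca569d18370585b54c70052678d145211101ae4d96f348975ac7100c5040167799f458e0589cfb3755e20dbf5f40b08d6a6ad554e98944806051dd594bb07178171327a61e1653d21deb265bb6cd3b1fc275193c500302f842808703a0e41bc091ec194b89b3e1b616ccf6b028561a66c94928d1d465d5104cb869457e0c7229cf1e01d7404f4903911cef50c1e4895f1e5ea121d936c3d0b1c601d68068f42c4c35ca246946e24d54119de3d56651d444b0e9860443b593438fc6a1016208f3949463221384672e8fd1983f41ca6058b6031a46e46462c9f4198f850c4629b1652220f11a284ab291093f88b615956f8d01f4cd2a4df590b22dcd876c450e8b87c12f1f11e02a25144d9239b0211ce330c57820e321b55e571644492c2268247e5b0a22d1962bca8151971ad4e2342b725d6835f380485219ff03da0205082613f4dcf94c4565d95266065641c11a55c49d6e4ccfa7f0f00d8961cd048410c1d8d43d8f17612514c5e1314b429167f561708ad05c3117d0b139cd5fcc67885d3adbd270ce5dce3096063a8891d413880bf5d05518d3072d2a168e661dec2b182049560042d0ba03015230a4d35095125623790082415a56c4b0dde81b5352ccb93261b441b4278917c89278cf26698160c7a811155a51771d9240c3e6701b,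 [0, 0, 0], [0, 1, 31]) := Or.inr (Or.inl ⟨0, by decide +kernel⟩)
theorem qW1_17 : chkE 552 10 GW1 (LW1.map fun a => a.1) (0x584762b22469c50209b74a59e78c2f7a9224083e5983f5ec1b63e038448c665df52a0c0ccbd128dc1120667d388497c562007e9e73cd2a071ff50c4c3a54d6b0117cd6443ce76a0d3795200521b7a5d77f94f7b5e4874be7142a8380777568401da6fc747a1190d0ff605c74e4221f55d32823701ca62c96748687842070cec185cb765102643c509676e46a880191b144504981e49222032569f555daa1fdef88d856955b1555c684e28161e2880166c1883cd8084e43004e15c0b05c7584cfb3947c724bc338b161ce1698d50117074d0813d0b35a02854585b4b854ccc5d43d450de101825bd365e5405ac873d9dc6ea17595f258d6289d603755e739a2691ad566016acc7468c45dd17038357988e7d8b23fa0d44d48165331c5b47e5bb6cd6c180271bd3c25cc8746044616e06934518894c4622c09b120b3059fc87c8b471261f92428e1a485ec104ab4752717555759375481d02173524470e5be7c41e434665f8aa3e18017cd10b1040ee193a1db7514b3f4436386e38d092bd693d4b57f4260e8a02fcee3b5c212cea7dd017c0e6635963e5a06180537d7257e0814c0f16d980317d610d47b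89f4184d1b58933576319cd2753a558cb3155417028305953bde28298a2a4ba035782dc773d0954b14c6212f3dc5102a254790a2eca821083148a448d9d0c0f0348133249c4b8656f5b24edc82d094119b0244900d94e236104a08a4c9af5a885218a729a21204726a52573d8c1ec566c4782da26641d81cc80514704f4fa33db51adb81a5c60ad0c2686400d307053f41c5e46cc33643751d7a64c7a68c1236ca52ba225fd94341f83ae091252d44893096073f00947d7185a185d1bc40cf1444001688f541d582dae0c4a18702d0b90519de00a4c24f8f21141f731d065dc40910e459fb851356d99a6452b009eb278547d010369512e4d7648ad10915778063818318c1567038, [1], [1, 0, 30]) = true := by decide +kernel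
theorem rW1_17 : CeW1 (0x584762b22469c50209b74a59e78c2f7a9224083e5983f5ec1b63e038448c665df52a0c0ccbd128dc1120667d388497c562007e9e73cd2a071ff50c4c3a54d6b0117cd6443ce76a0d3795200521b7a5d77f94f7b5e4874be7142a8380777568401da6fc747a1190d0ff605c74e4221f55d32823701ca62c96748687842070cec185cb765102643c509676e46a880191b144504981e49222032569f555daa1fdef88d856955b1555c684e28161e2880166c1883cd8084e43004e15c0b05c7584cfb3947c724bc338b161ce1698d50117074d0813d0b35a02854585b4b854ccc5d43d450de101825bd365e5405ac873d9dc6ea17595f258d6289d603755e739a2691ad566016acc7468c45dd17038357988e7d8b23fa0d44d48165331c5b47e5bb6cd6c180271bd3c25cc8746044616e06934518894c4622c09b120b3059fc87c8b471261f92428e1a485ec104ab4752717555759375481d02173524470e5be7c41e434665f8aa3e18017cd10b1040ee193a1db7514b3f4436386e38d092bd693d4b57f4260e8a02fcee3b5c212cea7dd017c0e6635963e5a06180537d7257e0814c0f16d980317d610d47b89f4184d1b58933576319cd2753a558cb3155417028305953bde28298a2a4ba035782dc773d0954b14c6212f3dc5102a254790a2eca821083148a448d9d0c0f0348133249c4b8656f5b24edc82d094119b0244900d94e236104a08a4c9af5a885218a729a21204726a52573d8c1ec566c4782da26641d81cc80514704f4fa33db51adb81a5c60ad0c2686400d307053f41c5e46cc33643751d7a64c7a68c1236ca52ba225fd94341f83ae091252d44893096073f00947d7185a185d1bc40cf1444001688f541d582dae0c4a18702d0b90519de00a4c24f8f21141f731d065dc40910e459fb851356d99a6452b009eb278547d010369512e4d7648ad10915778063818318c1567038,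 [1], [1, 0, 30]) := Or.inr (Or.inr (Or.inl ⟨6, by decide +kernel⟩))
theorem qW1_18 : chkE 552 10 GW1 (LW1.map fun a => a.1) (0x1613d0cdc603622870dc4817536a210591d864ef85e15858cf340403ec6783c520ed8a82d8921e086e5845880304c48265a60ddfe13c6d79c1d5a93b3c1f6755a7614d6561f03a5eb7b4617b90a7314d7ed343b11357539785d06c5384d8ca76cfc5683475d217d4e7030e063de04b4a6735e90e596038a52322415d8065dc20c977010bf1c5a309cb581d7e6dd2c6a18b6cdb277ca8305291c9706adaa495b57d2005c8116f0201100166d483308267c242c45f70dca654c664d5c27506744fd634f96d20c829885b9867ce0620074605c4165b8061545ed7a2c14b7006a8784151da5415ac0d58726c5d3d5f95296859d003901f3b605584de1995e78d922e5d9525f155d3a5557c448780a0702514e7a05c5e1695659e5cc9a43cc2471425051b2613e8993c7e156789de339dd079e6194071ec1927cd273db616c386b814128886a4230210d75a1f3445186943500a1228f8018a70a8f37915311c15514e84890c289ea2f40b361905c443024503ad663fcb8639da844fa631181f0425acf44508b189f7860d558de5404687bd0e750363956524c2f385d22e960376202da1d2a90735df23b86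40992e47e13851370859d2addc0f0c831d942907d2c9446bcc06f84d42490238df56cfe2dcdb6e8b40e8c3665791184e1e8ac32cd92a5b0459ce720c50890b4686c4bc2c6449c5b5468053f130791154f38c10048bc1acbb235c73c91918d26824852185a03d9c205831fc7e310f74c4ad2595214c6f0f5821cdad6f5501d86e7f0a023d761a4ea8415f4ccd4224f17b0606605e5b14c4ac845fe277145605c311de0e479027f4ae2f8970692712602444af255a1410f65d2120fc021d4c9834b372d2a7fce65bdd8895c1150303882d0b89e015150a5516ecd30959a490a3335a2591357e81c0004b4c17d1561b4412880c916909220dc988dd34200a40d234c9170adbf8103e6801b, [2, 1, 0, 2], [6, 11, 5]) = true := by decide +kernel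
theorem rW1_18 : CeW1 (0x1613d0cdc603622870dc4817536a210591d864ef85e15858cf340403ec6783c520ed8a82d8921e086e5845880304c48265a60ddfe13c6d79c1d5a93b3c1f6755a7614d6561f03a5eb7b4617b90a7314d7ed343b11357539785d06c5384d8ca76cfc5683475d217d4e7030e063de04b4a6735e90e596038a52322415d8065dc20c977010bf1c5a309cb581d7e6dd2c6a18b6cdb277ca8305291c9706adaa495b57d2005c8116f0201100166d483308267c242c45f70dca654c664d5c27506744fd634f96d20c829885b9867ce0620074605c4165b8061545ed7a2c14b7006a8784151da5415ac0d58726c5d3d5f95296859d003901f3b605584de1995e78d922e5d9525f155d3a5557c448780a0702514e7a05c5e1695659e5cc9a43cc2471425051b2613e8993c7e156789de339dd079e6194071ec1927cd273db616c386b814128886a4230210d75a1f3445186943500a1228f8018a70a8f37915311c15514e84890c289ea2f40b361905c443024503ad663fcb8639da844fa631181f0425acf44508b189f7860d558de5404687bd0e750363956524c2f385d22e960376202da1d2a90735df23b8640992e47e13851370859d2addc0f0c831d942907d2c9446bcc06f84d42490238df56cfe2dcdb6e8b40e8c3665791184e1e8ac32cd92a5b0459ce720c50890b4686c4bc2c6449c5b5468053f130791154f38c10048bc1acbb235c73c91918d26824852185a03d9c205831fc7e310f74c4ad2595214c6f0f5821cdad6f5501d86e7f0a023d761a4ea8415f4ccd4224f17b0606605e5b14c4ac845fe277145605c311de0e479027f4ae2f8970692712602444af255a1410f65d2120fc021d4c9834b372d2a7fce65bdd8895c1150303882d0b89e015150a5516ecd30959a490a3335a2591357e81c0004b4c17d1561b4412880c916909220dc988dd34200a40d234c9170adbf8103e6801b,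 [2, 1, 0, 2], [6, 11, 5]) := Or.inr (Or.inr (Or.inl ⟨10, by decide +kernel⟩))
theorem qW1_19 : chkE 552 10 GW1 (LW1.map fun a => a.1) (0x89d33895da06168872160d21e20e217a9227343e3d2203701b84c9e6948c7c17e00dc382c485617b355a167c3b04d89128c10ddf613d2a7a05a5156c7ddfe6b8244995b21e0f7bd5164c740a21b565fb5359615d24299e2709d042c091c05059e2464920071d64a4b174c2b745e04255d86549701340997619cfc3b080831e15c1cb02d104703c6ed003b8520fc196d48b6cc7f28892699f5688326adaa261a8669af84564325ad818018159e1e4e2589a739cdb629e66551e7b5d905d7463cde394463c997808ff5bce12204460061605833ce0e034ce8217a2c0c30e5c85d59051cfb415c161c354bdf83d50f2262276cb5251a43b59b584fd1995e7395a7c95c7a60955ca132137445177b936390a979cfe2c863731485cc767e5281c5425044c4953e1953c1751a4e503551503adca898f64c52c5b4d22f5302a9fc75544265f34fde40221a485d834594435bd25d3a464c4548a728c5908c4754dbe5a8e8474dd77c1673c041dc415c4ea4e0ca079ba6214c581c65c8fa2bc7d38d325ae175fd8b0e8f0009b958dc54d5043a50e664e66354f3dd9c6180537d8e432156600f16c5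335cb981cd40392e47cd00017c240962b90268d550c051315185e014800c0054be4b421238ba3585c2dc5f598251894b751793e4cb1e8ac1392b53810459e31a8a4455b1558a026e121544927c6f49da946ccc115651f1b0244cd23cbb236106d08a5a5857c4852181d8742f205c46c8603e0931ecad6740641d460f5ec1a42050ddd2686e0e06c1aca51cc4371d5f4f464528b36087e2d85e4ecb8365fa450587940a27454361b8319dc7f4ab1354006a012720a4498c255841a0074182c6de181d5bc810f15dc6d7fc365ba1f0cdac0c4c72082d0b840748220a5eb09dc92d1f444c2a2f07204501211d78504b6da236450a2fcc280c1207ca8368d35f40c6fc56779231087838108834ef680cf, [2, 1, 2, 1], [7, 10, 4]) = true := by decide +kernel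
theorem rW1_19 : CeW1 (0x89d33895da06168872160d21e20e217a9227343e3d2203701b84c9e6948c7c17e00dc382c485617b355a167c3b04d89128c10ddf613d2a7a05a5156c7ddfe6b8244995b21e0f7bd5164c740a21b565fb5359615d24299e2709d042c091c05059e2464920071d64a4b174c2b745e04255d86549701340997619cfc3b080831e15c1cb02d104703c6ed003b8520fc196d48b6cc7f28892699f5688326adaa261a8669af84564325ad818018159e1e4e2589a739cdb629e66551e7b5d905d7463cde394463c997808ff5bce12204460061605833ce0e034ce8217a2c0c30e5c85d59051cfb415c161c354bdf83d50f2262276cb5251a43b59b584fd1995e7395a7c95c7a60955ca132137445177b936390a979cfe2c863731485cc767e5281c5425044c4953e1953c1751a4e503551503adca898f64c52c5b4d22f5302a9fc75544265f34fde40221a485d834594435bd25d3a464c4548a728c5908c4754dbe5a8e8474dd77c1673c041dc415c4ea4e0ca079ba6214c581c65c8fa2bc7d38d325ae175fd8b0e8f0009b958dc54d5043a50e664e66354f3dd9c6180537d8e432156600f16c5335cb981cd40392e47cd00017c240962b90268d550c051315185e014800c0054be4b421238ba3585c2dc5f598251894b751793e4cb1e8ac1392b53810459e31a8a4455b1558a026e121544927c6f49da946ccc115651f1b0244cd23cbb236106d08a5a5857c4852181d8742f205c46c8603e0931ecad6740641d460f5ec1a42050ddd2686e0e06c1aca51cc4371d5f4f464528b36087e2d85e4ecb8365fa450587940a27454361b8319dc7f4ab1354006a012720a4498c255841a0074182c6de181d5bc810f15dc6d7fc365ba1f0cdac0c4c72082d0b840748220a5eb09dc92d1f444c2a2f07204501211d78504b6da236450a2fcc280c1207ca8368d35f40c6fc56779231087838108834ef680cf,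 [2, 1, 2, 1], [7, 10, 4]) := Or.inr (Or.inr (Or.inl ⟨12, by decide +kernel⟩))
theorem qW1_20 : chkE 552 10 GW1 (LW1.map fun a => a.1) (0x6ed6c74d0a35a218896d1d1753b96871892680de5c52f26d4f6d5660542348ca25a577604ce49cb0368a645d4a59d3721da3785fd7f9965fde56f5337884f705642757d128087441445834510fc0acf34512a7e867685f77fd88148f64b0e204c16421825cd216b0a3895597bcff31044004e0628386d0794921b075ad0e4377d597568fb7e5af89c4020d0b4b95084dc9504755f9226f170711d555c81104d00443c2fc248008078e19549485d8500181f08907701fc300e329c04221253a43e3b4cb34dcb551e0188f505d5d1c9d882c207edb17c8485e5425ecfe8319d8793f75d1085dae2cc3a88226385438361c80e1233df4394784f802374b76100b035bf748996aceb12d893359f309b68508e164c3172040159e07140471eb5a97a6cd465d1614ec294f41e3c007808192846d7e0091ec70859b73e1dd3a9e60c82882455641c783db075861180f72a1451bd0122909815ed2c5e7230bc241721c430040666e224461d9660983d0aa1082f4682c741783bdea6f86e1392d479de619057a00e0d5393f61d634845592b63cc70a88f58c1b651dc5adcc2ea1857c9f1de071a0b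62b22303c6462c3f1f9a85960a54ca5630823041a3a07c291cf53151325956946c1f5122a4df060b2578d8278455bcb8456082ac46158d72bd042ed1d64e06330c57520e4d44d370b57cc2e85497561062686a094001461a151113994e179130991900d91804691ccec6e4ca6a9a20f4d12f4c64c40a7216236c4c6ca1f2158343d3046cfa4d0be0d896218d97910c174d40ed874811f14c8d1954b10c5753427168ad4989117ddf24d9c7d8f928076555f10b57c084ae2d1ce16d036a5ba3498e1fda618d6e70dca7086b3c5ec031290490e4089c125007a4e74f1281608b255a48419911d806693a71547390c84d8b9615da845ee76c3169d0d354f256c335707a4c9f04e19b525922256073494, [1, 2, 1, 0], [4, 8, 7]) = true := by decide +kernel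
theorem rW1_20 : CeW1 (0x6ed6c74d0a35a218896d1d1753b96871892680de5c52f26d4f6d5660542348ca25a577604ce49cb0368a645d4a59d3721da3785fd7f9965fde56f5337884f705642757d128087441445834510fc0acf34512a7e867685f77fd88148f64b0e204c16421825cd216b0a3895597bcff31044004e0628386d0794921b075ad0e4377d597568fb7e5af89c4020d0b4b95084dc9504755f9226f170711d555c81104d00443c2fc248008078e19549485d8500181f08907701fc300e329c04221253a43e3b4cb34dcb551e0188f505d5d1c9d882c207edb17c8485e5425ecfe8319d8793f75d1085dae2cc3a88226385438361c80e1233df4394784f802374b76100b035bf748996aceb12d893359f309b68508e164c3172040159e07140471eb5a97a6cd465d1614ec294f41e3c007808192846d7e0091ec70859b73e1dd3a9e60c82882455641c783db075861180f72a1451bd0122909815ed2c5e7230bc241721c430040666e224461d9660983d0aa1082f4682c741783bdea6f86e1392d479de619057a00e0d5393f61d634845592b63cc70a88f58c1b651dc5adcc2ea1857c9f1de071a0b62b22303c6462c3f1f9a85960a54ca5630823041a3a07c291cf53151325956946c1f5122a4df060b2578d8278455bcb8456082ac46158d72bd042ed1d64e06330c57520e4d44d370b57cc2e85497561062686a094001461a151113994e179130991900d91804691ccec6e4ca6a9a20f4d12f4c64c40a7216236c4c6ca1f2158343d3046cfa4d0be0d896218d97910c174d40ed874811f14c8d1954b10c5753427168ad4989117ddf24d9c7d8f928076555f10b57c084ae2d1ce16d036a5ba3498e1fda618d6e70dca7086b3c5ec031290490e4089c125007a4e74f1281608b255a48419911d806693a71547390c84d8b9615da845ee76c3169d0d354f256c335707a4c9f04e19b525922256073494,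 [1, 2, 1, 0], [4, 8, 7]) := Or.inr (Or.inr (Or.inr ⟨2, 0x41, by decide +kernel⟩))
theorem qW1_21 : chkE 552 10 GW1 (LW1.map fun a => a.1) (0x9c5d031ea7ca1c8889b60a1e3556889010005604149f5b4946a100441240210b529c06053712979875ce0196959cce825bc7844f7f9ca164ec1c4654e5fd0c81f6441849d2363d2829dd8309da015143cc3807610110f00dd88838426d82f80e1b02c7451dd65c0220cd493a4ff1f5a1681d28312a62c9608c167e87272dff755c3766115a8c11621203ca2348703400e5043d6e10d68dac601f555c815d213690c96f99a69983576191e19e1a90245d6428cd85dc6d30093459bf499a97bc0258cab098395f1d03c56b155e36b43482da279ddf35a022c1425ecb8628cc5d49875c1585d290e8b33713d3851c0ee2104c40851a7395524f83e374b78190888c04382016ad0106a0a0859b5112c33cbb5fcb2530030ad480711b50dee7e57a6cc9a105617e029899357dd3212130469fc4ed034c550855b7461361a1347055121c174188c83ca8485ec1807c6c10f1d8eb464bd589ed665fb71c902f1a56f4302495f5f9c63e15a17d3f3d0d93d8e22849e7814b8610a2fc6e2b9cf1453861971535c95bde2638da6345a4e85b744c74546b3b400318ca3d5e937cef1992f14db93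a8db2b00d20cd46d03f1f9b539189449c83e59c6bc4b438f73152d170280f1955c8a0311532a4ba5f4c3579070b0950d4fe0aa0832caf158d71184323a1a64d84674a439c52078be881ba6142d8584c7c590519760941b4791d0c4470d94e179e434c8a8109d264691cde581ddc6a8201d51f425941ec0a296052d8976c9202188051419500fa7984d39879214aa44d0c5b0648356e87cd11dc8d4cd78411c57a1bb2107a22012661b138c827d98c1b06f555580b9543344e2d0a64ac09494b54b8fd1fe002258765d967088f1886174dae244e81409c12566731d44f01489cf21141119cb1445c40915615d73594c87755b7ccfc3edeb76c547d1223b88b2e625648ad01df07799f5655c18cde7354f, [1, 2, 0, 0], [5, 9, 6]) = true := by decide +kernel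
theorem rW1_21 : CeW1 (0x9c5d031ea7ca1c8889b60a1e3556889010005604149f5b4946a100441240210b529c06053712979875ce0196959cce825bc7844f7f9ca164ec1c4654e5fd0c81f6441849d2363d2829dd8309da015143cc3807610110f00dd88838426d82f80e1b02c7451dd65c0220cd493a4ff1f5a1681d28312a62c9608c167e87272dff755c3766115a8c11621203ca2348703400e5043d6e10d68dac601f555c815d213690c96f99a69983576191e19e1a90245d6428cd85dc6d30093459bf499a97bc0258cab098395f1d03c56b155e36b43482da279ddf35a022c1425ecb8628cc5d49875c1585d290e8b33713d3851c0ee2104c40851a7395524f83e374b78190888c04382016ad0106a0a0859b5112c33cbb5fcb2530030ad480711b50dee7e57a6cc9a105617e029899357dd3212130469fc4ed034c550855b7461361a1347055121c174188c83ca8485ec1807c6c10f1d8eb464bd589ed665fb71c902f1a56f4302495f5f9c63e15a17d3f3d0d93d8e22849e7814b8610a2fc6e2b9cf1453861971535c95bde2638da6345a4e85b744c74546b3b400318ca3d5e937cef1992f14db93a8db2b00d20cd46d03f1f9b539189449c83e59c6bc4b438f73152d170280f1955c8a0311532a4ba5f4c3579070b0950d4fe0aa0832caf158d71184323a1a64d84674a439c52078be881ba6142d8584c7c590519760941b4791d0c4470d94e179e434c8a8109d264691cde581ddc6a8201d51f425941ec0a296052d8976c9202188051419500fa7984d39879214aa44d0c5b0648356e87cd11dc8d4cd78411c57a1bb2107a22012661b138c827d98c1b06f555580b9543344e2d0a64ac09494b54b8fd1fe002258765d967088f1886174dae244e81409c12566731d44f01489cf21141119cb1445c40915615d73594c87755b7ccfc3edeb76c547d1223b88b2e625648ad01df07799f5655c18cde7354f,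 [1, 2, 0, 0], [5, 9, 6]) := Or.inr (Or.inl ⟨0, by decide +kernel⟩)
theorem qW1_22 : chkE 552 10 GW1 (LW1.map fun a => a.1) (0x4f94035c1607ce2408d26b148818ca71892208de2792e2c14f3a5db2fc230a9b80ec39030f821c9b575e345c422d60a49cc915c597ed965cdc243d4663d144a59a1542450c22340f216982544fc7494713c1b29dc76e46c211996c5034c2211010a570345fc8a1d1e082de43c0e74b4440bc8c6286d038a57a45b0dd835dc1d76197010fb825af5e813874cc4bd502f8286cc415d92205dd502d706ac811d5d12e5910557d7cdbf29850549755fa191e0d60205f44a14654af7e95a2207f6d5103b45122c47120a32ccf56f0da765f5895927f8520615427c278594b2406a879b25343e40120189b6820766184a0259c0b1050000d634066ecef198b7611c47d0800adf155d0e0790970d9f62c3a7f0a97f45c30c898419e79d6c5a82647227505333445825c291bc4b7bc6373cf1554381320d1ed6f5ecdc33987891e67b1c97e49d47c672c5b075a1f260f9041584f41a48589814ec83c1c380bc831728051a2a0dd288ea2f472360606e92b528010c203454b8008d9860fa478c413803386127d9b40d44d84483395ff320aa7893a48c8f58d2a2adcd5adcc2e9be431792da071a0770cd5b73864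30a156a4a0729374447924da0499014d446292022c94468cc0581f75f1c0238df7c94c579985c4b41c178742206507c2b5d338dda5390d714ee42cc57c1c83a1396dd678002d0fd3b5143d1959d254cf32e1a151531acbb179137ad197783c1c4691cded685686a98041974460ae4c47a8399b14df84fc61219ad6f52c1746e252130d9df215ea5655f46cd45a5dd6b99036c8d268fe10de175d42458563043141c966321c7a0f76a226284990b87d084c61140f86cf61f8f45b58e495a601d6e33565794e606432605c1048eb8889c12617490ff4f1ee584d3095a70158872da2590c764cf3391564d811615043f528598916911d3541488cac4200a4e1d44c96252420811a577134, [2, 0, 1], [30, 14, 1]) = true := by decide +kernel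
theorem rW1_22 : CeW1 (0x4f94035c1607ce2408d26b148818ca71892208de2792e2c14f3a5db2fc230a9b80ec39030f821c9b575e345c422d60a49cc915c597ed965cdc243d4663d144a59a1542450c22340f216982544fc7494713c1b29dc76e46c211996c5034c2211010a570345fc8a1d1e082de43c0e74b4440bc8c6286d038a57a45b0dd835dc1d76197010fb825af5e813874cc4bd502f8286cc415d92205dd502d706ac811d5d12e5910557d7cdbf29850549755fa191e0d60205f44a14654af7e95a2207f6d5103b45122c47120a32ccf56f0da765f5895927f8520615427c278594b2406a879b25343e40120189b6820766184a0259c0b1050000d634066ecef198b7611c47d0800adf155d0e0790970d9f62c3a7f0a97f45c30c898419e79d6c5a82647227505333445825c291bc4b7bc6373cf1554381320d1ed6f5ecdc33987891e67b1c97e49d47c672c5b075a1f260f9041584f41a48589814ec83c1c380bc831728051a2a0dd288ea2f472360606e92b528010c203454b8008d9860fa478c413803386127d9b40d44d84483395ff320aa7893a48c8f58d2a2adcd5adcc2e9be431792da071a0770cd5b7386430a156a4a0729374447924da0499014d446292022c94468cc0581f75f1c0238df7c94c579985c4b41c178742206507c2b5d338dda5390d714ee42cc57c1c83a1396dd678002d0fd3b5143d1959d254cf32e1a151531acbb179137ad197783c1c4691cded685686a98041974460ae4c47a8399b14df84fc61219ad6f52c1746e252130d9df215ea5655f46cd45a5dd6b99036c8d268fe10de175d42458563043141c966321c7a0f76a226284990b87d084c61140f86cf61f8f45b58e495a601d6e33565794e606432605c1048eb8889c12617490ff4f1ee584d3095a70158872da2590c764cf3391564d811615043f528598916911d3541488cac4200a4e1d44c96252420811a577134,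 [2, 0, 1], [30, 14, 1]) := Or.inr (Or.inl ⟨0, by decide +kernel⟩)
theorem qW1_23 : chkE 552 10 GW1 (LW1.map fun a => a.1) (0x5091b604d90619c408b00d21e354ca3a8a80bda58497934934282170f9e9088cc109120320a50c9f20c0f1e03b2d4f87e41715d147ed657f5ed8049a134597b0d60f1f221c2a789ee7e9f562d048404f51c6d0dc05111ef075997214a0e8010b05b711ac3cdd6754082b1496d4e75f1b92082b2401b309df08d0a29dd911c845c0cd1c8fd4712658505739b85b56f745b46cd062891d32474689d86ac81344be69da386164699ad368500199e6762245d9a781980e4386558c168803047e3c0ef58d947ad771f5150656b274a660d82895800709607dcf26c27859786290b52060534bf401c16d8626dc6f6196a5a4e2100137f1a4635526ed10198b73b95c56d5a2307155c1a4053708562545300014e5cd4c2c9de7497579c5d1292882627504651d458130291d8e81b1385512c0c21425cf64c5500fcdc2f5361a0944a54449dbc0f4e02c41022832260466c1bd8990e4651866cec621fe19e0c2f16043d1a2490c5d9c63380441db26e9ea40e215557128cfe6f816054fa31a0232d323849e75c281c18f6395d3951631e1b3413a740e63b4cf2b9683d52437c023752e36da1890530cdf4874d40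3a156a4e9391097020e3de1c6bc1e3acf9314c430dc9644c05c9a84b511238ba0905c5785f80c250d54b48e20144e32b5d31f0432a61a715841a8a43fdb112e13820f46142e5edf82651f4cd7e2552a1390d245cb0d8bb1795922d21224557c4691cdc281dcd6a99210590624ab1ec7a1e6051dd3b4fdae215bf560f15b06e799391aca52192b44d5f500640256e185742d88d518b8769937d93e7fc0a22012360522bda07a0937dd3d285450b44870d1e115e32aa0d1fd674be11495f3811dd65d967948f2ce1f35d200c5358649c125db731f04f0f25e8142d0b971e0f54c0b5f4c87857f7295661e23800fc3ec265985403522818d30460b0805618dd400d9f7910801cde7714f, [2], [31, 15, 0]) = true := by decide +kernel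
theorem rW1_23 : CeW1 (0x5091b604d90619c408b00d21e354ca3a8a80bda58497934934282170f9e9088cc109120320a50c9f20c0f1e03b2d4f87e41715d147ed657f5ed8049a134597b0d60f1f221c2a789ee7e9f562d048404f51c6d0dc05111ef075997214a0e8010b05b711ac3cdd6754082b1496d4e75f1b92082b2401b309df08d0a29dd911c845c0cd1c8fd4712658505739b85b56f745b46cd062891d32474689d86ac81344be69da386164699ad368500199e6762245d9a781980e4386558c168803047e3c0ef58d947ad771f5150656b274a660d82895800709607dcf26c27859786290b52060534bf401c16d8626dc6f6196a5a4e2100137f1a4635526ed10198b73b95c56d5a2307155c1a4053708562545300014e5cd4c2c9de7497579c5d1292882627504651d458130291d8e81b1385512c0c21425cf64c5500fcdc2f5361a0944a54449dbc0f4e02c41022832260466c1bd8990e4651866cec621fe19e0c2f16043d1a2490c5d9c63380441db26e9ea40e215557128cfe6f816054fa31a0232d323849e75c281c18f6395d3951631e1b3413a740e63b4cf2b9683d52437c023752e36da1890530cdf4874d403a156a4e9391097020e3de1c6bc1e3acf9314c430dc9644c05c9a84b511238ba0905c5785f80c250d54b48e20144e32b5d31f0432a61a715841a8a43fdb112e13820f46142e5edf82651f4cd7e2552a1390d245cb0d8bb1795922d21224557c4691cdc281dcd6a99210590624ab1ec7a1e6051dd3b4fdae215bf560f15b06e799391aca52192b44d5f500640256e185742d88d518b8769937d93e7fc0a22012360522bda07a0937dd3d285450b44870d1e115e32aa0d1fd674be11495f3811dd65d967948f2ce1f35d200c5358649c125db731f04f0f25e8142d0b971e0f54c0b5f4c87857f7295661e23800fc3ec265985403522818d30460b0805618dd400d9f7910801cde7714f,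 [2], [31, 15, 0]) := Or.inr (Or.inr (Or.inl ⟨49, by decide +kernel⟩))
theorem qW1_24 : chkE 552 10 GW1 (LW1.map fun a => a.1) (0x9d3b0321b56e215a09f1861e81e22768a8680fd5c49b4bd656a1ba6f9e448ddf18dcb60554804b020d5d1e08976d7c5603c709fd7d934451c550d3d4e44f6b01105e232640863d444592005224380595fc6d2108c610f07fcff5f8070648204dea6fdec5cdd67042a0cdcc3a5883e2060042b70dfc3c8cc44d0a16820700374a60c649a543e001609e369b14b9dd340d3504751491d3243260dae55c8164213591a3441a76bd80739cd0199e294ca549a4454530e4383007c29c0b7cc987bcef3b44e72577339e00e8f5274a668a1f82dad5350b2e5895e5428205c65c965d5a9070bf3d1d53c46285465619bd8121c80c2c06d9a635174fa18430b768404061080144a6ac1e12c482f1624a1300008e3cd4b3fa0d7494875c971c5515157a6cc6f419615b0294cceb7dcf68292c4e92a175384c5363703f3115010dca5c1ee7c591106107c010484741f8932496a519354652d66d9339de819ccd08611470c76c066838fc1f55c2d92585c5b4c99c55a12740b20f8160546e32d09319033850579c2661de23780f395fa468d97443028c6b58ccf145025ad5937c0257d6d360ee411982b17d874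d422db7181b553e0211d762bce26981a3a0e3314bd2e1eb6f1953eca046111538ba0357857877100455b94c0897b2b8f9028d7630682ed227b4441e4a4665b8404be859002202e8814021d741d9c82d2146510d0c5120d8a9179240388a0ec5549c731a457354506a8720f4d173d1e1ec561a99f17d1b1fdd8215c47e5b6130fa6584d3999d2192b08cdd7e06400c350d11f41c8d898c33a8ec7edbb074ad6141236ca23dc2f7f8461b09a322090b537240ab095e32a9de4fd66349606c8c15a56f629e67848f2cd8274df52450e77049270b5524b14f0c289d8b2541f71dd454c807d0a179547251551c1f2499c65c82859c540921a6e5b435a257647a10a0f026057a55a5298e864e4, [2, 1, 0, 0], [22, 13, 2]) = true := by decide +kernel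
theorem rW1_24 : CeW1 (0x9d3b0321b56e215a09f1861e81e22768a8680fd5c49b4bd656a1ba6f9e448ddf18dcb60554804b020d5d1e08976d7c5603c709fd7d934451c550d3d4e44f6b01105e232640863d444592005224380595fc6d2108c610f07fcff5f8070648204dea6fdec5cdd67042a0cdcc3a5883e2060042b70dfc3c8cc44d0a16820700374a60c649a543e001609e369b14b9dd340d3504751491d3243260dae55c8164213591a3441a76bd80739cd0199e294ca549a4454530e4383007c29c0b7cc987bcef3b44e72577339e00e8f5274a668a1f82dad5350b2e5895e5428205c65c965d5a9070bf3d1d53c46285465619bd8121c80c2c06d9a635174fa18430b768404061080144a6ac1e12c482f1624a1300008e3cd4b3fa0d7494875c971c5515157a6cc6f419615b0294cceb7dcf68292c4e92a175384c5363703f3115010dca5c1ee7c591106107c010484741f8932496a519354652d66d9339de819ccd08611470c76c066838fc1f55c2d92585c5b4c99c55a12740b20f8160546e32d09319033850579c2661de23780f395fa468d97443028c6b58ccf145025ad5937c0257d6d360ee411982b17d874d422db7181b553e0211d762bce26981a3a0e3314bd2e1eb6f1953eca046111538ba0357857877100455b94c0897b2b8f9028d7630682ed227b4441e4a4665b8404be859002202e8814021d741d9c82d2146510d0c5120d8a9179240388a0ec5549c731a457354506a8720f4d173d1e1ec561a99f17d1b1fdd8215c47e5b6130fa6584d3999d2192b08cdd7e06400c350d11f41c8d898c33a8ec7edbb074ad6141236ca23dc2f7f8461b09a322090b537240ab095e32a9de4fd66349606c8c15a56f629e67848f2cd8274df52450e77049270b5524b14f0c289d8b2541f71dd454c807d0a179547251551c1f2499c65c82859c540921a6e5b435a257647a10a0f026057a55a5298e864e4,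 [2, 1, 0, 0], [22, 13, 2]) := Or.inr (Or.inl ⟨0, by decide +kernel⟩)
theorem qW1_25 : chkE 552 10 GW1 (LW1.map fun a => a.1) (0x6edf874c162e61c5a12f7b1756e6223f1b00058e4156d27ce46d4b52fd13021b1224396057c2657903de35486376d547c4c97084f7d9e63cc5747226789fd5c1a41540d80523744c229e1f4a1c67497f165fc169c7819f70dcff6e1324c19c80d0a0106151d210c915895e97bd88461846800565c6d22d9d791ea211a25ddff6b98a57172515a689c2c875df3493684c265043d83a1a0f1c12012955c81418d007dbc055f4305c4299cd45d48721dc1e0110a87772d2a300f7459086153f3a61858cae039c04ddd02cd6b645ce0812082c727a0a256e0a2c1428214c70c7987925071be3d1f5188f1859336187100e2104c9e00024634064f8ef430b7111bf5f40b0ad276ad3506a02242050501906cbb451782e03b3819e75c4c6f42843d7a6cc766416117429195013c042625b6558385b1de1eddd8803f1f470411966b1eb5609d5d0677c092759821f8e3041f92681e229cf67d937514d84021334fb50cc72a15f149da3119236da985d2b01c824e840780c300a1b4406e2acbd65009385717ecd35b939580833941d284aa63c300888f3b614478503d5492e83e1989b41cd510c5f2b018368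643c9b7181a8250484446a1182f8004b43893291093f9ee68d958446c3e047538df88d4b578538489561c5c28d7b1398c028d73e4ea2390d7b5a1258c52c57e3ac4d855664982d3711b824411bca52d0cf3192215153398a9178237251983417128731a5c53b9026a9ad1d51f4b4514c4565d99b661401fc34219805a92c25cfa728be0d8cc2145b490dd4ecd48116f760d13608d4f4b21a1e579c277e87a7cc912d90b1f0e27f8af28146320870b8ce2f0cb0955d36538261004b8de6c9af52835831347846b0e874031d5048e832849271ba565994f144161b411564230e74498369d1a3b17353d55540d6222246955159c316691d81d8b7c833568ad3da0f40d62731d95a4fd86565, [2, 0], [23, 12, 3]) = true := by decide +kernel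
theorem rW1_25 : CeW1 (0x6edf874c162e61c5a12f7b1756e6223f1b00058e4156d27ce46d4b52fd13021b1224396057c2657903de35486376d547c4c97084f7d9e63cc5747226789fd5c1a41540d80523744c229e1f4a1c67497f165fc169c7819f70dcff6e1324c19c80d0a0106151d210c915895e97bd88461846800565c6d22d9d791ea211a25ddff6b98a57172515a689c2c875df3493684c265043d83a1a0f1c12012955c81418d007dbc055f4305c4299cd45d48721dc1e0110a87772d2a300f7459086153f3a61858cae039c04ddd02cd6b645ce0812082c727a0a256e0a2c1428214c70c7987925071be3d1f5188f1859336187100e2104c9e00024634064f8ef430b7111bf5f40b0ad276ad3506a02242050501906cbb451782e03b3819e75c4c6f42843d7a6cc766416117429195013c042625b6558385b1de1eddd8803f1f470411966b1eb5609d5d0677c092759821f8e3041f92681e229cf67d937514d84021334fb50cc72a15f149da3119236da985d2b01c824e840780c300a1b4406e2acbd65009385717ecd35b939580833941d284aa63c300888f3b614478503d5492e83e1989b41cd510c5f2b018368643c9b7181a8250484446a1182f8004b43893291093f9ee68d958446c3e047538df88d4b578538489561c5c28d7b1398c028d73e4ea2390d7b5a1258c52c57e3ac4d855664982d3711b824411bca52d0cf3192215153398a9178237251983417128731a5c53b9026a9ad1d51f4b4514c4565d99b661401fc34219805a92c25cfa728be0d8cc2145b490dd4ecd48116f760d13608d4f4b21a1e579c277e87a7cc912d90b1f0e27f8af28146320870b8ce2f0cb0955d36538261004b8de6c9af52835831347846b0e874031d5048e832849271ba565994f144161b411564230e74498369d1a3b17353d55540d6222246955159c316691d81d8b7c833568ad3da0f40d62731d95a4fd86565,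 [2, 0], [23, 12, 3]) := Or.inr (Or.inr (Or.inr ⟨6, 0x111444, by decide +kernel⟩))
theorem qW1_26 : chkE 552 10 GW1 (LW1.map fun a => a.1) (0x162260ccea69219680dc7059e29801365228891076e158592a7882c3f4e062096108902b11850db7110ee67d324147d515f329c1c51c1b79c84129f86d5d71d0b98019a6f4ff2808b709ae3c85b4914d7ed4f3b15920e1364d237206361cca85d04201ac7d919608e703067134085f0da5a02344965309df0ac6815d92335ed87c471c83e7c59109cb56859d820f17dd516cc6029492221ec011d86adaa494f056d8558223275086e6218161e6e02f589f22c598084e46551e785c46f0412f8fb634460a0bc3e20f77586698d5569d535d5c450cc07dcf0fd61349784450b5210613cde04c341c13627d6c5ad2740dcd3d1007281858d9b5e9a51995e03d8069d837907155d3a0c12d0e5176d035798a97a14c52c0944d757f5468040e8253e50540261424f53c4ed56340892f56e404944ce044c4b326cb05506242a14184d35a8c16a5e97821a228321d5944348746ca175a0a548370897f525cb5de182644b474dd5d92b339a241d7480dda5a4504d5667c0fe84443638fa2bd8938c3b3d567165eb6d9a8056063b5e507a241b01a7506b395963dc823861037d724322036dce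86cd860424610d44a1790f5390e10970d7e2b9dc154c7320513144830dc9498c00098f4dd8a238ba7d0b82dcb66e8254c0b26652e3e4cb1ea0b13816538107fe1d6c4a40a86a469ef5b44068c9c4bc9a43d3f25e0e115341f1b00c60c0d8bb234057b9214e1af47086215fa78ce2205d91f87f808931ecad148061dc7647df51cdbf5616f1bc6e000e9398a21a5c67495f194647792c4a5b217c5e1745c7a81d3ce277140a3241214c79319025ccab7444c439f9124c47018c256073f20d6409e5edbe344173d81954ccf4588f5417089520245556702e0b61271ca30a58b6ec142d0d67311565c0b5f4eb169fe7f0e80e9640f0aa3bc265c454034a857544045d308056529d000c78231ad01cbf8706d, [0, 0], [16, 2, 9]) = true := by decide +kernel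
theorem rW1_26 : CeW1 (0x162260ccea69219680dc7059e29801365228891076e158592a7882c3f4e062096108902b11850db7110ee67d324147d515f329c1c51c1b79c84129f86d5d71d0b98019a6f4ff2808b709ae3c85b4914d7ed4f3b15920e1364d237206361cca85d04201ac7d919608e703067134085f0da5a02344965309df0ac6815d92335ed87c471c83e7c59109cb56859d820f17dd516cc6029492221ec011d86adaa494f056d8558223275086e6218161e6e02f589f22c598084e46551e785c46f0412f8fb634460a0bc3e20f77586698d5569d535d5c450cc07dcf0fd61349784450b5210613cde04c341c13627d6c5ad2740dcd3d1007281858d9b5e9a51995e03d8069d837907155d3a0c12d0e5176d035798a97a14c52c0944d757f5468040e8253e50540261424f53c4ed56340892f56e404944ce044c4b326cb05506242a14184d35a8c16a5e97821a228321d5944348746ca175a0a548370897f525cb5de182644b474dd5d92b339a241d7480dda5a4504d5667c0fe84443638fa2bd8938c3b3d567165eb6d9a8056063b5e507a241b01a7506b395963dc823861037d724322036dce86cd860424610d44a1790f5390e10970d7e2b9dc154c7320513144830dc9498c00098f4dd8a238ba7d0b82dcb66e8254c0b26652e3e4cb1ea0b13816538107fe1d6c4a40a86a469ef5b44068c9c4bc9a43d3f25e0e115341f1b00c60c0d8bb234057b9214e1af47086215fa78ce2205d91f87f808931ecad148061dc7647df51cdbf5616f1bc6e000e9398a21a5c67495f194647792c4a5b217c5e1745c7a81d3ce277140a3241214c79319025ccab7444c439f9124c47018c256073f20d6409e5edbe344173d81954ccf4588f5417089520245556702e0b61271ca30a58b6ec142d0d67311565c0b5f4eb169fe7f0e80e9640f0aa3bc265c454034a857544045d308056529d000c78231ad01cbf8706d,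 [0, 0], [16, 2, 9]) := Or.inr (Or.inr (Or.inl ⟨41, by decide +kernel⟩))
theorem qW1_27 : chkE 552 10 GW1 (LW1.map fun a => a.1) (0x89c658944307dcd682166b148574014ad1d5a0bf59e203706d4e6123782b3fd9d4c8212b07d6f43f81a0758842415185a88829dd751ccf7a1fa2645d6a01c185f26bdf450d881b18b785d56d0aa44dfb5356515dcc368d07b5231a9690d4503d068601c17f88a7b0b174c8c2f8084dc83889e44454f4a0a2381043b15a2f19376153688ef824556ed00610965ecb33c1eb6cc7e5d8a87cd8202e1f6adaa261f7359266397d05dbf3562166d758399c67cb939cb624094654c67098332590135a5394f97b8cd311f0540e1305b9649ae35dd95fc79690bd6dd61348b2449b16797413cfd04d204d8705b53b5ae0177a1985cb57980d58e055e8fb1995e87480091c408d1c55ca131d09700783c9877294e79cb830d384921e7f46f49c267c53e50497495424cd3c5b11a84d4a73d6f4d4e44f60d1ecf14bcb03383a86c001d1c9515a64fd497810d465701d451869581313a4860201837455147a57772c021284b4890c294d95507214d0680dc618cca405ba83c5c5c8ea580fa630481f0033d5db3cd514c1b56f8443b5c53acfc2801a6648f6353424ce2619c72ea113761517de342877605a7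68464309790f5e27f12d628522ad0264430555942918952cd3614c0861d15f1c3238df6694c2dd98598b46d9787512e1184e1ea0b32dea2a5b07fc0f42cc528dc8558e927c9e0f04926c767e5a9501b81159638c1015197398bb235d20a1d6026001c48621484738822055c181b2828f74c4ad5f9523609a47d291a50821d6e5186e851ef0d9df1cdda0155f898d440c197d47f36c5e7e0fe0585a16458794566f09141ccc479dc5ccae63d1b4390f270f80e4af254ee8920410440820153449d01d2c11c1b4586b774320cc34048c80bc2e0b42c8402a0a48b09d440955b564228300488c1e075f60e0e81881168c5b0f80e5c43106092298145900c6b40a225d00ed1719c203d9108712a, [1, 0], [17, 3, 8]) = true := by decide +kernel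
theorem rW1_27 : CeW1 (0x89c658944307dcd682166b148574014ad1d5a0bf59e203706d4e6123782b3fd9d4c8212b07d6f43f81a0758842415185a88829dd751ccf7a1fa2645d6a01c185f26bdf450d881b18b785d56d0aa44dfb5356515dcc368d07b5231a9690d4503d068601c17f88a7b0b174c8c2f8084dc83889e44454f4a0a2381043b15a2f19376153688ef824556ed00610965ecb33c1eb6cc7e5d8a87cd8202e1f6adaa261f7359266397d05dbf3562166d758399c67cb939cb624094654c67098332590135a5394f97b8cd311f0540e1305b9649ae35dd95fc79690bd6dd61348b2449b16797413cfd04d204d8705b53b5ae0177a1985cb57980d58e055e8fb1995e87480091c408d1c55ca131d09700783c9877294e79cb830d384921e7f46f49c267c53e50497495424cd3c5b11a84d4a73d6f4d4e44f60d1ecf14bcb03383a86c001d1c9515a64fd497810d465701d451869581313a4860201837455147a57772c021284b4890c294d95507214d0680dc618cca405ba83c5c5c8ea580fa630481f0033d5db3cd514c1b56f8443b5c53acfc2801a6648f6353424ce2619c72ea113761517de342877605a768464309790f5e27f12d628522ad0264430555942918952cd3614c0861d15f1c3238df6694c2dd98598b46d9787512e1184e1ea0b32dea2a5b07fc0f42cc528dc8558e927c9e0f04926c767e5a9501b81159638c1015197398bb235d20a1d6026001c48621484738822055c181b2828f74c4ad5f9523609a47d291a50821d6e5186e851ef0d9df1cdda0155f898d440c197d47f36c5e7e0fe0585a16458794566f09141ccc479dc5ccae63d1b4390f270f80e4af254ee8920410440820153449d01d2c11c1b4586b774320cc34048c80bc2e0b42c8402a0a48b09d440955b564228300488c1e075f60e0e81881168c5b0f80e5c43106092298145900c6b40a225d00ed1719c203d9108712a,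 [1, 0], [17, 3, 8]) := Or.inr (Or.inr (Or.inl ⟨10, by decide +kernel⟩))
theorem qW1_28 : chkE 552 10 GW1 (LW1.map fun a => a.1) (0x161330cd04591cd006155c19e78da016e1a5a1be59cdc881fc78840580053fccc01ccd2b0c41c43f611b9814f65c4f87e526459d75ce145341d8056c6d41c7b0d6305a747188281b4785f562cd9791e77a0e4715e9876137b4085d94a5bd023d0ea710327f91918599031c7135233380f8891311c940510b74843795d9241930d1120821821c1709d66818795ec3a7ddee6cc7e1a9b061474421206adaa4fcf07c8883f418154043ba1c67e1e1488266d5b750db2f14f65594708800f1062f9723958c7ac211f5f01c0e16be075712935d5a16496045096dd614b8c354ddf520417f58e80e1f7755026df83d4994e21985dba4d2233b5625ea1157d5e36983669804914355d1a31cbd5dd5222d6e6594e7ecfe2c9de08d7513c76128d35613e5044c6a5421953c174a1341694b435079658983b4c46227d794dcb30581b6080e43e002615974122229ac0f51e475f125d567584845dff0a8f3731c00e43e49c1a4350c720aa5f1ad1dd9004e24225dc3acb583d4c69468378fa3e6023de045addb45028065a82fda158c57405da1b04b2c46b635e638c2f6188c37cfb376166615d7a853605f4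110d4510b01d5391b5cf8320e32c5027430554c63160a5e0267ccc03bd8f551972ecba0905c2dc5f400b44b14b39cd22bcae2b60b2ad0a2a4a80dc83288a4088a54e9ef4bc2c324495b46f5a92546d7e255ca24c920c5c30d88e234e05452140da66f4852185a2999c20592181b26247c1ec7a6e07841d46345ae1a40b825872686e33ce9399b11ccfc0ac664f464025307547f2d85e4ecb886c845fe273b05668c123619d144ca51c4e745403a1452711872c46114d5718035d2128211047d914c9b64440029c8f4d9c1895d8244c83882d0b89e19d150a4f26ecc2094b9524a3629bf035357e9f64a90e3c5a46f12b009c9414545f4107392807dd31c80a18de083406841a21081588438, [2, 1, 2, 1, 0, 0], [11, 6, 13]) = true := by decide +kernel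
theorem rW1_28 : CeW1 (0x161330cd04591cd006155c19e78da016e1a5a1be59cdc881fc78840580053fccc01ccd2b0c41c43f611b9814f65c4f87e526459d75ce145341d8056c6d41c7b0d6305a747188281b4785f562cd9791e77a0e4715e9876137b4085d94a5bd023d0ea710327f91918599031c7135233380f8891311c940510b74843795d9241930d1120821821c1709d66818795ec3a7ddee6cc7e1a9b061474421206adaa4fcf07c8883f418154043ba1c67e1e1488266d5b750db2f14f65594708800f1062f9723958c7ac211f5f01c0e16be075712935d5a16496045096dd614b8c354ddf520417f58e80e1f7755026df83d4994e21985dba4d2233b5625ea1157d5e36983669804914355d1a31cbd5dd5222d6e6594e7ecfe2c9de08d7513c76128d35613e5044c6a5421953c174a1341694b435079658983b4c46227d794dcb30581b6080e43e002615974122229ac0f51e475f125d567584845dff0a8f3731c00e43e49c1a4350c720aa5f1ad1dd9004e24225dc3acb583d4c69468378fa3e6023de045addb45028065a82fda158c57405da1b04b2c46b635e638c2f6188c37cfb376166615d7a853605f4110d4510b01d5391b5cf8320e32c5027430554c63160a5e0267ccc03bd8f551972ecba0905c2dc5f400b44b14b39cd22bcae2b60b2ad0a2a4a80dc83288a4088a54e9ef4bc2c324495b46f5a92546d7e255ca24c920c5c30d88e234e05452140da66f4852185a2999c20592181b26247c1ec7a6e07841d46345ae1a40b825872686e33ce9399b11ccfc0ac664f464025307547f2d85e4ecb886c845fe273b05668c123619d144ca51c4e745403a1452711872c46114d5718035d2128211047d914c9b64440029c8f4d9c1895d8244c83882d0b89e19d150a4f26ecc2094b9524a3629bf035357e9f64a90e3c5a46f12b009c9414545f4107392807dd31c80a18de083406841a21081588438,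 [2, 1, 2, 1, 0, 0], [11, 6, 13]) := Or.inr (Or.inr (Or.inl ⟨6, by decide +kernel⟩))
theorem qW1_29 : chkE 552 10 GW1 (LW1.map fun a => a.1) (0x89d3d8946804619006200c948739a02a90d8881576e16854384e49e639d2620793d8bc2b0f8471b7684d566c075c4c443d854581c5cc007ec5a49d3b6a1d76095b698241c4ff1b0f27092922d2b08de879c947954903cd064c08294895b9dc85c4360d707d88a1d1d474e102f9235521d5a12454ce4511b1014ea7155c085ed481116b4025609d6edba110cc820623c0286cc6072010498616fc346adaa6a5f72e5f33780d6440b81e1c589755f8e2814d66645f33565654517858068d7413611634af544904620f4d986800ee765f535d923cd9d5912d0fd614b94b11ca2679907f56080dd8541dd4bc5d3d44a025cd3d1666597d3b59f5e97257d5e20dc47d08044dbd55d560c1cf72c0662d6f4d0a95345c5e1037921e13c9a265c921d3e5051b4fd428993c7e13a84c63425873ad4f194031ec3a5b5795f0f17a8cf7b0267e5af495cc7411d465c10f4c648a095011a485891e1ff28c5956439700ef8041a868dd1a85b4dc203604104cfc52902079007c0b83ed043f4fa11a0a24e0d5ad675fdee4b1b54418458cec4d5c62804b39c8f395ca1f19c384672e9a5430dc2d8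a6059076059a81864050b01d5e24a8bd65db8138ca05cc73211e292022c80e220c00f9d133a0c2ecdf69cfe2dcdb2d425064c32c4d2630ab2b60b2ba1b538920dcda77cc545576284e926e126f09c27d465149813052255e63dca81518a3988e2342b7add6778c150c852181d5742f2055a1f87f120e34c47a8391714c6f345d51cc047c4351d86e06def0d90b1a624380664ccd44e1b66b9b26605e5b14c429fa4505815c0a0f0911dc966505051ccb63c973a16a1247d5dcf9115b97683b4182c5ecbf47c551093044a1429c6b1c1ac0ce1f049552082d0b840230220a5b409d282d1f27a42a70d0806101211fe1b50e2cc1f324d9860d34143188db078cc26900c688565a5e08115271c724c9be885fc, [2, 1, 2, 0], [10, 7, 12]) = true := by decide +kernel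
theorem rW1_29 : CeW1 (0x89d3d8946804619006200c948739a02a90d8881576e16854384e49e639d2620793d8bc2b0f8471b7684d566c075c4c443d854581c5cc007ec5a49d3b6a1d76095b698241c4ff1b0f27092922d2b08de879c947954903cd064c08294895b9dc85c4360d707d88a1d1d474e102f9235521d5a12454ce4511b1014ea7155c085ed481116b4025609d6edba110cc820623c0286cc6072010498616fc346adaa6a5f72e5f33780d6440b81e1c589755f8e2814d66645f33565654517858068d7413611634af544904620f4d986800ee765f535d923cd9d5912d0fd614b94b11ca2679907f56080dd8541dd4bc5d3d44a025cd3d1666597d3b59f5e97257d5e20dc47d08044dbd55d560c1cf72c0662d6f4d0a95345c5e1037921e13c9a265c921d3e5051b4fd428993c7e13a84c63425873ad4f194031ec3a5b5795f0f17a8cf7b0267e5af495cc7411d465c10f4c648a095011a485891e1ff28c5956439700ef8041a868dd1a85b4dc203604104cfc52902079007c0b83ed043f4fa11a0a24e0d5ad675fdee4b1b54418458cec4d5c62804b39c8f395ca1f19c384672e9a5430dc2d8a6059076059a81864050b01d5e24a8bd65db8138ca05cc73211e292022c80e220c00f9d133a0c2ecdf69cfe2dcdb2d425064c32c4d2630ab2b60b2ba1b538920dcda77cc545576284e926e126f09c27d465149813052255e63dca81518a3988e2342b7add6778c150c852181d5742f2055a1f87f120e34c47a8391714c6f345d51cc047c4351d86e06def0d90b1a624380664ccd44e1b66b9b26605e5b14c429fa4505815c0a0f0911dc966505051ccb63c973a16a1247d5dcf9115b97683b4182c5ecbf47c551093044a1429c6b1c1ac0ce1f049552082d0b840230220a5b409d282d1f27a42a70d0806101211fe1b50e2cc1f324d9860d34143188db078cc26900c688565a5e08115271c724c9be885fc,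 [2, 1, 2, 0], [10, 7, 12]) := Or.inr (Or.inr (Or.inl ⟨12, by decide +kernel⟩))
theorem qW1_30 : chkE 552 10 GW1 (LW1.map fun a => a.1) (0x6ed3b74cd969da07356d4a59e11219410108861104d2f26dca3c0b50f959781c87791235d2d5152e78c0f0193885dcf1c4177b54775c945fc578253d341737600d0f1a443dd02f80e0dc32098ea840f3450007e805355a829df0330030e8e25c45b1c9ae13d1987ca3894231b20f624ee871c73341b7ad7e5252b0740b11d161849071160265f389c40738a52c1874e5285051f1e50d15520569ec55c81105e20609d8615b2215c369681e21e6c5dc45e230885354ccf300937fc208013f280153b4ab3091142523064f568e1d421c12b0047a1767d0f83493e6dc5c0860e521257f80259d826d92c85865619f14c801416127f1f26355250910374b76e5ad591a2231f96aceb438c46299b34cb31b4bb1654b3f84219d757d897561b4805616cc6f5d17a5b0294cc1e6d43b4606255a14174894c56e8817b120353f1650d08b6f5bc640e03fca8229f51fc7c6c1275190175954589e17514d749c365cfd21cc82495f25843809802d9a976dea8102f4e82c020b26f8aa3bc6e2b8ce14569386037ec14776135c95d394842861b135550a8e658c38318505ade437cbf1989f36206769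9882c1f298d47ba086c9f77987d7010b3e482614e8068f7315372e0f264595639ef829772a4ba0457857877278954d94c4543f32caf15981119c623a1a70a07148a42c59d4d58f855666bc2e37140471061d9df0952a4791d245cb23d4e179e9511213d8c95a8731a5c5611026a9bf3443d5f1941ec0a28a0517d1b1f9ac21592128f1130fa391d11adb82190a7310c7e06401d505c07541c8d898c3891e579c271687a6985436c6a38d9c0718c3a49a31d430b4bd8304e2d08305863261005e5a51812640c702f14f64c364c1d5030740c44b32849271ba44d994f1c9160281157d0ace70e5d92e51a3b1fd4d0305bd9a304683798b3d012359226855109033200ad835885299f49183024fb88996, [2, 1], [8, 4, 17]) = true := by decide +kernel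
theorem rW1_30 : CeW1 (0x6ed3b74cd969da07356d4a59e11219410108861104d2f26dca3c0b50f959781c87791235d2d5152e78c0f0193885dcf1c4177b54775c945fc578253d341737600d0f1a443dd02f80e0dc32098ea840f3450007e805355a829df0330030e8e25c45b1c9ae13d1987ca3894231b20f624ee871c73341b7ad7e5252b0740b11d161849071160265f389c40738a52c1874e5285051f1e50d15520569ec55c81105e20609d8615b2215c369681e21e6c5dc45e230885354ccf300937fc208013f280153b4ab3091142523064f568e1d421c12b0047a1767d0f83493e6dc5c0860e521257f80259d826d92c85865619f14c801416127f1f26355250910374b76e5ad591a2231f96aceb438c46299b34cb31b4bb1654b3f84219d757d897561b4805616cc6f5d17a5b0294cc1e6d43b4606255a14174894c56e8817b120353f1650d08b6f5bc640e03fca8229f51fc7c6c1275190175954589e17514d749c365cfd21cc82495f25843809802d9a976dea8102f4e82c020b26f8aa3bc6e2b8ce14569386037ec14776135c95d394842861b135550a8e658c38318505ade437cbf1989f362067699882c1f298d47ba086c9f77987d7010b3e482614e8068f7315372e0f264595639ef829772a4ba0457857877278954d94c4543f32caf15981119c623a1a70a07148a42c59d4d58f855666bc2e37140471061d9df0952a4791d245cb23d4e179e9511213d8c95a8731a5c5611026a9bf3443d5f1941ec0a28a0517d1b1f9ac21592128f1130fa391d11adb82190a7310c7e06401d505c07541c8d898c3891e579c271687a6985436c6a38d9c0718c3a49a31d430b4bd8304e2d08305863261005e5a51812640c702f14f64c364c1d5030740c44b32849271ba44d994f1c9160281157d0ace70e5d92e51a3b1fd4d0305bd9a304683798b3d012359226855109033200ad835885299f49183024fb88996,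 [2, 1], [8, 4, 17]) := Or.inr (Or.inl ⟨0, by decide +kernel⟩)
theorem qW1_31 : chkE 552 10 GW1 (LW1.map fun a => a.1) (0x9df8030aa7d0017349b6b9486861910c92870fb80c9f5b5967ddba00949740a54e15335dcf43cd25748345dde85d2d6f4557b57375d4f165c521e2684d470d22332411515e0135c97fdc134c6819d143cc1b0742b3b9b5459f0676042cc2f4152b6b5297f48a480220cd242820f828d58848c084007b9b85645b7e908444a77b0bc600de8058516212299c85e56e78814504d12592205e1f7646155c815d1395f5913bcb949992875685497577cca0180d28c7744a14300e30dda2698981b11058ccb510472f4084c16b6f0da02c322b1bf5346a69d184b93e6dd4c33452679a97f83e59c744b1b6855336195801da05c4401b4d66347850815374b781c7207c2071d6a6ad013a07d8319f0983a7f08e5fd782e0f68421e7d84c7c58b265616cc761057a17429195356a20d3e0f14e8cf5b0631ed873717b8096f768e4760f21c5a3419d23fdb0465d51fcf72a04a268eb4857c815e139de83819770d8e824c8040661e504121c436d2576d0a00ce25589e48cc32fcd98606e139374794a3841379d284d8d0695e33945a468162f955454363b52a651023d5132e9be57d2f41d843f05f82d64738647ae086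c8f04d0c45dca26319c7cd0e12c7c290ce3f88b275953f4e9625c02a4df6914b578530b0457745c0a83f2ac46159812be242ed1d709b9838c5664cc079d1859003042d8811b50d901bdb1094381461a048391ad4e179cc309d61083c7e4731a457818506a80447c75550c64c40a42d62661401f9702195c49c6225cfa5958f23d7e215ea7a50c4ecd44c8706b03d3608d4f4b2718ec7edbb210ad800312d97624c82070f97bd4631d1c0b909628ae2d00f86c894fd662c17218088025502409464ce6065f574d821501a77049270b5790b14f00e89d5125418015d472d5a56ca17944f798300d4246bcea581b43d0917c90d1102866a2560c7a0ed885a59b08c8040e11889ca, [0, 2], [9, 5, 16]) = true := by decide +kernel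
theorem rW1_31 : CeW1 (0x9df8030aa7d0017349b6b9486861910c92870fb80c9f5b5967ddba00949740a54e15335dcf43cd25748345dde85d2d6f4557b57375d4f165c521e2684d470d22332411515e0135c97fdc134c6819d143cc1b0742b3b9b5459f0676042cc2f4152b6b5297f48a480220cd242820f828d58848c084007b9b85645b7e908444a77b0bc600de8058516212299c85e56e78814504d12592205e1f7646155c815d1395f5913bcb949992875685497577cca0180d28c7744a14300e30dda2698981b11058ccb510472f4084c16b6f0da02c322b1bf5346a69d184b93e6dd4c33452679a97f83e59c744b1b6855336195801da05c4401b4d66347850815374b781c7207c2071d6a6ad013a07d8319f0983a7f08e5fd782e0f68421e7d84c7c58b265616cc761057a17429195356a20d3e0f14e8cf5b0631ed873717b8096f768e4760f21c5a3419d23fdb0465d51fcf72a04a268eb4857c815e139de83819770d8e824c8040661e504121c436d2576d0a00ce25589e48cc32fcd98606e139374794a3841379d284d8d0695e33945a468162f955454363b52a651023d5132e9be57d2f41d843f05f82d64738647ae086c8f04d0c45dca26319c7cd0e12c7c290ce3f88b275953f4e9625c02a4df6914b578530b0457745c0a83f2ac46159812be242ed1d709b9838c5664cc079d1859003042d8811b50d901bdb1094381461a048391ad4e179cc309d61083c7e4731a457818506a80447c75550c64c40a42d62661401f9702195c49c6225cfa5958f23d7e215ea7a50c4ecd44c8706b03d3608d4f4b2718ec7edbb210ad800312d97624c82070f97bd4631d1c0b909628ae2d00f86c894fd662c17218088025502409464ce6065f574d821501a77049270b5790b14f00e89d5125418015d472d5a56ca17944f798300d4246bcea581b43d0917c90d1102866a2560c7a0ed885a59b08c8040e11889ca,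 [0, 2], [9, 5, 16]) := Or.inr (Or.inr (Or.inr ⟨5, 0x44144, by decide +kernel⟩))
theorem QW1 : ∀ a ∈ LW1, chkE 552 10 GW1 (LW1.map fun a => a.1) a = true :=
  List.forall_mem_cons.2 ⟨qW1_0, List.forall_mem_cons.2 ⟨qW1_1, List.forall_mem_cons.2 ⟨qW1_2, List.forall_mem_cons.2 ⟨qW1_3, List.forall_mem_cons.2 ⟨qW1_4, List.forall_mem_cons.2 ⟨qW1_5, List.forall_mem_cons.2 ⟨qW1_6, List.forall_mem_cons.2 ⟨qW1_7, List.forall_mem_cons.2 ⟨qW1_8, List.forall_mem_cons.2 ⟨qW1_9, List.forall_mem_cons.2 ⟨qW1_10, List.forall_mem_cons.2 ⟨qW1_11, List.forall_mem_cons.2 ⟨qW1_12, List.forall_mem_cons.2 ⟨qW1_13, List.forall_mem_cons.2 ⟨qW1_14, List.forall_mem_cons.2 ⟨qW1_15, List.forall_mem_cons.2 ⟨qW1_16, List.forall_mem_cons.2 ⟨qW1_17, List.forall_mem_cons.2 ⟨qW1_18, List.forall_mem_cons.2 ⟨qW1_19, List.forall_mem_cons.2 ⟨qW1_20, List.forall_mem_cons.2 ⟨qW1_21, List.forall_mem_cons.2 ⟨qW1_22, List.forall_mem_cons.2 ⟨qW1_23, List.forall_mem_cons.2 ⟨qW1_24, List.forall_mem_cons.2 ⟨qW1_25,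 List.forall_mem_cons.2 ⟨qW1_26, List.forall_mem_cons.2 ⟨qW1_27, List.forall_mem_cons.2 ⟨qW1_28, List.forall_mem_cons.2 ⟨qW1_29, List.forall_mem_cons.2 ⟨qW1_30, List.forall_mem_cons.2 ⟨qW1_31, List.forall_mem_nil _⟩⟩⟩⟩⟩⟩⟩⟩⟩⟩⟩⟩⟩⟩⟩⟩⟩⟩⟩⟩⟩⟩⟩⟩⟩⟩⟩⟩⟩⟩⟩⟩
theorem CW1 : ∀ a ∈ LW1, CeW1 a :=
  List.forall_mem_cons.2 ⟨rW1_0, List.forall_mem_cons.2 ⟨rW1_1, List.forall_mem_cons.2 ⟨rW1_2, List.forall_mem_cons.2 ⟨rW1_3, List.forall_mem_cons.2 ⟨rW1_4, List.forall_mem_cons.2 ⟨rW1_5, List.forall_mem_cons.2 ⟨rW1_6, List.forall_mem_cons.2 ⟨rW1_7, List.forall_mem_cons.2 ⟨rW1_8, List.forall_mem_cons.2 ⟨rW1_9, List.forall_mem_cons.2 ⟨rW1_10, List.forall_mem_cons.2 ⟨rW1_11, List.forall_mem_cons.2 ⟨rW1_12, List.forall_mem_cons.2 ⟨rW1_13, List.forall_mem_cons.2 ⟨rW1_14, List.forall_mem_cons.2 ⟨rW1_15, List.forall_mem_cons.2 ⟨rW1_16, List.forall_mem_cons.2 ⟨rW1_17, List.forall_mem_cons.2 ⟨rW1_18, List.forall_mem_cons.2 ⟨rW1_19, List.forall_mem_cons.2 ⟨rW1_20, List.forall_mem_cons.2 ⟨rW1_21,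 List.forall_mem_cons.2 ⟨rW1_22, List.forall_mem_cons.2 ⟨rW1_23, List.forall_mem_cons.2 ⟨rW1_24, List.forall_mem_cons.2 ⟨rW1_25, List.forall_mem_cons.2 ⟨rW1_26, List.forall_mem_cons.2 ⟨rW1_27, List.forall_mem_cons.2 ⟨rW1_28, List.forall_mem_cons.2 ⟨rW1_29, List.forall_mem_cons.2 ⟨rW1_30, List.forall_mem_cons.2 ⟨rW1_31, List.forall_mem_nil _⟩⟩⟩⟩⟩⟩⟩⟩⟩⟩⟩⟩⟩⟩⟩⟩⟩⟩⟩⟩⟩⟩⟩⟩⟩⟩⟩⟩⟩⟩⟩⟩
theorem NW1 : ∃ a ∈ LW1, a.2.1 = [] := ⟨_, List.getElem_mem (n := 0) (by rw [lGW1]; norm_num), rfl⟩
/-- generators of W2 -/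
noncomputable def GW2 : List ℕ := [e70, e86]
theorem hGW2 : ∀ P ∈ GW2, Has P := List.forall_mem_cons.2 ⟨he70, List.forall_mem_cons.2 ⟨he86, List.forall_mem_nil _⟩⟩
theorem mGW2 : allN (fun i => chkM 552 10 (nth GW2 i) p17) 2 = true := by decide +kernel
theorem kGW2 : incK (kt 10 [0]) (LW2.map fun a => a.1) 0 = true := by decide +kernel
theorem lGW2 : LW2.length = 16 := rfl
theorem qW2_0 : chkE 552 10 GW2 (LW2.map fun a => a.1) (0x89e268962488e228862087e1e8761c86e1a8661885e168561484e128461083e0e8360c82e0a8260881e068160480e02806007fdfe7f5fc7edfa7e5f87ddf67d5f47cdf27c5f07bdee7b5ec7adea7a5e879de6795e478de2785e077dde775dc76dda765d875dd6755d474dd2745d073dce735cc72dca725c871dc6715c470dc2705c06fdbe6f5bc6edba6e5b86ddb66d5b46cdb26c5b06bdae6b5ac6adaa6a5a869da6695a468da2685a067d9e6759c66d9a6659865d966559464d926459063d8e6358c62d8a6258861d866158460d82605805fd7e5f57c5ed7a5e5785dd765d5745cd725c5705bd6e5b56c5ad6a5a56859d665956458d625856057d5e5755c56d5a5655855d565555454d525455053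d4e5354c52d4a5254851d465154450d42505404fd3e4f53c4ed3a4e5384dd364d5344cd324c5304bd2e4b52c4ad2a4a52849d264952448d224852047d1e4751c46d1a4651845d164551444d124451043d0e4350c42d0a4250841d064150440d02405003fcfe3f4fc3ecfa3e4f83dcf63d4f43ccf23c4f03bcee3b4ec3acea3a4e839ce6394e438ce2384e037cde374dc36cda364d835cd6354d434cd2344d033cce334cc32cca324c831cc6314c430cc2304c02fcbe2f4bc2ecba2e4b82dcb62d4b42ccb22c4b02bcae2b4ac2acaa2a4a829ca6294a428ca2284a027c9e2749c26c9a2649825c962549424c922449023c8e2348c22c8a2248821c862148420c82204801fc7e1f47c1ec7a1e4781dc761d4741cc721c4701bc6e1b46c1ac6a1a46819c661946418c621846017c5e1745c16c5a1645815c561545414c521445013c4e1344c12c4a1244811c461144410c42104400fc3e0f43c0ec3a0e4380dc360d4340cc320c4300bc2e0b42c0ac2a0a42809c260942408c220842007c1e0741c06c1a0641805c160541404c120441003c0e0340c02c0a0240801c060140400c0200400, [], [5, 2]) = true := by decide +kernel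
theorem rW2_0 : CeW2 (0x89e268962488e228862087e1e8761c86e1a8661885e168561484e128461083e0e8360c82e0a8260881e068160480e02806007fdfe7f5fc7edfa7e5f87ddf67d5f47cdf27c5f07bdee7b5ec7adea7a5e879de6795e478de2785e077dde775dc76dda765d875dd6755d474dd2745d073dce735cc72dca725c871dc6715c470dc2705c06fdbe6f5bc6edba6e5b86ddb66d5b46cdb26c5b06bdae6b5ac6adaa6a5a869da6695a468da2685a067d9e6759c66d9a6659865d966559464d926459063d8e6358c62d8a6258861d866158460d82605805fd7e5f57c5ed7a5e5785dd765d5745cd725c5705bd6e5b56c5ad6a5a56859d665956458d625856057d5e5755c56d5a5655855d565555454d525455053d4e5354c52d4a5254851d465154450d42505404fd3e4f53c4ed3a4e5384dd364d5344cd324c5304bd2e4b52c4ad2a4a52849d264952448d224852047d1e4751c46d1a4651845d164551444d124451043d0e4350c42d0a4250841d064150440d02405003fcfe3f4fc3ecfa3e4f83dcf63d4f43ccf23c4f03bcee3b4ec3acea3a4e839ce6394e438ce2384e037cde374dc36cda364d835cd6354d434cd2344d033cce334cc32cca324c831cc6314c430cc2304c02fcbe2f4bc2ecba2e4b82dcb62d4b42ccb22c4b02bcae2b4ac2acaa2a4a829ca6294a428ca2284a027c9e2749c26c9a2649825c962549424c922449023c8e2348c22c8a2248821c862148420c82204801fc7e1f47c1ec7a1e4781dc761d4741cc721c4701bc6e1b46c1ac6a1a46819c661946418c621846017c5e1745c16c5a1645815c561545414c521445013c4e1344c12c4a1244811c461144410c42104400fc3e0f43c0ec3a0e4380dc360d4340cc320c4300bc2e0b42c0ac2a0a42809c260942408c220842007c1e0741c06c1a0641805c160541404c120441003c0e0340c02c0a0240801c060140400c0200400,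 [], [5, 2]) := Or.inl rfl
theorem qW2_1 : chkE 552 10 GW2 (LW2.map fun a => a.1) (0x7c8715a50383003059260f4af1d05f86c2985d12328a0304d95540034cf17b45d2019a4e0a24ce001192520624660651da153f9d14b9ea13402898326c9dd7e19988161069f43702739c4c715fc3216f1c0fa62d566b0a13fc394b10279d4a712043d16c3404e640d65684a534b84f591778ae72d080913b50d57309ba88deb43dbe025c04a43a6d0721fd373c0174fd42084e913cdf24de3250837185e7dd7b1610c54627625d318107290e33ccb63f1c307c9e47406638f50980773a1f4e8c0485af64db32740d7a1486307c728876880c27c620a1a37bda75cd1528d303841e4bd9536106070cb551ec650eb2b1005a1d96b4903e4686908b698923816533581469d210d2463cb0780d4844511e0234e51621222539861a9f971d600ad28629f51b1ee3e0b7332137f833294a91058380625488961657f1e57e0052a49dbb0d03f684305e1316361d5c1d62f101721e94796d2354b1705231a18021106091c65c8825ce232534670610e0f676842264503b05a51162040e43b49a58cea2ac0b6c4118421629c983dcb17c4896a57415ce62286e8792b5d55d6c0a8111a85c48c8502c6018837552694bd4d5fb4146f5911b540b51f559789cc191b8741c2821727e8c726d0d5247b0502a4f1a0864125d9ff785186791323d325ae210d4fb055203119f4452d2f9b77f4535f00a121cf439b9838b31a55c6155e2455b1593645cda3f4e54115f704862154c6b877814633b9b5156072e89c82996872093a0a6255db519f6809e68487e1ad140959b560d5338c5081df47e06209aa42d2316cb25e41883c36424b480d475b9676751975dd8344671e8d211d84150666adcd12ccf7cc3e7540f82dbc088402fcad239bd0ed400c5e42a82e0b4db514c3868b9039e51ccf22ed535060d7c0753bd8706d6a0157a6d82f0757d1b445724de0f13e7500459849649776fd4f064d77703742813,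 [1, 0], [8, 4]) = true := by decide +kernel
theorem rW2_1 : CeW2 (0x7c8715a50383003059260f4af1d05f86c2985d12328a0304d95540034cf17b45d2019a4e0a24ce001192520624660651da153f9d14b9ea13402898326c9dd7e19988161069f43702739c4c715fc3216f1c0fa62d566b0a13fc394b10279d4a712043d16c3404e640d65684a534b84f591778ae72d080913b50d57309ba88deb43dbe025c04a43a6d0721fd373c0174fd42084e913cdf24de3250837185e7dd7b1610c54627625d318107290e33ccb63f1c307c9e47406638f50980773a1f4e8c0485af64db32740d7a1486307c728876880c27c620a1a37bda75cd1528d303841e4bd9536106070cb551ec650eb2b1005a1d96b4903e4686908b698923816533581469d210d2463cb0780d4844511e0234e51621222539861a9f971d600ad28629f51b1ee3e0b7332137f833294a91058380625488961657f1e57e0052a49dbb0d03f684305e1316361d5c1d62f101721e94796d2354b1705231a18021106091c65c8825ce232534670610e0f676842264503b05a51162040e43b49a58cea2ac0b6c4118421629c983dcb17c4896a57415ce62286e8792b5d55d6c0a8111a85c48c8502c6018837552694bd4d5fb4146f5911b540b51f559789cc191b8741c2821727e8c726d0d5247b0502a4f1a0864125d9ff785186791323d325ae210d4fb055203119f4452d2f9b77f4535f00a121cf439b9838b31a55c6155e2455b1593645cda3f4e54115f704862154c6b877814633b9b5156072e89c82996872093a0a6255db519f6809e68487e1ad140959b560d5338c5081df47e06209aa42d2316cb25e41883c36424b480d475b9676751975dd8344671e8d211d84150666adcd12ccf7cc3e7540f82dbc088402fcad239bd0ed400c5e42a82e0b4db514c3868b9039e51ccf22ed535060d7c0753bd8706d6a0157a6d82f0757d1b445724de0f13e7500459849649776fd4f064d77703742813,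 [1, 0], [8, 4]) := Or.inr (Or.inl ⟨0, by decide +kernel⟩)
theorem qW2_2 : chkE 552 10 GW2 (LW2.map fun a => a.1) (0x56060e0f63355738a1557caf31d3416c291407b59da842cc56b93822c052c4cc649642b0341c60e3acee2050436cf87e45d530551d5aa4e5a7181e4516020c0de8001d238105d928785f52f05e5b1e733872301594813a15ca32814f195ab58889798327444e431410587e425a57a00f0199011d5c2e620560424346856d1d310b718d3c1e4e10e59b4cc877bd8d6a4227c1c72edb03cca641e1d40a140ac9669106510a775e216e47767ce35385f598902a17162d4a709946560d0f0886b1eb2319d5c81f341b37741713c1a251372a9a25d0f03c84d2cd6112dd04f92c3817f344c2890ae1c0b0111405aca9102192d46e680fe58cf43bd155c092228b62c82f1306c7351a78c665dd525816d00c5232623669c6451b66bda119d7874953665247dd425be18498831f532705014bdad519054c57e4d4e84a5b70301b829e0288c1261e930d22368be731d664c467cdd8478dd2360c2e1850f4ba09c3e6e20779461720d768d658711384a033a8786121783d1648dd9359db3e41c3dd983d4fa08d7d064dc2fc763b5ed0d49e50d2e3fc6b0e9c487980574e537c0d1213081186191036058a26cd43f5505cd4d1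b5cf7fc3f46168625ec63dd57f18234d9725dc55e955144261a9c072551448824004577c8439cd567a1f158cf2ad0a265d47e8a143ca47b9bd84d7b078d87ec7a5b9871f2094ec621cd9c6c55e0c45a0d91c45d48171bc14d1f29485245c31d1ca81407804e92756a6f84949ddc422267f5e2094fc4946f4f5ba82db20b8932540b4fcbd269ea6fe163187f60cd946c2a86d4b106273b0ad5f0120b18c550ca525197f9f85e5b5028cb72df12d0d2779961641382110699ce5a575444000608f4392d89556218c80042d399da12a11868116ed8e1a41451c087d0093ec9f0ddf64a936841f24852b008240ec540a188645b4085d33909c0800e202223c55a10c5801033, [1], [1, 15]) = true := by decide +kernel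
theorem rW2_2 : CeW2 (0x56060e0f63355738a1557caf31d3416c291407b59da842cc56b93822c052c4cc649642b0341c60e3acee2050436cf87e45d530551d5aa4e5a7181e4516020c0de8001d238105d928785f52f05e5b1e733872301594813a15ca32814f195ab58889798327444e431410587e425a57a00f0199011d5c2e620560424346856d1d310b718d3c1e4e10e59b4cc877bd8d6a4227c1c72edb03cca641e1d40a140ac9669106510a775e216e47767ce35385f598902a17162d4a709946560d0f0886b1eb2319d5c81f341b37741713c1a251372a9a25d0f03c84d2cd6112dd04f92c3817f344c2890ae1c0b0111405aca9102192d46e680fe58cf43bd155c092228b62c82f1306c7351a78c665dd525816d00c5232623669c6451b66bda119d7874953665247dd425be18498831f532705014bdad519054c57e4d4e84a5b70301b829e0288c1261e930d22368be731d664c467cdd8478dd2360c2e1850f4ba09c3e6e20779461720d768d658711384a033a8786121783d1648dd9359db3e41c3dd983d4fa08d7d064dc2fc763b5ed0d49e50d2e3fc6b0e9c487980574e537c0d1213081186191036058a26cd43f5505cd4d1b5cf7fc3f46168625ec63dd57f18234d9725dc55e955144261a9c072551448824004577c8439cd567a1f158cf2ad0a265d47e8a143ca47b9bd84d7b078d87ec7a5b9871f2094ec621cd9c6c55e0c45a0d91c45d48171bc14d1f29485245c31d1ca81407804e92756a6f84949ddc422267f5e2094fc4946f4f5ba82db20b8932540b4fcbd269ea6fe163187f60cd946c2a86d4b106273b0ad5f0120b18c550ca525197f9f85e5b5028cb72df12d0d2779961641382110699ce5a575444000608f4392d89556218c80042d399da12a11868116ed8e1a41451c087d0093ec9f0ddf64a936841f24852b008240ec540a188645b4085d33909c0800e202223c55a10c5801033,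 [1], [1, 15]) := Or.inr (Or.inl ⟨0, by decide +kernel⟩)
theorem qW2_3 : chkE 552 10 GW2 (LW2.map fun a => a.1) (0x160760cd7153006689c82b8e36b10716c295a13c40062881aa285050a8193fe08649161b5292603f43a26204db411f61fdf33344d1d4c5274a78044c4fc1c7b02146c18119b36dca33b0c863864491cf7a1d9435f8554747b5282cc4361c783e82c3f11a68d1e318a80314375d783383c55d1f11c822e50b6c94a300e4211954dcba18c7b2888a09c6e6850f4b1481280e6206c24db051e134d18f771fc6d6167e83d741a7425805196567caf630946e94b504f63084264d944760d03dcc31c266d85265cd632410268da4510117cc435ce25d1303c855280bf12d4454def0e97f3458b6615f4f49b541e95ac7c0ecca85d9b4220c58ddb5e95187c92385ca70c04791c7888322f851509522e0d27799d341ff1699613c8c08d337dda53a53e7516c19d771bdbe25de27ee126081a4be1c6e5384c4dc4d4e80d1760581b4b5ee1e53b1c5403f52205de3221197088e17556138cb234fe58149418b70e43e29435715d5854aa744776b5a64ca04361ab4d8b539d6434c7207cf43e6023de243d5626bd7d0157e586063b45781d031f92e2c42d3800b67a216f17537df4460f080d211789e428fb2c0d430c445cd892b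1e788e0e120505343087461851c148d72499e53bd20199eb6c512725157015c59c455ed5b83d6e8797015a0b2ad815a999691ae21ca478127299df078ea1f40a354652a525305a81a5831a95e2159a0d9f145d8d8455d769906e031218b24e8b681407181d24e4998609c6f502680ee7f483255e68256f1c16633d58398bb095c451554774d96fc96431f9671ea8008b86c9010402784ad7f8122254e2f619615d65f1595e42b1e8dd72d1c2d16d00dc6165693311044d9104ce56ee250748f3ae0a001d8245f55686b0b8536a45c86811444bc1cc143cdb4034096289f7c8f84a9843c437619d389c24100540a1f0738083792b1a04908022201cd8400153c150bc38, [1, 1, 1], [12, 0]) = true := by decide +kernel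
theorem rW2_3 : CeW2 (0x160760cd7153006689c82b8e36b10716c295a13c40062881aa285050a8193fe08649161b5292603f43a26204db411f61fdf33344d1d4c5274a78044c4fc1c7b02146c18119b36dca33b0c863864491cf7a1d9435f8554747b5282cc4361c783e82c3f11a68d1e318a80314375d783383c55d1f11c822e50b6c94a300e4211954dcba18c7b2888a09c6e6850f4b1481280e6206c24db051e134d18f771fc6d6167e83d741a7425805196567caf630946e94b504f63084264d944760d03dcc31c266d85265cd632410268da4510117cc435ce25d1303c855280bf12d4454def0e97f3458b6615f4f49b541e95ac7c0ecca85d9b4220c58ddb5e95187c92385ca70c04791c7888322f851509522e0d27799d341ff1699613c8c08d337dda53a53e7516c19d771bdbe25de27ee126081a4be1c6e5384c4dc4d4e80d1760581b4b5ee1e53b1c5403f52205de3221197088e17556138cb234fe58149418b70e43e29435715d5854aa744776b5a64ca04361ab4d8b539d6434c7207cf43e6023de243d5626bd7d0157e586063b45781d031f92e2c42d3800b67a216f17537df4460f080d211789e428fb2c0d430c445cd892b1e788e0e120505343087461851c148d72499e53bd20199eb6c512725157015c59c455ed5b83d6e8797015a0b2ad815a999691ae21ca478127299df078ea1f40a354652a525305a81a5831a95e2159a0d9f145d8d8455d769906e031218b24e8b681407181d24e4998609c6f502680ee7f483255e68256f1c16633d58398bb095c451554774d96fc96431f9671ea8008b86c9010402784ad7f8122254e2f619615d65f1595e42b1e8dd72d1c2d16d00dc6165693311044d9104ce56ee250748f3ae0a001d8245f55686b0b8536a45c86811444bc1cc143cdb4034096289f7c8f84a9843c437619d389c24100540a1f0738083792b1a04908022201cd8400153c150bc38,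 [1, 1, 1], [12, 0]) := Or.inr (Or.inl ⟨0, by decide +kernel⟩)
theorem qW2_4 : chkE 552 10 GW2 (LW2.map fun a => a.1) (0x7525100ea590434acc16999e7898316e1a59cba5a17b25c6478c333f4197851b01c904c9bd5185d7c498814f65c49a8990b459093a05e7f8588195671c65790a8854ef4d8de4c1bb3fdf8435aa7b0701bddb5c91a8761383d116dc78339c61a1043e940535192218a0bdb5325515bc3c53e1f11d6505126749cd65d9b334bc6e13c080b782975088fc805c1371217dd537d143524df6c52067074108d9514b389c6158015340161fe1c2921e08c827655b3ecd864e227acf56388003d5f20dc5368f3655f07ec2179db66756a570a5885d307a16045d75d9a4344b87b97e5749f4d5c240d137d918199f56503533e17865e641c5a3e40b29c5c4195e395a07fcaa7607e779e96b0d528cd422d54771471f60c70d571481724c6056115129e007c306c928071120fdae1562543c99164947e438488621057449cf00101b288394b6086e4c874131230c72b84e099848816c7584445d9a0a98c7547b0383e4dc4662d1f4ed80625ad17cc600198225961f0ca7b54b5e0f4621c43b58758c9e2ace42ec28015a87ea093dce7238530ad7f3b06b6f1ba2bc0c3808a6c1d43489689148315da689b312152510514b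d398493d3f9f35b5002744c4e9907a8876951d838c269d8f5b9e5451be0921186077140544b14c15cdd38c3d0d9055ace2438d6008be6099f09d29555ef1d42c1349c32de881d33331df254b613c920c4b22b5012358648c3a80d70310852462329908205bf1d9a95f0eb7007a0d14a4d0714b8a11cd62686023e0724e0e90b9851a5661b09b73dfc024a0730ee72a14720c386c8412df22c48f68c4536daf2c0b55391e744325cd3f1255072c1a048bd408065e46d80110431912b0e1020135e856470795a524219594282d39a0419cd30a5c96d0c00957d1a97766592041fd2fddd4a8a93c561634010dcf282cb42e40d739425055a1b80a8353e18c03841816ac1835c3b, [1, 1, 0], [6, 12]) = true := by decide +kernel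
theorem rW2_4 : CeW2 (0x7525100ea590434acc16999e7898316e1a59cba5a17b25c6478c333f4197851b01c904c9bd5185d7c498814f65c49a8990b459093a05e7f8588195671c65790a8854ef4d8de4c1bb3fdf8435aa7b0701bddb5c91a8761383d116dc78339c61a1043e940535192218a0bdb5325515bc3c53e1f11d6505126749cd65d9b334bc6e13c080b782975088fc805c1371217dd537d143524df6c52067074108d9514b389c6158015340161fe1c2921e08c827655b3ecd864e227acf56388003d5f20dc5368f3655f07ec2179db66756a570a5885d307a16045d75d9a4344b87b97e5749f4d5c240d137d918199f56503533e17865e641c5a3e40b29c5c4195e395a07fcaa7607e779e96b0d528cd422d54771471f60c70d571481724c6056115129e007c306c928071120fdae1562543c99164947e438488621057449cf00101b288394b6086e4c874131230c72b84e099848816c7584445d9a0a98c7547b0383e4dc4662d1f4ed80625ad17cc600198225961f0ca7b54b5e0f4621c43b58758c9e2ace42ec28015a87ea093dce7238530ad7f3b06b6f1ba2bc0c3808a6c1d43489689148315da689b312152510514bd398493d3f9f35b5002744c4e9907a8876951d838c269d8f5b9e5451be0921186077140544b14c15cdd38c3d0d9055ace2438d6008be6099f09d29555ef1d42c1349c32de881d33331df254b613c920c4b22b5012358648c3a80d70310852462329908205bf1d9a95f0eb7007a0d14a4d0714b8a11cd62686023e0724e0e90b9851a5661b09b73dfc024a0730ee72a14720c386c8412df22c48f68c4536daf2c0b55391e744325cd3f1255072c1a048bd408065e46d80110431912b0e1020135e856470795a524219594282d39a0419cd30a5c96d0c00957d1a97766592041fd2fddd4a8a93c561634010dcf282cb42e40d739425055a1b80a8353e18c03841816ac1835c3b,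 [1, 1, 0], [6, 12]) := Or.inr (Or.inl ⟨0, by decide +kernel⟩)
theorem qW2_5 : chkE 552 10 GW2 (LW2.map fun a => a.1) (0x62090ecd84594f74d3b44e1e20d9c16e1a400b7141df4985e2f83830c053b20001d4b849276e5f347071815713d9dd3ba20591d73a0645f0151d9d81b187131417217a610213c1112c559300c50c13d5bcf465c3263ca639dbb5d9ab7a196390db589e9625d6730fb0102b341151bc0f10d7011c77050973a6225c86e5318e2947b080ba4b4e5039e6181825f98619d3e0347e614df1a95560d3a529ea4fca0009d52e0583240c7e5ad2919e6bd5c1c884628ea709cd098f52f0800f0ae789e505d47475881f4de73c8c14899209b86012b07896045096ddfa34560780dc6f09f4d593279a63e048144c86520782cb5328fc4d19a3e5c469e110f55e5d50888cd75594300d4031d6e4a0d40a8bd408f37ecfe2c806674da2ee016c9516a5ee359ec560a3809c0838a11340021d6a1645f1fc33489a8105746f5300bc1b1e427828cc519f5511316d9ac57d1e7ad3642d244655045c5a22d4e1853c0883e3108e30990306215361c2510c896240b1c62a61915c90695db7c00b3b46558d032ac6824c2806462691253de0f119da6d57f7842d5756638c160e8e16c1995b6166618d6a8533881046152740664b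c9d4c8708305d349674e5e41d11f3650f5e1950fd8b29e1d355c513e180905c6f9655a0547bccd7b4cb2bd060d9385ada23ac1f89de37059f0e4344812c1d48915449374ce0d5a18217b095ca45092215c32b41a2352134ce08121f4dc31219ff84da0205bf8184a7f90e4480a4a44241c984b9ae1a4fa4cc1c7d9d9415d2399491cdba71cb079e14024b3222262d9fc854fd86d5b12c373fc8f744454102326e176304e68d1a5cd452704472d0104954771575e4ac46d10319ce1b48a6d1693bc567c4a204d6c245f86046b0ba037dd230a5c90210d2557d6c542751926cdfd5849a4a87c840bf5215a7c8f233cb42e5f4645772a00166c7a8355318dde3c50a1e01d2a840, [0], [7, 1]) = true := by decide +kernel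
theorem rW2_5 : CeW2 (0x62090ecd84594f74d3b44e1e20d9c16e1a400b7141df4985e2f83830c053b20001d4b849276e5f347071815713d9dd3ba20591d73a0645f0151d9d81b187131417217a610213c1112c559300c50c13d5bcf465c3263ca639dbb5d9ab7a196390db589e9625d6730fb0102b341151bc0f10d7011c77050973a6225c86e5318e2947b080ba4b4e5039e6181825f98619d3e0347e614df1a95560d3a529ea4fca0009d52e0583240c7e5ad2919e6bd5c1c884628ea709cd098f52f0800f0ae789e505d47475881f4de73c8c14899209b86012b07896045096ddfa34560780dc6f09f4d593279a63e048144c86520782cb5328fc4d19a3e5c469e110f55e5d50888cd75594300d4031d6e4a0d40a8bd408f37ecfe2c806674da2ee016c9516a5ee359ec560a3809c0838a11340021d6a1645f1fc33489a8105746f5300bc1b1e427828cc519f5511316d9ac57d1e7ad3642d244655045c5a22d4e1853c0883e3108e30990306215361c2510c896240b1c62a61915c90695db7c00b3b46558d032ac6824c2806462691253de0f119da6d57f7842d5756638c160e8e16c1995b6166618d6a8533881046152740664bc9d4c8708305d349674e5e41d11f3650f5e1950fd8b29e1d355c513e180905c6f9655a0547bccd7b4cb2bd060d9385ada23ac1f89de37059f0e4344812c1d48915449374ce0d5a18217b095ca45092215c32b41a2352134ce08121f4dc31219ff84da0205bf8184a7f90e4480a4a44241c984b9ae1a4fa4cc1c7d9d9415d2399491cdba71cb079e14024b3222262d9fc854fd86d5b12c373fc8f744454102326e176304e68d1a5cd452704472d0104954771575e4ac46d10319ce1b48a6d1693bc567c4a204d6c245f86046b0ba037dd230a5c90210d2557d6c542751926cdfd5849a4a87c840bf5215a7c8f233cb42e5f4645772a00166c7a8355318dde3c50a1e01d2a840,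 [0], [7, 1]) := Or.inr (Or.inl ⟨0, by decide +kernel⟩)
theorem qW2_6 : chkE 552 10 GW2 (LW2.map fun a => a.1) (0x585462b1da669dc0bc3f7559e2988286e1a32a182d5b78221463c136961039d0b18dc30cd2d80615611a181503278ce824c11694d5fdfc75c371c5403a5e70c81f499a45a9996a00e15dd8309ea5641c7d8e464d2420cbe3b0225f8421c2226ea2402dec7ed1987d88604674e42a3e1ce4091372d343c8cc0ac4370872831c5609c0649be49dbc509db3b8a5859b61b128505a9675b0615ac571ae55daa6c9ef06088845f22755a8199c67e1e6c5a058a237c0532f14f300ab795bf6443d84d7263493098215f1d45bd866be07421c174c047f5df2e589370584bc5c444965d4751658e0b06161d502c04c3d5f14c850400f42515b3b59b89cfd4315e575ad591a27a44a6ac304e9180e55234d6e658bb7f94b5300308d484522650c8b515bb6cdf81f8272693c46d557443b3103512dca1d9694c4b35e49f828624292a0d1b46f5f3181e445522484744184e434994ecc87595445c8448d47731125dd1021d014755f8392b1f5832d91f100ea811cd439672c4b2580683786e3ddcf3e4895ad6613dc93c4a0055b958de1069047dc1e83ce6395e62bc01384e037cfb1997b360da364db0300d110d45449b1044d0e2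02241c8146191551a284ae315372e1eb80195009e212197538ba5f4c32dd0785c454c0fe3fd6d38cc615a2565016238100761d6e0a40207931cf04ba0368c493493d4707f175760956563092244cd0d8a92348c5108a3d9a643c862151678e1c204202613f424461ec0a2880617d335d1201a5c47e5dd194fa001b51ac521ccfc748dd1bc648352c5c1251dc5e25d7816dff5cd7a7b4ad324126606a32d683cd1e3416c4d558270bd11c7c2d0d5719de345058803e6403c4e03a54ccf7e88f4d92982df50c5568842e0b57171dd00a4144f98b25411525e0628807d0e829de806ceb065a705caa3bc2884854090a803dee358d77647a01ca30247801580528bf3886d, [1, 1, 0, 0], [9, 13]) = true := by decide +kernel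
theorem rW2_6 : CeW2 (0x585462b1da669dc0bc3f7559e2988286e1a32a182d5b78221463c136961039d0b18dc30cd2d80615611a181503278ce824c11694d5fdfc75c371c5403a5e70c81f499a45a9996a00e15dd8309ea5641c7d8e464d2420cbe3b0225f8421c2226ea2402dec7ed1987d88604674e42a3e1ce4091372d343c8cc0ac4370872831c5609c0649be49dbc509db3b8a5859b61b128505a9675b0615ac571ae55daa6c9ef06088845f22755a8199c67e1e6c5a058a237c0532f14f300ab795bf6443d84d7263493098215f1d45bd866be07421c174c047f5df2e589370584bc5c444965d4751658e0b06161d502c04c3d5f14c850400f42515b3b59b89cfd4315e575ad591a27a44a6ac304e9180e55234d6e658bb7f94b5300308d484522650c8b515bb6cdf81f8272693c46d557443b3103512dca1d9694c4b35e49f828624292a0d1b46f5f3181e445522484744184e434994ecc87595445c8448d47731125dd1021d014755f8392b1f5832d91f100ea811cd439672c4b2580683786e3ddcf3e4895ad6613dc93c4a0055b958de1069047dc1e83ce6395e62bc01384e037cfb1997b360da364db0300d110d45449b1044d0e202241c8146191551a284ae315372e1eb80195009e212197538ba5f4c32dd0785c454c0fe3fd6d38cc615a2565016238100761d6e0a40207931cf04ba0368c493493d4707f175760956563092244cd0d8a92348c5108a3d9a643c862151678e1c204202613f424461ec0a2880617d335d1201a5c47e5dd194fa001b51ac521ccfc748dd1bc648352c5c1251dc5e25d7816dff5cd7a7b4ad324126606a32d683cd1e3416c4d558270bd11c7c2d0d5719de345058803e6403c4e03a54ccf7e88f4d92982df50c5568842e0b57171dd00a4144f98b25411525e0628807d0e829de806ceb065a705caa3bc2884854090a803dee358d77647a01ca30247801580528bf3886d,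 [1, 1, 0, 0], [9, 13]) := Or.inr (Or.inr ⟨5, by decide +kernel⟩)
theorem qW2_7 : chkE 552 10 GW2 (LW2.map fun a => a.1) (0x2fdb91b453169020120e1861e84d5c86e1a865be85d76331fc875695e0f183e2018cb20e20a181c84d9338149e40de84953b669895fe14425f2261e9749cf468d625dfa265d4188227b55662cd97e2023e0687096c789e37840e3714a4f5cd59998710301f5d65c1f0429f72748b7d991771a672d073ca086d54f64dd93f9e57051264a186f55d5dcf4899b82588c71ca32a04a149b0524c7208a1018c55612c075cc170374e4011d98367d9e1a9083e9ff621da63843434ab715bf7390629997520bb7acde7f9991bd2108c35681824ac2f7f57b2e54d5f8154be116ee1639475164bc225d51944426de43d51c8496859ddb17c843b46e008c33195e6f21c458e2501a91e1ec1d04809d5248cd5718935f090335de6bd8d13cee1f82a4fd110415950c397747b8012068c404de0712cb6818134c4a05e49f4b5a86052a4a40849c5d8044c545226193a0f51e3016a305f5464bd45d5b34cf3221c05091043c1a654ae0fdd37ed9c729900ecd880e223ad003fdc32e0e40859b3dde73e42c5adba451c9840b31614658cec404db19c1e39c2e5d4fc38d5a2283a37d8a145df3a8177a904059f4540d4454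b0104550cc1c52e15198ca134326b95f6a8c45802646d1d89c8346172630b75f4fd2e9342d4453c20c2c4d22bd0c158006500c119b30618f294a46d0a26b1304ba047449c5b4707c5f97cdb725477538922194c0d87c235b6740e15c51321c910c5642f9ad204201c54575c8e4f07a1e557251a15d1551cc0b1fc9a61d628942b0b59d1a5e63a4cb5bc5e835ef87e0959464499a516e235ccef15cad34012891b13745051c4e325244d5b21255411ca92d16e658033453842c3e47c0f414e04fa0b6908f6103433cc8215d8600e61acf61b1440a41454cc209411615ee3ec80034e869cce06d0e014a7368d75e8284c854091410f1e007caa1c80a01d28025ab0662110961688ac, [0, 0], [11, 8]) = true := by decide +kernel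
theorem rW2_7 : CeW2 (0x2fdb91b453169020120e1861e84d5c86e1a865be85d76331fc875695e0f183e2018cb20e20a181c84d9338149e40de84953b669895fe14425f2261e9749cf468d625dfa265d4188227b55662cd97e2023e0687096c789e37840e3714a4f5cd59998710301f5d65c1f0429f72748b7d991771a672d073ca086d54f64dd93f9e57051264a186f55d5dcf4899b82588c71ca32a04a149b0524c7208a1018c55612c075cc170374e4011d98367d9e1a9083e9ff621da63843434ab715bf7390629997520bb7acde7f9991bd2108c35681824ac2f7f57b2e54d5f8154be116ee1639475164bc225d51944426de43d51c8496859ddb17c843b46e008c33195e6f21c458e2501a91e1ec1d04809d5248cd5718935f090335de6bd8d13cee1f82a4fd110415950c397747b8012068c404de0712cb6818134c4a05e49f4b5a86052a4a40849c5d8044c545226193a0f51e3016a305f5464bd45d5b34cf3221c05091043c1a654ae0fdd37ed9c729900ecd880e223ad003fdc32e0e40859b3dde73e42c5adba451c9840b31614658cec404db19c1e39c2e5d4fc38d5a2283a37d8a145df3a8177a904059f4540d4454b0104550cc1c52e15198ca134326b95f6a8c45802646d1d89c8346172630b75f4fd2e9342d4453c20c2c4d22bd0c158006500c119b30618f294a46d0a26b1304ba047449c5b4707c5f97cdb725477538922194c0d87c235b6740e15c51321c910c5642f9ad204201c54575c8e4f07a1e557251a15d1551cc0b1fc9a61d628942b0b59d1a5e63a4cb5bc5e835ef87e0959464499a516e235ccef15cad34012891b13745051c4e325244d5b21255411ca92d16e658033453842c3e47c0f414e04fa0b6908f6103433cc8215d8600e61acf61b1440a41454cc209411615ee3ec80034e869cce06d0e014a7368d75e8284c854091410f1e007caa1c80a01d28025ab0662110961688ac,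 [0, 0], [11, 8]) := Or.inr (Or.inr ⟨10, by decide +kernel⟩)
theorem qW2_8 : chkE 552 10 GW2 (LW2.map fun a => a.1) (0x5e93382c2c52c78568cc318af6b8b616c291413c59d2c0fdaa31c40740192c6156fc84000341fe2040546204d83a9e726126240d05d0c568c1d8256c1f9e87618a4eda71f141858087851a5c864790f80700b475404e92015db44c1c65bc061b9711a0c82744e2b81035d457ec5c8083c6ad0611e1c5f60e6a403655e6458c0310ba8347b1e48a4f8fa8188718948561ee751b5631b04518f72a13889fc1b1b70dd900a8181f4048989467ce324d6576d4c6cc897adde794ab4346303d132858b6d86a2f00d154a84f4da51d0e1dd37030011d4b3724c93c0024d48b0e5a80e9fd1042614d0c268d25b9593d4464e2192d56260dc33b5ba160d37549238534831804902b771f5788cb6ed5230c9b109b11345a7fd4f3cc8c524763a6117dc276204c74911195be174be75c13704eb5e4823b83b4c57b12c1e4a4962a81b8280e2891b7e5f85812205c83699d6714a925c3047851234b23f42347cb754c3e6e13670a1f820164e45f570885a50336d570d61783d5b545c47d1663dcce3e5da5ad9b614b9015df89da158ded612044fc9f3fc2d381d98782f6f17537c1f550a02792117a034acde5b4d42e0d5165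7c895f66690b2f5687f95629970851824558e7cd9305474374c2675123c923701ad400b43716439d50678612b433651d37c5f07c9ac43ca4089bd8757e3a1044247a1106f23860801ef1cd081495e2162323d6a45d8d6955d8903d29431218fe5550781409494677451c8604949dcd671b95fde3094e480587774f40e04a3994e2547250d181c0d96497657c71681ea3054486ccd344bf3b056534543d8bb120ca6bd19625e94bdc70286672c99114b0528435cd327211073191848e5508ac29c360692d1b5ec244326886b0b9986c978868245dd971a42813d28358070852e691cf4aa073c5fa61981584114141205199738a33ed0a3f09c201e008102840e2658ef884cf, [1, 0, 0], [10, 6]) = true := by decide +kernel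
theorem rW2_8 : CeW2 (0x5e93382c2c52c78568cc318af6b8b616c291413c59d2c0fdaa31c40740192c6156fc84000341fe2040546204d83a9e726126240d05d0c568c1d8256c1f9e87618a4eda71f141858087851a5c864790f80700b475404e92015db44c1c65bc061b9711a0c82744e2b81035d457ec5c8083c6ad0611e1c5f60e6a403655e6458c0310ba8347b1e48a4f8fa8188718948561ee751b5631b04518f72a13889fc1b1b70dd900a8181f4048989467ce324d6576d4c6cc897adde794ab4346303d132858b6d86a2f00d154a84f4da51d0e1dd37030011d4b3724c93c0024d48b0e5a80e9fd1042614d0c268d25b9593d4464e2192d56260dc33b5ba160d37549238534831804902b771f5788cb6ed5230c9b109b11345a7fd4f3cc8c524763a6117dc276204c74911195be174be75c13704eb5e4823b83b4c57b12c1e4a4962a81b8280e2891b7e5f85812205c83699d6714a925c3047851234b23f42347cb754c3e6e13670a1f820164e45f570885a50336d570d61783d5b545c47d1663dcce3e5da5ad9b614b9015df89da158ded612044fc9f3fc2d381d98782f6f17537c1f550a02792117a034acde5b4d42e0d51657c895f66690b2f5687f95629970851824558e7cd9305474374c2675123c923701ad400b43716439d50678612b433651d37c5f07c9ac43ca4089bd8757e3a1044247a1106f23860801ef1cd081495e2162323d6a45d8d6955d8903d29431218fe5550781409494677451c8604949dcd671b95fde3094e480587774f40e04a3994e2547250d181c0d96497657c71681ea3054486ccd344bf3b056534543d8bb120ca6bd19625e94bdc70286672c99114b0528435cd327211073191848e5508ac29c360692d1b5ec244326886b0b9986c978868245dd971a42813d28358070852e691cf4aa073c5fa61981584114141205199738a33ed0a3f09c201e008102840e2658ef884cf,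 [1, 0, 0], [10, 6]) := Or.inr (Or.inl ⟨0, by decide +kernel⟩)
theorem qW2_9 : chkE 552 10 GW2 (LW2.map fun a => a.1) (0x69e014e0db211966051b7319e78da016e1a59cb75a17e7cc5e788cf2e005784c10254c04dbd3b926265f98142c224706e43f56dfb07864624ef4cdec6d56f5b1b33305881d8a281773fde9654c55589a61d662f1f584e1d83d42259570714f798d866d595f11944cde601c7135231940f7186111c5f0a05d7dddc638fa52d726e07b200ba828e57b8e4495c177d86748273593f6bcdf1493a4215500dea1f8f02fe1f30d7a154d71c55c2921e615ad71116085047150262d6b65c200f0c62f99305d14435d4424fb3e08c1a91c870a50110a3a1760907d85837104fd0897b6f12e12de580c8873cbd32d1a2ad840ce178646872a233dc72061a56415e5d5836680c0c145529f8285506d0d4740487344f75cb23f8786c4da53a096a4d36c80e035d812808339c042cc73406d43df15cc772620b489ef3447549cb38841b2893e4b5c88983222d316d9ae4304e30835839e47596e45dff510bb5c13c7803e4dca97ac3d8002f7f8825955f2b1da5c443238ca7b4cd845ba665d958c6f3b604650fc630140652c7c8603e4e71f2241b1fd3b02d574f42bcaa0e8e16c1f02c1b714d8d6a998004a8551520a8dd5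e5a35a5dd70c9726d00745244810636487170c088026074a6111c23ce18045786f894140126a09015c5138d1f23c3b3d55a069f4584836099f54d291d0625d0f63249c19a024da06854dc2553451c922160c158eb23521544e040dd5310312185a63d9c2059268558535014487a0d1de2d87f27dac1cc6e1d9e879c0b10067398231a5db0ad6d7da1401d306994641dfc8216086d644d5fa2c4364e4b43a949348b524d1e274c816543124d572d0e15118889ab4be254ed102b9ce0008a4a132054ad5a8798484c2454074c6b0b89e3a5150a4f228d1d094b9675bb621bf5057f89d3d4a84684002521a2691c90e0455f41f64511040e25880a18c39834423c52b018a705905, [1, 1, 0, 0, 0], [15, 14]) = true := by decide +kernel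
theorem rW2_9 : CeW2 (0x69e014e0db211966051b7319e78da016e1a59cb75a17e7cc5e788cf2e005784c10254c04dbd3b926265f98142c224706e43f56dfb07864624ef4cdec6d56f5b1b33305881d8a281773fde9654c55589a61d662f1f584e1d83d42259570714f798d866d595f11944cde601c7135231940f7186111c5f0a05d7dddc638fa52d726e07b200ba828e57b8e4495c177d86748273593f6bcdf1493a4215500dea1f8f02fe1f30d7a154d71c55c2921e615ad71116085047150262d6b65c200f0c62f99305d14435d4424fb3e08c1a91c870a50110a3a1760907d85837104fd0897b6f12e12de580c8873cbd32d1a2ad840ce178646872a233dc72061a56415e5d5836680c0c145529f8285506d0d4740487344f75cb23f8786c4da53a096a4d36c80e035d812808339c042cc73406d43df15cc772620b489ef3447549cb38841b2893e4b5c88983222d316d9ae4304e30835839e47596e45dff510bb5c13c7803e4dca97ac3d8002f7f8825955f2b1da5c443238ca7b4cd845ba665d958c6f3b604650fc630140652c7c8603e4e71f2241b1fd3b02d574f42bcaa0e8e16c1f02c1b714d8d6a998004a8551520a8dd5e5a35a5dd70c9726d00745244810636487170c088026074a6111c23ce18045786f894140126a09015c5138d1f23c3b3d55a069f4584836099f54d291d0625d0f63249c19a024da06854dc2553451c922160c158eb23521544e040dd5310312185a63d9c2059268558535014487a0d1de2d87f27dac1cc6e1d9e879c0b10067398231a5db0ad6d7da1401d306994641dfc8216086d644d5fa2c4364e4b43a949348b524d1e274c816543124d572d0e15118889ab4be254ed102b9ce0008a4a132054ad5a8798484c2454074c6b0b89e3a5150a4f228d1d094b9675bb621bf5057f89d3d4a84684002521a2691c90e0455f41f64511040e25880a18c39834423c52b018a705905,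 [1, 1, 0, 0, 0], [15, 14]) := Or.inr (Or.inl ⟨0, by decide +kernel⟩)
theorem qW2_10 : chkE 552 10 GW2 (LW2.map fun a => a.1) (0x7e87f84a032c84235c5d47caf5556586c2985dc03293046dea1d0ac456107b526081ff100a28193b2a601204537696f684cc70c9d27cd9325616e4c81293d7a58883802438d677d5339d2464e140c8652699b7adec285ac3fd3e6a2223e1de7649e6e9e41544e419f4389b25f0fd775ce5290c72d9c046004fc78098f41698b43e1801d124a4e028c0b1c5372ccda50d113ec6751cdf539e21dcbe53c647497e3bcae48cbf7f90a825ca290e345134390fe03604301ab65d6b30809644614811d61949714a87441f8098d2ec8e41c87004aa4b9ef051391881d164d36d0a0228e85e50d4119033866121562ad01001005a1c42094c3dde60ddd0730920e85f52d2b7d5f76584c298d2038d45e0dd55d8568d5b5910224d21674986d4c31b0083791a0ac2279cba8561d624cf29446345a04946d489b75cdfd1e57b6892a49d770d10b1d9d88453152213755d65c8eb821f84789b234cd695b157dbe4a1106096a639137cd5a134b64221f82c2c660037c4503b2230a86e504fc58c703b4db65072148243c576061f93e4b1265715607515c2e3856287981395bc6c1b35b92c225b67f0f60bd99145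521711812d090ed87210c1354b575d4078da6179b822de5720bc7c9ae5b5956bd3c0a1441ed83864548599a784bd678880d8133d404610215e93a3119f5092d20c965fe245340a551f606a26880f01a61c08d5e219162b60745c172e175360c6704910c49031c948160d519c7341362dc9c82843570600798f255663b9cf7a0685a5450b4f3094fa6a550071aa200dc0f5336b4c50fd5116e0c4bca783c8f7ec4540c4f111671a9191f430104e91e8b011c35048cb019dc4d43325c3e5c03c0e15d7b93889c561f1bd415592156c030e61acea1f9608697d781c21cdc96302704063751741606f06d1c064152318069cb9894b43c98a03c397c22176c496fdbb649c601416735a474d32, [1, 0, 0, 0], [2, 9]) = true := by decide +kernel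
theorem rW2_10 : CeW2 (0x7e87f84a032c84235c5d47caf5556586c2985dc03293046dea1d0ac456107b526081ff100a28193b2a601204537696f684cc70c9d27cd9325616e4c81293d7a58883802438d677d5339d2464e140c8652699b7adec285ac3fd3e6a2223e1de7649e6e9e41544e419f4389b25f0fd775ce5290c72d9c046004fc78098f41698b43e1801d124a4e028c0b1c5372ccda50d113ec6751cdf539e21dcbe53c647497e3bcae48cbf7f90a825ca290e345134390fe03604301ab65d6b30809644614811d61949714a87441f8098d2ec8e41c87004aa4b9ef051391881d164d36d0a0228e85e50d4119033866121562ad01001005a1c42094c3dde60ddd0730920e85f52d2b7d5f76584c298d2038d45e0dd55d8568d5b5910224d21674986d4c31b0083791a0ac2279cba8561d624cf29446345a04946d489b75cdfd1e57b6892a49d770d10b1d9d88453152213755d65c8eb821f84789b234cd695b157dbe4a1106096a639137cd5a134b64221f82c2c660037c4503b2230a86e504fc58c703b4db65072148243c576061f93e4b1265715607515c2e3856287981395bc6c1b35b92c225b67f0f60bd99145521711812d090ed87210c1354b575d4078da6179b822de5720bc7c9ae5b5956bd3c0a1441ed83864548599a784bd678880d8133d404610215e93a3119f5092d20c965fe245340a551f606a26880f01a61c08d5e219162b60745c172e175360c6704910c49031c948160d519c7341362dc9c82843570600798f255663b9cf7a0685a5450b4f3094fa6a550071aa200dc0f5336b4c50fd5116e0c4bca783c8f7ec4540c4f111671a9191f430104e91e8b011c35048cb019dc4d43325c3e5c03c0e15d7b93889c561f1bd415592156c030e61acea1f9608697d781c21cdc96302704063751741606f06d1c064152318069cb9894b43c98a03c397c22176c496fdbb649c601416735a474d32,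 [1, 0, 0, 0], [2, 9]) := Or.inr (Or.inl ⟨0, by decide +kernel⟩)
theorem qW2_11 : chkE 552 10 GW2 (LW2.map fun a => a.1) (0x29c604150456dc642a002221e2f90816e1a400ba140dc1746420e0b580193b13b024cd5a527898975a87f814890b13d51a0e2107d0785e5357a684300ac6f49010820150d4fb2cd422c540475aa761dd195ba638c82998f39d7785806808433f0ea1b9f87f9d6698218846c154d361c3c659d511c940a1f319d022f162241972953c200b74b57578068825825ed213a43907d4508cdf6747468120778d950d30585703f4ef134aa260822919e5261c02d64378db795dc3096b5c82003d0c78dc23684f3019975d8a7d9b66c5f16b5b80bd813a1b7091fb259f2104c3039df5752e12dc5811cc79d54374322ad360e0b5328e42d9ff3ddd90757847d5e3959c168167b13f109596b844020d45111888914425c3831ab1a8176312512923560227d1566a5b47a112881ac324ac21d1c5cd651c4cf4892c344756f4a06001b1e55382a153b91a0a931230a13191e62e070fc4c464d545e237409387c7b7b83e3107c0990646c045f15c1dcae1b4533d94f11a1915d4c171667507258d6f3b603651e653814015ef0de013e60f2a59871dfd7846b6f1db38cd73808a6c18826d767694831624569412f55222c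cb5e5d104c9a2c9262c16768d6c5543d7a90f8450d42deb062135419351dbe045a58605f5a0121894b7b4662bd9023c403d4014040d2fde27059f4f8344e9a85d171340491441c610767217e095073cc920c4fe1590e235864543a278614dc852459a87583205924cdb26241a7000a4a403729f927cc71a59b818ce73dc40edf70b9af1ccf46d4d23e1fc01cf044db94d214330b886d164d5a43fc36274b4361855b6172ec4e4e5f51647e2716e72ceb15048734784bc003051057d91894e128e12160ad264a24c9e4219e94ac2d39903749510a4f24a195254b9149117c1bf2a17f008704a88e3c627634e27e9c90cc455f4d6739bb6cda23e87a18c278354a841d355da703138, [0, 0, 0], [0, 10]) = true := by decide +kernel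
theorem rW2_11 : CeW2 (0x29c604150456dc642a002221e2f90816e1a400ba140dc1746420e0b580193b13b024cd5a527898975a87f814890b13d51a0e2107d0785e5357a684300ac6f49010820150d4fb2cd422c540475aa761dd195ba638c82998f39d7785806808433f0ea1b9f87f9d6698218846c154d361c3c659d511c940a1f319d022f162241972953c200b74b57578068825825ed213a43907d4508cdf6747468120778d950d30585703f4ef134aa260822919e5261c02d64378db795dc3096b5c82003d0c78dc23684f3019975d8a7d9b66c5f16b5b80bd813a1b7091fb259f2104c3039df5752e12dc5811cc79d54374322ad360e0b5328e42d9ff3ddd90757847d5e3959c168167b13f109596b844020d45111888914425c3831ab1a8176312512923560227d1566a5b47a112881ac324ac21d1c5cd651c4cf4892c344756f4a06001b1e55382a153b91a0a931230a13191e62e070fc4c464d545e237409387c7b7b83e3107c0990646c045f15c1dcae1b4533d94f11a1915d4c171667507258d6f3b603651e653814015ef0de013e60f2a59871dfd7846b6f1db38cd73808a6c18826d767694831624569412f55222ccb5e5d104c9a2c9262c16768d6c5543d7a90f8450d42deb062135419351dbe045a58605f5a0121894b7b4662bd9023c403d4014040d2fde27059f4f8344e9a85d171340491441c610767217e095073cc920c4fe1590e235864543a278614dc852459a87583205924cdb26241a7000a4a403729f927cc71a59b818ce73dc40edf70b9af1ccf46d4d23e1fc01cf044db94d214330b886d164d5a43fc36274b4361855b6172ec4e4e5f51647e2716e72ceb15048734784bc003051057d91894e128e12160ad264a24c9e4219e94ac2d39903749510a4f24a195254b9149117c1bf2a17f008704a88e3c627634e27e9c90cc455f4d6739bb6cda23e87a18c278354a841d355da703138,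 [0, 0, 0], [0, 10]) := Or.inr (Or.inl ⟨0, by decide +kernel⟩)
theorem qW2_12 : chkE 552 10 GW2 (LW2.map fun a => a.1) (0xdc9804c9e3f9de03097418e34e89486c292d5c0864b34edea4822548e1015df32005a414796851b23a092059889187819c8831a34b8d9156273b91a5609a565d442cbf4040d5f83983de4796147d46f4f562309d831dae2c4277bddc73c4202e0376d243251e47c1f005a9625601c1ce00d5f72da0090c11f80662d667fc2621e18025120d0e0021d97e4c44c0da51577379d2450df2ecbe17de26586419ddf054c6454025352b80534290af51dca798b235903655572f0f57ac07645701d10d61823708104e5f43398d538a92d90f3881627da80a1d14b0a75cd514a0f02281e4bd1d3a83d808dd2f4306510e1b567140728714b3e4e47e82a44c920e8775310a0c8e953d6c8749b7b8d4170666adaf2756456dcd631216c47f1b0b86d4a33ecc871de07d8ba820a65f0386e07c1059c1800048a161657f288dc5692a6f5114a60e4cdec695315218f87d196381a85540138d2234908459d431be6d110705f15c9cc499a23410760dd50cd7114d4a5a9687859a740fa6cc683b5dd58cd82adc41a8113c49669c713dcff4702c129747b42e3859b679d3395bc6c141540623d9b67f089885f032d525e1544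d47d4e16f45a00112177edf820c88178a55119333197691ac2c0c06153c0508b1ed08328126de233b048879a623e125ad8081d8a161554dd9f6ee0a78d767f5da7f87a461e73ad460fca01cc825255e218841598445c1730d7536cae608910c4cd28565814638982b134352dc494b5c66b5253a213094f46e4f8070fc4c9430b44f2546e6c96e7a1aa0817b64076570c5880d316dc35e41d39c3675cb4810f335500149d642556345f70296d11d36150511e22212e0b1743e1843c33d5d0383b584ad11927101e92144c35ce61ad044fcfd868b9089c51a4f224d3e2a20d620755e86506c99064ef230040617d2b0457242103d536642f6e89c649426fc43014aa409f260569, [1, 1, 1, 0], [13, 5]) = true := by decide +kernel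
theorem rW2_12 : CeW2 (0xdc9804c9e3f9de03097418e34e89486c292d5c0864b34edea4822548e1015df32005a414796851b23a092059889187819c8831a34b8d9156273b91a5609a565d442cbf4040d5f83983de4796147d46f4f562309d831dae2c4277bddc73c4202e0376d243251e47c1f005a9625601c1ce00d5f72da0090c11f80662d667fc2621e18025120d0e0021d97e4c44c0da51577379d2450df2ecbe17de26586419ddf054c6454025352b80534290af51dca798b235903655572f0f57ac07645701d10d61823708104e5f43398d538a92d90f3881627da80a1d14b0a75cd514a0f02281e4bd1d3a83d808dd2f4306510e1b567140728714b3e4e47e82a44c920e8775310a0c8e953d6c8749b7b8d4170666adaf2756456dcd631216c47f1b0b86d4a33ecc871de07d8ba820a65f0386e07c1059c1800048a161657f288dc5692a6f5114a60e4cdec695315218f87d196381a85540138d2234908459d431be6d110705f15c9cc499a23410760dd50cd7114d4a5a9687859a740fa6cc683b5dd58cd82adc41a8113c49669c713dcff4702c129747b42e3859b679d3395bc6c141540623d9b67f089885f032d525e1544d47d4e16f45a00112177edf820c88178a55119333197691ac2c0c06153c0508b1ed08328126de233b048879a623e125ad8081d8a161554dd9f6ee0a78d767f5da7f87a461e73ad460fca01cc825255e218841598445c1730d7536cae608910c4cd28565814638982b134352dc494b5c66b5253a213094f46e4f8070fc4c9430b44f2546e6c96e7a1aa0817b64076570c5880d316dc35e41d39c3675cb4810f335500149d642556345f70296d11d36150511e22212e0b1743e1843c33d5d0383b584ad11927101e92144c35ce61ad044fcfd868b9089c51a4f224d3e2a20d620755e86506c99064ef230040617d2b0457242103d536642f6e89c649426fc43014aa409f260569,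 [1, 1, 1, 0], [13, 5]) := Or.inr (Or.inl ⟨0, by decide +kernel⟩)
theorem qW2_13 : chkE 552 10 GW2 (LW2.map fun a => a.1) (0x3bda133c89241ab00608430e3285ca16c295a07b401ef838c56b03b510053fdc86fd5b895297e50b069b9204ea361cf1c49752cc95d1aa744184952450cce558fb304a72a4a8259b43b03265c5e131f6809c4655e91d1557b4083c1961bd5766cf6391f54e51e57db32a93f1f6110700f1e03d11dad5f43f129de474fc5910d4dcb78353c288e154d621d90f6a18d6c9e06642b539b013e1d2d8a67361471d767c91f22c1d7ec2f3b85f67caf2ec773d0cd0402c09803714ab300630f1a66b8c2231b1639f4135411c0173cceb594c40595a1d4a0724d04c2274d42a09c62381fd105eb768c67756d355f83d48e414ca85cfa670b23b5660552318492229073fa215b1b5408c820cdd445523f4b05286a1559a88c4351db6616067485c19c397c1e43a5bb61e187cde3425696090e5e55c898404c5df12c1e0d21635c1b4b4221e6001fd592e122369e244d197947c499ec13866235c330daf640ba4f83e2958464d703300c27494209cc04c9e4100681cb539c844540b035ba3dde83e4535ac6e524b90657b0093358c574da035149f2c46b0e87267804574e537cd62f4b340d861920474c21348d458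16e165fe000f816a20550505f1d884e1f7f1c1544bc175c21613a32d8b149c03c8d344a1c59cb45f91683c44879d52b4386512b471880dcc721ca40392763cdc3a0db75c0a5416f11a0146d2c1a5a06755e0c5ff23c9945d485e1bc661066e0852460c4813481409825f768df16f89c6f62260d465fcbe2546818065269db0cda90b98c095d91f8484f5ea649b72b898420d94edd086d4c3456178456624545c4934621908dd6535404bc6c1e85172d6a1149b1094f5ce1285510221ce4c9755dc6d69c364060a2b0302191a3882d39a24561a586824509721cc28450a307c073792e7e9e74a835841a44850a2fc114e012051d4645286298179849201ee081dc3c5a27197a6020b, [1, 1, 1, 0, 0], [14, 7]) = true := by decide +kernel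
theorem rW2_13 : CeW2 (0x3bda133c89241ab00608430e3285ca16c295a07b401ef838c56b03b510053fdc86fd5b895297e50b069b9204ea361cf1c49752cc95d1aa744184952450cce558fb304a72a4a8259b43b03265c5e131f6809c4655e91d1557b4083c1961bd5766cf6391f54e51e57db32a93f1f6110700f1e03d11dad5f43f129de474fc5910d4dcb78353c288e154d621d90f6a18d6c9e06642b539b013e1d2d8a67361471d767c91f22c1d7ec2f3b85f67caf2ec773d0cd0402c09803714ab300630f1a66b8c2231b1639f4135411c0173cceb594c40595a1d4a0724d04c2274d42a09c62381fd105eb768c67756d355f83d48e414ca85cfa670b23b5660552318492229073fa215b1b5408c820cdd445523f4b05286a1559a88c4351db6616067485c19c397c1e43a5bb61e187cde3425696090e5e55c898404c5df12c1e0d21635c1b4b4221e6001fd592e122369e244d197947c499ec13866235c330daf640ba4f83e2958464d703300c27494209cc04c9e4100681cb539c844540b035ba3dde83e4535ac6e524b90657b0093358c574da035149f2c46b0e87267804574e537cd62f4b340d861920474c21348d45816e165fe000f816a20550505f1d884e1f7f1c1544bc175c21613a32d8b149c03c8d344a1c59cb45f91683c44879d52b4386512b471880dcc721ca40392763cdc3a0db75c0a5416f11a0146d2c1a5a06755e0c5ff23c9945d485e1bc661066e0852460c4813481409825f768df16f89c6f62260d465fcbe2546818065269db0cda90b98c095d91f8484f5ea649b72b898420d94edd086d4c3456178456624545c4934621908dd6535404bc6c1e85172d6a1149b1094f5ce1285510221ce4c9755dc6d69c364060a2b0302191a3882d39a24561a586824509721cc28450a307c073792e7e9e74a835841a44850a2fc114e012051d4645286298179849201ee081dc3c5a27197a6020b,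 [1, 1, 1, 0, 0], [14, 7]) := Or.inr (Or.inl ⟨0, by decide +kernel⟩)
theorem qW2_14 : chkE 552 10 GW2 (LW2.map fun a => a.1) (0x691f94ca0470d4a2a9f3640e34807786c292d512864f0800d94e86d544f115c97082230ec791d8c11f060205da14c6f4ce082c93927dea340bf519f56a470501f00fe273ac1f5ed3e83d6c709fc469877746e098306b8c72c553189cd7d8031c9035984c1351e0f40d689587f8c326991108c672d830451b515ab7addb668c221dbe01dc00d03a4a1c4260c4280171f9bb629f73ccdf63083595e310c5e3a4dc5e95f34d615f181494b6290af13d071a20c7d203434785c96b62c09739d555595485857954168cd60714824c464d10f568d74b92c0509d6a01816523020b3384e85e4c036d1f7a051461d82ac1a895671400b570cd3dcfc7c9442209238094241d332067719e484d6d088d4694cb0194974484459dc2ed86148710acfd71db4084326d40e73cb77218f5360b6e08e34508824ac489765cdfd289df3892a6f5424a6208195617131634a61851965d0e33159138b02354c5e06a2ba1828d10704992f1a617401155ca6817033c89891de47168785ff22d9b2a1e658d3d3b504651d967424841b70747f3e4ff5a8f66c8757b4e6228fa6790a5d55d6c010355ef0b08c85171011d41995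28444812dd71006556d3b5ba17425e92f913190a50a9c58558e0dca13491d08c7b0a1d04f19c328542585a3b154879cc0d9693d42f4d8de3bc744dd9f5de0a78a165fd986247a2f4f8404ee42d301cdad6bd5e245642b43545cda580e53a90c608862154b6b05f8160d6e46c325842e8494b54f20a0107a1d095ba899e7338e404d3f1ad472556212844808c52017e419a1871aa8391516cfe4bda739c8f1f44527914541006c5d67edec105d20289b11e07048dd55d024d4384983e87c0f0cdbc78105008562a5274e1f80c5240582e0b4d850cb88697d7b9931a5c9538396cc63665740556f06df1014586da2129cb9000b43c8fb0f027621803d09c6fd11649960640c889fa4ae12, [1, 1, 1, 0, 0, 0], [3, 11]) = true := by decide +kernel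
theorem rW2_14 : CeW2 (0x691f94ca0470d4a2a9f3640e34807786c292d512864f0800d94e86d544f115c97082230ec791d8c11f060205da14c6f4ce082c93927dea340bf519f56a470501f00fe273ac1f5ed3e83d6c709fc469877746e098306b8c72c553189cd7d8031c9035984c1351e0f40d689587f8c326991108c672d830451b515ab7addb668c221dbe01dc00d03a4a1c4260c4280171f9bb629f73ccdf63083595e310c5e3a4dc5e95f34d615f181494b6290af13d071a20c7d203434785c96b62c09739d555595485857954168cd60714824c464d10f568d74b92c0509d6a01816523020b3384e85e4c036d1f7a051461d82ac1a895671400b570cd3dcfc7c9442209238094241d332067719e484d6d088d4694cb0194974484459dc2ed86148710acfd71db4084326d40e73cb77218f5360b6e08e34508824ac489765cdfd289df3892a6f5424a6208195617131634a61851965d0e33159138b02354c5e06a2ba1828d10704992f1a617401155ca6817033c89891de47168785ff22d9b2a1e658d3d3b504651d967424841b70747f3e4ff5a8f66c8757b4e6228fa6790a5d55d6c010355ef0b08c85171011d4199528444812dd71006556d3b5ba17425e92f913190a50a9c58558e0dca13491d08c7b0a1d04f19c328542585a3b154879cc0d9693d42f4d8de3bc744dd9f5de0a78a165fd986247a2f4f8404ee42d301cdad6bd5e245642b43545cda580e53a90c608862154b6b05f8160d6e46c325842e8494b54f20a0107a1d095ba899e7338e404d3f1ad472556212844808c52017e419a1871aa8391516cfe4bda739c8f1f44527914541006c5d67edec105d20289b11e07048dd55d024d4384983e87c0f0cdbc78105008562a5274e1f80c5240582e0b4d850cb88697d7b9931a5c9538396cc63665740556f06df1014586da2129cb9000b43c8fb0f027621803d09c6fd11649960640c889fa4ae12,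 [1, 1, 1, 0, 0, 0], [3, 11]) := Or.inr (Or.inl ⟨0, by decide +kernel⟩)
theorem qW2_15 : chkE 552 10 GW2 (LW2.map fun a => a.1) (0x8ee001987fdcd6010b5c19e63dad86e1a329be2d496721fc29932170f139c3f834fe33d2d494cc0d476816038101c1811b88d7c7f6141f5a41fd5919cf83200d17437471884b1e015c30098d9500ce73cfc7144c2f8833b1ee5ec03269023d0531c95642519185994ace968d4479d918888872cb6726151b1967940b2c993609126fe1849d5d44566518a55d88c0ac08041581a9b008ca1870c71e0c51286229d135e1fa744e24cd0867e1e149831b85a752245c9c647594709927391f874bc5214e308fb535f01952152536671c142a215fcdc5f5fe77cef5e5a5509b7395745cd973da1f1bcd5349245ac9904c50401ba1dd1658cfa2fcb82b95e6f082210017e1b2019d8480bd4f9524544410d8c624cd240426158d3cdb94fdd01f9772a1e9515531c07b3047427505311844d507686124c4f04bd2e829ef74d2a0d0a36f4978256c34d22619556404e655f1800327584845d645444f699c06ed1021ceb300c68818175da04d03d4e0db279dc069672c60c30de6629623e5f63dd713d5db51cf2841305ea263b5e1438d8748e883c2e5d4682bda22283a37c2132d7e410177a8ea2a81f5b8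d448d6d344c982de85320837619341f56b10c6a9373f58b4ed0d585e35518e24cb72e5602e9ca85cb4281c33fc9b38d5f2b46d2acd71f14169e136e0a44a0796b8b327d034e4492c1dd5a87149a160945f2ec922194b23c46235b60a8e10b1cc43c910c55b7895c204807e5437eca94f00a289ab596061d53a1a5d92613d5bd9b2b1c70b5b11cce47dc5161c5e18da875601250647ce1116d9a164157b456134547699d199684511e155e412da92711811c8e1155053d4a1043b8383e4180f100e009c337c83681d290e11a215ec010e61ac896d48b0a4280e5eb254246bc0e378203581e0620206d010141d3680c160145a412045b30f0227d0167107a025b401d570642f77a2756a25, [1, 1], [4, 3]) = true := by decide +kernel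
theorem rW2_15 : CeW2 (0x8ee001987fdcd6010b5c19e63dad86e1a329be2d496721fc29932170f139c3f834fe33d2d494cc0d476816038101c1811b88d7c7f6141f5a41fd5919cf83200d17437471884b1e015c30098d9500ce73cfc7144c2f8833b1ee5ec03269023d0531c95642519185994ace968d4479d918888872cb6726151b1967940b2c993609126fe1849d5d44566518a55d88c0ac08041581a9b008ca1870c71e0c51286229d135e1fa744e24cd0867e1e149831b85a752245c9c647594709927391f874bc5214e308fb535f01952152536671c142a215fcdc5f5fe77cef5e5a5509b7395745cd973da1f1bcd5349245ac9904c50401ba1dd1658cfa2fcb82b95e6f082210017e1b2019d8480bd4f9524544410d8c624cd240426158d3cdb94fdd01f9772a1e9515531c07b3047427505311844d507686124c4f04bd2e829ef74d2a0d0a36f4978256c34d22619556404e655f1800327584845d645444f699c06ed1021ceb300c68818175da04d03d4e0db279dc069672c60c30de6629623e5f63dd713d5db51cf2841305ea263b5e1438d8748e883c2e5d4682bda22283a37c2132d7e410177a8ea2a81f5b8d448d6d344c982de85320837619341f56b10c6a9373f58b4ed0d585e35518e24cb72e5602e9ca85cb4281c33fc9b38d5f2b46d2acd71f14169e136e0a44a0796b8b327d034e4492c1dd5a87149a160945f2ec922194b23c46235b60a8e10b1cc43c910c55b7895c204807e5437eca94f00a289ab596061d53a1a5d92613d5bd9b2b1c70b5b11cce47dc5161c5e18da875601250647ce1116d9a164157b456134547699d199684511e155e412da92711811c8e1155053d4a1043b8383e4180f100e009c337c83681d290e11a215ec010e61ac896d48b0a4280e5eb254246bc0e378203581e0620206d010141d3680c160145a412045b30f0227d0167107a025b401d570642f77a2756a25,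 [1, 1], [4, 3]) := Or.inr (Or.inr ⟨7, by decide +kernel⟩)
theorem QW2 : ∀ a ∈ LW2, chkE 552 10 GW2 (LW2.map fun a => a.1) a = true :=
  List.forall_mem_cons.2 ⟨qW2_0, List.forall_mem_cons.2 ⟨qW2_1, List.forall_mem_cons.2 ⟨qW2_2, List.forall_mem_cons.2 ⟨qW2_3, List.forall_mem_cons.2 ⟨qW2_4, List.forall_mem_cons.2 ⟨qW2_5, List.forall_mem_cons.2 ⟨qW2_6, List.forall_mem_cons.2 ⟨qW2_7, List.forall_mem_cons.2 ⟨qW2_8, List.forall_mem_cons.2 ⟨qW2_9, List.forall_mem_cons.2 ⟨qW2_10, List.forall_mem_cons.2 ⟨qW2_11, List.forall_mem_cons.2 ⟨qW2_12, List.forall_mem_cons.2 ⟨qW2_13, List.forall_mem_cons.2 ⟨qW2_14, List.forall_mem_cons.2 ⟨qW2_15, List.forall_mem_nil _⟩⟩⟩⟩⟩⟩⟩⟩⟩⟩⟩⟩⟩⟩⟩⟩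
theorem CW2 : ∀ a ∈ LW2, CeW2 a :=
  List.forall_mem_cons.2 ⟨rW2_0, List.forall_mem_cons.2 ⟨rW2_1, List.forall_mem_cons.2 ⟨rW2_2, List.forall_mem_cons.2 ⟨rW2_3, List.forall_mem_cons.2 ⟨rW2_4, List.forall_mem_cons.2 ⟨rW2_5, List.forall_mem_cons.2 ⟨rW2_6, List.forall_mem_cons.2 ⟨rW2_7, List.forall_mem_cons.2 ⟨rW2_8, List.forall_mem_cons.2 ⟨rW2_9, List.forall_mem_cons.2 ⟨rW2_10, List.forall_mem_cons.2 ⟨rW2_11, List.forall_mem_cons.2 ⟨rW2_12, List.forall_mem_cons.2 ⟨rW2_13, List.forall_mem_cons.2 ⟨rW2_14, List.forall_mem_cons.2 ⟨rW2_15, List.forall_mem_nil _⟩⟩⟩⟩⟩⟩⟩⟩⟩⟩⟩⟩⟩⟩⟩⟩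
theorem NW2 : ∃ a ∈ LW2, a.2.1 = [] := ⟨_, List.getElem_mem (n := 0) (by rw [lGW2]; norm_num), rfl⟩
theorem cs1 : chkW 552 10 GR0 s1 [0, 0] = true := by decide +kernel
theorem hs1 : Has s1 := Has.word cs1 hGR0
theorem cs2 : chkW 552 10 GW1 s2 [1, 2, 0, 1] = true := by decide +kernel
theorem hs2 : Has s2 := Has.word cs2 hGW1
theorem f1 : Nat.beq (lk 10 s1 0) 0 = true := by decide +kernel
theorem f2 : Nat.beq (lk 10 e35 10) 10 = true := by decide +kernel
theorem nofix : allN (fun p => Bool.rec true false (Nat.beq (lk 10 p17 p) p)) 552 = true := by decide +kernel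

end Cfsg.Agent.H895.CoIF
end

-- part: H358/IF/Odd
section
prune_inst 0x10002105184010000004000000201c838100002000080000000402020200002009002040000021020a00000000040000000200800000000000040000000100000000000021400091020080000208010000008000000000000000000000000000014010000
set_option linter.all false
open scoped Cfsg.Agent.FastGrp

-- part: H358/IF/Sq
section
/-!
# S5719, cell `PSL four` (helper358): involutions with `s² = ν²`
-/

set_option autoImplicit false
set_option linter.unusedSectionVars false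

namespace Cfsg.Agent.H358.IF

open Matrix Cfsg.Agent.H209.Fxy Module

variable {F : Type} [Field F]

theorem eig_basis (h2 : (2 : F) ≠ 0) {T : Matrix I4 I4 F} (hT : T * T = 1) :
    ∃ (b : Basis I4 F (I4 → F)) (ε : I4 → Bool), ∀ i, T *ᵥ b i = (if ε i then (-1 : F) else 1) • b i := by
  classical
  let f : (I4 → F) →ₗ[F] (I4 → F) := Matrix.toLin' T
  have hf : ∀ x, f x = T *ᵥ x := fun x => Matrix.toLin'_apply T x
  have hff : ∀ x, f (f x) = x := fun x => by rw [hf, hf, mulVec_mulVec, hT, one_mulVec]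
  let P : Submodule F (I4 → F) := LinearMap.ker (f + LinearMap.id)
  let Q : Submodule F (I4 → F) := LinearMap.ker (f - LinearMap.id)
  have hP : ∀ x, x ∈ P ↔ f x = -x := fun x => by
    rw [LinearMap.mem_ker, LinearMap.add_apply, LinearMap.id_apply, add_eq_zero_iff_eq_neg]
  have hQ : ∀ x, x ∈ Q ↔ f x = x := fun x => by
    rw [LinearMap.mem_ker, LinearMap.sub_apply, LinearMap.id_apply, sub_eq_zero]
  have hc : IsCompl P Q := by
    constructor
    · rw [Submodule.disjoint_def]
      intro x h3 h4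
      rw [hP] at h3
      rw [hQ] at h4
      have h5 : (2 : F) • x = 0 := by
        rw [two_smul]
        nth_rewrite 1 [← h4]
        rw [h3, neg_add_cancel]
      exact (smul_eq_zero.1 h5).resolve_left h2
    · rw [codisjoint_iff, Submodule.eq_top_iff']
      intro x
      have h3 : x = (2 : F)⁻¹ • (x - f x) + (2 : F)⁻¹ • (x + f x) := by
        rw [← smul_add, show x - f x + (x + f x) = (2 : F) • x by module, smul_smul, inv_mul_cancel₀ h2, one_smul]
      rw [h3]
      refine Submodule.add_mem_sup (P.smul_mem _ ?_) (Q.smul_mem _ ?_)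
      · rw [hP, map_sub, hff, neg_sub]
      · rw [hQ, map_add, hff, add_comm]
  let B := ((Module.finBasis F P).prod (Module.finBasis F Q)).map (Submodule.prodEquivOfIsCompl P Q hc)
  have hcard : Fintype.card (Fin (finrank F P) ⊕ Fin (finrank F Q)) = Fintype.card I4 := by
    rw [← Module.finrank_eq_card_basis B, Module.finrank_fintype_fun_eq_card]
  let e := Fintype.equivOfCardEq hcard
  refine ⟨B.reindex e, fun i => (e.symm i).isLeft, fun i => ?_⟩
  rw [Basis.reindex_apply]
  beta_reduce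
  rcases e.symm i with k | k
  · have h3 : B (Sum.inl k) ∈ P := by
      simp only [B, _root_.Module.Basis.map_apply, _root_.Module.Basis.prod_apply, _root_.LinearMap.coe_inl, _root_.LinearMap.coe_inr, _root_.Sum.elim_inl, _root_.Function.comp_apply, _root_.Submodule.coe_prodEquivOfIsCompl', _root_.ZeroMemClass.coe_zero, _root_.add_zero, _root_.SetLike.coe_mem]
    rw [← hf, (hP _).1 h3]
    simp
  · have h3 : B (Sum.inr k) ∈ Q := by
      simp only [B, _root_.Module.Basis.map_apply, _root_.Module.Basis.prod_apply, _root_.LinearMap.coe_inl, _root_.LinearMap.coe_inr, _root_.Sum.elim_inr, _root_.Function.comp_apply, _root_.Submodule.coe_prodEquivOfIsCompl', _root_.ZeroMemClass.coe_zero, _root_.zero_add, _root_.SetLike.coe_mem]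
    rw [← hf, (hQ _).1 h3]
    simp

/-- `Fin 4 ≃ I4` -/
def e4 : Fin 4 ≃ I4 := (finSumFinEquiv (m := 2) (n := 2)).symm

theorem perm_cases : ∀ a b c d : Bool, (a = b ∧ b = c ∧ c = d) ∨
    (∃ (σ : Equiv.Perm (Fin 4)) (x : Bool), ![a, b, c, d] (σ 0) = x ∧ ![a, b, c, d] (σ 1) = x ∧
      ![a, b, c, d] (σ 2) = !x ∧ ![a, b, c, d] (σ 3) = !x) ∨
    (∃ (σ : Equiv.Perm (Fin 4)) (x : Bool), ![a, b, c, d] (σ 0) = x ∧ ![a, b, c, d] (σ 1) = x ∧
      ![a, b, c, d] (σ 2) = x ∧ ![a, b, c, d] (σ 3) = !x) := by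
  decide +kernel

theorem perm_cases' (ε : I4 → Bool) : (∀ i, ε i = ε (Sum.inl 0)) ∨
    (∃ (σ : Equiv.Perm I4) (x : Bool), ε (σ (Sum.inl 0)) = x ∧ ε (σ (Sum.inl 1)) = x ∧
      ε (σ (Sum.inr 0)) = !x ∧ ε (σ (Sum.inr 1)) = !x) ∨
    (∃ (σ : Equiv.Perm I4) (x : Bool), ε (σ (Sum.inl 0)) = x ∧ ε (σ (Sum.inl 1)) = x ∧
      ε (σ (Sum.inr 0)) = x ∧ ε (σ (Sum.inr 1)) = !x) := by
  have h0 : ∀ (σ : Equiv.Perm (Fin 4)) (i : Fin 4), ε ((e4.permCongr σ) (e4 i)) =
      ![ε (Sum.inl 0), ε (Sum.inl 1), ε (Sum.inr 0), ε (Sum.inr 1)] (σ i) := by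
    intro σ i
    rw [Equiv.permCongr_apply, Equiv.symm_apply_apply]
    generalize σ i = k
    fin_cases k <;> rfl
  rcases perm_cases (ε (Sum.inl 0)) (ε (Sum.inl 1)) (ε (Sum.inr 0)) (ε (Sum.inr 1)) with
    ⟨h1, h2, h3⟩ | ⟨σ, x, h1, h2, h3, h4⟩ | ⟨σ, x, h1, h2, h3, h4⟩
  · left
    rintro (i | i) <;> fin_cases i
    · rfl
    · exact h1.symm
    · exact (h1.trans h2).symm
    · exact (h1.trans (h2.trans h3)).symm
  · right
    left
    exact ⟨e4.permCongr σ, x, (h0 σ 0).trans h1, (h0 σ 1).trans h2, (h0 σ 2).trans h3, (h0 σ 3).trans h4⟩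
  · right
    right
    exact ⟨e4.permCongr σ, x, (h0 σ 0).trans h1, (h0 σ 1).trans h2, (h0 σ 2).trans h3, (h0 σ 3).trans h4⟩

theorem cls_sq (h2 : (2 : F) ≠ 0) {s : S4 F} {n : F} (hn : n ≠ 0) (h : s.val * s.val = (n * n) • (1 : Matrix I4 I4 F))
    (hs : ∀ d : F, s.val ≠ d • (1 : Matrix I4 I4 F)) :
    ∃ (g : GL I4 F) (l : F), (cS g s).val = l • fromBlocks (-1) 0 0 1 ∨
      (cS g s).val = l • fromBlocks 1 0 0 !![1, 0; 0, -1] := by
  set! T : Matrix I4 I4 F := n⁻¹ • s.val with hT
  have hsT : s.val = n • T := by rw [hT, smul_smul, mul_inv_cancel₀ hn, one_smul]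
  have hTT : T * T = 1 := by
    rw [hT, Matrix.smul_mul, Matrix.mul_smul, h, smul_smul, smul_smul]
    have : n⁻¹ * n⁻¹ * (n * n) = 1 := by field_simp
    rw [this, one_smul]
  obtain ⟨b, ε, hb⟩ := eig_basis h2 hTT
  have hneg : ∀ x : Bool, (if (!x) = true then (-1 : F) else 1) = -(if x = true then (-1 : F) else 1) := by
    intro x
    cases x <;> simp
  rcases perm_cases' ε with h3 | ⟨σ, x, h3, h4, h5, h6⟩ | ⟨σ, x, h3, h4, h5, h6⟩
  · exfalso
    apply hs (n * (if ε (Sum.inl 0) then (-1 : F) else 1))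
    have h4 : T = (if ε (Sum.inl 0) then (-1 : F) else 1) • (1 : Matrix I4 I4 F) := by
      apply Matrix.toLin'.injective
      apply b.ext
      intro i
      rw [Matrix.toLin'_apply, hb i, h3 i, map_smul, Matrix.toLin'_one, LinearMap.smul_apply, LinearMap.id_apply]
    rw [hsT, h4, smul_smul]
  · obtain ⟨g, hg⟩ := conj_of_basis (b.reindex σ.symm)
    refine ⟨g, -(n * (if x then (-1 : F) else 1)), Or.inl ?_⟩
    apply hg
    have hb' : ∀ i, (b.reindex σ.symm) i = b (σ i) := fun i => by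
      rw [Basis.reindex_apply, Equiv.symm_symm]
    intro j
    rw [hsT, smul_mulVec, hb', hb]
    rcases j with j | j <;> fin_cases j <;>
      simp only [Fin.zero_eta, Fin.mk_one, h3, h4, h5, h6, hneg] <;>
      cases x <;>
      simp [Fintype.sum_sum_type, Fin.sum_univ_two, hb', fromBlocks]
  · obtain ⟨g, hg⟩ := conj_of_basis (b.reindex σ.symm)
    refine ⟨g, (n * (if x then (-1 : F) else 1)), Or.inr ?_⟩
    apply hg
    have hb' : ∀ i, (b.reindex σ.symm) i = b (σ i) := fun i => by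
      rw [Basis.reindex_apply, Equiv.symm_symm]
    intro j
    rw [hsT, smul_mulVec, hb', hb]
    rcases j with j | j <;> fin_cases j <;>
      simp only [Fin.zero_eta, Fin.mk_one, h3, h4, h5, h6, hneg] <;>
      cases x <;>
      simp [Fintype.sum_sum_type, Fin.sum_univ_two, hb', fromBlocks]

end Cfsg.Agent.H358.IF
end

-- part: H411/L4/Par
section
/-!
# S5719, `PSL_4(q)`, `q` odd, FRAME of helper358: the index of a subgroup containing a point or hyperplane parabolic
(helper411)
-/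

set_option autoImplicit false
set_option linter.unusedSectionVars false

namespace Cfsg.Agent.H411.L4

open Matrix Cfsg.Agent.H209.Fxy Cfsg.Agent.H358.IF

variable {F : Type} [Field F]

/-- index type -/
abbrev I31 := Fin 3 ⊕ Unit

/-- `diag(g, 1)` -/
def E3 : _root_.Matrix.SpecialLinearGroup (Fin 3) F →* _root_.Matrix.SpecialLinearGroup I31 F where
  toFun g := ⟨fromBlocks g.val 0 0 1, by rw [det_fromBlocks_zero₂₁, g.2, det_one, mul_one]⟩
  map_one' := Subtype.ext fromBlocks_one
  map_mul' x y := Subtype.ext (by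
    show fromBlocks (x.val * y.val) 0 0 1 = fromBlocks x.val 0 0 1 * fromBlocks y.val 0 0 1
    rw [fromBlocks_multiply]
    simp only [_root_.Matrix.mul_zero, _root_.add_zero, _root_.Matrix.mul_one, _root_.Matrix.zero_mul, _root_.mul_one, _root_.zero_add])

/-- `[[1, v], [0, 1]]` -/
def U3 (v : Fin 3 → F) : _root_.Matrix.SpecialLinearGroup I31 F :=
  ⟨fromBlocks 1 (Matrix.of fun i _ => v i) 0 1, by rw [det_fromBlocks_zero₂₁, det_one, det_one, mul_one]⟩

/-- `[[1, 0], [v, 1]]` -/
def L3 (v : Fin 3 → F) : _root_.Matrix.SpecialLinearGroup I31 F :=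
  ⟨fromBlocks 1 0 (Matrix.of fun _ i => v i) 1, by rw [det_fromBlocks_zero₁₂, det_one, det_one, mul_one]⟩

theorem U3_add (v w : Fin 3 → F) : U3 (v + w) = U3 v * U3 w := by
  apply Subtype.ext
  show fromBlocks 1 (Matrix.of fun i _ => (v + w) i) 0 1 = fromBlocks 1 (Matrix.of fun i _ => v i) 0 1 *
    fromBlocks 1 (Matrix.of fun i _ => w i) 0 1
  rw [fromBlocks_multiply]
  simp only [Matrix.mul_zero, Matrix.mul_one, Matrix.one_mul, Matrix.zero_mul, add_zero, zero_add]
  congr 1
  ext i j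
  simp [add_comm]

theorem L3_add (v w : Fin 3 → F) : L3 (v + w) = L3 v * L3 w := by
  apply Subtype.ext
  show fromBlocks 1 0 (Matrix.of fun _ i => (v + w) i) 1 = fromBlocks 1 0 (Matrix.of fun _ i => v i) 1 *
    fromBlocks 1 0 (Matrix.of fun _ i => w i) 1
  rw [fromBlocks_multiply]
  simp only [Matrix.mul_zero, Matrix.mul_one, Matrix.one_mul, Matrix.zero_mul, add_zero, zero_add]
  congr 1

theorem E3_tv {i j : Fin 3} (hij : i ≠ j) (a : F) : E3 (SpecialLinearGroup.transvection hij a) =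
    SpecialLinearGroup.transvection (fun h => hij (Sum.inl_injective h) : (Sum.inl i : I31) ≠ Sum.inl j) a := by
  apply Subtype.ext
  show fromBlocks (Matrix.transvection i j a) 0 0 1 = Matrix.transvection (Sum.inl i) (Sum.inl j) a
  ext x y
  rcases x with x | x <;> rcases y with y | y <;>
    simp [Matrix.transvection, Matrix.one_apply, Matrix.single_apply]

theorem U3_tv (i : Fin 3) (a : F) : U3 (Pi.single i a) =
    SpecialLinearGroup.transvection (fun h => Sum.inl_ne_inr h : (Sum.inl i : I31) ≠ Sum.inr ()) a := by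
  apply Subtype.ext
  show fromBlocks 1 (Matrix.of fun k _ => (Pi.single i a : Fin 3 → F) k) 0 1 =
    Matrix.transvection (Sum.inl i) (Sum.inr ()) a
  ext x y
  rcases x with x | x <;> rcases y with y | y <;>
    simp [Matrix.transvection, Matrix.one_apply, Matrix.single_apply, Pi.single_apply, eq_comm]

theorem L3_tv (i : Fin 3) (a : F) : L3 (Pi.single i a) =
    SpecialLinearGroup.transvection (fun h => Sum.inr_ne_inl h : (Sum.inr () : I31) ≠ Sum.inl i) a := by
  apply Subtype.ext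
  show fromBlocks 1 0 (Matrix.of fun _ k => (Pi.single i a : Fin 3 → F) k) 1 =
    Matrix.transvection (Sum.inr ()) (Sum.inl i) a
  ext x y
  rcases x with x | x <;> rcases y with y | y <;>
    simp [Matrix.transvection, Matrix.one_apply, Matrix.single_apply, Pi.single_apply, eq_comm]

theorem slR_tv {ι ι' : Type} [Fintype ι] [DecidableEq ι] [Fintype ι'] [DecidableEq ι'] (e : ι ≃ ι') {i j : ι}
    (hij : i ≠ j) (a : F) : slR e (SpecialLinearGroup.transvection hij a : _root_.Matrix.SpecialLinearGroup ι F) =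
      SpecialLinearGroup.transvection (fun h => hij (e.injective h) : e i ≠ e j) a := by
  apply Subtype.ext
  show Matrix.reindex e e (Matrix.transvection i j a) = Matrix.transvection (e i) (e j) a
  ext x y
  obtain ⟨x, rfl⟩ := e.surjective x
  obtain ⟨y, rfl⟩ := e.surjective y
  rw [reindex_apply, submatrix_apply, Equiv.symm_apply_apply, Equiv.symm_apply_apply, Matrix.transvection,
    Matrix.transvection, Matrix.add_apply, Matrix.add_apply, Matrix.one_apply, Matrix.one_apply, Matrix.single_apply,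
    Matrix.single_apply]
  simp only [e.injective.eq_iff]

section Fin

variable [Fintype F] {A : Subgroup (P4 F)}

theorem card_S3 : Nat.card (_root_.Matrix.SpecialLinearGroup (Fin 3) F) = Fintype.card F ^ 3 *
    ((Fintype.card F ^ 3 - 1) * (Fintype.card F ^ 2 - 1)) := by
  have h1 := Cfsg.Agent.S0242.result (F := F) rfl 3 (by norm_num)
  rw [Fin.prod_univ_three] at h1
  have hq : 2 ≤ Fintype.card F := Fintype.one_lt_card
  apply Nat.eq_of_mul_eq_mul_left (show 0 < Fintype.card F - 1 by omega)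
  rw [h1]
  set q := Fintype.card F
  have h3 : q ^ 3 - q ^ 1 = q * (q ^ 2 - 1) := by rw [Nat.mul_sub]; ring_nf
  have h4 : q ^ 3 - q ^ 2 = q ^ 2 * (q - 1) := by rw [Nat.mul_sub]; ring_nf
  simp only [Fin.val_zero, Fin.val_one, Fin.val_two, pow_zero]
  rw [h3, h4]
  ring

/-- the common count -/
theorem idx_aux (e : I31 ≃ I4) (W : (Fin 3 → F) → _root_.Matrix.SpecialLinearGroup I31 F)
    (hW : ∀ v w g h, W v * E3 g = W w * E3 h → v = w ∧ g = h)
    (hE : ∀ (i j : Fin 3), i ≠ j → Rt A (e (Sum.inl i)) (e (Sum.inl j)))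
    (hWA : ∀ v, slR e (W v) ∈ At A) : (At A).index ≤ Fintype.card F ^ 4 - 1 := by
  let K : Subgroup (_root_.Matrix.SpecialLinearGroup I31 F) := (At A).comap (slR e).toMonoidHom
  have hKi : K.index = (At A).index := Subgroup.index_comap_of_surjective _ (slR e).surjective
  have hEK : ∀ g, E3 g ∈ K := by
    intro g
    have h1 : g ∈ K.comap E3 := by
      have h2 : (⊤ : Subgroup (_root_.Matrix.SpecialLinearGroup (Fin 3) F)) ≤ K.comap E3 := by
        rw [← LieClassical.SLGen.closure_transvections, Subgroup.closure_le]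
        rintro _ ⟨i, j, hij, a, rfl⟩
        show slR e (E3 (SpecialLinearGroup.transvection hij a)) ∈ At A
        rw [E3_tv, slR_tv]
        exact hE i j hij _ a
      exact h2 (Subgroup.mem_top g)
    exact h1
  have hcard : Nat.card (_root_.Matrix.SpecialLinearGroup (Fin 3) F) * Fintype.card F ^ 3 ≤ Nat.card K := by
    have h1 : Function.Injective (fun p : _root_.Matrix.SpecialLinearGroup (Fin 3) F × (Fin 3 → F) =>
        (⟨W p.2 * E3 p.1, K.mul_mem (hWA p.2) (hEK p.1)⟩ : K)) := by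
      rintro ⟨g, v⟩ ⟨h, w⟩ hgh
      obtain ⟨h2, h3⟩ := hW _ _ _ _ (congrArg Subtype.val hgh)
      exact Prod.ext h3 h2
    have h2 := Nat.card_le_card_of_injective _ h1
    rwa [Nat.card_prod, Nat.card_fun, Nat.card_eq_fintype_card (α := F), Nat.card_eq_fintype_card (α := Fin 3),
      Fintype.card_fin] at h2
  have h3 := K.card_mul_index
  rw [hKi, Nat.card_congr (slR (F := F) e).toEquiv, card_S4] at h3
  rw [card_S3] at hcard
  have hq : 2 ≤ Fintype.card F := Fintype.one_lt_card
  set q := Fintype.card F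
  set n := (At A).index
  have h4 : q ^ 3 * ((q ^ 3 - 1) * (q ^ 2 - 1)) * q ^ 3 * n ≤ q ^ 6 * ((q ^ 4 - 1) * (q ^ 3 - 1) * (q ^ 2 - 1)) := by
    rw [← h3]
    exact Nat.mul_le_mul_right _ hcard
  have h5 : 0 < q ^ 6 * ((q ^ 3 - 1) * (q ^ 2 - 1)) := by
    have h6 : 1 < q ^ 3 := Nat.one_lt_pow (by norm_num) (by omega)
    have h7 : 1 < q ^ 2 := Nat.one_lt_pow (by norm_num) (by omega)
    exact Nat.mul_pos (pow_pos (by omega) _) (Nat.mul_pos (by omega) (by omega))
  refine Nat.le_of_mul_le_mul_left ?_ h5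
  calc q ^ 6 * ((q ^ 3 - 1) * (q ^ 2 - 1)) * n = q ^ 3 * ((q ^ 3 - 1) * (q ^ 2 - 1)) * q ^ 3 * n := by ring
    _ ≤ _ := h4
    _ = _ := by ring

theorem dec3 (v : Fin 3 → F) : v = Pi.single 0 (v 0) + Pi.single 1 (v 1) + Pi.single 2 (v 2) := by
  ext i
  (revert i; simp only [_root_.Fin.forall_fin_succ, Fin.isValue, _root_.Pi.add_apply, _root_.Pi.single_eq_same, _root_.ne_eq, _root_.zero_ne_one, _root_.not_false_eq_true, _root_.Pi.single_eq_of_ne, _root_.add_zero, Fin.reduceEq, _root_.Fin.succ_ne_zero, _root_.zero_add, _root_.Fin.succ_zero_eq_one, _root_.Fin.succ_one_eq_two, _root_.IsEmpty.forall_iff, _root_.and_self])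

theorem idx_rows {d : I4} (hR : ∀ i j, i ≠ d → i ≠ j → Rt A i j) : (At A).index ≤ Fintype.card F ^ 4 - 1 := by
  obtain ⟨e, he⟩ : ∃ e : I31 ≃ I4, e (Sum.inr ()) = d := by
    have e0 : I31 ≃ I4 := Fintype.equivOfCardEq (by simp)
    exact ⟨e0.trans (Equiv.swap (e0 (Sum.inr ())) d), by simp⟩
  have hne : ∀ i : Fin 3, e (Sum.inl i) ≠ d := by
    intro i h
    rw [← he] at h
    exact Sum.inl_ne_inr (e.injective h)
  have hne2 : ∀ i j : Fin 3, i ≠ j → e (Sum.inl i) ≠ e (Sum.inl j) := fun i j hij h =>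
    hij (Sum.inl_injective (e.injective h))
  have htv : ∀ i a, slR e (U3 (Pi.single i a)) ∈ At A := by
    intro i a
    rw [U3_tv, slR_tv]
    exact hR _ _ (hne i) (fun h => Sum.inl_ne_inr (e.injective h)) _ a
  refine idx_aux e U3 ?_ (fun i j hij => hR _ _ (hne i) (hne2 i j hij)) ?_
  · intro v w g h hvw
    have h1 := congrArg Subtype.val hvw
    have h2 : fromBlocks 1 (Matrix.of fun i _ => v i) 0 1 * fromBlocks g.val 0 0 1 =
      fromBlocks 1 (Matrix.of fun i _ => w i) 0 1 * fromBlocks h.val 0 0 (1 : Matrix Unit Unit F) := h1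
    rw [fromBlocks_multiply, fromBlocks_multiply, fromBlocks_inj] at h2
    simp only [Matrix.mul_zero, Matrix.mul_one, Matrix.one_mul, Matrix.zero_mul, add_zero, zero_add] at h2
    obtain ⟨h3, h4, -, -⟩ := h2
    exact ⟨funext fun i => congrFun (congrFun h4 i) (), Subtype.ext h3⟩
  · intro v
    rw [dec3 v, U3_add, U3_add, map_mul, map_mul]
    exact mul_mem (mul_mem (htv _ _) (htv _ _)) (htv _ _)

theorem idx_cols {d : I4} (hR : ∀ i j, j ≠ d → i ≠ j → Rt A i j) : (At A).index ≤ Fintype.card F ^ 4 - 1 := by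
  obtain ⟨e, he⟩ : ∃ e : I31 ≃ I4, e (Sum.inr ()) = d := by
    have e0 : I31 ≃ I4 := Fintype.equivOfCardEq (by simp)
    exact ⟨e0.trans (Equiv.swap (e0 (Sum.inr ())) d), by simp⟩
  have hne : ∀ i : Fin 3, e (Sum.inl i) ≠ d := by
    intro i h
    rw [← he] at h
    exact Sum.inl_ne_inr (e.injective h)
  have hne2 : ∀ i j : Fin 3, i ≠ j → e (Sum.inl i) ≠ e (Sum.inl j) := fun i j hij h =>
    hij (Sum.inl_injective (e.injective h))
  have htv : ∀ i a, slR e (L3 (Pi.single i a)) ∈ At A := by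
    intro i a
    rw [L3_tv, slR_tv]
    exact hR _ _ (hne i) (fun h => Sum.inr_ne_inl (e.injective h)) _ a
  refine idx_aux e L3 ?_ (fun i j hij => hR _ _ (hne j) (hne2 i j hij)) ?_
  · intro v w g h hvw
    have h1 := congrArg Subtype.val hvw
    have h2 : fromBlocks 1 0 (Matrix.of fun _ i => v i) 1 * fromBlocks g.val 0 0 1 =
      fromBlocks 1 0 (Matrix.of fun _ i => w i) 1 * fromBlocks h.val 0 0 (1 : Matrix Unit Unit F) := h1
    rw [fromBlocks_multiply, fromBlocks_multiply, fromBlocks_inj] at h2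
    simp only [Matrix.mul_zero, Matrix.mul_one, Matrix.one_mul, Matrix.zero_mul, add_zero, zero_add] at h2
    obtain ⟨h3, -, h4, -⟩ := h2
    have h5 : g = h := Subtype.ext h3
    subst h5
    refine ⟨?_, rfl⟩
    have h6 := congrArg (· * (g⁻¹ : _root_.Matrix.SpecialLinearGroup (Fin 3) F).val) h4
    simp only [Matrix.mul_assoc, mul_inv_val, Matrix.mul_one] at h6
    exact funext fun i => congrFun (congrFun h6 ()) i
  · intro v
    rw [dec3 v, L3_add, L3_add, map_mul, map_mul]
    exact mul_mem (mul_mem (htv _ _) (htv _ _)) (htv _ _)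

end Fin

end Cfsg.Agent.H411.L4
end

-- part: H411/L4/Frame
section
/-!
# S5719, `PSL_4(q)`, `q` odd: FRAME of helper358: no frame pair `diag(-1,-1,1,1)`, `diag(1,-1,1,-1)` in `A` (helper411)
-/

set_option autoImplicit false
set_option linter.unusedSectionVars false

namespace Cfsg.Agent.H411.L4

open Matrix Cfsg.Agent.H209.Fxy Cfsg.Agent.H358.IF

variable {F : Type} [Field F]

/-- both root groups -/
def RR (A : Subgroup (P4 F)) (i j : I4) : Prop := Rt A i j ∧ Rt A j i

theorem RR.symm {A : Subgroup (P4 F)} {i j : I4} (h : RR A i j) : RR A j i := ⟨h.2, h.1⟩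

theorem RR_pm {A : Subgroup (P4 F)} (π : Equiv.Perm I4) {i j : I4} (h : RR A i j) : RR (cA (pm π) A) (π i) (π j) :=
  ⟨(Rt_pm π).2 h.1, (Rt_pm π).2 h.2⟩

theorem blk_left_tv {i j : Fin 2} (hij : i ≠ j) (a : F) : blk (SpecialLinearGroup.transvection hij a, 1) =
    (SpecialLinearGroup.transvection (fun h => hij (Sum.inl_injective h) : (Sum.inl i : I4) ≠ Sum.inl j) a : S4 F) := by
  apply Subtype.ext
  show fromBlocks (Matrix.transvection i j a) 0 0 1 = Matrix.transvection (Sum.inl i) (Sum.inl j) a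
  ext x y
  rcases x with x | x <;> rcases y with y | y <;>
    simp [Matrix.transvection, Matrix.one_apply, Matrix.single_apply]

theorem blk_right_tv {i j : Fin 2} (hij : i ≠ j) (a : F) : blk (1, SpecialLinearGroup.transvection hij a) =
    (SpecialLinearGroup.transvection (fun h => hij (Sum.inr_injective h) : (Sum.inr i : I4) ≠ Sum.inr j) a : S4 F) := by
  apply Subtype.ext
  show fromBlocks 1 0 0 (Matrix.transvection i j a) = Matrix.transvection (Sum.inr i) (Sum.inr j) a
  ext x y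
  rcases x with x | x <;> rcases y with y | y <;>
    simp [Matrix.transvection, Matrix.one_apply, Matrix.single_apply]

theorem RR_left {A : Subgroup (P4 F)} (h : ∀ a : S2 F, blk (a, 1) ∈ At A) {i j : Fin 2} (hij : i ≠ j) :
    RR A (Sum.inl i) (Sum.inl j) := by
  constructor
  · intro _ a
    have := h (SpecialLinearGroup.transvection hij a)
    rwa [blk_left_tv] at this
  · intro _ a
    have := h (SpecialLinearGroup.transvection hij.symm a)
    rwa [blk_left_tv] at this

theorem RR_right {A : Subgroup (P4 F)} (h : ∀ a : S2 F, blk (1, a) ∈ At A) {i j : Fin 2} (hij : i ≠ j) :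
    RR A (Sum.inr i) (Sum.inr j) := by
  constructor
  · intro _ a
    have := h (SpecialLinearGroup.transvection hij a)
    rwa [blk_right_tv] at this
  · intro _ a
    have := h (SpecialLinearGroup.transvection hij.symm a)
    rwa [blk_right_tv] at this

/-! ### conjugation of root elements by `diag(1, b)` -/

/-- the matrix unit commutations -/
theorem conj_right (b : S2 F) (i : Fin 2) (M : M2 F) :
    blk (1, b) * up (Multiplicative.ofAdd M) * (blk (1, b))⁻¹ =
      up (Multiplicative.ofAdd (M * (b⁻¹ : S2 F).val)) := by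
  rw [← map_inv, Prod.inv_mk, inv_one]
  apply Subtype.ext
  show (blk (1, b)).val * (up (Multiplicative.ofAdd M)).val * (blk (1, b⁻¹)).val = _
  rw [blk_val, blk_val, up_val, up_val, fromBlocks_multiply, fromBlocks_multiply]
  simp only [show (1 : S2 F).val = 1 from rfl, Matrix.mul_zero, Matrix.zero_mul, Matrix.mul_one, Matrix.one_mul,
    add_zero, zero_add, mul_inv_val]

theorem conj_lo (b : S2 F) (M : M2 F) :
    blk (1, b) * lo (Multiplicative.ofAdd M) * (blk (1, b))⁻¹ = lo (Multiplicative.ofAdd (b.val * M)) := by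
  rw [← map_inv, Prod.inv_mk, inv_one]
  apply Subtype.ext
  show (blk (1, b)).val * (lo (Multiplicative.ofAdd M)).val * (blk (1, b⁻¹)).val = _
  rw [blk_val, blk_val, lo_val, lo_val, fromBlocks_multiply, fromBlocks_multiply]
  simp only [show (1 : S2 F).val = 1 from rfl, Matrix.mul_zero, Matrix.zero_mul, Matrix.mul_one, Matrix.one_mul,
    add_zero, zero_add, mul_inv_val]

theorem up_tv (i j : Fin 2) (a : F) : up (Multiplicative.ofAdd (Matrix.single i j a)) =
    (SpecialLinearGroup.transvection (fun h => Sum.inl_ne_inr h : (Sum.inl i : I4) ≠ Sum.inr j) a : S4 F) := by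
  apply Subtype.ext
  rw [up_val]
  show fromBlocks 1 (Matrix.single i j a) 0 1 = Matrix.transvection (Sum.inl i) (Sum.inr j) a
  ext x y
  rcases x with x | x <;> rcases y with y | y <;>
    simp [Matrix.transvection, Matrix.one_apply, Matrix.single_apply]

theorem lo_tv (i j : Fin 2) (a : F) : lo (Multiplicative.ofAdd (Matrix.single i j a)) =
    (SpecialLinearGroup.transvection (fun h => Sum.inr_ne_inl h : (Sum.inr i : I4) ≠ Sum.inl j) a : S4 F) := by
  apply Subtype.ext
  rw [lo_val]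
  show fromBlocks 1 0 (Matrix.single i j a) 1 = Matrix.transvection (Sum.inr i) (Sum.inl j) a
  ext x y
  rcases x with x | x <;> rcases y with y | y <;>
    simp [Matrix.transvection, Matrix.one_apply, Matrix.single_apply]

section Fin

variable [Fintype F] {A : Subgroup (P4 F)}

/-- the number of diagonal elements -/
theorem card_diag_le {H : Subgroup (S2 F)} (h : ∀ b ∈ H, b.val 0 1 = 0 ∧ b.val 1 0 = 0) :
    Nat.card H ≤ Fintype.card F - 1 := by
  classical
  have h1 : ∀ b ∈ H, b.val 0 0 * b.val 1 1 = 1 := by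
    intro b hb
    have h2 := b.2
    rw [det_fin_two, (h b hb).1, zero_mul, sub_zero] at h2
    exact h2
  have h2 : Function.Injective (fun b : H => (Units.mk0 (b.1.val 0 0) (left_ne_zero_of_mul_eq_one (h1 b.1 b.2)) : Fˣ)) := by
    intro b c hbc
    have h3 : b.1.val 0 0 = c.1.val 0 0 := congrArg Units.val hbc
    apply Subtype.ext
    apply Subtype.ext
    have h4 : b.1.val 1 1 = c.1.val 1 1 := by
      have h5 := h1 b.1 b.2
      have h6 := h1 c.1 c.2
      rw [h3] at h5
      exact mul_left_cancel₀ (left_ne_zero_of_mul_eq_one h6) (h5.trans h6.symm)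
    ext i j
    fin_cases i <;> fin_cases j
    · exact h3
    · exact (h b.1 b.2).1.trans (h c.1 c.2).1.symm
    · exact (h b.1 b.2).2.trans (h c.1 c.2).2.symm
    · exact h4
  have h3 := Nat.card_le_card_of_injective _ h2
  rwa [Nat.card_eq_fintype_card (α := Fˣ), Fintype.card_units] at h3

theorem core (h2 : (2 : F) ≠ 0) (h : IFA A) (ht : t0 ∈ At A) (h01 : RR A (Sum.inl 0) (Sum.inl 1))
    (h02 : RR A (Sum.inl 0) (Sum.inr 0)) : False := by
  classical
  obtain ⟨h3, h4⟩ := idx_t0 h2 h ht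
  have hodd := (ClassicalGeometry.PSL2Basic.two_ne_zero_iff_odd (F := F)).1 h2
  let H : Subgroup (S2 F) := (Dt A).comap (MonoidHom.inr (S2 F) (S2 F))
  have hH : ∀ b, b ∈ H ↔ blk (1, b) ∈ At A := fun b => Iff.rfl
  have hle : H.index ≤ (Dt A).index := by
    rw [Subgroup.index_comap, ← Subgroup.relIndex_top_right (Dt A)]
    exact Subgroup.relIndex_le_of_le_right le_top Subgroup.index_ne_zero_of_finite
  have h12 : RR A (Sum.inl 1) (Sum.inr 0) :=
    ⟨h01.2.trans h02.1 (by simp) (by simp), h02.2.trans h01.1 (by simp) (by simp)⟩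
  have h3' : ∀ i j : I4, i ≠ Sum.inr 1 → j ≠ Sum.inr 1 → i ≠ j → Rt A i j := by
    intro i j hi hj hij
    rcases i with i | i <;> rcases j with j | j <;> fin_cases i <;> fin_cases j
    · exact absurd rfl hij
    · exact h01.1
    · exact h01.2
    · exact absurd rfl hij
    · exact h02.1
    · exact absurd rfl hj
    · exact h12.1
    · exact absurd rfl hj
    · exact h02.2
    · exact h12.2
    · exact absurd rfl hi
    · exact absurd rfl hi
    · exact absurd rfl hij
    · exact absurd rfl hj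
    · exact absurd rfl hi
    · exact absurd rfl hi
  by_cases hHt : H = ⊤
  · -- everything
    have h5 : RR A (Sum.inr 0) (Sum.inr 1) := RR_right (fun a => (hH a).1 (by rw [hHt]; trivial)) (by decide)
    have : Nontrivial I4 := ⟨⟨Sum.inl 0, Sum.inr 0, by simp⟩⟩
    apply h.not_all
    have h6 : ∀ i : I4, i ≠ Sum.inr 1 → Rt A i (Sum.inr 1) := by
      intro i hi
      by_cases hi0 : i = Sum.inr 0
      · rw [hi0]; exact h5.1
      · exact (h3' i (Sum.inr 0) hi (by simp) hi0).trans h5.1 hi0 (by simp)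
    have h7 : ∀ i : I4, i ≠ Sum.inr 1 → Rt A (Sum.inr 1) i := by
      intro i hi
      by_cases hi0 : i = Sum.inr 0
      · rw [hi0]; exact h5.2
      · exact h5.2.trans (h3' (Sum.inr 0) i (by simp) hi (fun e => hi0 e.symm)) (by simp) (fun e => hi0 e.symm)
    intro i j hij
    by_cases hi : i = Sum.inr 1
    · subst hi
      exact h7 j (fun e => hij e.symm)
    · by_cases hj : j = Sum.inr 1
      · subst hj
        exact h6 i hi
      · exact h3' i j hi hj hij
  -- a non-diagonal element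
  have hq : 3 ≤ Fintype.card F := by
    have : 2 ≤ Fintype.card F := Fintype.one_lt_card
    obtain ⟨k, hk⟩ := hodd
    omega
  have hex : ∃ b ∈ H, b.val 0 1 ≠ 0 ∨ b.val 1 0 ≠ 0 := by
    by_contra hcon
    push Not at hcon
    have h5 := card_diag_le hcon
    have h6 := H.card_mul_index
    rw [card_S2] at h6
    set q := Fintype.card F
    set f := (Dt A).index
    have h7 : q * (q ^ 2 - 1) ≤ (q - 1) * f := by
      rw [← h6]
      exact Nat.mul_le_mul h5 hle
    have h8 : q ^ 2 - 1 = (q - 1) * (q + 1) := by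
      have := Nat.sq_sub_sq q 1
      rw [one_pow] at this
      rw [this]; ring
    have h9 : q * (q + 1) ≤ f := by
      refine Nat.le_of_mul_le_mul_left ?_ (show 0 < q - 1 by omega)
      calc (q - 1) * (q * (q + 1)) = q * (q ^ 2 - 1) := by rw [h8]; ring
        _ ≤ _ := h7
    have h10 := Nat.pow_le_pow_left h9 5
    have h11 : q ^ 4 * (q ^ 2 + q + 1) * (q ^ 2 + 1) ≤ (q * (q + 1)) ^ 5 := by
      have h12 : q ^ 2 + q + 1 ≤ (q + 1) ^ 2 := by linarith only []
      have h13 : q ^ 2 + 1 ≤ (q + 1) ^ 2 := by linarith only [hq]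
      calc q ^ 4 * (q ^ 2 + q + 1) * (q ^ 2 + 1) ≤ q ^ 5 * (q + 1) ^ 2 * (q + 1) ^ 3 :=
            Nat.mul_le_mul (Nat.mul_le_mul (Nat.pow_le_pow_right (by omega) (by norm_num)) h12)
              (h13.trans (Nat.pow_le_pow_right (by omega) (by norm_num)))
        _ = _ := by ring
    omega
  have hn : (At A).index ≤ Fintype.card F ^ 4 - 1 := by
    obtain ⟨b, hb, hb' | hb'⟩ := hex
    · -- the column of `inr 1`
      have h5 : up (Multiplicative.ofAdd (Matrix.single 0 0 1)) ∈ At A := by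
        rw [up_tv]
        exact h02.1 _ _
      have h6 : blk (1, b) * up (Multiplicative.ofAdd (Matrix.single 0 0 1)) * (blk (1, b))⁻¹ ∈ At A :=
        mul_mem (mul_mem hb h5) (inv_mem hb)
      rw [conj_right b 0] at h6
      have h7 : (Matrix.single 0 0 1 : M2 F) * (b⁻¹ : S2 F).val =
          Matrix.single 0 0 (b.val 1 1) + Matrix.single 0 1 (-b.val 0 1) := by
        have h8 : (b⁻¹ : S2 F).val = !![b.val 1 1, -b.val 0 1; -b.val 1 0, b.val 0 0] := by
          show adjugate b.val = _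
          rw [adjugate_fin_two]
        rw [h8]
        ext i j
        (revert i j; simp only [Matrix.mul_apply, Fin.sum_univ_two, Matrix.single_apply, _root_.Fin.forall_fin_succ, Fin.isValue, _root_.Matrix.of_apply, _root_.Matrix.cons_val', _root_.Matrix.cons_val_fin_one, _root_.ite_mul, _root_.one_mul, _root_.MulZeroClass.zero_mul, _root_.and_true, _root_.Matrix.cons_val_zero, _root_.zero_ne_one, _root_.and_false, ↓reduceIte, _root_.add_zero, _root_.Matrix.add_apply, _root_.one_ne_zero, _root_.Matrix.cons_val_succ, _root_.Fin.succ_zero_eq_one, _root_.zero_add, _root_.IsEmpty.forall_iff, _root_.and_self, _root_.implies_true])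
      rw [h7, ofAdd_add, map_mul, up_tv, up_tv] at h6
      have h9 := mul_mem (inv_mem (h02.1 (by simp) (b.val 1 1))) h6
      rw [inv_mul_cancel_left] at h9
      have h10 : ∀ i : I4, i ≠ Sum.inr 1 → i ≠ Sum.inl 0 → Rt A i (Sum.inr 1) := fun i hi hi0 =>
        (h3' i (Sum.inl 0) hi (by simp) hi0).left hi0 (by simp) (neg_ne_zero.2 hb') h9
      have h11 : ∀ i : I4, i ≠ Sum.inr 1 → Rt A i (Sum.inr 1) := by
        intro i hi
        by_cases hi0 : i = Sum.inl 0
        · rw [hi0]
          exact h01.1.trans (h10 (Sum.inl 1) (by simp) (by simp)) (by simp) (by simp)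
        · exact h10 i hi hi0
      refine idx_rows (d := Sum.inr 1) fun i j hi hij => ?_
      by_cases hj : j = Sum.inr 1
      · rw [hj]; exact h11 i hi
      · exact h3' i j hi hj hij
    · -- the row of `inr 1`
      have h5 : lo (Multiplicative.ofAdd (Matrix.single 0 0 1)) ∈ At A := by
        rw [lo_tv]
        exact h02.2 _ _
      have h6 : blk (1, b) * lo (Multiplicative.ofAdd (Matrix.single 0 0 1)) * (blk (1, b))⁻¹ ∈ At A :=
        mul_mem (mul_mem hb h5) (inv_mem hb)
      rw [conj_lo b] at h6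
      have h7 : b.val * (Matrix.single 0 0 1 : M2 F) =
          Matrix.single 0 0 (b.val 0 0) + Matrix.single 1 0 (b.val 1 0) := by
        ext i j
        (revert i j; simp only [Matrix.mul_apply, Fin.sum_univ_two, Matrix.single_apply, _root_.Fin.forall_fin_succ, Fin.isValue, _root_.mul_ite, _root_.mul_one, _root_.MulZeroClass.mul_zero, _root_.true_and, _root_.zero_ne_one, _root_.false_and, ↓reduceIte, _root_.add_zero, _root_.Matrix.add_apply, _root_.and_true, _root_.Fin.succ_zero_eq_one, _root_.and_false, _root_.IsEmpty.forall_iff, _root_.and_self, _root_.one_ne_zero, _root_.zero_add])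
      rw [h7, ofAdd_add, map_mul, lo_tv, lo_tv] at h6
      have h9 := mul_mem (inv_mem (h02.2 (by simp) (b.val 0 0))) h6
      rw [inv_mul_cancel_left] at h9
      have h10 : ∀ i : I4, i ≠ Sum.inr 1 → i ≠ Sum.inl 0 → Rt A (Sum.inr 1) i := fun i hi hi0 =>
        (h3' (Sum.inl 0) i (by simp) hi (fun e => hi0 e.symm)).right (by simp) (fun e => hi0 e.symm) hb' h9
      have h11 : ∀ i : I4, i ≠ Sum.inr 1 → Rt A (Sum.inr 1) i := by
        intro i hi
        by_cases hi0 : i = Sum.inl 0
        · rw [hi0]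
          exact (h10 (Sum.inl 1) (by simp) (by simp)).trans h01.2 (by simp) (by simp)
        · exact h10 i hi hi0
      refine idx_cols (d := Sum.inr 1) fun i j hj hij => ?_
      by_cases hi : i = Sum.inr 1
      · rw [hi]; exact h11 j hj
      · exact h3' i j hi hj hij
  have hbig := h.big
  by_cases h5 : 5 ≤ Fintype.card F
  · have h6 := (mi_odd hodd (by omega) H hHt).2
    have h7 := Nat.pow_le_pow_left hle 6
    omega
  · have h6 : Fintype.card F = 3 := by
      obtain ⟨k, hk⟩ := hodd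
      omega
    rw [h6] at hn
    omega

theorem frame_false (h2 : (2 : F) ≠ 0) {A : Subgroup (P4 F)} (h : IFA A)
    (hJ : ∀ A' : Subgroup (P4 F), IFA A' → ¬ IsSquare (-1 : F) → tJ ∉ At A') (ht : t0 ∈ At A)
    (hs : ∀ hd, dg !![1, 0; 0, -1] !![1, 0; 0, -1] hd ∈ At A) : False := by
  classical
  have h1 := L1 h2 h ht (hJ A h)
  -- the permutation exchanging `inl 1` and `inr 0`
  let σ : Equiv.Perm I4 := Equiv.swap (Sum.inl 1) (Sum.inr 0)
  have hd : (!![1, 0; 0, -1] : M2 F).det * (!![1, 0; 0, -1] : M2 F).det = 1 := by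
    rw [det_fin_two_of]; ring
  have h3 : t0 ∈ At (cA (pm σ) A) := by
    have h4 : cS (pm σ) (dg !![1, 0; 0, -1] !![1, 0; 0, -1] hd) ∈ At (cA (pm σ) A) := mem_cA.2 (hs hd)
    refine mem_At_of_smul (c := -1) ?_ h4
    rw [cS_pm_val, dg_val, t0_val]
    ext i j
    rw [Matrix.smul_apply, submatrix_apply]
    rcases i with i | i <;> rcases j with j | j <;> (revert i j; simp only [σ, Equiv.swap_apply_def, fromBlocks, _root_.Fin.forall_fin_succ, _root_.Matrix.of_apply, _root_.Sum.elim_inl, _root_.Matrix.neg_apply, Fin.isValue, _root_.Equiv.symm_swap, _root_.Sum.inl.injEq, reduceCtorEq, ↓reduceIte, _root_.smul_eq_mul, _root_.neg_mul, _root_.one_mul, _root_.neg_inj, _root_.zero_ne_one, _root_.Fin.succ_zero_eq_one, _root_.IsEmpty.forall_iff, _root_.and_true, _root_.Matrix.one_apply_eq, _root_.Matrix.cons_val', _root_.Matrix.cons_val_zero, _root_.Matrix.cons_val_fin_one, Nat.reduceAdd, _root_.ne_eq, _root_.not_false_eq_true, _root_.Matrix.one_apply_ne, _root_.Sum.elim_inr,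 _root_.Matrix.zero_apply, _root_.and_self, _root_.Fin.succ_ne_zero, _root_.Sum.inr.injEq, _root_.zero_eq_neg, _root_.Matrix.cons_val_one, _root_.Matrix.cons_val_succ, _root_.implies_true, _root_.neg_neg, _root_.neg_zero, _root_.true_and])
  have h5 := L1 h2 (h.conj (pm σ)) h3 (hJ _ (h.conj (pm σ)))
  have hu : RR A (Sum.inl 0) (Sum.inl 1) ∨ RR A (Sum.inr 0) (Sum.inr 1) :=
    h1.imp (fun h => RR_left h (by decide)) (fun h => RR_right h (by decide))
  have hv : RR A (Sum.inl 0) (Sum.inr 0) ∨ RR A (Sum.inl 1) (Sum.inr 1) := by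
    rcases h5 with h6 | h6
    · left
      have h7 := RR_left h6 (i := 0) (j := 1) (by decide)
      have e1 : σ (Sum.inl 0) = Sum.inl 0 := by decide
      have e2 : σ (Sum.inr 0) = Sum.inl 1 := by decide
      exact ⟨(Rt_pm σ).1 (by rw [e1, e2]; exact h7.1), (Rt_pm σ).1 (by rw [e1, e2]; exact h7.2)⟩
    · right
      have h7 := RR_right h6 (i := 0) (j := 1) (by decide)
      have e1 : σ (Sum.inl 1) = Sum.inr 0 := by decide
      have e2 : σ (Sum.inr 1) = Sum.inr 1 := by decide
      exact ⟨(Rt_pm σ).1 (by rw [e1, e2]; exact h7.1), (Rt_pm σ).1 (by rw [e1, e2]; exact h7.2)⟩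
  -- the permutations exchanging the blocks, and exchanging inside of the blocks
  let α : Equiv.Perm I4 := Equiv.sumComm (Fin 2) (Fin 2)
  let β : Equiv.Perm I4 := Equiv.sumCongr (Equiv.swap 0 1) (Equiv.swap 0 1)
  have hα : ∀ A : Subgroup (P4 F), t0 ∈ At A → t0 ∈ At (cA (pm α) A) := by
    intro A hA
    have h4 : cS (pm α) t0 ∈ At (cA (pm α) A) := mem_cA.2 hA
    refine mem_At_of_smul (c := -1) ?_ h4
    rw [cS_pm_val, t0_val]
    ext i j
    rw [Matrix.smul_apply, submatrix_apply]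
    rcases i with i | i <;> rcases j with j | j <;> simp [α]
  have hβ : ∀ A : Subgroup (P4 F), t0 ∈ At A → t0 ∈ At (cA (pm β) A) := by
    intro A hA
    have h4 : cS (pm β) t0 ∈ At (cA (pm β) A) := mem_cA.2 hA
    refine mem_At_of_smul (c := 1) ?_ h4
    rw [cS_pm_val, t0_val]
    ext i j
    rw [Matrix.smul_apply, submatrix_apply]
    rcases i with i | i <;> rcases j with j | j <;> fin_cases i <;> fin_cases j <;> simp [β]
  rcases hu with hu | hu <;> rcases hv with hv | hv
  · exact core h2 h ht hu hv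
  · exact core h2 (h.conj (pm β)) (hβ A ht) (RR_pm β hu).symm (RR_pm β hv)
  · exact core h2 (h.conj (pm α)) (hα A ht) (RR_pm α hu) (RR_pm α hv).symm
  · exact core h2 ((h.conj (pm α)).conj (pm β)) (hβ _ (hα A ht)) (RR_pm β (RR_pm α hu)).symm
      (RR_pm β (RR_pm α hv)).symm

end Fin

end Cfsg.Agent.H411.L4
end

-- part: H411/L4/Dick
section
/-!
# S5719, `PSL_4(q)`, `q` odd, piece (Dickson) of helper358 (helper411)

`exists_unip` : a subgroup of `SL₂(q)`, `q` odd, of order `> q + 1` without elements `y` with `y² = -1` contains a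
transvection.
-/

set_option autoImplicit false

namespace Cfsg.Agent.H411.L4

open Matrix Subgroup
open Cfsg.Agent.ClassicalGeometry
open Cfsg.Agent.H17.IFSp (sl2_invol)

variable {F : Type*} [Field F]

/-- elements of order `p` -/
theorem unip_of_pow {p : ℕ} [Fact p.Prime] [CharP F p] {t : Matrix (Fin 2) (Fin 2) F} (ht : t ^ p = 1) :
    (t - 1) * (t - 1) = 0 := by
  have hnil : IsNilpotent (t - 1) :=
    ⟨p, by rw [sub_pow_char_of_commute p (Commute.one_right t), ht, one_pow, sub_self]⟩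
  have h1 : (t - 1).trace = 0 := (Matrix.isNilpotent_trace_of_isNilpotent hnil).eq_zero
  have h2 : (t - 1).det = 0 := by
    obtain ⟨k, hk⟩ := hnil
    have h3 := congrArg Matrix.det hk
    rw [Matrix.det_pow, Matrix.det_zero] at h3
    exact eq_zero_of_pow_eq_zero h3
  set N := t - 1 with hN
  rw [trace_fin_two] at h1
  rw [det_fin_two] at h2
  ext i j
  rw [Matrix.mul_apply, Fin.sum_univ_two]
  fin_cases i <;> fin_cases j
  · show N 0 0 * N 0 0 + N 0 1 * N 1 0 = 0
    linear_combination N 0 0 * h1 - h2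
  · show N 0 0 * N 0 1 + N 0 1 * N 1 1 = 0
    linear_combination N 0 1 * h1
  · show N 1 0 * N 0 0 + N 1 1 * N 1 0 = 0
    linear_combination N 1 0 * h1
  · show N 1 0 * N 0 1 + N 1 1 * N 1 1 = 0
    linear_combination N 1 1 * h1 - h2

/-- **P4 (Dickson)** in the form of helper358 -/
theorem exists_unip [Fintype F] (h2 : (2 : F) ≠ 0) (H : Subgroup (_root_.Matrix.SpecialLinearGroup (Fin 2) F))
    (hno : ∀ y ∈ H, (y : Matrix (Fin 2) (Fin 2) F) * y ≠ -1) (hc : Fintype.card F + 1 < Nat.card H) :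
    ∃ b ∈ H, b ≠ 1 ∧ ((b : Matrix (Fin 2) (Fin 2) F) - 1) * ((b : Matrix (Fin 2) (Fin 2) F) - 1) = 0 := by
  classical
  obtain ⟨p, hp⟩ := CharP.exists F
  have hpF : Fact p.Prime := ⟨CharP.char_is_prime F p⟩
  let π : _root_.Matrix.SpecialLinearGroup (Fin 2) F →* ProjectiveSpecialLinearGroup (Fin 2) F :=
    QuotientGroup.mk' (Subgroup.center (_root_.Matrix.SpecialLinearGroup (Fin 2) F))
  have hodd : Odd (Fintype.card F) := by
    rcases Nat.even_or_odd (Fintype.card F) with h | h
    · exfalso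
      apply h2
      have h3 : ringChar F = 2 := FiniteField.even_card_iff_char_two.2 (Nat.even_iff.1 h)
      have h4 := ringChar.Nat.cast_ringChar (R := F)
      rw [h3] at h4
      exact_mod_cast h4
    · exact h
  set q := Fintype.card F with hq
  have hq1 : 1 < q := Fintype.one_lt_card
  have hq3 : 3 ≤ q := by
    rcases hodd with ⟨r, hr⟩
    omega
  have hcen : ∀ z : _root_.Matrix.SpecialLinearGroup (Fin 2) F, π z = 1 → z = 1 ∨ z = -1 := by
    intro z hz
    exact PSL2Basic.mem_center_SL2_iff.1 ((QuotientGroup.eq_one_iff z).1 hz)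
  have hm1 : π (-1) = 1 := (QuotientGroup.eq_one_iff _).2 (PSL2Basic.mem_center_SL2_iff.2 (Or.inr rfl))
  -- the image has odd order
  have hN2 : ¬ 2 ∣ Nat.card (H.map π) := by
    intro h
    have : Fact (Nat.Prime 2) := ⟨Nat.prime_two⟩
    obtain ⟨t, ht⟩ := exists_prime_orderOf_dvd_card' (G := H.map π) 2 h
    obtain ⟨y, hy, hyt⟩ := t.2
    have h3 : t.1 * t.1 = 1 := by
      have h4 := pow_orderOf_eq_one t
      rw [ht, pow_two] at h4
      exact congrArg Subtype.val h4
    have ht1 : t.1 ≠ 1 := by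
      intro h4
      have h5 : t = 1 := Subtype.ext h4
      rw [h5, orderOf_one] at ht
      exact absurd ht (by norm_num)
    rw [← hyt, ← map_mul] at h3
    rcases hcen _ h3 with h4 | h4
    · by_cases h5 : y = 1
      · rw [h5, map_one] at hyt
        exact ht1 hyt.symm
      · have h6 := sl2_invol h2 h4 h5
        rw [h6, hm1] at hyt
        exact ht1 hyt.symm
    · exact hno y hy (congrArg Subtype.val h4)
  -- the order of the image
  have hcard : Nat.card H ≤ 2 * Nat.card (H.map π) := by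
    let f := π.subgroupMap H
    have hf : Function.Surjective f := π.subgroupMap_surjective H
    have h3 := f.ker.card_mul_index
    rw [Subgroup.index_ker, MonoidHom.range_eq_top.2 hf, Subgroup.card_top] at h3
    rw [← h3]
    apply Nat.mul_le_mul_right
    refine le_trans ?_ (show Nat.card Bool ≤ 2 by rw [Nat.card_eq_fintype_card, Fintype.card_bool])
    refine Nat.card_le_card_of_injective (fun g : f.ker => decide (g.1.1 = 1)) ?_
    intro g g' hgg
    have hgg' : decide (g.1.1 = 1) = decide (g'.1.1 = 1) := hgg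
    have h4 : g.1.1 = 1 ↔ g'.1.1 = 1 := by simpa using hgg'
    have h5 : ∀ g : f.ker, g.1.1 = 1 ∨ g.1.1 = -1 := by
      intro g
      apply hcen
      have h6 : f g.1 = 1 := g.2
      exact congrArg Subtype.val h6
    apply Subtype.ext
    apply Subtype.ext
    by_cases h6 : g.1.1 = 1
    · rw [h6, h4.1 h6]
    · rw [(h5 g).resolve_left h6, (h5 g').resolve_left fun h7 => h6 (h4.2 h7)]
  set N := Nat.card (H.map π) with hN
  have hNpos : 0 < N := Nat.card_pos
  have hg : Nat.gcd 2 (q - 1) = 2 := by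
    apply Nat.gcd_eq_left
    rcases hodd with ⟨r, hr⟩
    exact ⟨r, by omega⟩
  -- the order is divisible by `p`
  have key : p ∣ N := by
    rcases S0799.result (F := F) hq.symm p (H.map π) with ⟨k, hk, h⟩ | ⟨P, L, hL, ⟨f⟩⟩ | ⟨⟨f⟩⟩ | ⟨⟨f⟩⟩ | ⟨⟨f⟩⟩ |
      ⟨E, iE, iE', m, hm, h⟩
    · exfalso
      rw [hg] at hk
      have hk' : k ≤ (q + 1) / 2 := by
        rcases hk with hk | hk
        · exact Nat.le_of_dvd (by omega) hk
        · have := Nat.le_of_dvd (by omega) hk
          omega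
      rcases h with ⟨-, h⟩ | ⟨⟨f⟩⟩
      · rw [← hN] at h
        omega
      · have h3 : N = 2 * k := by rw [hN, Nat.card_congr f.toEquiv, DihedralGroup.nat_card]
        exact hN2 ⟨k, h3⟩
    · by_contra hpN
      have hi := H436.TT.index_normalizer p P
      set NP := Subgroup.normalizer ((P : Subgroup (Matrix.ProjectiveSpecialLinearGroup (Fin 2) F)) :
        Set (Matrix.ProjectiveSpecialLinearGroup (Fin 2) F)) with hNP
      have hb : Nat.card NP * 2 = q * (q - 1) := by
        have h2 : Nat.card NP * (q + 1) * Nat.gcd 2 (q - 1) = q * (q ^ 2 - 1) := by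
          rw [← hi, Subgroup.card_mul_index]
          exact PSL2Basic.card_PSL2_gcd _
        have h3 : q ^ 2 - 1 = (q - 1) * (q + 1) := by
          have := Nat.sq_sub_sq q 1
          rw [one_pow] at this
          rw [this]; ring
        rw [h3, hg] at h2
        refine Nat.eq_of_mul_eq_mul_right (show 0 < q + 1 by omega) ?_
        calc _ = Nat.card NP * (q + 1) * 2 := by ring
          _ = _ := by rw [h2]; ring
      have hNL : N ∣ Nat.card NP := by
        rw [hN, Nat.card_congr f.toEquiv]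
        exact Subgroup.card_dvd_of_le hL
      have h3 : N ∣ q * (q - 1) := by
        rw [← hb]
        exact Dvd.dvd.mul_right hNL 2
      have hcop : Nat.Coprime N q := by
        obtain ⟨n, -, hn⟩ := FiniteField.card F p
        rw [hq, hn]
        exact Nat.Coprime.pow_right _ ((Nat.Prime.coprime_iff_not_dvd hpF.out).2 hpN).symm
      have h4 : N ∣ q - 1 := hcop.dvd_of_dvd_mul_left h3
      have h5 : 2 * N ∣ q - 1 := by
        refine Nat.Coprime.mul_dvd_of_dvd_of_dvd ?_ ?_ h4
        · exact (Nat.Prime.coprime_iff_not_dvd Nat.prime_two).2 hN2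
        · rcases hodd with ⟨r, hr⟩
          exact ⟨r, by omega⟩
      have h6 := Nat.le_of_dvd (by omega) h5
      omega
    · exact absurd ⟨6, by rw [hN, Nat.card_congr f.toEquiv, H605.PSLTwoIndex.card_alt4]⟩ hN2
    · exact absurd ⟨12, by rw [hN, Nat.card_congr f.toEquiv, H605.PSLTwoIndex.card_perm4]⟩ hN2
    · exact absurd ⟨30, by rw [hN, Nat.card_congr f.toEquiv, H605.PSLTwoIndex.card_alt5]⟩ hN2
    · exfalso
      have hs : 2 ≤ Fintype.card E := Fintype.one_lt_card
      have hm0 : m ≠ 0 := by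
        rintro rfl
        rw [pow_zero] at hm
        omega
      have hE : Odd (Fintype.card E) := by
        rcases Nat.even_or_odd (Fintype.card E) with h3 | h3
        · exfalso
          have h4 := h3.pow_of_ne_zero hm0
          rw [hm] at h4
          exact (Nat.not_even_iff_odd.2 hodd) h4
        · exact h3
      obtain ⟨r, hr⟩ := hE
      have hsq : Fintype.card E ^ 2 - 1 = 4 * (r * (r + 1)) := by
        rw [hr]
        have : (2 * r + 1) ^ 2 = 4 * (r * (r + 1)) + 1 := by ring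
        omega
      rcases h with ⟨⟨f⟩⟩ | ⟨⟨f⟩⟩
      · have h3 : N * Nat.gcd 2 (Fintype.card E - 1) = Fintype.card E * (Fintype.card E ^ 2 - 1) := by
          rw [hN, Nat.card_congr f.toEquiv]
          exact PSL2Basic.card_PSL2_gcd _
        rw [show Nat.gcd 2 (Fintype.card E - 1) = 2 by
          apply Nat.gcd_eq_left
          exact ⟨r, by omega⟩, hsq] at h3
        refine hN2 ⟨Fintype.card E * (r * (r + 1)), ?_⟩
        linarith only [h3]
      · have h3 : N = Fintype.card E * (Fintype.card E ^ 2 - 1) := by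
          rw [hN, Nat.card_congr f.toEquiv, H418.PglNse.card_pgl]
        rw [hsq] at h3
        exact hN2 ⟨Fintype.card E * (2 * (r * (r + 1))), by rw [h3]; ring⟩
  have hpH : p ∣ Nat.card H := key.trans (Subgroup.card_map_dvd H π)
  obtain ⟨b, hb⟩ := exists_prime_orderOf_dvd_card' (G := H) p hpH
  refine ⟨b.1, b.2, ?_, ?_⟩
  · intro h
    have h3 : b = 1 := Subtype.ext h
    rw [h3, orderOf_one] at hb
    exact hpF.out.one_lt.ne hb
  · apply unip_of_pow (p := p)
    have h3 : b.1 ^ p = 1 := by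
      have h4 := pow_orderOf_eq_one b
      rw [hb] at h4
      exact congrArg Subtype.val h4
    have h4 := congrArg Subtype.val h3
    exact h4

end Cfsg.Agent.H411.L4
end

-- part: H833/IF/T3
section
/-!
# S5719, cell `PSL four`, `q` odd, piece T3 (helper833): an involution of type `diag(1,1,1,-1)` in `A` gives one of type
`diag(-1,-1,1,1)`
-/

set_option autoImplicit false
set_option linter.unusedSectionVars false

namespace Cfsg.Agent.H833.IF

open Matrix Cfsg.Agent.H209.Fxy Cfsg.Agent.H358.IF Module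

variable {F : Type} [Field F]

/-- the matrix `diag(1,1,1,-1)` -/
def D3 : Matrix I4 I4 F := fromBlocks 1 0 0 !![1, 0; 0, -1]

theorem dot4 (r v : I4 → F) : r ⬝ᵥ v = r (Sum.inl 0) * v (Sum.inl 0) + r (Sum.inl 1) * v (Sum.inl 1) +
    (r (Sum.inr 0) * v (Sum.inr 0) + r (Sum.inr 1) * v (Sum.inr 1)) := by
  simp only [dotProduct, Fintype.sum_sum_type, Fin.sum_univ_two, _root_.dotProduct, _root_.Fintype.sum_sum_type, _root_.Fin.sum_univ_two, _root_.Fin.isValue]

/-- `1 + v ⊗ r` -/
def tm (v r : I4 → F) : Matrix I4 I4 F := 1 + vecMulVec v r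

theorem tm_mulVec (v r w : I4 → F) : tm v r *ᵥ w = w + (r ⬝ᵥ w) • v := by
  unfold tm
  rw [add_mulVec, one_mulVec, vecMulVec_mulVec, op_smul_eq_smul]

theorem mat_ext {A B : Matrix I4 I4 F} (h : ∀ w, A *ᵥ w = B *ᵥ w) : A = B := by
  apply Matrix.toLin'.injective
  ext1 w
  ext1
  simp only [LinearMap.comp_apply, toLin'_apply]
  exact h _

theorem tm_zero (v : I4 → F) : tm v 0 = 1 := by
  apply mat_ext
  intro w
  rw [tm_mulVec, one_mulVec, zero_dotProduct, zero_smul, add_zero]

theorem tm_mul {v r r' : I4 → F} (h : r ⬝ᵥ v = 0) : tm v r * tm v r' = tm v (r + r') := by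
  apply mat_ext
  intro w
  rw [← mulVec_mulVec, tm_mulVec, tm_mulVec, tm_mulVec, dotProduct_add, dotProduct_smul, h, smul_zero, add_zero,
    add_dotProduct]
  module

theorem tm_det {v r : I4 → F} (h : r ⬝ᵥ v = 0) : (tm v r).det = 1 := by
  unfold tm
  rw [vecMulVec_eq Unit, det_one_add_replicateCol_mul_replicateRow, h, add_zero]

/-- `1 + v ⊗ r` in `SL` -/
def ts (v r : I4 → F) (h : r ⬝ᵥ v = 0) : S4 F := ⟨tm v r, tm_det h⟩

theorem tm_inj {v r : I4 → F} (hv : v ≠ 0) (h : tm v r = 1) : r = 0 := by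
  obtain ⟨i, hi⟩ := Function.ne_iff.1 hv
  ext j
  have h1 := congrFun (congrFun h i) j
  unfold tm at h1
  rw [Matrix.add_apply, vecMulVec_apply] at h1
  have h2 : v i * r j = 0 := by linear_combination h1
  exact (mul_eq_zero.1 h2).resolve_left hi

theorem D3_mulVec {v : I4 → F} (hv : v (Sum.inr 1) = 0) : (D3 : Matrix I4 I4 F) *ᵥ v = v := by
  ext i
  show (fun j => D3 i j) ⬝ᵥ v = _
  rw [dot4]
  rcases i with i | i <;> fin_cases i <;> simp [D3, hv]

theorem vecMul_D3 {r : I4 → F} (hr : r (Sum.inr 1) = 0) : r ᵥ* (D3 : Matrix I4 I4 F) = r := by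
  ext j
  show r ⬝ᵥ (fun i => D3 i j) = _
  rw [dot4]
  rcases j with i | i <;> fin_cases i <;> simp [D3, hr]

theorem tm_comm {v r : I4 → F} (hv : v (Sum.inr 1) = 0) (hr : r (Sum.inr 1) = 0) : tm v r * D3 = D3 * tm v r := by
  unfold tm
  rw [add_mul, mul_add, one_mul, mul_one, vecMulVec_mul, mul_vecMulVec, D3_mulVec hv, vecMul_D3 hr]

/-- the linear map `r ↦ (r · v, r · v')` -/
def L2 (v v' : I4 → F) : (I4 → F) →ₗ[F] F × F where
  toFun r := (r ⬝ᵥ v, r ⬝ᵥ v')
  map_add' r s := by simp [add_dotProduct]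
  map_smul' c r := by simp [smul_dotProduct]

theorem mem_ker_L2 {v v' r : I4 → F} : r ∈ LinearMap.ker (L2 v v') ↔ r ⬝ᵥ v = 0 ∧ r ⬝ᵥ v' = 0 := by
  rw [LinearMap.mem_ker]
  exact Prod.mk_eq_zero

theorem finrank_ker_L2 (v v' : I4 → F) : 2 ≤ finrank F (LinearMap.ker (L2 v v')) := by
  have h1 := LinearMap.finrank_range_add_finrank_ker (L2 v v')
  have h2 := Submodule.finrank_le (LinearMap.range (L2 v v'))
  rw [Module.finrank_prod, Module.finrank_self] at h2
  rw [Module.finrank_fintype_fun_eq_card, Fintype.card_sum, Fintype.card_fin] at h1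
  omega

/-- the group of the `1 + v ⊗ r` -/
def phi (v v' : I4 → F) : Multiplicative (LinearMap.ker (L2 v v')) →* S4 F where
  toFun r := ts v (Multiplicative.toAdd r).1 (mem_ker_L2.1 (Multiplicative.toAdd r).2).1
  map_one' := Subtype.ext (tm_zero v)
  map_mul' r _ := Subtype.ext (tm_mul (mem_ker_L2.1 (Multiplicative.toAdd r).2).1).symm

theorem phi_inj {v : I4 → F} (hv : v ≠ 0) (v' : I4 → F) : Function.Injective (phi v v') := by
  rw [injective_iff_map_eq_one]
  intro r hr
  have h1 : tm v (Multiplicative.toAdd r).1 = 1 := congrArg Subtype.val hr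
  have h2 := tm_inj hv h1
  have h3 : Multiplicative.toAdd r = 0 := Subtype.ext h2
  exact Multiplicative.toAdd.injective h3

/-- the index equivalence -/
def e31 : Fin 3 ⊕ Fin 1 ≃ I4 := (finSumFinEquiv : Fin 3 ⊕ Fin 1 ≃ Fin 4).trans (finSumFinEquiv : Fin 2 ⊕ Fin 2 ≃ Fin 4).symm

/-- `SL₃ → SL₄` -/
def i3 (g : _root_.Matrix.SpecialLinearGroup (Fin 3) F) : S4 F :=
  slR e31 ⟨fromBlocks g.val 0 0 (1 : Matrix (Fin 1) (Fin 1) F), by rw [det_fromBlocks_zero₂₁, g.2, det_one, mul_one]⟩

theorem i3_inj : Function.Injective (i3 : _root_.Matrix.SpecialLinearGroup (Fin 3) F → S4 F) := by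
  intro g h hgh
  have h1 := (slR (F := F) e31).injective hgh
  have h2 := congrArg Subtype.val h1
  have h3 := (fromBlocks_inj.1 h2).1
  exact Subtype.ext h3

theorem D3_eq : (D3 : Matrix I4 I4 F) =
    Matrix.reindex e31 e31 (fromBlocks (1 : Matrix (Fin 3) (Fin 3) F) 0 0 (-1 : Matrix (Fin 1) (Fin 1) F)) := by
  have h0 : e31.symm (Sum.inl 0) = Sum.inl 0 := rfl
  have h1 : e31.symm (Sum.inl 1) = Sum.inl 1 := rfl
  have h2 : e31.symm (Sum.inr 0) = Sum.inl 2 := rfl
  have h3 : e31.symm (Sum.inr 1) = Sum.inr 0 := rfl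
  ext i j
  rcases i with i | i <;> rcases j with j | j <;> (revert i j; simp only [D3, h0, h1, h2, h3, _root_.Fin.forall_fin_succ, _root_.Matrix.fromBlocks_apply₁₁, _root_.Matrix.reindex_apply, _root_.Matrix.submatrix_apply, Fin.isValue, _root_.Fin.succ_zero_eq_one, _root_.IsEmpty.forall_iff, _root_.and_true, _root_.Matrix.one_apply_eq, Nat.reduceAdd, _root_.ne_eq, _root_.zero_ne_one, _root_.not_false_eq_true, _root_.Matrix.one_apply_ne, _root_.and_self, _root_.Fin.succ_ne_zero, _root_.one_ne_zero, _root_.Matrix.fromBlocks_apply₁₂, _root_.Matrix.zero_apply, Fin.reduceEq, _root_.Matrix.fromBlocks_apply₂₁, _root_.Matrix.fromBlocks_apply₂₂, _root_.Matrix.of_apply, _root_.Matrix.cons_val', _root_.Matrix.cons_val_fin_one, _root_.Matrix.cons_val_zero, _root_.Matrix.cons_val_succ, _root_.Matrix.neg_apply])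

theorem i3_comm (g : _root_.Matrix.SpecialLinearGroup (Fin 3) F) : (i3 g).val * D3 = D3 * (i3 g).val := by
  rw [D3_eq]
  show Matrix.reindex e31 e31 _ * _ = _ * Matrix.reindex e31 e31 _
  have h1 : ∀ M N : Matrix (Fin 3 ⊕ Fin 1) (Fin 3 ⊕ Fin 1) F,
      Matrix.reindex e31 e31 M * Matrix.reindex e31 e31 N = Matrix.reindex e31 e31 (M * N) := fun M N =>
    (map_mul (Matrix.reindexAlgEquiv F F e31) M N).symm
  rw [h1, h1, fromBlocks_multiply, fromBlocks_multiply]
  simp

theorem ord_s (h2 : (2 : F) ≠ 0) {s : S4 F} {l : F} (hl : s.val = l • D3) : orderOf (pr s) = 2 := by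
  have hl0 : l ≠ 0 := by
    rintro rfl
    have h3 := s.2
    rw [hl, zero_smul, det_zero] at h3
    exact zero_ne_one h3
  apply ord_pr (c := l * l)
  · rw [hl, smul_mul_smul_comm]
    congr 1
    rw [D3, fromBlocks_multiply]
    simp only [mul_zero, zero_mul, add_zero, zero_add, mul_one, Matrix.mul_fin_two]
    rw [← fromBlocks_one]
    congr 1
    ext i j
    (revert i j; simp only [_root_.Fin.forall_fin_succ, _root_.mul_neg, _root_.mul_one, _root_.neg_neg, _root_.Matrix.of_apply, _root_.Matrix.cons_val', _root_.Matrix.cons_val_fin_one, Fin.isValue, _root_.Matrix.cons_val_zero, _root_.Matrix.cons_val_succ, _root_.IsEmpty.forall_iff, _root_.and_true, _root_.Matrix.one_apply_eq, Nat.reduceAdd, _root_.Fin.succ_zero_eq_one, _root_.ne_eq, _root_.zero_ne_one, _root_.not_false_eq_true, _root_.Matrix.one_apply_ne, _root_.and_self, _root_.Fin.succ_ne_zero, _root_.true_and])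
  · intro d hd
    have h3 := congrFun (congrFun hd (Sum.inr 0)) (Sum.inr 0)
    have h4 := congrFun (congrFun hd (Sum.inr 1)) (Sum.inr 1)
    rw [hl] at h3 h4
    simp [D3] at h3 h4
    have h5 : (2 : F) * l = 0 := by linear_combination h3 - h4
    exact (mul_ne_zero h2 hl0) h5

theorem comm_s {s x : S4 F} {l : F} (hl : s.val = l • D3) (hx : x.val * D3 = D3 * x.val) : pr (x * s) = pr (s * x) := by
  congr 1
  apply Subtype.ext
  show x.val * s.val = s.val * x.val
  rw [hl, Matrix.mul_smul, Matrix.smul_mul, hx]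

section Fin

variable [Fintype F]

theorem card_S3 : (Fintype.card F - 1) * Nat.card (_root_.Matrix.SpecialLinearGroup (Fin 3) F) =
    (Fintype.card F ^ 3 - 1) * (Fintype.card F ^ 3 - Fintype.card F) * (Fintype.card F ^ 3 - Fintype.card F ^ 2) := by
  have h1 := Cfsg.Agent.S0242.result (F := F) rfl 3 (by norm_num)
  rw [Fin.prod_univ_three] at h1
  simpa only [_root_.Fin.isValue, _root_.Fin.coe_ofNat_eq_mod, _root_.Nat.zero_mod, _root_.pow_zero, _root_.Nat.one_mod, _root_.pow_one, _root_.Nat.mod_succ] using h1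

theorem num3 {q x y f : ℕ} (hq : 2 ≤ q) (h3 : (q - 1) * x = (q ^ 3 - 1) * (q ^ 3 - q) * (q ^ 3 - q ^ 2))
    (h4 : y = q ^ 6 * ((q ^ 4 - 1) * (q ^ 3 - 1) * (q ^ 2 - 1))) (h : f ^ 5 * x < y) : f < q ^ 2 := by
  have e1 : q ^ 3 - q = q * (q ^ 2 - 1) := by rw [Nat.mul_sub]; ring_nf
  have e2 : q ^ 3 - q ^ 2 = q ^ 2 * (q - 1) := by rw [Nat.mul_sub]; ring_nf
  have hx : x = q ^ 3 * ((q ^ 3 - 1) * (q ^ 2 - 1)) := by
    apply Nat.eq_of_mul_eq_mul_left (show 0 < q - 1 by omega)
    rw [h3, e1, e2]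
    ring
  have h5 : f ^ 5 * (q ^ 3 * ((q ^ 3 - 1) * (q ^ 2 - 1))) <
      (q ^ 3 * (q ^ 4 - 1)) * (q ^ 3 * ((q ^ 3 - 1) * (q ^ 2 - 1))) := by
    rw [← hx]
    refine h.trans_le (le_of_eq ?_)
    rw [h4, hx]
    ring
  have h6 := lt_of_mul_lt_mul_right h5 (Nat.zero_le _)
  by_contra hcon
  have h7 : (q ^ 2) ^ 5 ≤ f ^ 5 := Nat.pow_le_pow_left (by omega) 5
  have h8 : q ^ 3 * (q ^ 4 - 1) ≤ q ^ 3 * q ^ 4 := Nat.mul_le_mul_left _ (Nat.sub_le _ _)
  have h9 : q ^ 3 * q ^ 4 ≤ (q ^ 2) ^ 5 := by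
    rw [← pow_add, ← pow_mul]
    exact Nat.pow_le_pow_right (by omega) (by norm_num)
  omega

/-- for each `v` of the hyperplane there is a transvection of `A` with centre `v` -/
theorem exists_tv (h2 : (2 : F) ≠ 0) {A : Subgroup (P4 F)} (h : IFA A) {s : S4 F} (hs : s ∈ At A) {l : F}
    (hl : s.val = l • D3) {v : I4 → F} (hv : v ≠ 0) (hv1 : v (Sum.inr 1) = 0) :
    ∃ (r : I4 → F) (hr : r ⬝ᵥ v = 0), r ≠ 0 ∧ r (Sum.inr 1) = 0 ∧ ts v r hr ∈ At A := by
  classical
  set! v' : I4 → F := Pi.single (Sum.inr 1) 1 with hv'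
  have hv'1 : ∀ r : I4 → F, r ⬝ᵥ v' = r (Sum.inr 1) := fun r => by rw [hv', dotProduct_single, mul_one]
  have h1 := h.key (by simp) hs (ord_s h2 hl) (B := (phi v v').range) (by
    rintro _ ⟨r, rfl⟩
    exact comm_s hl (tm_comm hv1 ((hv'1 _).symm.trans (mem_ker_L2.1 (Multiplicative.toAdd r).2).2)))
    (C := Set.range i3) (by
    rintro _ ⟨g, rfl⟩
    exact comm_s hl (i3_comm g))
  have h3 := h1.1
  rw [← Nat.card_coe_set_eq, Nat.card_range_of_injective i3_inj] at h3
  have h4 := num3 Fintype.one_lt_card card_S3 card_S4 h3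
  have h5 : Fintype.card F ^ 2 ≤ Nat.card (phi v v').range := by
    have h6 : Nat.card (phi v v').range = Nat.card (Multiplicative (LinearMap.ker (L2 v v'))) :=
      (Nat.card_congr (MonoidHom.ofInjective (phi_inj hv v')).toEquiv).symm
    rw [h6]
    have h7 : Nat.card (Multiplicative (LinearMap.ker (L2 v v'))) = Nat.card (LinearMap.ker (L2 v v')) := rfl
    rw [h7, Module.natCard_eq_pow_finrank (K := F), Nat.card_eq_fintype_card]
    exact Nat.pow_le_pow_right Fintype.card_pos (finrank_ker_L2 v v')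
  have h6 : At A ⊓ (phi v v').range ≠ ⊥ := by
    intro h7
    have h8 : (At A).relIndex (phi v v').range = Nat.card (phi v v').range := by
      rw [← Subgroup.inf_relIndex_right, h7, Subgroup.relIndex_bot_left]
    omega
  obtain ⟨⟨x, hx1, hx2⟩, hx⟩ := Subgroup.ne_bot_iff_exists_ne_one.1 h6
  obtain ⟨r, rfl⟩ := hx2
  obtain ⟨ha, hb⟩ := mem_ker_L2.1 (Multiplicative.toAdd r).2
  refine ⟨(Multiplicative.toAdd r).1, ha, ?_, (hv'1 _).symm.trans hb, hx1⟩
  intro h7
  apply hx
  have h8 : Multiplicative.toAdd r = 0 := Subtype.ext h7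
  have h9 : r = 1 := h8
  apply Subtype.ext
  show phi v v' r = 1
  rw [h9, map_one]

/-- opposite transvections -/
def Opp (A : Subgroup (P4 F)) : Prop :=
  ∃ (v r v' r' : I4 → F) (h : r ⬝ᵥ v = 0) (h' : r' ⬝ᵥ v' = 0), r ⬝ᵥ v' ≠ 0 ∧ r' ⬝ᵥ v ≠ 0 ∧
    ts v r h ∈ At A ∧ ts v' r' h' ∈ At A

theorem exists_opp (h2 : (2 : F) ≠ 0) {A : Subgroup (P4 F)} (h : IFA A) {s : S4 F} (hs : s ∈ At A) {l : F}
    (hl : s.val = l • D3) : Opp A := by
  classical
  set! v1 : I4 → F := Pi.single (Sum.inl 0) 1 with hv1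
  have hd1 : ∀ r : I4 → F, r ⬝ᵥ v1 = r (Sum.inl 0) := fun r => by rw [hv1, dotProduct_single, mul_one]
  obtain ⟨r1, hr1, hn1, hz1, hA1⟩ := exists_tv h2 h hs hl (v := v1) (by
    rw [hv1]
    exact Pi.single_ne_zero_iff.2 one_ne_zero) (by rw [hv1]; simp)
  -- the second vector
  obtain ⟨v2, hv2, hv21, h12⟩ : ∃ v2 : I4 → F, v2 ≠ 0 ∧ v2 (Sum.inr 1) = 0 ∧ r1 ⬝ᵥ v2 ≠ 0 := by
    obtain ⟨i, hi⟩ := Function.ne_iff.1 hn1
    refine ⟨Pi.single i 1, Pi.single_ne_zero_iff.2 one_ne_zero, ?_, ?_⟩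
    · rw [Pi.single_eq_of_ne]
      rintro rfl
      exact hi hz1
    · rw [dotProduct_single, mul_one]
      exact hi
  obtain ⟨r2, hr2, hn2, hz2, hA2⟩ := exists_tv h2 h hs hl hv2 hv21
  by_cases h21 : r2 ⬝ᵥ v1 = 0
  swap
  · exact ⟨v1, r1, v2, r2, hr1, hr2, h12, h21, hA1, hA2⟩
  -- the third vector
  set! w : I4 → F := fun i => match i with
    | Sum.inl i => ![0, - r1 (Sum.inr 0)] i
    | Sum.inr i => ![r1 (Sum.inl 1), 0] i with hw
  have hw0 : w (Sum.inl 0) = 0 := rfl
  have hw1 : w (Sum.inl 1) = - r1 (Sum.inr 0) := rfl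
  have hw2 : w (Sum.inr 0) = r1 (Sum.inl 1) := rfl
  have hw3 : w (Sum.inr 1) = 0 := rfl
  have hdw : ∀ r : I4 → F, r ⬝ᵥ w = r (Sum.inr 0) * r1 (Sum.inl 1) - r (Sum.inl 1) * r1 (Sum.inr 0) := by
    intro r
    rw [dot4, hw0, hw1, hw2, hw3]
    ring
  -- a vector `r` which vanishes at `v1`, `v2`, `w` is zero
  have hzero : ∀ r : I4 → F, r ⬝ᵥ v1 = 0 → r (Sum.inr 1) = 0 → r ⬝ᵥ v2 = 0 → r ⬝ᵥ w = 0 → r = 0 := by
    intro r ha hb hc hd
    rw [hd1] at ha
    rw [hdw] at hd
    rw [dot4, ha, hb] at hc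
    have h12' := h12
    rw [dot4, ← hd1 r1, hr1, hz1] at h12'
    have h5 : r (Sum.inl 1) = 0 := by
      have h6 : r (Sum.inl 1) * (0 * v2 (Sum.inl 0) + r1 (Sum.inl 1) * v2 (Sum.inl 1) +
          (r1 (Sum.inr 0) * v2 (Sum.inr 0) + 0 * v2 (Sum.inr 1))) = 0 := by
        linear_combination r1 (Sum.inl 1) * hc - v2 (Sum.inr 0) * hd
      exact (mul_eq_zero.1 h6).resolve_right h12'
    have h6 : r (Sum.inr 0) = 0 := by
      have h6 : r (Sum.inr 0) * (0 * v2 (Sum.inl 0) + r1 (Sum.inl 1) * v2 (Sum.inl 1) +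
          (r1 (Sum.inr 0) * v2 (Sum.inr 0) + 0 * v2 (Sum.inr 1))) = 0 := by
        linear_combination r1 (Sum.inr 0) * hc + v2 (Sum.inl 1) * hd
      exact (mul_eq_zero.1 h6).resolve_right h12'
    ext i
    rcases i with i | i <;> fin_cases i
    · exact ha
    · exact h5
    · exact h6
    · exact hb
  have hw1' : r1 ⬝ᵥ w = 0 := by rw [hdw]; ring
  have h2w : r2 ⬝ᵥ w ≠ 0 := fun h5 => hn2 (hzero r2 h21 hz2 hr2 h5)
  have h13 : r1 ⬝ᵥ (v2 + w) ≠ 0 := by rw [dotProduct_add, hw1', add_zero]; exact h12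
  have h23 : r2 ⬝ᵥ (v2 + w) ≠ 0 := by rw [dotProduct_add, hr2, zero_add]; exact h2w
  obtain ⟨r3, hr3, hn3, hz3, hA3⟩ := exists_tv h2 h hs hl (v := v2 + w) (by
    intro h5
    rw [h5, dotProduct_zero] at h13
    exact h13 rfl) (by rw [Pi.add_apply, hv21, hw3, add_zero])
  by_cases h31 : r3 ⬝ᵥ v1 = 0
  swap
  · exact ⟨v1, r1, v2 + w, r3, hr1, hr3, h13, h31, hA1, hA3⟩
  refine ⟨v2, r2, v2 + w, r3, hr2, hr3, h23, ?_, hA2, hA3⟩
  intro h5
  apply hn3
  apply hzero r3 h31 hz3 h5
  rw [dotProduct_add, h5, zero_add] at hr3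
  exact hr3

/-- opposite transvections give `t0` up to conjugation -/
theorem opp_conj (h2 : (2 : F) ≠ 0) {A : Subgroup (P4 F)} (h : Opp A) : ∃ g : GL I4 F, (t0 : S4 F) ∈ At (cA g A) := by
  classical
  obtain ⟨v, r, v', r', hr, hr', ha, hb, hx, hx'⟩ := h
  obtain ⟨W, hW⟩ := exists_linearIndependent_of_le_finrank (finrank_ker_L2 r r')
  let b : I4 → (I4 → F) := fun i => match i with
    | Sum.inl i => ![v, v'] i
    | Sum.inr i => (W i).1
  have hWr : ∀ i, r ⬝ᵥ (W i).1 = 0 := fun i => by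
    rw [dotProduct_comm]
    exact (mem_ker_L2.1 (W i).2).1
  have hWr' : ∀ i, r' ⬝ᵥ (W i).1 = 0 := fun i => by
    rw [dotProduct_comm]
    exact (mem_ker_L2.1 (W i).2).2
  have hlin : LinearIndependent F b := by
    rw [Fintype.linearIndependent_iff]
    intro g hg
    rw [Fintype.sum_sum_type, Fin.sum_univ_two, Fin.sum_univ_two] at hg
    have hg1 := congrArg (fun u => r ⬝ᵥ u) hg
    have hg2 := congrArg (fun u => r' ⬝ᵥ u) hg
    simp only [b, Matrix.cons_val_zero, Matrix.cons_val_one, dotProduct_add, dotProduct_smul, hr, hr', hWr, hWr',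
      mul_zero, add_zero, zero_add, dotProduct_zero, smul_eq_mul] at hg1 hg2
    have h3 : g (Sum.inl 1) = 0 := (mul_eq_zero.1 hg1).resolve_right ha
    have h4 : g (Sum.inl 0) = 0 := (mul_eq_zero.1 hg2).resolve_right hb
    rw [h3, h4, zero_smul, zero_smul, zero_add, zero_add] at hg
    have h5 := Fintype.linearIndependent_iff.1 hW (fun i => g (Sum.inr i)) (by
      rw [Fin.sum_univ_two]
      exact Subtype.ext hg)
    rintro (i | i)
    · fin_cases i
      · exact h4
      · exact h3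
    · exact h5 i
  let B : Basis I4 F (I4 → F) := basisOfLinearIndependentOfCardEqFinrank hlin (by
    rw [Module.finrank_fintype_fun_eq_card])
  have hB : ∀ i, B i = b i := fun i => by
    simp [B]
  obtain ⟨g, hg⟩ := conj_of_basis B
  refine ⟨g, ?_⟩
  have h3 : (cS g (ts v r hr)).val = fromBlocks !![1, r ⬝ᵥ v'; 0, 1] 0 0 1 := by
    apply hg
    intro j
    show tm v r *ᵥ B j = _
    rw [tm_mulVec, Fintype.sum_sum_type, Fin.sum_univ_two, Fin.sum_univ_two, hB, hB, hB, hB, hB]
    rcases j with j | j <;> fin_cases j <;> simp only [b, hr, hWr, add_comm, _root_.Nat.succ_eq_add_one, _root_.Nat.reduceAdd, _root_.Fin.zero_eta, _root_.Fin.isValue, _root_.Matrix.cons_val_zero, _root_.zero_smul, _root_.add_zero, _root_.Matrix.fromBlocks_apply₁₁, _root_.Matrix.of_apply, _root_.Matrix.cons_val', _root_.Matrix.cons_val_fin_one, _root_.one_smul, _root_.Matrix.cons_val_one, _root_.Matrix.fromBlocks_apply₂₁, _root_.Matrix.zero_apply, _root_.Fin.mk_one, _root_.add_comm, _root_.Matrix.fromBlocks_apply₁₂,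 _root_.Matrix.fromBlocks_apply₂₂, _root_.Matrix.one_apply_eq, _root_.ne_eq, _root_.one_ne_zero, _root_.not_false_eq_true, _root_.Matrix.one_apply_ne, _root_.zero_ne_one]
  have h4 : (cS g (ts v' r' hr')).val = fromBlocks !![1, 0; r' ⬝ᵥ v, 1] 0 0 1 := by
    apply hg
    intro j
    show tm v' r' *ᵥ B j = _
    rw [tm_mulVec, Fintype.sum_sum_type, Fin.sum_univ_two, Fin.sum_univ_two, hB, hB, hB, hB, hB]
    rcases j with j | j <;> fin_cases j <;> simp only [b, hr', hWr', add_comm, _root_.Nat.succ_eq_add_one, _root_.Nat.reduceAdd, _root_.Fin.zero_eta, _root_.Fin.isValue, _root_.Matrix.cons_val_zero, _root_.Matrix.fromBlocks_apply₁₁, _root_.Matrix.of_apply, _root_.Matrix.cons_val', _root_.Matrix.cons_val_fin_one, _root_.one_smul, _root_.Matrix.cons_val_one, _root_.Matrix.fromBlocks_apply₂₁, _root_.Matrix.zero_apply, _root_.zero_smul, _root_.add_zero, _root_.Fin.mk_one, _root_.add_comm, _root_.Matrix.fromBlocks_apply₁₂, _root_.Matrix.fromBlocks_apply₂₂, _root_.Matrix.one_apply_eq,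 _root_.ne_eq, _root_.one_ne_zero, _root_.not_false_eq_true, _root_.Matrix.one_apply_ne, _root_.zero_ne_one]
  let x : S2 F := ⟨!![1, r ⬝ᵥ v'; 0, 1], by rw [det_fin_two_of]; ring⟩
  let x' : S2 F := ⟨!![1, 0; r' ⬝ᵥ v, 1], by rw [det_fin_two_of]; ring⟩
  have h5 : cS g (ts v r hr) = blk (x, 1) := Subtype.ext h3
  have h6 : cS g (ts v' r' hr') = blk (x', 1) := Subtype.ext h4
  obtain ⟨y, hy, hyy⟩ := H411.L4.exists_sq h2 ha hb ((At (cA g A)).comap (blk.comp (MonoidHom.inl (S2 F) (S2 F))))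
    (x := x) (x' := x') (by
      show blk (x, 1) ∈ At (cA g A)
      rw [← h5]
      exact mem_cA.2 hx) (by
      show blk (x', 1) ∈ At (cA g A)
      rw [← h6]
      exact mem_cA.2 hx') rfl rfl
  have hy' : blk (y, 1) ∈ At (cA g A) := hy
  have h7 : (t0 : S4 F) = blk (y, 1) * blk (y, 1) := by
    rw [← map_mul]
    apply Subtype.ext
    rw [t0_val]
    show _ = fromBlocks (y.val * y.val) 0 0 ((1 : M2 F) * 1)
    rw [hyy, mul_one]
  rw [h7]
  exact mul_mem hy' hy'

/-- **T3** -/
theorem t3_conj (h2 : (2 : F) ≠ 0) {A : Subgroup (P4 F)} (h : IFA A) {s : S4 F} (hs : s ∈ At A) {l : F}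
    (hl : s.val = l • Matrix.fromBlocks 1 0 0 !![1, 0; 0, -1]) : ∃ g : GL I4 F, (t0 : S4 F) ∈ At (cA g A) :=
  opp_conj h2 (exists_opp h2 h hs hl)

end Fin

end Cfsg.Agent.H833.IF
end

-- part: H458/IF/Flag
section
/-!
# S5719, PSL_4 (q odd), case (t1): the flag lemma (helper458)

`OpN p B P` : `P = O_p(B)` (the largest `p`-subgroup of `B` normalised by `B`) and `N_S(P) ≤ B`.
`flag` : for a faithful representation `V` of `S` in characteristic `p`, an element `s` that leaves invariant all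
`B`-invariant subspaces of `V` is in `B` (if `O_p(B) ≠ 1`).
-/

set_option autoImplicit false
set_option linter.unusedSectionVars false

namespace Cfsg.Agent.H458.IFl

open Subgroup MulAction

/-- `P = O_p(B)` and its normaliser is in `B` -/
structure OpN (p : ℕ) {S : Type*} [Group S] (B P : Subgroup S) : Prop where
  le : P ≤ B
  pg : IsPGroup p P
  nor : ∀ b ∈ B, ∀ k ∈ P, b * k * b⁻¹ ∈ P
  max : ∀ R : Subgroup S, R ≤ B → IsPGroup p R → (∀ b ∈ B, ∀ k ∈ R, b * k * b⁻¹ ∈ R) → R ≤ P
  norm : P ≠ ⊥ → ∀ g : S, (∀ k ∈ P, g * k * g⁻¹ ∈ P) → g ∈ B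

section

variable {E V S : Type*} [Field E] [AddCommGroup V] [Module E V] [Group S]
  (ρ : S →* Module.End E V)

/-- the next term of the flag -/
def nxt (P : Subgroup S) (W : Submodule E V) : Submodule E V where
  carrier := {v | ∀ k ∈ P, ρ k v - v ∈ W}
  add_mem' {a b} ha hb k hk := by
    have h : ρ k (a + b) - (a + b) = (ρ k a - a) + (ρ k b - b) := by rw [map_add]; abel
    rw [h]
    exact W.add_mem (ha k hk) (hb k hk)
  zero_mem' k _ := by rw [map_zero, sub_zero]; exact W.zero_mem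
  smul_mem' c a ha k hk := by
    have h : ρ k (c • a) - c • a = c • (ρ k a - a) := by rw [map_smul, smul_sub]
    rw [h]
    exact W.smul_mem c (ha k hk)

/-- the flag -/
def vs (P : Subgroup S) : ℕ → Submodule E V
  | 0 => ⊥
  | n + 1 => nxt ρ P (vs P n)

theorem mem_vs {P : Subgroup S} {n : ℕ} {v : V} : v ∈ vs ρ P (n + 1) ↔ ∀ k ∈ P, ρ k v - v ∈ vs ρ P n := Iff.rfl

theorem mul_ap (g h : S) (v : V) : ρ (g * h) v = ρ g (ρ h v) := by rw [map_mul]; rfl

theorem inv_ap (g : S) (v : V) : ρ g (ρ g⁻¹ v) = v := by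
  rw [← mul_ap, mul_inv_cancel, map_one]; rfl

theorem vs_inv {B P : Subgroup S} (hn : ∀ b ∈ B, ∀ k ∈ P, b * k * b⁻¹ ∈ P) (n : ℕ) :
    ∀ b ∈ B, ∀ w ∈ vs ρ P n, ρ b w ∈ vs ρ P n := by
  induction n with
  | zero =>
    intro b _ w hw
    have h : w = 0 := hw
    rw [h, map_zero]
    exact Submodule.zero_mem _
  | succ n ih =>
    intro b hb w hw
    rw [mem_vs] at hw ⊢
    intro k hk
    have h1 : b⁻¹ * k * b ∈ P := by
      have := hn b⁻¹ (B.inv_mem hb) k hk
      rwa [inv_inv] at this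
    have h2 : ρ k (ρ b w) - ρ b w = ρ b (ρ (b⁻¹ * k * b) w - w) := by
      rw [map_sub, ← mul_ap, ← mul_ap]
      congr 3
      group
    rw [h2]
    exact ih b hb _ (hw _ h1)

theorem vs_le {P : Subgroup S} (n : ℕ) : vs ρ P n ≤ vs ρ P (n + 1) := by
  have hinv := vs_inv ρ (B := P) (P := P) (fun b hb k hk => P.mul_mem (P.mul_mem hb hk) (P.inv_mem hb)) n
  intro v hv
  rw [mem_vs]
  intro k hk
  exact Submodule.sub_mem _ (hinv k hk v hv) hv

/-- the action on the quotient -/
@[instance_reducible] def qact (P : Subgroup S) (W : Submodule E V) (hW : ∀ k ∈ P, ∀ w ∈ W, ρ k w ∈ W) : MulAction P (V ⧸ W) where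
  smul k x := Submodule.mapQ W W (ρ k) (hW k k.2) x
  one_smul x := by
    induction x using Submodule.Quotient.induction_on with
    | H v =>
      show Submodule.Quotient.mk (ρ ((1 : P) : S) v) = _
      rw [OneMemClass.coe_one, map_one]; rfl
  mul_smul a b x := by
    induction x using Submodule.Quotient.induction_on with
    | H v =>
      show Submodule.Quotient.mk (ρ ((a * b : P) : S) v) = Submodule.Quotient.mk (ρ (a : S) (ρ (b : S) v))
      rw [Subgroup.coe_mul, mul_ap]

theorem nxt_lt (p : ℕ) [Fact p.Prime] [CharP E p] [Finite V] {P : Subgroup S} (hp : IsPGroup p P) {W : Submodule E V}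
    (hW : ∀ k ∈ P, ∀ w ∈ W, ρ k w ∈ W) (hne : W ≠ ⊤) : ∃ v ∉ W, v ∈ nxt ρ P W := by
  classical
  let _ := qact ρ P W hW
  have hfin : Finite (V ⧸ W) := Finite.of_surjective _ (Submodule.mkQ_surjective W)
  have hnt : Nontrivial (V ⧸ W) := Submodule.Quotient.nontrivial_iff.2 hne
  have hdvd : p ∣ Nat.card (V ⧸ W) := by
    obtain ⟨x, hx⟩ := exists_ne (0 : V ⧸ W)
    have h1 : addOrderOf x = p := by
      apply addOrderOf_eq_prime _ hx
      rw [← Nat.cast_smul_eq_nsmul E, CharP.cast_eq_zero, zero_smul]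
    rw [← h1]
    exact addOrderOf_dvd_natCard x
  have h0 : (0 : V ⧸ W) ∈ fixedPoints P (V ⧸ W) := by
    intro k
    exact map_zero (Submodule.mapQ W W (ρ k) (hW k k.2))
  obtain ⟨b, hb, hb0⟩ := hp.exists_fixed_point_of_prime_dvd_card_of_fixed_point (V ⧸ W) hdvd h0
  obtain ⟨v, rfl⟩ := Submodule.Quotient.mk_surjective W b
  refine ⟨v, ?_, ?_⟩
  · intro hv
    exact hb0 ((Submodule.Quotient.mk_eq_zero W).2 hv).symm
  · intro k hk
    have h1 := hb ⟨k, hk⟩
    have h2 : (Submodule.Quotient.mk (ρ k v) : V ⧸ W) = Submodule.Quotient.mk v := h1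
    exact (Submodule.Quotient.eq W).1 h2

theorem vs_top (p : ℕ) [Fact p.Prime] [CharP E p] [Finite V] {P : Subgroup S} (hp : IsPGroup p P) :
    ∃ n, vs ρ P n = ⊤ := by
  by_contra hcon
  push Not at hcon
  have h1 : StrictMono (vs ρ P) := by
    refine strictMono_nat_of_lt_succ fun n => lt_of_le_of_ne (vs_le ρ n) ?_
    intro h
    obtain ⟨v, hv, hv'⟩ := nxt_lt ρ p hp (W := vs ρ P n)
      (vs_inv ρ (B := P) (P := P) (fun b hb k hk => P.mul_mem (P.mul_mem hb hk) (P.inv_mem hb)) n) (hcon n)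
    apply hv
    rw [h]
    exact hv'
  have hfin : Finite (Submodule E V) := Finite.of_injective (fun W : Submodule E V => (W : Set V)) SetLike.coe_injective
  exact not_injective_infinite_finite _ h1.injective

/-- elements acting trivially on the quotients -/
def qg (P : Subgroup S) (g : S) : Prop := ∀ n, ∀ v ∈ vs ρ P (n + 1), ρ g v - v ∈ vs ρ P n

theorem qg_inv {P : Subgroup S} {g : S} (hg : qg ρ P g) (n : ℕ) : ∀ v ∈ vs ρ P n, ρ g v ∈ vs ρ P n := by
  intro v hv
  cases n with
  | zero =>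
    have h : v = 0 := hv
    rw [h, map_zero]
    exact Submodule.zero_mem _
  | succ n =>
    have h : ρ g v = (ρ g v - v) + v := by abel
    rw [h]
    exact Submodule.add_mem _ (vs_le ρ n (hg n v hv)) hv

/-- the group acting trivially on the quotients -/
def QQ [Finite S] (P : Subgroup S) : Subgroup S where
  carrier := {g | qg ρ P g}
  mul_mem' {a b} ha hb n v hv := by
    have h : ρ (a * b) v - v = ρ a (ρ b v - v) + (ρ a v - v) := by rw [mul_ap, map_sub]; abel
    rw [h]
    exact Submodule.add_mem _ (qg_inv ρ ha n _ (hb n v hv)) (ha n v hv)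
  one_mem' n v _ := by
    rw [map_one]
    show v - v ∈ _
    rw [sub_self]
    exact Submodule.zero_mem _
  inv_mem' {a} ha := by
    have hpow : ∀ k : ℕ, qg ρ P (a ^ k) := by
      intro k
      induction k with
      | zero =>
        intro n v _
        rw [pow_zero, map_one]
        show v - v ∈ _
        rw [sub_self]
        exact Submodule.zero_mem _
      | succ k ih =>
        intro n v hv
        have h : ρ (a ^ (k + 1)) v - v = ρ (a ^ k) (ρ a v - v) + (ρ (a ^ k) v - v) := by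
          rw [pow_succ, mul_ap, map_sub]; abel
        rw [h]
        exact Submodule.add_mem _ (qg_inv ρ ih n _ (ha n v hv)) (ih n v hv)
    have h1 : a⁻¹ = a ^ (orderOf a - 1) := by
      rw [inv_eq_iff_mul_eq_one, ← pow_succ', Nat.sub_add_cancel (orderOf_pos a), pow_orderOf_eq_one]
    show qg ρ P a⁻¹
    rw [h1]
    exact hpow _

theorem QQ_pg [Finite S] (p : ℕ) [Fact p.Prime] [CharP E p] [Finite V] [Nontrivial V] (hρ : Function.Injective ρ)
    {P : Subgroup S} (hp : IsPGroup p P) : IsPGroup p (QQ ρ P) := by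
  obtain ⟨m, hm⟩ := vs_top ρ p hp
  have hch : CharP (Module.End E V) p := charP_of_injective_algebraMap (algebraMap E (Module.End E V)).injective p
  rintro ⟨g, hg⟩
  refine ⟨m, ?_⟩
  apply Subtype.ext
  apply hρ
  show ρ (g ^ p ^ m) = ρ 1
  set! N : Module.End E V := ρ g - 1 with hN
  have h1 : ∀ j i : ℕ, ∀ v ∈ vs ρ P (i + j), (N ^ j) v ∈ vs ρ P i := by
    intro j
    induction j with
    | zero =>
      intro i v hv
      exact hv
    | succ j ih =>
      intro i v hv
      rw [pow_succ, Module.End.mul_apply]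
      exact ih i _ (hg (i + j) v hv)
  have h2 : N ^ m = 0 := by
    ext v
    have h3 : (N ^ m) v ∈ vs ρ P 0 := h1 m 0 v (by rw [zero_add, hm]; exact Submodule.mem_top)
    exact h3
  have hlt : m ≤ p ^ m := (Nat.lt_pow_self (Fact.out : p.Prime).one_lt).le
  have h3 : N ^ p ^ m = 0 := pow_eq_zero_of_le hlt h2
  have h4 : ρ g = N + 1 := by rw [hN, sub_add_cancel]
  rw [map_pow, h4, map_one, add_pow_char_pow_of_commute p m (Commute.one_right N), h3, one_pow, zero_add]

/-- **The flag lemma.** -/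
theorem flag [Finite S] (p : ℕ) [Fact p.Prime] [CharP E p] [Finite V] (hρ : Function.Injective ρ)
    {B P : Subgroup S} (h : OpN p B P) (hP : P ≠ ⊥) (s : S)
    (hs : ∀ W : Submodule E V, (∀ b ∈ B, ∀ w ∈ W, ρ b w ∈ W) → ∀ w ∈ W, ρ s w ∈ W) : s ∈ B := by
  have hnt : Nontrivial V := by
    by_contra hcon
    rw [not_nontrivial_iff_subsingleton] at hcon
    apply hP
    rw [Subgroup.eq_bot_iff_forall]
    intro x _
    apply hρ
    exact LinearMap.ext fun v => Subsingleton.elim _ _
  have hPQ : P ≤ QQ ρ P := by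
    intro k hk n v hv
    exact (mem_vs ρ).1 hv k hk
  have hQB : QQ ρ P ⊓ B ≤ P := by
    refine h.max _ inf_le_right ((QQ_pg ρ p hρ h.pg).to_le inf_le_left) ?_
    rintro b hb g ⟨hg1, hg2⟩
    refine ⟨?_, B.mul_mem (B.mul_mem hb hg2) (B.inv_mem hb)⟩
    intro n v hv
    have h1 : ρ (b * g * b⁻¹) v - v = ρ b (ρ g (ρ b⁻¹ v) - ρ b⁻¹ v) := by
      rw [map_sub, inv_ap, mul_ap, mul_ap]
    rw [h1]
    exact vs_inv ρ h.nor n b hb _ (hg1 n _ (vs_inv ρ h.nor (n + 1) b⁻¹ (B.inv_mem hb) v hv))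
  -- `Q = P`
  have hQP : QQ ρ P ≤ P := by
    have hQp := QQ_pg ρ p hρ h.pg
    have hnil : Group.IsNilpotent (QQ ρ P) := hQp.isNilpotent
    have hnc : NormalizerCondition (QQ ρ P) := Group.normalizerCondition_of_isNilpotent
    by_contra hcon
    have h1 : P.subgroupOf (QQ ρ P) < ⊤ := by
      rw [lt_top_iff_ne_top]
      intro h2
      exact hcon (Subgroup.subgroupOf_eq_top.1 h2)
    have h2 := hnc _ h1
    obtain ⟨⟨g, hgQ⟩, hgn, hgP⟩ := SetLike.exists_of_lt h2
    have h3 : ∀ k ∈ P, g * k * g⁻¹ ∈ P := by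
      intro k hk
      have h4 := (Subgroup.mem_normalizer_iff.1 hgn ⟨k, hPQ hk⟩).1 hk
      exact h4
    exact hgP (hQB ⟨hgQ, h.norm hP g h3⟩)
  have hQ : QQ ρ P = P := le_antisymm hQP hPQ
  have hsinv : ∀ n, ∀ w ∈ vs ρ P n, ρ s w ∈ vs ρ P n := fun n => hs (vs ρ P n) (vs_inv ρ h.nor n)
  have hsinv' : ∀ n, ∀ w ∈ vs ρ P n, ρ s⁻¹ w ∈ vs ρ P n := by
    intro n
    have h1 : s⁻¹ = s ^ (orderOf s - 1) := by
      rw [inv_eq_iff_mul_eq_one, ← pow_succ', Nat.sub_add_cancel (orderOf_pos s), pow_orderOf_eq_one]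
    have h2 : ∀ k : ℕ, ∀ w ∈ vs ρ P n, ρ (s ^ k) w ∈ vs ρ P n := by
      intro k
      induction k with
      | zero =>
        intro w hw
        rw [pow_zero, map_one]
        exact hw
      | succ k ih =>
        intro w hw
        rw [pow_succ, mul_ap]
        exact ih _ (hsinv n w hw)
    rw [h1]
    exact h2 _
  apply h.norm hP
  intro k hk
  rw [← hQ]
  intro n v hv
  have h1 : ρ (s * k * s⁻¹) v - v = ρ s (ρ k (ρ s⁻¹ v) - ρ s⁻¹ v) := by
    rw [map_sub, inv_ap, mul_ap, mul_ap]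
  rw [h1]
  exact hsinv n _ (hPQ hk n _ (hsinv' (n + 1) v hv))

end

end Cfsg.Agent.H458.IFl
end

-- part: H458/IF/Op
section
/-!
# S5719, PSL_4 (q odd), case (t1): `O_p` (helper458)

* `exists_op` : the largest `p`-subgroup of `B` normalised by `B`
* `opN_of_IF` : `OpN p A K` for `K = O_p(A)` (from `IF A Γ`)
* `opN_lift` : the same for the preimage in a central cover of order prime to `p`
* `bs` : Baer–Suzuki
-/

set_option autoImplicit false
set_option linter.unusedSectionVars false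

namespace Cfsg.Agent.H458.IFl

open Subgroup Cfsg.Agent.H209.Fxy

theorem exists_op {S : Type*} [Group S] [Finite S] (p : ℕ) [Fact p.Prime] (B : Subgroup S) : ∃ P : Subgroup S, P ≤ B ∧
    IsPGroup p P ∧ (∀ b ∈ B, ∀ k ∈ P, b * k * b⁻¹ ∈ P) ∧
    ∀ R : Subgroup S, R ≤ B → IsPGroup p R → (∀ b ∈ B, ∀ k ∈ R, b * k * b⁻¹ ∈ R) → R ≤ P := by
  have hne : Nonempty {R : Subgroup S // R ≤ B ∧ IsPGroup p R ∧ ∀ b ∈ B, ∀ k ∈ R, b * k * b⁻¹ ∈ R} := by
    refine ⟨⟨⊥, bot_le, IsPGroup.of_bot, ?_⟩⟩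
    intro b _ k hk
    rw [Subgroup.mem_bot] at hk ⊢
    rw [hk, mul_one, mul_inv_cancel]
  obtain ⟨⟨P, hP1, hP2, hP3⟩, hmax⟩ := Finite.exists_max
    (fun R : {R : Subgroup S // R ≤ B ∧ IsPGroup p R ∧ ∀ b ∈ B, ∀ k ∈ R, b * k * b⁻¹ ∈ R} => Nat.card R.1)
  refine ⟨P, hP1, hP2, hP3, ?_⟩
  intro R hR1 hR2 hR3
  have h1 : ∀ b ∈ B, ∀ k ∈ P ⊔ R, b * k * b⁻¹ ∈ P ⊔ R := by
    intro b hb k hk
    have h2 : P ⊔ R ≤ (P ⊔ R).comap (MulAut.conj b).toMonoidHom := by
      rw [sup_le_iff]
      exact ⟨fun x hx => Subgroup.mem_sup_left (hP3 b hb x hx), fun x hx => Subgroup.mem_sup_right (hR3 b hb x hx)⟩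
    exact h2 hk
  have h3 : IsPGroup p (P ⊔ R : Subgroup S) := by
    refine hP2.to_sup_of_normal_right' hR2 ?_
    intro x hx
    rw [Subgroup.mem_normalizer_iff]
    intro y
    constructor
    · intro hy
      exact hR3 x (hP1 hx) y hy
    · intro hy
      have h4 := hR3 x⁻¹ (B.inv_mem (hP1 hx)) _ hy
      have h5 : x⁻¹ * (x * y * x⁻¹) * x⁻¹⁻¹ = y := by group
      rwa [h5] at h4
  have h2 := hmax ⟨P ⊔ R, sup_le hP1 hR1, h3, h1⟩
  have h4 : P = P ⊔ R := Subgroup.eq_of_le_of_card_ge le_sup_left h2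
  rw [h4]
  exact le_sup_right

theorem opN_of_IF {T : Type*} [Group T] [Finite T] [IsSimpleGroup T] {A : Subgroup T} {Γ : Subgroup (MulAut T)}
    (h : IF A Γ) (p : ℕ) [Fact p.Prime] : ∃ K : Subgroup T, OpN p A K := by
  obtain ⟨K, h1, h2, h3, h4⟩ := exists_op p A
  refine ⟨K, h1, h2, h3, h4, ?_⟩
  intro hne g hg
  refine Cfsg.Agent.H680.Fxy.IF.norm h h1 ?_ hne hg
  intro σ hσ k hk
  have h5 : K.map σ.toMonoidHom ≤ K := by
    refine h4 _ ?_ (h2.map _) ?_
    · rintro _ ⟨x, hx, rfl⟩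
      exact (h.inv σ hσ x).2 (h1 hx)
    · rintro a ha _ ⟨x, hx, rfl⟩
      have h6 : (σ⁻¹ : MulAut T) a ∈ A := (h.inv σ⁻¹ (Γ.inv_mem hσ) a).2 ha
      refine ⟨(σ⁻¹ : MulAut T) a * x * ((σ⁻¹ : MulAut T) a)⁻¹, h3 _ h6 x hx, ?_⟩
      show σ ((σ⁻¹ : MulAut T) a * x * ((σ⁻¹ : MulAut T) a)⁻¹) = a * σ x * a⁻¹
      rw [map_mul, map_mul, map_inv, MulAut.apply_inv_self]
  exact h5 ⟨k, hk, rfl⟩

/-- the elements of `p`-power order of a nilpotent group -/
theorem exists_pelts {S : Type*} [Group S] [Finite S] (p : ℕ) [Fact p.Prime] (R : Subgroup S)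
    (hR : Group.IsNilpotent R) : ∃ P : Subgroup S, ∀ x, x ∈ P ↔ x ∈ R ∧ ∃ k : ℕ, x ^ p ^ k = 1 := by
  have hnc : NormalizerCondition R := Group.normalizerCondition_of_isNilpotent
  obtain ⟨P⟩ : Nonempty (Sylow p R) := inferInstance
  have hn := Sylow.normal_of_normalizerCondition hnc P
  refine ⟨(P : Subgroup R).map R.subtype, ?_⟩
  intro x
  constructor
  · rintro ⟨y, hy, rfl⟩
    refine ⟨y.2, ?_⟩
    obtain ⟨k, hk⟩ := P.2 ⟨y, hy⟩
    exact ⟨k, congrArg (fun z : (P : Subgroup R) => ((z : R) : S)) hk⟩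
  · rintro ⟨hx, k, hk⟩
    have h1 : IsPGroup p (zpowers (⟨x, hx⟩ : R)) := by
      rintro ⟨_, j, rfl⟩
      refine ⟨k, ?_⟩
      apply Subtype.ext
      apply Subtype.ext
      show (x ^ j) ^ p ^ k = 1
      rw [← zpow_natCast, zpow_comm, zpow_natCast, hk, one_zpow]
    obtain ⟨Q, hQ⟩ := h1.exists_le_sylow
    have h2 : (Q : Subgroup R) = P := by
      have := Sylow.unique_of_normal P hn
      exact congrArg (fun Z : Sylow p R => (Z : Subgroup R)) (Subsingleton.elim Q P)
    exact ⟨⟨x, hx⟩, by rw [← h2]; exact hQ (mem_zpowers _), rfl⟩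

theorem opN_lift {S T : Type*} [Group S] [Finite S] [Group T] [Finite T] (π : S →* T) (hπ : Function.Surjective π)
    (hc : π.ker ≤ Subgroup.center S) (p m : ℕ) [Fact p.Prime] (hm : Nat.Coprime m p) (hk : ∀ z ∈ π.ker, z ^ m = 1)
    {A K : Subgroup T} (h : OpN p A K) : ∃ P : Subgroup S, OpN p (A.comap π) P := by
  obtain ⟨P, h1, h2, h3, h4⟩ := exists_op p (A.comap π)
  have hnil : Group.IsNilpotent (K.comap π) := by
    have hK : Group.IsNilpotent K := h.pg.isNilpotent
    refine Subgroup.isNilpotent_of_ker_le_center (π.subgroupComap K) ?_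
    intro z hz
    have h5 : (z : S) ∈ π.ker := congrArg Subtype.val hz
    rw [Subgroup.mem_center_iff]
    intro g
    exact Subtype.ext (Subgroup.mem_center_iff.1 (hc h5) g)
  obtain ⟨P', hP'⟩ := exists_pelts p _ hnil
  have h5 : P' ≤ P := by
    refine h4 _ ?_ ?_ ?_
    · intro x hx
      exact h.le ((hP' x).1 hx).1
    · rintro ⟨x, hx⟩
      obtain ⟨-, k, hk⟩ := (hP' x).1 hx
      exact ⟨k, Subtype.ext hk⟩
    · intro b hb k hk
      obtain ⟨h6, j, hj⟩ := (hP' k).1 hk
      refine (hP' _).2 ⟨?_, j, ?_⟩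
      · show π (b * k * b⁻¹) ∈ K
        rw [map_mul, map_mul, map_inv]
        exact h.nor _ hb _ h6
      · rw [conj_pow, hj, mul_one, mul_inv_cancel]
  have h6 : P.map π ≤ K := by
    refine h.max _ ?_ (h2.map π) ?_
    · rintro _ ⟨x, hx, rfl⟩
      exact h1 hx
    · rintro a ha _ ⟨x, hx, rfl⟩
      obtain ⟨b, rfl⟩ := hπ a
      exact ⟨b * x * b⁻¹, h3 b ha x hx, by rw [map_mul, map_mul, map_inv]⟩
  -- lifts of `p`-elements
  have h7 : ∀ y ∈ K, ∃ x ∈ P, π x = y := by
    intro y hy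
    obtain ⟨r, rfl⟩ := hπ y
    obtain ⟨k, hk'⟩ := h.pg ⟨_, hy⟩
    have hk2 : (π r) ^ p ^ k = 1 := congrArg Subtype.val hk'
    have hk3 : r ^ p ^ k ∈ π.ker := by rw [MonoidHom.mem_ker, map_pow, hk2]
    have hk4 : (r ^ p ^ k) ^ m = 1 := hk _ hk3
    obtain ⟨j, hj0, hj⟩ : ∃ j : ℕ, m ∣ j ∧ j ≡ 1 [MOD p ^ k] := by
      have hcop : Nat.Coprime m (p ^ k) := hm.pow_right k
      obtain ⟨j, hj⟩ := Nat.chineseRemainder hcop 0 1
      exact ⟨j, (Nat.modEq_zero_iff_dvd).1 hj.1, hj.2⟩
    have hπr : π (r ^ j) = π r := by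
      rw [map_pow]
      have h8 : (π r) ^ j = (π r) ^ 1 := by
        rw [pow_eq_pow_iff_modEq]
        exact hj.of_dvd (orderOf_dvd_of_pow_eq_one hk2)
      rw [h8, pow_one]
    refine ⟨r ^ j, h5 ((hP' _).2 ⟨?_, k, ?_⟩), hπr⟩
    · show π (r ^ j) ∈ K
      rw [hπr]
      exact hy
    · obtain ⟨c, rfl⟩ := hj0
      rw [← pow_mul, mul_comm, ← mul_assoc, pow_mul, pow_mul, hk4, one_pow]
  refine ⟨P, h1, h2, h3, h4, ?_⟩
  intro hne g hg
  have hKne : K ≠ ⊥ := by
    intro hK
    apply hne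
    rw [Subgroup.eq_bot_iff_forall]
    intro x hx
    have h8 : π x ∈ K := h6 ⟨x, hx, rfl⟩
    rw [hK, Subgroup.mem_bot] at h8
    have h9 := hk x h8
    obtain ⟨k, hk'⟩ := h2 ⟨x, hx⟩
    have h10 : x ^ p ^ k = 1 := congrArg Subtype.val hk'
    have h11 : orderOf x ∣ 1 := by
      rw [← (hm.pow_right k).gcd_eq_one]
      exact Nat.dvd_gcd (orderOf_dvd_of_pow_eq_one h9) (orderOf_dvd_of_pow_eq_one h10)
    rw [← orderOf_eq_one_iff]
    exact Nat.dvd_one.1 h11
  apply h.norm hKne
  intro y hy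
  obtain ⟨x, hx, rfl⟩ := h7 y hy
  rw [← map_inv, ← map_mul, ← map_mul]
  exact h6 ⟨_, hg x hx, rfl⟩

/-- **Baer–Suzuki** -/
theorem bs {S : Type*} [Group S] [Finite S] {p : ℕ} [Fact p.Prime] {B P : Subgroup S} (h : OpN p B P) {x : S}
    (hx : x ∈ B) (hg : ∀ g ∈ B, IsPGroup p (closure {x, g * x * g⁻¹})) : x ∈ P := by
  have h1 : ∀ g : B, IsPGroup p ↥(zpowers (⟨x, hx⟩ : B) ⊔ (zpowers (⟨x, hx⟩ : B)).map (MulAut.conj g).toMonoidHom) := by
    intro g
    refine IsPGroup.of_injective (hg g g.2) ((B.subtype.comp (Subgroup.subtype _)).codRestrict _ ?_) ?_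
    · rintro ⟨y, hy⟩
      have h2 : zpowers (⟨x, hx⟩ : B) ⊔ (zpowers (⟨x, hx⟩ : B)).map (MulAut.conj g).toMonoidHom ≤
          (_root_.Subgroup.closure {x, (g : S) * x * (g : S)⁻¹}).comap B.subtype := by
        rw [sup_le_iff, Subgroup.map_le_iff_le_comap, zpowers_le, zpowers_le]
        exact ⟨_root_.Subgroup.subset_closure (Set.mem_insert _ _), _root_.Subgroup.subset_closure (Set.mem_insert_of_mem _ rfl)⟩
      exact h2 hy
    · intro a b hab
      have h3 : ((a : B) : S) = ((b : B) : S) := congrArg (fun z : ↥(closure {x, (g : S) * x * (g : S)⁻¹}) => (z : S)) hab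
      exact Subtype.ext (Subtype.ext h3)
  have h0 : IsPGroup p (zpowers (⟨x, hx⟩ : B)) := (h1 1).to_le le_sup_left
  obtain ⟨N, hN1, hN2, hN3⟩ := S0199.result (zpowers (⟨x, hx⟩ : B)) h0 h1
  have h2 : N.map B.subtype ≤ P := by
    refine h.max _ ?_ (hN2.map _) ?_
    · rintro _ ⟨y, -, rfl⟩
      exact y.2
    · rintro b hb _ ⟨y, hy, rfl⟩
      exact ⟨_, hN1.conj_mem y hy ⟨b, hb⟩, rfl⟩
  exact h2 ⟨⟨x, hx⟩, hN3 (mem_zpowers _), rfl⟩

end Cfsg.Agent.H458.IFl
end

-- part: H458/IF/TOne
section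
/-!
# S5719, PSL_4 (q odd), case (t1) (helper458)
-/

set_option autoImplicit false
set_option linter.unusedSectionVars false

namespace Cfsg.Agent.H458.IFl

open Subgroup Matrix Cfsg.Agent.H209.Fxy Cfsg.Agent.H358.IF

section mats

variable {ι : Type} [Fintype ι] [DecidableEq ι] {F : Type} [Field F]

/-- `1 + m` with `m³ = 0` has order dividing `p` -/
theorem pow_p_eq_one [Nonempty ι] {p : ℕ} [hp : Fact p.Prime] [CharP F p] (hp3 : 3 ≤ p) {m : Matrix ι ι F}
    (hm : m * m * m = 0) : (1 + m) ^ p = 1 := by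
  have h1 : m ^ 3 = 0 := by rw [pow_succ, pow_two, hm]
  have h2 : m ^ p = 0 := pow_eq_zero_of_le hp3 h1
  rw [add_pow_char_of_commute p (Commute.one_left m), one_pow, h2, add_zero]

theorem sl_pow_p [Nonempty ι] {p : ℕ} [hp : Fact p.Prime] [CharP F p] (hp3 : 3 ≤ p) {g : _root_.Matrix.SpecialLinearGroup ι F}
    (hm : (g.val - 1) * (g.val - 1) * (g.val - 1) = 0) : g ^ p = 1 := by
  apply Subtype.ext
  rw [Matrix.SpecialLinearGroup.coe_pow]
  have h1 := pow_p_eq_one hp3 hm
  rw [add_sub_cancel] at h1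
  exact h1

/-- two unipotent elements -/
theorem pg_closure [Nonempty ι] {p : ℕ} [hp : Fact p.Prime] [CharP F p] (hp3 : 3 ≤ p) {x x' : _root_.Matrix.SpecialLinearGroup ι F}
    {n n' : Matrix ι ι F} (hx : x.val = 1 + n) (hx' : x'.val = 1 + n') (h1 : n * n = 0) (h2 : n' * n' = 0)
    (h3 : n * n' = 0) : IsPGroup p (closure {x, x'}) := by
  have key : ∀ g ∈ _root_.Subgroup.closure {x, x'}, ∃ α β γ : F, g.val = 1 + α • n + β • n' + γ • (n' * n) := by
    intro g hg
    have h4 : n' * n * n = 0 := by rw [mul_assoc, h1, mul_zero]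
    have h5 : n' * n * n' = 0 := by rw [mul_assoc, h3, mul_zero]
    have h6 : n' * (n' * n) = 0 := by rw [← mul_assoc, h2, zero_mul]
    have h7 : n * (n' * n) = 0 := by rw [← mul_assoc, h3, zero_mul]
    have h8 : n' * n * (n' * n) = 0 := by rw [← mul_assoc, h5, zero_mul]
    have hmul : ∀ α β γ α' β' γ' : F, (1 + α • n + β • n' + γ • (n' * n)) * (1 + α' • n + β' • n' + γ' • (n' * n)) =
        1 + (α + α') • n + (β + β') • n' + (γ + γ' + β * α') • (n' * n) := by
      intro α β γ α' β' γ'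
      simp only [add_mul, mul_add, one_mul, mul_one, smul_mul_smul_comm, h1, h2, h3, h4, h5, h6, h7, h8, smul_zero,
        add_zero, add_smul, smul_add]
      abel
    induction hg using Subgroup.closure_induction with
    | mem g hg =>
      rcases hg with rfl | hg
      · exact ⟨1, 0, 0, by rw [hx]; simp⟩
      · have hg' : g = x' := hg
        exact ⟨0, 1, 0, by rw [hg', hx']; simp⟩
    | one => exact ⟨0, 0, 0, by simp⟩
    | mul a b _ _ iha ihb =>
      obtain ⟨α, β, γ, ha⟩ := iha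
      obtain ⟨α', β', γ', hb⟩ := ihb
      exact ⟨_, _, _, by rw [Matrix.SpecialLinearGroup.coe_mul, ha, hb, hmul]⟩
    | inv a _ iha =>
      obtain ⟨α, β, γ, ha⟩ := iha
      refine ⟨-α, -β, -γ + β * α, ?_⟩
      have h9 : a.val * (a⁻¹ : _root_.Matrix.SpecialLinearGroup ι F).val = 1 := mul_inv_val a
      have h10 : (1 + (-α) • n + (-β) • n' + (-γ + β * α) • (n' * n)) * a.val = 1 := by
        rw [ha, hmul]
        have e1 : -α + α = 0 := by ring
        have e2 : -β + β = 0 := by ring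
        have e3 : -γ + β * α + γ + -β * α = 0 := by ring
        rw [e1, e2, e3, zero_smul, zero_smul, zero_smul, add_zero, add_zero, add_zero]
      calc (a⁻¹ : _root_.Matrix.SpecialLinearGroup ι F).val
          = ((1 + (-α) • n + (-β) • n' + (-γ + β * α) • (n' * n)) * a.val) * (a⁻¹ : _root_.Matrix.SpecialLinearGroup ι F).val := by
            rw [h10, one_mul]
        _ = 1 + (-α) • n + (-β) • n' + (-γ + β * α) • (n' * n) := by rw [mul_assoc, h9, mul_one]
  rintro ⟨g, hg⟩
  refine ⟨1, Subtype.ext ?_⟩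
  show g ^ p ^ 1 = 1
  rw [pow_one]
  obtain ⟨α, β, γ, ha⟩ := key g hg
  apply sl_pow_p hp3
  have h4 : n' * n * n = 0 := by rw [mul_assoc, h1, mul_zero]
  have h5 : n' * n * n' = 0 := by rw [mul_assoc, h3, mul_zero]
  have h6 : n' * (n' * n) = 0 := by rw [← mul_assoc, h2, zero_mul]
  have h7 : n * (n' * n) = 0 := by rw [← mul_assoc, h3, zero_mul]
  have h8 : n' * n * (n' * n) = 0 := by rw [← mul_assoc, h5, zero_mul]
  have h9 : g.val - 1 = α • n + β • n' + γ • (n' * n) := by rw [ha]; abel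
  rw [h9]
  have h10 : (α • n + β • n' + γ • (n' * n)) * (α • n + β • n' + γ • (n' * n)) = (β * α) • (n' * n) := by
    simp only [add_mul, mul_add, smul_mul_smul_comm, h1, h2, h3, h4, h5, h6, h7, h8, smul_zero,
      add_zero, zero_add]
  rw [h10]
  simp only [mul_add, smul_mul_smul_comm, h4, h5, h8, smul_zero, add_zero]

/-- `SL_2` on a summand -/
def emb (Bm : Matrix ι (Fin 2) F) (Cm : Matrix (Fin 2) ι F) (h : Cm * Bm = 1) :
    _root_.Matrix.SpecialLinearGroup (Fin 2) F →* _root_.Matrix.SpecialLinearGroup ι F where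
  toFun m := ⟨1 + Bm * (m.val - 1) * Cm, by
    rw [Matrix.mul_assoc, Matrix.det_one_add_mul_comm, Matrix.mul_assoc, h, Matrix.mul_one, add_sub_cancel, m.2]⟩
  map_one' := Subtype.ext (by
    show 1 + Bm * ((1 : Matrix (Fin 2) (Fin 2) F) - 1) * Cm = 1
    rw [sub_self, Matrix.mul_zero, Matrix.zero_mul, add_zero])
  map_mul' m m' := Subtype.ext (by
    show 1 + Bm * (m.val * m'.val - 1) * Cm = (1 + Bm * (m.val - 1) * Cm) * (1 + Bm * (m'.val - 1) * Cm)
    have h1 : Bm * (m.val - 1) * Cm * (Bm * (m'.val - 1) * Cm) = Bm * ((m.val - 1) * (m'.val - 1)) * Cm := by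
      calc Bm * (m.val - 1) * Cm * (Bm * (m'.val - 1) * Cm) = Bm * (m.val - 1) * (Cm * Bm) * (m'.val - 1) * Cm := by
            simp only [Matrix.mul_assoc]
        _ = _ := by rw [h, Matrix.mul_one]; simp only [Matrix.mul_assoc]
    have h2 : m.val * m'.val - 1 = (m.val - 1) + (m'.val - 1) + (m.val - 1) * (m'.val - 1) := by
      rw [sub_mul, mul_sub, mul_one, one_mul]; abel
    rw [h2, Matrix.mul_add, Matrix.mul_add, Matrix.add_mul, Matrix.add_mul, ← h1]
    generalize Bm * (m.val - 1) * Cm = X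
    generalize Bm * (m'.val - 1) * Cm = Y
    rw [add_mul, one_mul, mul_add, mul_one]
    abel)

end mats

/-- dihedral argument: two involutions with product of odd order are conjugate -/
theorem dih {G : Type*} [Group G] {B : Subgroup G} {t s : G} (ht : t ∈ B) (hs : s ∈ B) (ht2 : t * t = 1) (hs2 : s * s = 1)
    {p : ℕ} (hp : Odd p) (hu : (t * s) ^ p = 1) : ∃ v ∈ B, v * s * v⁻¹ = t := by
  obtain ⟨j, hj⟩ := hp
  have hti : t⁻¹ = t := inv_eq_of_mul_eq_one_left ht2
  have hsi : s⁻¹ = s := inv_eq_of_mul_eq_one_left hs2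
  set u := t * s with hu'
  have h1 : t * u * t⁻¹ = u⁻¹ := by
    rw [hu', _root_.mul_inv_rev, hti, hsi, ← mul_assoc, ht2, one_mul]
  set! v := u ^ (j + 1) with hv
  have h2 : v * v = u := by
    rw [hv, ← pow_add]
    have : j + 1 + (j + 1) = p + 1 := by omega
    rw [this, pow_succ, hu, one_mul]
  have h3 : t * v * t⁻¹ = v⁻¹ := by
    rw [hv, ← conj_pow, h1, inv_pow]
  refine ⟨v, B.pow_mem (B.mul_mem ht hs) _, ?_⟩
  have h4 : s = t * u := by rw [hu', ← mul_assoc, ht2, one_mul]
  have h5 : t * v⁻¹ * t⁻¹ = v := by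
    calc t * v⁻¹ * t⁻¹ = (t * v * t⁻¹)⁻¹ := by group
      _ = v := by rw [h3, inv_inv]
  calc v * s * v⁻¹ = v * t * (v * v) * v⁻¹ := by rw [h2, h4]; group
    _ = (t * v⁻¹ * t⁻¹) * t * v := by rw [h5]; group
    _ = t := by group

end Cfsg.Agent.H458.IFl
end

-- part: H458/IF/TOneB
section
/-!
# S5719, PSL_4 (q odd), case (t1): two conjugates of the transvection `x` generate a `p`-group (helper458)
-/

set_option autoImplicit false
set_option linter.unusedSectionVars false

namespace Cfsg.Agent.H458.IFl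

open Subgroup Matrix Cfsg.Agent.H209.Fxy Cfsg.Agent.H358.IF

variable {F : Type} [Field F]

/-- the projection onto the second block -/
def e0 : Matrix I4 I4 F := fromBlocks 0 0 0 1

/-- third basis vector -/
def v3 : I4 → F := Sum.elim 0 ![1, 0]

/-- fourth basis vector -/
def v4 : I4 → F := Sum.elim 0 ![0, 1]

theorem e0_eq : (e0 : Matrix I4 I4 F) = vecMulVec v3 v3 + vecMulVec v4 v4 := by
  ext i j
  rcases i with i | i <;> rcases j with j | j <;> (revert i j; simp [e0, v3, v4, vecMulVec_apply, fromBlocks, _root_.Fin.forall_fin_succ])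

theorem dp33 : (v3 : I4 → F) ⬝ᵥ v3 = 1 := by simp [dotProduct, v3]

theorem dp43 : (v4 : I4 → F) ⬝ᵥ v3 = 0 := by simp [dotProduct, v3, v4]

theorem dp44 : (v4 : I4 → F) ⬝ᵥ v4 = 1 := by simp [dotProduct, v4]

/-- the transvection -/
def uu : S2 F := ⟨!![1, 1; 0, 1], by simp [det_fin_two_of]⟩

theorem blk_uu : (blk (1, (uu : S2 F))).val = 1 + vecMulVec v3 v4 := by
  rw [blk_val]
  ext i j
  rcases i with i | i <;> rcases j with j | j <;> (revert i j; simp [uu, v3, v4, vecMulVec_apply, fromBlocks, _root_.Fin.forall_fin_succ])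

theorem t_val : (blk ((-1 : S2 F), 1)).val = 2 • e0 - 1 := by
  rw [blk_val, e0]
  ext i j
  rcases i with i | i <;> rcases j with j | j <;> (revert i j; simp only [fromBlocks, _root_.Fin.forall_fin_succ, _root_.Matrix.SpecialLinearGroup.coe_neg, _root_.Matrix.SpecialLinearGroup.coe_one, _root_.Matrix.of_apply, _root_.Sum.elim_inl, _root_.Matrix.neg_apply, _root_.Matrix.smul_of, _root_.nsmul_eq_mul, _root_.Nat.cast_ofNat, _root_.Matrix.sub_apply, _root_.Pi.mul_apply, _root_.Pi.ofNat_apply, _root_.Matrix.zero_apply, _root_.MulZeroClass.mul_zero, _root_.zero_sub, _root_.neg_inj, _root_.IsEmpty.forall_iff, _root_.and_true, _root_.Matrix.one_apply_eq, _root_.Nat.reduceAdd, _root_.Fin.isValue, _root_.Fin.succ_zero_eq_one, _root_.ne_eq, _root_.zero_ne_one, _root_.not_false_eq_true, _root_.Matrix.one_apply_ne, _root_.Sum.inl.injEq, _root_.and_self, _root_.Fin.succ_ne_zero, _root_.true_and, _root_.Sum.elim_inr, _root_.reduceCtorEq, _root_.sub_self, _root_.implies_true,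 _root_.mul_one, _root_.Sum.inr.injEq]) <;> (repeat' with_reducible apply And.intro) <;> norm_num

/-- the nilpotent algebra computation -/
theorem nil_aux {α f : I4 → F} {v β : I4 → F} (h1 : f ⬝ᵥ v = 0) (h2 : α ⬝ᵥ v = 0) (h3 : f ⬝ᵥ β = 0) :
    (vecMulVec v α + vecMulVec β f) * (vecMulVec v α + vecMulVec β f) * (vecMulVec v α + vecMulVec β f) = 0 := by
  have h4 : (vecMulVec v α + vecMulVec β f) * (vecMulVec v α + vecMulVec β f) = (α ⬝ᵥ β) • vecMulVec v f := by
    simp only [add_mul, mul_add, vecMulVec_mul_vecMulVec, h1, h2, h3, vecMulVec_smul, zero_smul, zero_add, add_zero,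
      vecMulVec_zero]
  rw [h4]
  simp only [mul_add, smul_mul_assoc, vecMulVec_mul_vecMulVec, h1, h3, vecMulVec_smul, zero_smul, smul_zero, add_zero,
    vecMulVec_zero]

theorem pr_two (M : Matrix (Fin 2) (Fin 2) F) (v v' f f' : I4 → F) (c d : F) :
    (Matrix.of fun i j => ![v, v'] j i : Matrix I4 (Fin 2) F) * M * (Matrix.of ![d • f', c • f] : Matrix (Fin 2) I4 F) =
      (M 0 0 * d) • vecMulVec v f' + (M 0 1 * c) • vecMulVec v f + (M 1 0 * d) • vecMulVec v' f' +
        (M 1 1 * c) • vecMulVec v' f := by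
  ext i j
  simp only [Matrix.mul_apply, Fin.sum_univ_two, of_apply, cons_val_zero, cons_val_one, Matrix.add_apply,
    Matrix.smul_apply, vecMulVec_apply, Pi.smul_apply, smul_eq_mul]
  ring

variable [Finite F]

/-- **(BS)** -/
theorem opp_false {p : ℕ} [hp : Fact p.Prime] [CharP F p] (hp3 : 3 ≤ p) (h2 : (2 : F) ≠ 0) {B : Subgroup (S4 F)}
    (hneg : ∀ s ∈ B, ∀ t : S4 F, t.val = (-1 : F) • s.val → t ∈ B) (hU : blk ((-1 : S2 F), 1) ∈ B)
    (hno : ∀ b : S2 F, b.val * b.val = -1 → blk (1, b) ∉ B) {x x' : S4 F} (hx : x ∈ B) (hx' : x' ∈ B)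
    (hxv : x.val = 1 + vecMulVec v3 v4) {v f : I4 → F} (hxv' : x'.val = 1 + vecMulVec v f) (h0 : f ⬝ᵥ v = 0)
    (hc : v4 ⬝ᵥ v ≠ 0) (hd : f ⬝ᵥ v3 ≠ 0) : False := by
  set c := v4 ⬝ᵥ v with hc'
  set d := f ⬝ᵥ v3 with hd'
  set! Bm : Matrix I4 (Fin 2) F := Matrix.of fun i j => ![v3, v] j i with hBm
  set! Cm : Matrix (Fin 2) I4 F := Matrix.of ![d⁻¹ • f, c⁻¹ • v4] with hCm
  have hCB : Cm * Bm = 1 := by
    ext i j
    have e1 : (Cm * Bm) i j = Cm i ⬝ᵥ (![v3, v] j) := by
      rw [Matrix.mul_apply]; rfl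
    rw [e1]
    fin_cases i <;> fin_cases j
    · show (d⁻¹ • f) ⬝ᵥ v3 = 1
      rw [smul_dotProduct, ← hd', smul_eq_mul, inv_mul_cancel₀ hd]
    · show (d⁻¹ • f) ⬝ᵥ v = 0
      rw [smul_dotProduct, h0, smul_zero]
    · show (c⁻¹ • (v4 : I4 → F)) ⬝ᵥ v3 = 0
      rw [smul_dotProduct, dp43, smul_zero]
    · show (c⁻¹ • (v4 : I4 → F)) ⬝ᵥ v = 1
      rw [smul_dotProduct, ← hc', smul_eq_mul, inv_mul_cancel₀ hc]
  have hBC : ∀ M : Matrix (Fin 2) (Fin 2) F, Bm * M * Cm = (M 0 0 * d⁻¹) • vecMulVec v3 f +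
      (M 0 1 * c⁻¹) • vecMulVec v3 v4 + (M 1 0 * d⁻¹) • vecMulVec v f + (M 1 1 * c⁻¹) • vecMulVec v v4 :=
    fun M => pr_two M v3 v v4 f c⁻¹ d⁻¹
  set! φ := emb Bm Cm hCB with hφ
  have hval : ∀ m : S2 F, (φ m).val = 1 + Bm * (m.val - 1) * Cm := fun m => rfl
  obtain ⟨xa, hxa⟩ : ∃ m : S2 F, m.val = !![1, c; 0, 1] := ⟨⟨!![1, c; 0, 1], by simp [det_fin_two_of]⟩, rfl⟩
  obtain ⟨xb, hxb⟩ : ∃ m : S2 F, m.val = !![1, 0; d, 1] := ⟨⟨!![1, 0; d, 1], by simp [det_fin_two_of]⟩, rfl⟩
  have hxφ : φ xa = x := by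
    apply Subtype.ext
    rw [hval, hxv, hBC, hxa]
    simp [mul_inv_cancel₀ hc]
  have hxφ' : φ xb = x' := by
    apply Subtype.ext
    rw [hval, hxv', hBC, hxb]
    simp [mul_inv_cancel₀ hd]
  obtain ⟨y, hy, hyy⟩ := Cfsg.Agent.H411.L4.exists_sq h2 hc hd (B.comap φ)
    (x := xa) (x' := xb)
    (by rw [Subgroup.mem_comap, hxφ]; exact hx) (by rw [Subgroup.mem_comap, hxφ']; exact hx') hxa hxb
  have hyB : φ y ∈ B := hy
  set! e : Matrix I4 I4 F := Bm * Cm with he
  have hee : e * e = e := by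
    rw [he, Matrix.mul_assoc, ← Matrix.mul_assoc Cm, hCB, Matrix.one_mul]
  have hY1 : e * ((φ y).val - 1) = (φ y).val - 1 := by
    rw [hval, add_sub_cancel_left, he, Matrix.mul_assoc, ← Matrix.mul_assoc Cm, ← Matrix.mul_assoc Cm, hCB,
      Matrix.one_mul, ← Matrix.mul_assoc]
  have hY2 : ((φ y).val - 1) * e = (φ y).val - 1 := by
    rw [hval, add_sub_cancel_left, he, Matrix.mul_assoc, ← Matrix.mul_assoc Cm, hCB, Matrix.one_mul]
  have hYY : (φ y).val * (φ y).val = 1 - (2 : F) • e := by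
    have h3 : (φ y * φ y).val = 1 + Bm * ((y * y).val - 1) * Cm := by rw [← map_mul, hval]
    have h4 : (φ y).val * (φ y).val = (φ y * φ y).val := rfl
    rw [h4, h3]
    have h5 : (y * y).val - 1 = (-2 : F) • (1 : Matrix (Fin 2) (Fin 2) F) := by
      show y.val * y.val - 1 = _
      rw [hyy]
      rw [neg_smul, two_smul]
      abel
    rw [h5, Matrix.mul_smul, Matrix.mul_one, Matrix.smul_mul, ← he, neg_smul, ← sub_eq_add_neg]
  -- `t`, `s`
  set! t : S4 F := blk ((-1 : S2 F), 1) with ht; rewrite [← ht] at hU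
  have htv : t.val = (2 : F) • e0 - 1 := by
    rw [ht, t_val]
    congr 1
    rw [two_smul, two_smul]
  have he0 : (e0 : Matrix I4 I4 F) * e0 = e0 := by
    simp [e0, fromBlocks_multiply]
  obtain ⟨s, hs⟩ : ∃ s : S4 F, s.val = (2 : F) • e - 1 := by
    refine ⟨⟨(2 : F) • e - 1, ?_⟩, rfl⟩
    have h3 : (2 : F) • e - 1 = (-1 : F) • (φ y * φ y).val := by
      show _ = (-1 : F) • ((φ y).val * (φ y).val)
      rw [hYY, neg_smul, one_smul]
      abel
    have h4 : ((φ y * φ y : S4 F).val).det = 1 := (φ y * φ y).2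
    rw [h3, det_smul, h4, mul_one, Fintype.card_sum, Fintype.card_fin]
    norm_num
  have hsB : s ∈ B := by
    refine hneg (φ y * φ y) (B.mul_mem hyB hyB) s ?_
    rw [hs]
    show _ = (-1 : F) • ((φ y).val * (φ y).val)
    rw [hYY, neg_smul, one_smul]
    abel
  have hidem : ∀ E : Matrix I4 I4 F, E * E = E → ((2 : F) • E - 1) * ((2 : F) • E - 1) = 1 := by
    intro E hE
    rw [sub_mul, mul_sub, smul_mul_smul_comm, hE, mul_one, one_mul]
    have h3 : ((2 : F) * 2) • E = (2 : F) • E + (2 : F) • E := by rw [← add_smul]; norm_num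
    rw [h3]
    abel
  have ht2 : t * t = 1 := Subtype.ext (by
    show t.val * t.val = 1
    rw [htv]
    exact hidem _ he0)
  have hs2 : s * s = 1 := Subtype.ext (by
    show s.val * s.val = 1
    rw [hs]
    exact hidem _ hee)
  -- `e - e0`
  set! w : I4 → F := d⁻¹ • f - v3 with hw
  set! b : I4 → F := c⁻¹ • v - v4 with hb
  have heN : e - e0 = vecMulVec v3 w + vecMulVec b v4 := by
    have h3 : e = d⁻¹ • vecMulVec v3 f + c⁻¹ • vecMulVec v v4 := by
      have h4 := hBC 1
      rw [Matrix.mul_one] at h4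
      rw [he, h4]
      simp
    rw [h3, e0_eq, hw, hb, vecMulVec_sub, sub_vecMulVec, vecMulVec_smul, smul_vecMulVec]
    abel
  have hu : (t * s).val - 1 = vecMulVec v3 ((2 : F) • w) + vecMulVec ((2 : F) • (t.val *ᵥ b)) v4 := by
    have h3 : (t * s).val = t.val * s.val := rfl
    have h4 : t.val * s.val = 1 + (2 : F) • (t.val * (e - e0)) := by
      have h5 : s.val = t.val + (2 : F) • (e - e0) := by
        rw [hs, htv, smul_sub]; abel
      have h6 : t.val * t.val = 1 := congrArg Subtype.val ht2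
      rw [h5, mul_add, h6, Matrix.mul_smul]
    rw [h3, h4, add_sub_cancel_left, heN, mul_add, mul_vecMulVec, mul_vecMulVec, smul_add, ← vecMulVec_smul,
      ← smul_vecMulVec]
    congr 2
    rw [htv, sub_mulVec, smul_mulVec, one_mulVec, e0_eq, add_mulVec, vecMulVec_mulVec, vecMulVec_mulVec, dp33, dp43]
    simp
    rw [two_smul]
    abel
  have hw0 : ((2 : F) • w) ⬝ᵥ v3 = 0 := by
    rw [hw, smul_dotProduct, sub_dotProduct, smul_dotProduct, ← hd', smul_eq_mul d⁻¹ d, inv_mul_cancel₀ hd, dp33, sub_self,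
      smul_zero]
  have hb0 : v4 ⬝ᵥ b = 0 := by
    rw [hb, dotProduct_sub, dotProduct_smul, ← hc', smul_eq_mul, inv_mul_cancel₀ hc, dp44, sub_self]
  have hb1 : v4 ⬝ᵥ ((2 : F) • (t.val *ᵥ b)) = 0 := by
    rw [dotProduct_smul, dotProduct_mulVec]
    have h3 : v4 ᵥ* t.val = v4 := by
      rw [htv, vecMul_sub, vecMul_smul, vecMul_one, e0_eq, vecMul_add, vecMul_vecMulVec, vecMul_vecMulVec, dp43, dp44]
      simp
      rw [two_smul]
      abel
    rw [h3, hb0, smul_zero]
  have hodd : Odd p := (hp.out.odd_of_ne_two (by omega))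
  have hup : (t * s) ^ p = 1 := by
    apply sl_pow_p hp3
    rw [hu]
    exact nil_aux dp43 hw0 hb1
  obtain ⟨z, hzB, hz⟩ := dih hU hsB ht2 hs2 hodd hup
  -- the element `Y`
  set! Y : S4 F := z * φ y * z⁻¹ with hYdef
  have hYB : Y ∈ B := B.mul_mem (B.mul_mem hzB hyB) (B.inv_mem hzB)
  have hzz : z.val * (z⁻¹ : S4 F).val = 1 := mul_inv_val z
  have hzz' : (z⁻¹ : S4 F).val * z.val = 1 := inv_mul_val z
  have hze : z.val * e * (z⁻¹ : S4 F).val = e0 := by
    have h3 : z.val * s.val * (z⁻¹ : S4 F).val = t.val := congrArg Subtype.val hz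
    rw [hs, htv, mul_sub, sub_mul, Matrix.mul_smul, Matrix.smul_mul, mul_one, hzz] at h3
    have h4 : (2 : F) • (z.val * e * (z⁻¹ : S4 F).val) = (2 : F) • e0 := sub_left_injective h3
    exact smul_right_injective _ h2 h4
  have hconj : ∀ X Y : Matrix I4 I4 F, z.val * (X * Y) * (z⁻¹ : S4 F).val =
      (z.val * X * (z⁻¹ : S4 F).val) * (z.val * Y * (z⁻¹ : S4 F).val) := by
    intro X Y
    calc z.val * (X * Y) * (z⁻¹ : S4 F).val = z.val * X * 1 * Y * (z⁻¹ : S4 F).val := by
          simp only [mul_assoc, one_mul]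
      _ = _ := by rw [← hzz']; simp only [mul_assoc]
  have hYv : Y.val = z.val * (φ y).val * (z⁻¹ : S4 F).val := rfl
  have hYm : Y.val - 1 = z.val * ((φ y).val - 1) * (z⁻¹ : S4 F).val := by
    rw [hYv, mul_sub, sub_mul, mul_one, hzz]
  have hA1 : e0 * (Y.val - 1) = Y.val - 1 := by
    rw [hYm, ← hze, ← hconj, hY1]
  have hA2 : (Y.val - 1) * e0 = Y.val - 1 := by
    rw [hYm, ← hze, ← hconj, hY2]
  have hA3 : Y.val * Y.val = 1 - (2 : F) • e0 := by
    rw [hYv, ← hconj, hYY, mul_sub, sub_mul, mul_one, hzz, Matrix.mul_smul, Matrix.smul_mul, hze]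
  obtain ⟨a1, a2, a3, a4, hYb⟩ : ∃ a1 a2 a3 a4 : M2 F, Y.val = fromBlocks a1 a2 a3 a4 :=
    ⟨_, _, _, _, (fromBlocks_toBlocks Y.val).symm⟩
  have h1b : (1 : Matrix I4 I4 F) = fromBlocks 1 0 0 1 := fromBlocks_one.symm
  have hYb1 : Y.val - 1 = fromBlocks (a1 - 1) a2 a3 (a4 - 1) := by
    rw [hYb, h1b, sub_eq_add_neg, fromBlocks_neg, fromBlocks_add]
    simp [sub_eq_add_neg]
  rw [hYb1, e0, fromBlocks_multiply] at hA1 hA2
  simp only [zero_mul, mul_zero, one_mul, mul_one, zero_add, add_zero] at hA1 hA2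
  obtain ⟨k1, k2, -, -⟩ := fromBlocks_inj.1 hA1
  obtain ⟨-, -, k3, -⟩ := fromBlocks_inj.1 hA2
  have k4 : a1 = 1 := (sub_eq_zero.1 k1.symm)
  subst k4
  rw [← k2, ← k3] at hYb
  have hdet : a4.det = 1 := by
    have h3 := Y.2
    rw [hYb, det_fromBlocks_zero₂₁, det_one, one_mul] at h3
    exact h3
  have hsq : a4 * a4 = -1 := by
    rw [hYb, e0, h1b, fromBlocks_multiply, fromBlocks_smul, sub_eq_add_neg, fromBlocks_neg, fromBlocks_add] at hA3
    obtain ⟨-, -, -, h4⟩ := fromBlocks_inj.1 hA3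
    rw [mul_zero, zero_add] at h4
    rw [h4, two_smul]
    abel
  obtain ⟨m4, hm4⟩ : ∃ m : S2 F, m.val = a4 := ⟨⟨a4, hdet⟩, rfl⟩
  refine hno m4 (by rw [hm4]; exact hsq) ?_
  have h3 : blk (1, m4) = Y := by
    apply Subtype.ext
    rw [blk_val, hYb, hm4]
    rfl
  rw [h3]
  exact hYB

end Cfsg.Agent.H458.IFl
end

-- part: H458/IF/TOneC
section
/-!
# S5719, PSL_4 (q odd), case (t1): the end (helper458)
-/

set_option autoImplicit false
set_option linter.unusedSectionVars false

namespace Cfsg.Agent.H458.IFl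

open Subgroup Matrix Cfsg.Agent.H209.Fxy Cfsg.Agent.H358.IF

section

variable {F : Type} [Field F]

/-- the natural representation -/
def rho : S4 F →* Module.End F (I4 → F) where
  toFun g := Matrix.toLin' g.val
  map_one' := Matrix.toLin'_one
  map_mul' g h := Matrix.toLin'_mul g.val h.val

theorem rho_ap (g : S4 F) (v : I4 → F) : rho g v = g.val *ᵥ v := Matrix.toLin'_apply g.val v

theorem rho_inj : Function.Injective (rho : S4 F →* Module.End F (I4 → F)) := by
  intro g h hgh
  apply Subtype.ext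
  exact Matrix.toLin'.injective hgh

theorem dg_mulVec (d e : M2 F) (h : d.det * e.det = 1) (w : I4 → F) :
    (dg d e h).val *ᵥ w = Sum.elim (d *ᵥ (w ∘ Sum.inl)) (e *ᵥ (w ∘ Sum.inr)) := by
  rw [dg_val, fromBlocks_mulVec]
  simp only [_root_.Matrix.mulVec_fin_two, _root_.Nat.succ_eq_add_one, _root_.Nat.reduceAdd, _root_.Fin.isValue, _root_.Function.comp_apply, _root_.Matrix.zero_mulVec, _root_.add_zero, _root_.zero_add]

theorem sum_add (a a' b b' : Fin 2 → F) : (Sum.elim a b : I4 → F) + Sum.elim a' b' = Sum.elim (a + a') (b + b') := by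
  ext i; rcases i with i | i <;> rfl

theorem sum_smul (c : F) (a b : Fin 2 → F) : c • (Sum.elim a b : I4 → F) = Sum.elim (c • a) (c • b) := by
  ext i; rcases i with i | i <;> rfl

/-- `diag(1, -1)` -/
def D2 : M2 F := !![1, 0; 0, -1]

theorem D2_det : (D2 : M2 F).det = -1 := by simp [D2, det_fin_two_of]

theorem D2_sq : (D2 : M2 F) * D2 = 1 := by
  ext i j; (revert i j; simp only [D2, Matrix.mul_apply, Fin.sum_univ_two, _root_.Fin.forall_fin_succ, _root_.Matrix.of_apply, _root_.Matrix.cons_val', _root_.Matrix.cons_val_fin_one, Fin.isValue, _root_.Matrix.cons_val_zero, _root_.Matrix.cons_val_one, _root_.mul_one, _root_.MulZeroClass.mul_zero, _root_.add_zero, _root_.Matrix.cons_val_succ, _root_.mul_neg, _root_.zero_add, _root_.IsEmpty.forall_iff, _root_.and_true, _root_.Matrix.one_apply_eq, _root_.neg_zero, Nat.reduceAdd, _root_.Fin.succ_zero_eq_one, _root_.ne_eq, _root_.zero_ne_one, _root_.not_false_eq_true, _root_.Matrix.one_apply_ne, _root_.and_self, _root_.Fin.succ_ne_zero,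 _root_.neg_neg, _root_.true_and])

theorem D2_hd : (D2 : M2 F).det * (D2 : M2 F).det = 1 := by rw [D2_det]; norm_num

theorem D2_mulVec (a : Fin 2 → F) : D2 *ᵥ a = ![a 0, -a 1] := by
  ext i; (revert i; simp only [D2, Matrix.mulVec, dotProduct, Fin.sum_univ_two, _root_.Fin.forall_fin_succ, _root_.Matrix.of_apply, _root_.Matrix.cons_val', _root_.Matrix.cons_val_fin_one, Fin.isValue, _root_.Matrix.cons_val_zero, _root_.Matrix.cons_val_one, _root_.Nat.succ_eq_add_one, Nat.reduceAdd, _root_.one_mul, _root_.MulZeroClass.zero_mul, _root_.add_zero, _root_.Matrix.cons_val_succ, _root_.neg_mul, _root_.zero_add, _root_.implies_true, _root_.and_self])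

variable [Finite F]

/-- stability of invariant subspaces -/
theorem stab_D2 (h2 : (2 : F) ≠ 0) {B : Subgroup (S4 F)} (hU : ∀ a : S2 F, blk (a, 1) ∈ B) (hx : blk (1, uu) ∈ B)
    (W : Submodule F (I4 → F)) (hW : ∀ b ∈ B, ∀ w ∈ W, rho b w ∈ W) :
    ∀ w ∈ W, rho (dg D2 D2 D2_hd) w ∈ W := by
  intro w hw
  obtain ⟨a, b, rfl⟩ : ∃ a b : Fin 2 → F, w = Sum.elim a b :=
    ⟨w ∘ Sum.inl, w ∘ Sum.inr, by ext i; rcases i with i | i <;> rfl⟩
  have hblk : ∀ (m n : S2 F) (a b : Fin 2 → F), blk (m, n) ∈ B → (Sum.elim a b : I4 → F) ∈ W →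
      (Sum.elim (m.val *ᵥ a) (n.val *ᵥ b) : I4 → F) ∈ W := by
    intro m n a b hmn hab
    have h3 := hW _ hmn _ hab
    rw [rho_ap] at h3
    have h4 : (blk (m, n)).val *ᵥ (Sum.elim a b : I4 → F) = Sum.elim (m.val *ᵥ a) (n.val *ᵥ b) :=
      dg_mulVec _ _ (det_dg_aux m n) _
    rwa [h4] at h3
  have h3 : (Sum.elim (-a) b : I4 → F) ∈ W := by
    have h4 := hblk (-1) 1 a b (hU (-1)) hw
    have h5 : ((-1 : S2 F)).val = -1 := rfl
    have h6 : ((1 : S2 F)).val = 1 := rfl
    rwa [h5, h6, neg_mulVec, one_mulVec, one_mulVec] at h4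
  have hb : (Sum.elim 0 b : I4 → F) ∈ W := by
    have h4 := W.smul_mem (2⁻¹ : F) (W.add_mem hw h3)
    rw [sum_add, add_neg_cancel, sum_smul, smul_zero, ← two_smul F b, smul_smul, inv_mul_cancel₀ h2, one_smul] at h4
    exact h4
  have ha : (Sum.elim a 0 : I4 → F) ∈ W := by
    have h4 := W.sub_mem hw hb
    have h5 : (Sum.elim a b : I4 → F) - (Sum.elim 0 b : I4 → F) = (Sum.elim a 0 : I4 → F) := by
      ext i; rcases i with i | i <;> simp
    rwa [h5] at h4
  have hDa : (Sum.elim (D2 *ᵥ a) 0 : I4 → F) ∈ W := by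
    by_cases h0 : a 0 = 0
    · have h4 := W.neg_mem ha
      have h5 : -(Sum.elim a 0 : I4 → F) = (Sum.elim (D2 *ᵥ a) 0 : I4 → F) := by
        rw [D2_mulVec]
        ext i; rcases i with i | i
        · fin_cases i
          · simp [h0]
          · simp
        · simp
      rwa [h5] at h4
    · obtain ⟨l, hl⟩ : ∃ l : S2 F, l.val = !![1, 0; -(2 * a 1) * (a 0)⁻¹, 1] :=
        ⟨⟨!![1, 0; -(2 * a 1) * (a 0)⁻¹, 1], by simp only [det_fin_two_of, _root_.Fin.isValue, _root_.neg_mul, _root_.Matrix.det_fin_two_of, _root_.mul_one, _root_.mul_neg, _root_.MulZeroClass.zero_mul, _root_.neg_zero, _root_.sub_zero]⟩, rfl⟩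
      have h4 := hblk l 1 a 0 (hU l) ha
      rw [hl, mulVec_zero] at h4
      have h5 : !![1, 0; -(2 * a 1) * (a 0)⁻¹, 1] *ᵥ a = D2 *ᵥ a := by
        rw [D2_mulVec]
        ext i; fin_cases i
        · simp only [Matrix.mulVec, dotProduct, Fin.sum_univ_two, _root_.Matrix.mulVec, _root_.dotProduct, _root_.Fin.isValue, _root_.neg_mul, _root_.Fin.zero_eta, _root_.Matrix.of_apply, _root_.Matrix.cons_val', _root_.Matrix.cons_val_fin_one, _root_.Matrix.cons_val_zero, _root_.Fin.sum_univ_two, _root_.one_mul, _root_.Matrix.cons_val_one, _root_.MulZeroClass.zero_mul, _root_.add_zero, _root_.Nat.succ_eq_add_one, _root_.Nat.reduceAdd]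
        · simp only [Matrix.mulVec, dotProduct, Fin.sum_univ_two, _root_.Matrix.mulVec, _root_.dotProduct, _root_.Fin.isValue, _root_.neg_mul, _root_.Fin.mk_one, _root_.Matrix.of_apply, _root_.Matrix.cons_val', _root_.Matrix.cons_val_fin_one, _root_.Matrix.cons_val_one, _root_.Fin.sum_univ_two, _root_.Matrix.cons_val_zero, _root_.one_mul, _root_.Nat.succ_eq_add_one, _root_.Nat.reduceAdd]
          field_simp
          ring
      rwa [h5] at h4
  have hDb : (Sum.elim 0 (D2 *ᵥ b) : I4 → F) ∈ W := by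
    by_cases h0 : b 1 = 0
    · have h5 : (Sum.elim 0 (D2 *ᵥ b) : I4 → F) = (Sum.elim 0 b : I4 → F) := by
        rw [D2_mulVec]
        ext i; rcases i with i | i
        · rfl
        · fin_cases i
          · simp
          · simp [h0]
      rwa [h5]
    · have h4 := hblk 1 uu 0 b hx hb
      rw [mulVec_zero] at h4
      have h5 := W.add_mem (W.neg_mem hb) (W.smul_mem (2 * b 0 * (b 1)⁻¹) (W.sub_mem h4 hb))
      have h6 : -(Sum.elim 0 b : I4 → F) + (2 * b 0 * (b 1)⁻¹) •
          ((Sum.elim 0 ((uu : S2 F).val *ᵥ b) : I4 → F) - (Sum.elim 0 b : I4 → F)) = (Sum.elim 0 (D2 *ᵥ b) : I4 → F) := by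
        rw [D2_mulVec]
        ext i; rcases i with i | i
        · simp only [_root_.Fin.isValue, _root_.Matrix.mulVec_fin_two, _root_.Nat.succ_eq_add_one, _root_.Nat.reduceAdd, _root_.Pi.add_apply, _root_.Pi.neg_apply, _root_.Sum.elim_inl, _root_.Pi.zero_apply, _root_.neg_zero, _root_.Pi.smul_apply, _root_.Pi.sub_apply, _root_.sub_self, _root_.smul_eq_mul, _root_.MulZeroClass.mul_zero, _root_.add_zero]
        · fin_cases i
          · simp only [uu, Matrix.mulVec, dotProduct, Fin.sum_univ_two, _root_.Fin.isValue, _root_.Cfsg.Agent.H458.IFl.uu, _root_.Matrix.cons_mulVec, _root_.dotProduct, _root_.Fin.sum_univ_two, _root_.Matrix.cons_val_zero, _root_.one_mul, _root_.Matrix.cons_val_one, _root_.Matrix.cons_val_fin_one, _root_.MulZeroClass.zero_mul, _root_.zero_add, _root_.Matrix.empty_mulVec, _root_.Fin.zero_eta, _root_.Pi.add_apply, _root_.Pi.neg_apply, _root_.Sum.elim_inr, _root_.Pi.smul_apply, _root_.Pi.sub_apply, _root_.add_sub_cancel_left, _root_.smul_eq_mul,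 _root_.Nat.succ_eq_add_one, _root_.Nat.reduceAdd]
            field_simp
            ring
          · simp only [uu, Matrix.mulVec, dotProduct, Fin.sum_univ_two, _root_.Fin.isValue, _root_.Cfsg.Agent.H458.IFl.uu, _root_.Matrix.cons_mulVec, _root_.dotProduct, _root_.Fin.sum_univ_two, _root_.Matrix.cons_val_zero, _root_.one_mul, _root_.Matrix.cons_val_one, _root_.Matrix.cons_val_fin_one, _root_.MulZeroClass.zero_mul, _root_.zero_add, _root_.Matrix.empty_mulVec, _root_.Fin.mk_one, _root_.Pi.add_apply, _root_.Pi.neg_apply, _root_.Sum.elim_inr, _root_.Pi.smul_apply, _root_.Pi.sub_apply, _root_.sub_self, _root_.smul_eq_mul, _root_.MulZeroClass.mul_zero, _root_.add_zero, _root_.Nat.succ_eq_add_one, _root_.Nat.reduceAdd]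
      rwa [h6] at h5
  rw [rho_ap, dg_mulVec]
  have h7 : (Sum.elim (D2 *ᵥ a) (D2 *ᵥ b) : I4 → F) = (Sum.elim (D2 *ᵥ a) 0 : I4 → F) + (Sum.elim 0 (D2 *ᵥ b) : I4 → F) := by
    rw [sum_add, add_zero, zero_add]
  show (Sum.elim (D2 *ᵥ a) (D2 *ᵥ b) : I4 → F) ∈ W
  rw [h7]
  exact W.add_mem hDa hDb

end

theorem t1_core {F : Type} [Field F] [Fintype F] (h2 : (2 : F) ≠ 0) {A : Subgroup (P4 F)} (h : IFA A)
    (hU : ∀ a : S2 F, blk (a, 1) ∈ At A) (hno : ∀ b : S2 F, b.val * b.val = -1 → blk (1, b) ∉ At A)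
    (hx : blk (1, uu) ∈ At A) : dg D2 D2 D2_hd ∈ At A := by
  classical
  obtain ⟨p, hcp⟩ := CharP.exists F
  have hpp : p.Prime := CharP.char_is_prime F p
  have hp : Fact p.Prime := ⟨hpp⟩
  have hp3 : 3 ≤ p := by
    have h3 := hpp.two_le
    rcases Nat.lt_or_ge 2 p with h4 | h4
    · exact h4
    · have h5 : p = 2 := by omega
      subst h5
      exact absurd (by exact_mod_cast CharP.cast_eq_zero F 2) h2
  obtain ⟨Γ, hA⟩ := h
  have hcard : Fintype.card I4 = 4 := by rw [Fintype.card_sum, Fintype.card_fin]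
  have hsim : IsSimpleGroup (P4 F) := LieClassical.SLGen.psl_isSimpleGroup (by rw [hcard]; norm_num)
  have hfin : Finite (P4 F) := by
    unfold P4 ProjectiveSpecialLinearGroup
    infer_instance
  obtain ⟨K, hK⟩ := opN_of_IF hA p
  have hker : (pr : S4 F →* P4 F).ker = Subgroup.center (S4 F) := QuotientGroup.ker_mk' _
  obtain ⟨P, hP⟩ := opN_lift (pr : S4 F →* P4 F) pr_surj hker.le p 4 (by
      have h3 : Nat.Coprime 2 p := by
        rw [Nat.coprime_primes Nat.prime_two hpp]
        omega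
      exact Nat.Coprime.pow_left 2 h3) (by
      intro z hz
      rw [hker] at hz
      obtain ⟨c, hc, hz'⟩ := exists_smul_of_mem_center hz
      rw [hcard] at hc
      apply Subtype.ext
      rw [Matrix.SpecialLinearGroup.coe_pow, hz', smul_pow, hc, one_pow, one_smul]
      rfl) hK
  have hneg : ∀ s ∈ At A, ∀ t : S4 F, t.val = (-1 : F) • s.val → t ∈ At A := fun s hs t ht => mem_At_of_smul ht hs
  have hxP : blk (1, (uu : S2 F)) ∈ P := by
    refine bs hP hx ?_
    intro g hg
    set x : S4 F := blk (1, uu) with hxdef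
    have hxv : x.val = 1 + vecMulVec v3 v4 := blk_uu
    have hgg : g.val * (g⁻¹ : S4 F).val = 1 := mul_inv_val g
    have hgg' : (g⁻¹ : S4 F).val * g.val = 1 := inv_mul_val g
    have hxv' : (g * x * g⁻¹ : S4 F).val = 1 + vecMulVec (g.val *ᵥ v3) (v4 ᵥ* (g⁻¹ : S4 F).val) := by
      show g.val * x.val * (g⁻¹ : S4 F).val = _
      rw [hxv, mul_add, mul_one, add_mul, hgg, mul_vecMulVec, vecMulVec_mul]
    have h0 : (v4 ᵥ* (g⁻¹ : S4 F).val) ⬝ᵥ (g.val *ᵥ v3) = 0 := by
      rw [← dotProduct_mulVec, mulVec_mulVec, hgg', one_mulVec, dp43]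
    have hn1 : vecMulVec (v3 : I4 → F) v4 * vecMulVec v3 v4 = 0 := by
      rw [vecMulVec_mul_vecMulVec, dp43, zero_smul, vecMulVec_zero]
    have hn2 : vecMulVec (g.val *ᵥ v3) (v4 ᵥ* (g⁻¹ : S4 F).val) * vecMulVec (g.val *ᵥ v3) (v4 ᵥ* (g⁻¹ : S4 F).val) = 0 := by
      rw [vecMulVec_mul_vecMulVec, h0, zero_smul, vecMulVec_zero]
    by_cases hc : v4 ⬝ᵥ (g.val *ᵥ v3) = 0
    · refine pg_closure hp3 hxv hxv' hn1 hn2 ?_
      rw [vecMulVec_mul_vecMulVec, hc, zero_smul, vecMulVec_zero]
    · by_cases hd : (v4 ᵥ* (g⁻¹ : S4 F).val) ⬝ᵥ v3 = 0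
      · rw [Set.pair_comm]
        refine pg_closure hp3 hxv' hxv hn2 hn1 ?_
        rw [vecMulVec_mul_vecMulVec, hd, zero_smul, vecMulVec_zero]
      · exact (opp_false hp3 h2 hneg (hU (-1)) hno hx
          ((At A).mul_mem ((At A).mul_mem hg hx) ((At A).inv_mem hg)) hxv hxv' h0 hc hd).elim
  have hPne : P ≠ ⊥ := by
    intro hbot
    rw [hbot, Subgroup.mem_bot] at hxP
    have h3 := congrArg (fun s : S4 F => s.val (Sum.inr 0) (Sum.inr 1)) hxP
    simp only [blk_uu] at h3
    simp [v3, v4, vecMulVec_apply] at h3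
  exact flag rho p rho_inj hP hPne _ ((stab_D2 h2 hU hx :))

/-- **Case (t1).** -/
theorem t1_false {F : Type} [Field F] [Fintype F] (h2 : (2 : F) ≠ 0) {A : Subgroup (P4 F)} (h : IFA A)
    (hU : ∀ a : S2 F, blk (a, 1) ∈ At A) (hno : ∀ b : S2 F, b.val * b.val = -1 → blk (1, b) ∉ At A)
    (hx : ∃ b : S2 F, b ≠ 1 ∧ (b.val - 1) * (b.val - 1) = 0 ∧ blk (1, b) ∈ At A)
    (hfr : ∀ (d e : M2 F) (hde : d.det * e.det = 1), d * d = 1 → e * e = 1 → d.det = -1 → e.det = -1 →
      dg d e hde ∉ At A) : False := by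
  obtain ⟨b, hb1, hb2, hb⟩ := hx
  -- a basis
  obtain ⟨k, hk⟩ : ∃ k : GL (Fin 2) F, (k⁻¹ : GL (Fin 2) F).val * (uu : S2 F).val * k.val = b.val := by
    obtain ⟨N, hN⟩ : ∃ N : M2 F, b.val = 1 + N := ⟨b.val - 1, by abel⟩
    rw [hN, add_sub_cancel_left] at hb2
    have hN0 : N ≠ 0 := by
      intro h0
      apply hb1
      apply Subtype.ext
      rw [hN, h0, add_zero]
      rfl
    have e00 := congrFun (congrFun hb2 0) 0
    have e01 := congrFun (congrFun hb2 0) 1
    have e10 := congrFun (congrFun hb2 1) 0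
    have e11 := congrFun (congrFun hb2 1) 1
    simp only [Matrix.mul_apply, Fin.sum_univ_two, Matrix.zero_apply] at e00 e01 e10 e11
    -- `g` with `g * uu = b * g`
    have key : ∃ g : M2 F, g.det ≠ 0 ∧ b.val * g = g * (uu : S2 F).val := by
      by_cases h10 : N 1 0 = 0
      · have h00 : N 0 0 = 0 := by
          rw [h10, mul_zero, add_zero] at e00
          exact mul_self_eq_zero.1 e00
        have h11 : N 1 1 = 0 := by
          rw [h10, zero_mul, zero_add] at e11
          exact mul_self_eq_zero.1 e11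
        have h01 : N 0 1 ≠ 0 := by
          intro h01
          apply hN0
          ext i j; fin_cases i <;> fin_cases j <;> assumption
        refine ⟨!![N 0 1, 0; 0, 1], by simp [det_fin_two_of, h01], ?_⟩
        rw [hN]
        ext i j; fin_cases i <;> fin_cases j <;>
          simp only [uu, Matrix.mul_apply, Fin.sum_univ_two, h00, h10, h11, _root_.Fin.isValue, _root_.Fin.zero_eta, _root_.Matrix.add_apply, _root_.Matrix.of_apply, _root_.Matrix.cons_val', _root_.Matrix.cons_val_zero, _root_.Matrix.cons_val_fin_one, _root_.Matrix.one_apply_eq, _root_.add_zero, _root_.one_mul, _root_.ne_eq, _root_.zero_ne_one, _root_.not_false_eq_true, _root_.Matrix.one_apply_ne, _root_.zero_add, _root_.Matrix.cons_val_one, _root_.MulZeroClass.mul_zero, _root_.mul_one, _root_.Fin.mk_one, _root_.one_ne_zero, _root_.MulZeroClass.zero_mul]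
      · have h11 : N 1 1 = - N 0 0 := by
          have h3 : N 1 0 * (N 0 0 + N 1 1) = 0 := by linear_combination e10
          rcases mul_eq_zero.1 h3 with h4 | h4
          · exact absurd h4 h10
          · linear_combination h4
        refine ⟨!![N 0 0, 1; N 1 0, 0], by simp [det_fin_two_of, h10], ?_⟩
        rw [hN]
        ext i j; fin_cases i <;> fin_cases j
        · simp only [uu, Matrix.mul_apply, Fin.sum_univ_two, _root_.Fin.isValue, _root_.Fin.zero_eta, _root_.Matrix.mul_apply, _root_.Matrix.add_apply, _root_.Matrix.of_apply, _root_.Matrix.cons_val', _root_.Matrix.cons_val_zero, _root_.Matrix.cons_val_fin_one, _root_.Fin.sum_univ_two, _root_.Matrix.one_apply_eq, _root_.ne_eq, _root_.zero_ne_one, _root_.not_false_eq_true, _root_.Matrix.one_apply_ne, _root_.zero_add, _root_.Matrix.cons_val_one, _root_.Cfsg.Agent.H458.IFl.uu, _root_.mul_one, _root_.MulZeroClass.mul_zero, _root_.add_zero]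
          linear_combination e00
        · simp only [uu, Matrix.mul_apply, Fin.sum_univ_two, _root_.Fin.isValue, _root_.Fin.zero_eta, _root_.Fin.mk_one, _root_.Matrix.mul_apply, _root_.Matrix.add_apply, _root_.Matrix.of_apply, _root_.Matrix.cons_val', _root_.Matrix.cons_val_one, _root_.Matrix.cons_val_fin_one, _root_.Fin.sum_univ_two, _root_.Matrix.one_apply_eq, _root_.Matrix.cons_val_zero, _root_.mul_one, _root_.ne_eq, _root_.zero_ne_one, _root_.not_false_eq_true, _root_.Matrix.one_apply_ne, _root_.zero_add, _root_.MulZeroClass.mul_zero, _root_.add_zero, _root_.Cfsg.Agent.H458.IFl.uu]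
          ring
        · simp only [uu, Matrix.mul_apply, Fin.sum_univ_two, _root_.Fin.isValue, _root_.Fin.mk_one, _root_.Fin.zero_eta, _root_.Matrix.mul_apply, _root_.Matrix.add_apply, _root_.Matrix.of_apply, _root_.Matrix.cons_val', _root_.Matrix.cons_val_zero, _root_.Matrix.cons_val_fin_one, _root_.Fin.sum_univ_two, _root_.ne_eq, _root_.one_ne_zero, _root_.not_false_eq_true, _root_.Matrix.one_apply_ne, _root_.zero_add, _root_.Matrix.one_apply_eq, _root_.Matrix.cons_val_one, _root_.Cfsg.Agent.H458.IFl.uu, _root_.mul_one, _root_.MulZeroClass.mul_zero, _root_.add_zero]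
          rw [h11]
          ring
        · simp only [uu, Matrix.mul_apply, Fin.sum_univ_two, _root_.Fin.isValue, _root_.Fin.mk_one, _root_.Matrix.add_apply, _root_.Matrix.of_apply, _root_.Matrix.cons_val', _root_.Matrix.cons_val_one, _root_.Matrix.cons_val_fin_one, _root_.ne_eq, _root_.one_ne_zero, _root_.not_false_eq_true, _root_.Matrix.one_apply_ne, _root_.zero_add, _root_.Matrix.cons_val_zero, _root_.mul_one, _root_.Matrix.one_apply_eq, _root_.MulZeroClass.mul_zero, _root_.add_zero]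
    obtain ⟨g, hg, hgu⟩ := key
    let G : GL (Fin 2) F := Matrix.GeneralLinearGroup.mkOfDetNeZero g hg
    have hG : G.val = g := rfl
    refine ⟨G⁻¹, ?_⟩
    rw [inv_inv, hG, ← hgu, mul_assoc, ← hG, ← Units.val_mul, mul_inv_cancel, Units.val_one, mul_one]
  set! m : GL I4 F := gg 1 k with hm
  have hA' : IFA (cA m A) := h.conj m
  have hcs1 : ∀ a : S2 F, cS (1 : GL (Fin 2) F) a = a := by
    intro a
    apply Subtype.ext
    rw [cS_val, inv_one, Units.val_one, one_mul, mul_one]
  have hU' : ∀ a : S2 F, blk (a, 1) ∈ At (cA m A) := by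
    intro a
    have h3 : cS m (blk (a, 1)) = blk (a, 1) := by rw [hm, cS_gg_blk, hcs1, map_one]
    rw [← h3, mem_cA]
    exact hU a
  have hback : ∀ b : S2 F, ∃ b' : S2 F, cS k b' = b ∧ (k⁻¹ : GL (Fin 2) F).val * b.val * k.val = b'.val :=
    fun b => ⟨(cS k).symm b, (cS k).apply_symm_apply b, rfl⟩
  have hno' : ∀ b : S2 F, b.val * b.val = -1 → blk (1, b) ∉ At (cA m A) := by
    intro c hc hcm
    obtain ⟨b', hb', hbv⟩ := hback c
    have h3 : cS m (blk (1, b')) = blk (1, c) := by rw [hm, cS_gg_blk, hb', hcs1]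
    rw [← h3, mem_cA] at hcm
    refine hno b' ?_ hcm
    rw [← hbv]
    calc (k⁻¹ : GL (Fin 2) F).val * c.val * k.val * ((k⁻¹ : GL (Fin 2) F).val * c.val * k.val) =
        (k⁻¹ : GL (Fin 2) F).val * c.val * (k.val * (k⁻¹ : GL (Fin 2) F).val) * c.val * k.val := by
          simp only [mul_assoc]
      _ = (k⁻¹ : GL (Fin 2) F).val * (c.val * c.val) * k.val := by
          rw [← Units.val_mul, mul_inv_cancel, Units.val_one, mul_one]
          simp only [mul_assoc]
      _ = -1 := by
          rw [hc, mul_neg, mul_one, neg_mul, ← Units.val_mul, inv_mul_cancel, Units.val_one]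
  have hx' : blk (1, (uu : S2 F)) ∈ At (cA m A) := by
    have h3 : cS m (blk (1, b)) = blk (1, uu) := by
      rw [hm, cS_gg_blk, hcs1]
      congr 2
      apply Subtype.ext
      rw [cS_val, ← hk]
      calc k.val * ((k⁻¹ : GL (Fin 2) F).val * (uu : S2 F).val * k.val) * (k⁻¹ : GL (Fin 2) F).val =
          (k.val * (k⁻¹ : GL (Fin 2) F).val) * (uu : S2 F).val * (k.val * (k⁻¹ : GL (Fin 2) F).val) := by
            simp only [mul_assoc]
        _ = _ := by rw [← Units.val_mul, mul_inv_cancel, Units.val_one, one_mul, mul_one]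
    rw [← h3, mem_cA]
    exact hb
  have hD := t1_core h2 hA' hU' hno' hx'
  -- back
  have hkk : ∀ M : M2 F, k.val * ((k⁻¹ : GL (Fin 2) F).val * M * k.val) * (k⁻¹ : GL (Fin 2) F).val = M := by
    intro M
    calc k.val * ((k⁻¹ : GL (Fin 2) F).val * M * k.val) * (k⁻¹ : GL (Fin 2) F).val =
          (k.val * (k⁻¹ : GL (Fin 2) F).val) * M * (k.val * (k⁻¹ : GL (Fin 2) F).val) := by
            simp only [mul_assoc]
      _ = _ := by rw [← Units.val_mul, mul_inv_cancel, Units.val_one, one_mul, mul_one]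
  have hdete : ((k⁻¹ : GL (Fin 2) F).val * D2 * k.val).det = -1 := by
    rw [det_mul, det_mul, mul_comm, ← mul_assoc, ← det_mul, ← Units.val_mul, mul_inv_cancel, Units.val_one, det_one,
      one_mul, D2_det]
  have hde : (D2 : M2 F).det * ((k⁻¹ : GL (Fin 2) F).val * D2 * k.val).det = 1 := by
    rw [hdete, D2_det]; norm_num
  refine hfr D2 ((k⁻¹ : GL (Fin 2) F).val * D2 * k.val) hde D2_sq ?_ D2_det hdete ?_
  · calc (k⁻¹ : GL (Fin 2) F).val * D2 * k.val * ((k⁻¹ : GL (Fin 2) F).val * D2 * k.val) =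
        (k⁻¹ : GL (Fin 2) F).val * D2 * (k.val * (k⁻¹ : GL (Fin 2) F).val) * D2 * k.val := by
          simp only [mul_assoc]
      _ = (k⁻¹ : GL (Fin 2) F).val * (D2 * D2) * k.val := by
          rw [← Units.val_mul, mul_inv_cancel, Units.val_one, mul_one]
          simp only [mul_assoc]
      _ = 1 := by
          rw [D2_sq, mul_one, ← Units.val_mul, inv_mul_cancel, Units.val_one]
  · rw [← mem_cA (g := m)]
    have h3 : cS m (dg D2 ((k⁻¹ : GL (Fin 2) F).val * D2 * k.val) hde) = dg D2 D2 D2_hd := by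
      apply Subtype.ext
      rw [cS_val, dg_val, dg_val, hm, gg_inv_val]
      show fromBlocks (1 : GL (Fin 2) F).val 0 0 k.val * _ * _ = _
      rw [fromBlocks_multiply, fromBlocks_multiply]
      simp only [zero_mul, mul_zero, add_zero, zero_add, inv_one, Units.val_one, one_mul, mul_one]
      rw [hkk]
    rw [h3]
    exact hD

end Cfsg.Agent.H458.IFl
end

-- part: H358/IF/Odd
section
/-!
# S5719, cell `PSL four`, `q` odd, `|A|` even (helper358; pieces by helper411, 833, 458)
-/

set_option autoImplicit false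
set_option linter.unusedSectionVars false

namespace Cfsg.Agent.H358.IF

open Matrix Cfsg.Agent.H209.Fxy Module

variable {F : Type} [Field F] [Fintype F] {A : Subgroup (P4 F)}

theorem num_D {q x : ℕ} (hq : 3 ≤ q) (h : 2 * x ^ 5 < q ^ 4 * (q ^ 2 + q + 1) * (q ^ 2 + 1)) : x < q * (q - 1) := by
  obtain ⟨r, rfl⟩ : ∃ r, q = r + 3 := ⟨q - 3, by omega⟩
  rw [show r + 3 - 1 = r + 2 by omega]
  by_contra hcon
  push Not at hcon
  have h1 : ((r + 3) * (r + 2)) ^ 5 ≤ x ^ 5 := Nat.pow_le_pow_left hcon 5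
  have h2 : (r + 3) ^ 4 * ((r + 3) ^ 2 + (r + 3) + 1) * ((r + 3) ^ 2 + 1) ≤ 2 * ((r + 3) * (r + 2)) ^ 5 := by
    have e1 : (r + 3) ^ 4 * ((r + 3) ^ 2 + (r + 3) + 1) * ((r + 3) ^ 2 + 1) =
        (r + 3) ^ 4 * (((r + 3) ^ 2 + (r + 3) + 1) * ((r + 3) ^ 2 + 1)) := by ring
    have e2 : 2 * ((r + 3) * (r + 2)) ^ 5 = (r + 3) ^ 4 * (2 * (r + 3) * (r + 2) ^ 5) := by ring
    rw [e1, e2]
    apply Nat.mul_le_mul_left
    linarith only [Nat.zero_le (r ^ 3), Nat.zero_le (r ^ 4), Nat.zero_le (r ^ 5), Nat.zero_le (r ^ 6), _root_.sq_nonneg (↑r : ℤ), _root_.Nat.cast_nonneg (α := ℤ) (r)]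
  omega

/-- `D_W` is large if `SL(U) ≤ A` -/
theorem card_DW (h2 : (2 : F) ≠ 0) (h : IFA A) (ht : t0 ∈ At A) :
    Fintype.card F + 1 < Nat.card ((At A).comap (blk.comp (MonoidHom.inr (S2 F) (S2 F))) : Subgroup (S2 F)) := by
  obtain ⟨h3, -⟩ := idx_t0 h2 h ht
  have hq : 3 ≤ Fintype.card F := by
    have hodd := (ClassicalGeometry.PSL2Basic.two_ne_zero_iff_odd (F := F)).1 h2
    have : 1 < Fintype.card F := Fintype.one_lt_card
    obtain ⟨k, hk⟩ := hodd
    omega
  have h4 := num_D hq h3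
  set D := ((At A).comap (blk.comp (MonoidHom.inr (S2 F) (S2 F))) : Subgroup (S2 F)) with hD
  have h5 : D.index ≤ (Dt A).index := by
    rw [index_split (Dt A)]
    refine Nat.le_mul_of_pos_left _ (Nat.pos_of_ne_zero ?_)
    exact Subgroup.index_ne_zero_of_finite
  have h6 := D.card_mul_index
  rw [card_S2] at h6
  by_contra hcon
  push Not at hcon
  set q := Fintype.card F with hqd
  have h7 : q * (q ^ 2 - 1) ≤ (q + 1) * (Dt A).index := by
    rw [← h6]
    exact Nat.mul_le_mul hcon h5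
  have h8 : (q + 1) * (Dt A).index < (q + 1) * (q * (q - 1)) := Nat.mul_lt_mul_of_pos_left h4 (by omega)
  have h9 : (q + 1) * (q * (q - 1)) = q * (q ^ 2 - 1) := by
    obtain ⟨r, hr⟩ : ∃ r, q = r + 1 := ⟨q - 1, by omega⟩
    rw [hr, Nat.add_sub_cancel]
    have : (r + 1) ^ 2 - 1 = r * (r + 2) := by
      have : (r + 1) ^ 2 = r * (r + 2) + 1 := by ring
      omega
    rw [this]
    ring
  omega

/-- an involution `d`, `det d = -1`, of `GL2` is conjugate to `diag(1,-1)` -/
theorem conj_diag (h2 : (2 : F) ≠ 0) {d : M2 F} (hd : d * d = 1) (hdet : d.det = -1) :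
    ∃ g : GL (Fin 2) F, g.val * d * (g⁻¹ : GL (Fin 2) F).val = !![1, 0; 0, -1] := by
  obtain ⟨v, hv⟩ : ∃ v : Fin 2 → F, d *ᵥ v ≠ v := by
    by_contra hcon
    push Not at hcon
    have h3 : d = 1 := by
      ext i j
      have h5 := congrFun (hcon (Pi.single j 1)) i
      rw [mulVec_single_one] at h5
      rw [Matrix.one_apply]
      simpa [Pi.single_apply] using h5
    rw [h3, det_one] at hdet
    apply h2
    linear_combination hdet
  obtain ⟨v', hv'⟩ : ∃ v : Fin 2 → F, d *ᵥ v ≠ -v := by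
    by_contra hcon
    push Not at hcon
    have h3 : d = -1 := by
      ext i j
      have h5 := congrFun (hcon (Pi.single j 1)) i
      rw [mulVec_single_one] at h5
      rw [Matrix.neg_apply, Matrix.one_apply]
      simpa [Pi.single_apply] using h5
    rw [h3, det_neg, det_one, Fintype.card_fin] at hdet
    apply h2
    linear_combination hdet
  set! u := d *ᵥ v - v with hu
  set! w := d *ᵥ v' + v' with hw
  have hu0 : u ≠ 0 := sub_ne_zero.2 hv
  have hw0 : w ≠ 0 := fun h5 => hv' (eq_neg_of_add_eq_zero_left h5)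
  have hdu : d *ᵥ u = -u := by
    rw [hu, mulVec_sub, mulVec_mulVec, hd, one_mulVec, neg_sub]
  have hdw : d *ᵥ w = w := by
    rw [hw, mulVec_add, mulVec_mulVec, hd, one_mulVec, add_comm]
  have hb : LinearIndependent F ![w, u] := by
    rw [LinearIndependent.pair_iff]
    intro a b hab
    have h5 := congrArg (fun z => d *ᵥ z) hab
    simp only [mulVec_add, mulVec_smul, hdu, hdw, mulVec_zero] at h5
    have h6 : (2 : F) • (a • w) = 0 := by
      have h8 := congrArg₂ (· + ·) hab h5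
      simp only [add_zero] at h8
      rw [← h8]
      module
    have h7 : a = 0 := (smul_eq_zero.1 ((smul_eq_zero.1 h6).resolve_left h2)).resolve_right hw0
    rw [h7, zero_smul, zero_add] at hab
    exact ⟨h7, (smul_eq_zero.1 hab).resolve_right hu0⟩
  let P : M2 F := Matrix.of fun i j => ![w, u] j i
  have hPu : IsUnit P := by
    rw [Matrix.isUnit_iff_isUnit_det, ← Matrix.det_transpose, ← Matrix.isUnit_iff_isUnit_det]
    have := Matrix.linearIndependent_rows_iff_isUnit (A := Pᵀ)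
    rw [← this]
    exact hb
  obtain ⟨g, hg⟩ := hPu
  refine ⟨g⁻¹, ?_⟩
  have h3 : d * g.val = g.val * !![1, 0; 0, -1] := by
    rw [hg]
    ext i j
    fin_cases j
    · have := congrFun hdw i
      simpa only [Matrix.mul_apply, Fin.sum_univ_two, P, mulVec, dotProduct, _root_.Nat.succ_eq_add_one, _root_.Nat.reduceAdd, _root_.Matrix.cons_val', _root_.Matrix.cons_val_fin_one, _root_.Fin.zero_eta, _root_.Fin.isValue, _root_.Matrix.of_apply, _root_.Matrix.cons_val_zero, _root_.mul_one, _root_.Matrix.cons_val_one, _root_.MulZeroClass.mul_zero, _root_.add_zero] using this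
    · have := congrFun hdu i
      simpa only [Matrix.mul_apply, Fin.sum_univ_two, P, mulVec, dotProduct, _root_.Nat.succ_eq_add_one, _root_.Nat.reduceAdd, _root_.Matrix.cons_val', _root_.Matrix.cons_val_fin_one, _root_.Fin.mk_one, _root_.Fin.isValue, _root_.Matrix.of_apply, _root_.Matrix.cons_val_one, _root_.Matrix.cons_val_zero, _root_.MulZeroClass.mul_zero, _root_.mul_neg, _root_.mul_one, _root_.zero_add, _root_.Pi.neg_apply] using this
  rw [inv_inv, mul_assoc, h3, ← mul_assoc, Units.inv_mul, one_mul]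

/-- the kill, once `t0 ∈ A` and `SL(U) ≤ A` -/
theorem kill_U (h2 : (2 : F) ≠ 0) (h : IFA A) (ht : t0 ∈ At A) (hU : ∀ a : S2 F, blk (a, 1) ∈ At A) : False := by
  have hJ : ∀ A' : Subgroup (P4 F), IFA A' → ¬ IsSquare (-1 : F) → tJ ∉ At A' := fun A' h' hs => tJ_not_mem h2 h' hs
  by_cases hfr : ∀ (d e : M2 F) (hde : d.det * e.det = 1), d * d = 1 → e * e = 1 → d.det = -1 → e.det = -1 →
      dg d e hde ∉ At A
  · have hno : ∀ b : S2 F, b.val * b.val = -1 → blk (1, b) ∉ At A := by
      intro b hb hmem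
      by_cases hs : IsSquare (-1 : F)
      · obtain ⟨i, hi⟩ := hs
        have hi0 : i ≠ 0 := by
          rintro rfl
          rw [mul_zero] at hi
          exact one_ne_zero (neg_eq_zero.1 hi)
        have h3 := mul_mem (hU b) hmem
        rw [← map_mul, Prod.mk_mul_mk, one_mul, mul_one] at h3
        have hii : i⁻¹ * i⁻¹ = -1 := by
          rw [← mul_inv, ← hi, inv_neg, inv_one]
        have hdet : (i⁻¹ • b.val).det = -1 := by
          rw [det_smul, b.2, Fintype.card_fin, mul_one, pow_two, hii]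
        have hsq : (i⁻¹ • b.val) * (i⁻¹ • b.val) = 1 := by
          rw [Matrix.smul_mul, Matrix.mul_smul, hb, smul_smul, hii, neg_one_smul, neg_neg]
        refine hfr (i⁻¹ • b.val) (i⁻¹ • b.val) (by rw [hdet]; ring) hsq hsq hdet hdet ?_
        refine mem_At_of_smul (c := i⁻¹) ?_ h3
        rw [dg_val, blk_val, fromBlocks_smul]
        simp
      · have h3 := mul_mem (hU b) hmem
        rw [← map_mul, Prod.mk_mul_mk, one_mul, mul_one] at h3
        have h4 : (blk (b, b)).val * (blk (b, b)).val = (-1 : F) • (1 : Matrix I4 I4 F) := by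
          rw [blk_val, fromBlocks_multiply]
          simp only [mul_zero, zero_mul, add_zero, zero_add]
          rw [hb, ← fromBlocks_one, fromBlocks_smul]
          simp
        obtain ⟨-, g, hg⟩ := cls_J h4 hs
        apply hJ _ (h.conj g) hs
        rw [← hg]
        exact mem_cA.2 h3
    obtain ⟨b, hbD, hb1, hb2⟩ := H411.L4.exists_unip h2
      ((At A).comap (blk.comp (MonoidHom.inr (S2 F) (S2 F))) : Subgroup (S2 F))
      (fun y hy hyy => hno y hyy hy) (card_DW h2 h ht)
    exact H458.IFl.t1_false h2 h hU hno ⟨b, hb1, hb2, hbD⟩ hfr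
  · push Not at hfr
    obtain ⟨d, e, hde, hd, he, hdd, hed, hmem⟩ := hfr
    obtain ⟨g, hg⟩ := conj_diag h2 hd hdd
    obtain ⟨k, hk⟩ := conj_diag h2 he hed
    have h3 := h.conj (gg g k)
    have h4 : ∀ hd', dg !![1, 0; 0, -1] !![1, 0; 0, -1] hd' ∈ At (cA (gg g k) A) := by
      intro hd'
      have h5 := (mem_cA (g := gg g k)).2 hmem
      have h6 : cS (gg g k) (dg d e hde) = dg !![1, 0; 0, -1] !![1, 0; 0, -1] hd' := by
        apply Subtype.ext
        rw [cS_gg_dg g k d e hde (by rw [hg, hk]; exact hd'), dg_val, dg_val, hg, hk]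
      rwa [h6] at h5
    have h5 : t0 ∈ At (cA (gg g k) A) := by
      have h5 := (mem_cA (g := gg g k)).2 ht
      have h6 : cS (gg g k) (t0 : S4 F) = t0 := by
        apply Subtype.ext
        rw [cS_val, t0_val, gg_inv_val]
        show fromBlocks g.val 0 0 k.val * _ * _ = _
        rw [fromBlocks_multiply, fromBlocks_multiply]
        simp only [_root_.mul_neg, _root_.mul_one, _root_.MulZeroClass.mul_zero, _root_.add_zero, _root_.Matrix.coe_units_inv, _root_.neg_mul, _root_.Matrix.mul_inv_of_invertible, _root_.MulZeroClass.zero_mul, _root_.neg_zero, _root_.zero_add]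
      rwa [h6] at h5
    exact H411.L4.frame_false h2 h3 hJ h5 h4

theorem kill_t0 (h2 : (2 : F) ≠ 0) (h : IFA A) (ht : t0 ∈ At A) : False := by
  rcases L1 h2 h ht (tJ_not_mem h2 h) with h3 | h3
  · exact kill_U h2 h ht h3
  · have h4 := h.conj sw
    refine kill_U h2 h4 ?_ ?_
    · have h5 := (mem_cA (g := sw) (s := t0)).2 ht
      refine mem_At_of_smul (c := -1) ?_ h5
      rw [cS_val, t0_val, sw_val, sw_inv_val, fromBlocks_multiply, fromBlocks_multiply, fromBlocks_smul]
      simp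
    · intro a
      have h8 := (mem_cA (g := sw) (s := blk (1, a))).2 (h3 a)
      rwa [cS_sw_blk] at h8

/-- **PSL four, `q` odd.** -/
theorem killE_odd' (h2 : (2 : F) ≠ 0) : KillE (P4 F) := by
  rintro A Γ hA ⟨t, ht, ho⟩
  have h : IFA A := ⟨Γ, hA⟩
  obtain ⟨s, rfl⟩ := pr_surj t
  have hs : s ∈ At A := ht
  have h3 : pr (s * s) = pr 1 := by
    have h3 := pow_orderOf_eq_one (pr s)
    rw [ho, pow_two] at h3
    rw [map_mul, h3, map_one]
  obtain ⟨c, hc⟩ := pr_eq_iff.1 h3.symm
  have hss : s.val * s.val = c • (1 : Matrix I4 I4 F) := hc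
  have hns : ∀ d : F, s.val ≠ d • (1 : Matrix I4 I4 F) := by
    intro d hd
    have h4 : pr s = 1 := by
      rw [← map_one pr, eq_comm, pr_eq_iff]
      exact ⟨d, hd⟩
    rw [h4, orderOf_one] at ho
    omega
  have hc0 : c ≠ 0 := by
    rintro rfl
    rw [zero_smul] at hss
    have h4 := congrArg Matrix.det hss
    rw [det_mul, s.2, det_zero, one_mul] at h4
    exact one_ne_zero h4
  by_cases hsq : IsSquare c
  · obtain ⟨n, rfl⟩ := hsq
    have hn : n ≠ 0 := fun h4 => hc0 (by rw [h4, mul_zero])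
    obtain ⟨g, l, h5 | h5⟩ := cls_sq h2 hn hss hns
    · have h6 : cS g s ∈ At (cA g A) := mem_cA.2 hs
      have hl : l ≠ 0 := by
        rintro rfl
        rw [zero_smul] at h5
        have h7 := (cS g s).2
        rw [h5, det_zero] at h7
        exact zero_ne_one h7
      refine kill_t0 h2 (h.conj g) (mem_At_of_smul (c := l⁻¹) ?_ h6)
      rw [h5, smul_smul, inv_mul_cancel₀ hl, one_smul]
      rfl
    · have h6 : cS g s ∈ At (cA g A) := mem_cA.2 hs
      obtain ⟨k, hk⟩ := H833.IF.t3_conj h2 (h.conj g) h6 h5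
      exact kill_t0 h2 ((h.conj g).conj k) hk
  · obtain ⟨h4, g, hg⟩ := cls_J hss hsq
    subst h4
    refine tJ_not_mem h2 (h.conj g) hsq ?_
    rw [← hg]
    exact mem_cA.2 hs

/-- **PSL four, `q` odd**, for `Fin 4`. -/
theorem psl_four_odd (F : Type) [Field F] [Fintype F] (h2 : (2 : F) ≠ 0) :
    KillE (Matrix.ProjectiveSpecialLinearGroup (Fin 4) F) :=
  killE_congr (pslR (F := F) (finSumFinEquiv (m := 2) (n := 2))) (killE_odd' h2)

end Cfsg.Agent.H358.IF
end

private theorem dce_930b2532336c : _root_.True := by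
  try have : _root_.True := by simp only [_root_.Cfsg.Agent.H458.IFl.v4.eq_1]
  try have : _root_.True := by simp only [_root_.Cfsg.Agent.H458.IFl.e0.eq_1]
  try have : _root_.True := by simp only [_root_.Cfsg.Agent.H458.IFl.D2.eq_1]
  try have : _root_.True := by simp only [_root_.Cfsg.Agent.H833.IF.D3.eq_1]
  try have : _root_.True := by simp only [_root_.Cfsg.Agent.H458.IFl.v3.eq_1]
  try have : _root_.True := by simp only [_root_.Cfsg.Agent.H358.IF.dg.congr_simp]
  try have : _root_.True := by simp only [_root_.Cfsg.Agent.H458.IFl.uu.eq_1]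
  exact _root_.True.intro
end

-- part: H358/IF/Four
section
prune_inst 0x141065050c22100000048000602000813100002000000800000401060800000209800000080000040a000081000500281100000040000000000404000004000000c0000020000091000086000208010000008000000000000000000000010000014010000
set_option linter.all false
open scoped Cfsg.Agent.FastGrp

-- part: H232/IF/SLCount
section
/-!
# S5719, row SL even: counting maps with `n² = 0` (helper232)
-/

set_option autoImplicit false
set_option linter.unusedSectionVars false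

namespace Cfsg.Agent.H232.IFR

open Module
open Cfsg.Agent.H881.Bs (card_le_of_fiber)

section

variable {F V : Type*} [Field F] [Finite F] [AddCommGroup V] [Module F V] [FiniteDimensional F V]

theorem card_subspaces_le {k : ℕ} (hk : k ≤ finrank F V) :
    Nat.card {W : Submodule F V // finrank F W = k} ≤ Nat.card F ^ (k * (finrank F V - k + 1)) := by
  have := Fintype.ofFinite F
  set q := Fintype.card F with hq
  have hq2 : 2 ≤ q := Fintype.one_lt_card
  have h1 := Cfsg.Agent.H950.card_subspaces_eq (V := V) (n := finrank F V) (k := k) (q := q) rfl hk rfl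
  have hP : 0 < ∏ j : Fin k, q ^ (k - j.val - 1) := Finset.prod_pos fun j _ => by positivity
  have h2 : ∏ j : Fin k, q ^ (k - j.val - 1) ≤ ∏ j : Fin k, (q ^ (k - j.val) - 1) := by
    apply Finset.prod_le_prod' 
    intro j _
    obtain ⟨i, hi⟩ : ∃ i, k - j.val = i + 1 := ⟨k - j.val - 1, by have := j.2; omega⟩
    rw [hi, Nat.add_sub_cancel, pow_succ]
    have h3 : 0 < q ^ i := by positivity
    have h4 : q ^ i * 2 ≤ q ^ i * q := Nat.mul_le_mul_left _ hq2
    omega
  have h3 : ∏ j : Fin k, (q ^ (finrank F V - j.val) - 1) ≤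
      (∏ j : Fin k, q ^ (k - j.val - 1)) * q ^ (k * (finrank F V - k + 1)) := by
    have h4 : q ^ (k * (finrank F V - k + 1)) = ∏ _j : Fin k, q ^ (finrank F V - k + 1) := by
      rw [Finset.prod_const, Finset.card_univ, Fintype.card_fin, ← pow_mul, mul_comm]
    rw [h4, ← Finset.prod_mul_distrib]
    apply Finset.prod_le_prod'
    intro j _
    rw [← pow_add]
    have h5 : k - j.val - 1 + (finrank F V - k + 1) = finrank F V - j.val := by have := j.2; omega
    rw [h5]
    exact Nat.sub_le _ _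
  rw [Nat.card_eq_fintype_card (α := F), ← hq]
  have h5 : Nat.card {W : Submodule F V // finrank F W = k} * ∏ j : Fin k, q ^ (k - j.val - 1) ≤
      q ^ (k * (finrank F V - k + 1)) * ∏ j : Fin k, q ^ (k - j.val - 1) := by
    calc _ ≤ Nat.card {W : Submodule F V // finrank F W = k} * ∏ j : Fin k, (q ^ (k - j.val) - 1) :=
          Nat.mul_le_mul_left _ h2
      _ = _ := h1
      _ ≤ _ := h3
      _ = _ := mul_comm _ _
  exact Nat.le_of_mul_le_mul_right h5 hP

/-- the number of maps with `n² = 0` of rank `k` -/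
theorem card_nil_le (k : ℕ) (hk : k ≤ finrank F V) :
    Nat.card {n : V →ₗ[F] V // n * n = 0 ∧ finrank F (LinearMap.range n) = k} ≤
      Nat.card F ^ (2 * k * (finrank F V - k) + k) := by
  have hVfin : Finite V := Module.finite_of_finite F
  have hfin : Finite (V →ₗ[F] V) := Finite.of_injective (fun g : V →ₗ[F] V => (g : V → V)) DFunLike.coe_injective
  have hfinS : Finite (Submodule F V) := Finite.of_injective (fun W : Submodule F V => (W : Set V)) SetLike.coe_injective
  have h1 := card_le_of_fiber (fun n : {n : V →ₗ[F] V // n * n = 0 ∧ finrank F (LinearMap.range n) = k} =>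
    (⟨LinearMap.range n.1, n.2.2⟩ : {W : Submodule F V // finrank F W = k}))
    (Nat.card F ^ ((finrank F V - k) * k)) ?_
  · refine h1.trans ((Nat.mul_le_mul_left _ (card_subspaces_le hk)).trans (le_of_eq ?_))
    rw [← pow_add]
    congr 1
    ring
  · rintro ⟨W, hW⟩
    have hker : ∀ n : V →ₗ[F] V, n * n = 0 → LinearMap.range n = W → W ≤ LinearMap.ker n := by
      rintro n hn rfl _ ⟨v, rfl⟩
      rw [LinearMap.mem_ker]
      exact LinearMap.congr_fun hn v
    have h2 : Nat.card ((V ⧸ W) →ₗ[F] W) = Nat.card F ^ ((finrank F V - k) * k) := by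
      rw [Module.natCard_eq_pow_finrank (K := F), Module.finrank_linearMap, hW, Submodule.finrank_quotient, hW]
    rw [← h2]
    have hfQ : Finite (V ⧸ W) := Finite.of_surjective _ (Submodule.mkQ_surjective W)
    have hfin2 : Finite ((V ⧸ W) →ₗ[F] W) :=
      Finite.of_injective (fun g : (V ⧸ W) →ₗ[F] W => (g : V ⧸ W → W)) DFunLike.coe_injective
    have hr : ∀ n : {a : {n : V →ₗ[F] V // n * n = 0 ∧ finrank F (LinearMap.range n) = k} //
        (⟨LinearMap.range a.1, a.2.2⟩ : {W : Submodule F V // finrank F W = k}) = ⟨W, hW⟩},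
        LinearMap.range n.1.1 = W := fun n => congrArg Subtype.val n.2
    refine Nat.card_le_card_of_injective (fun n =>
      W.liftQ (n.1.1.codRestrict W (fun v => (hr n).le ⟨v, rfl⟩)) (by
        intro w hw
        rw [LinearMap.mem_ker]
        apply Subtype.ext
        exact hker n.1.1 n.1.2.1 (hr n) hw)) ?_
    intro n n' h
    apply Subtype.ext
    apply Subtype.ext
    ext v
    have h3 := congrArg Subtype.val (LinearMap.congr_fun h (Submodule.Quotient.mk v))
    exact h3

/-- vectors killed by a functional and so on -/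
theorem card_dual_ann (w : V) (hw : w ≠ 0) : Nat.card {ψ : Dual F V // ψ w = 0} = Nat.card F ^ (finrank F V - 1) := by
  have h1 : Nat.card {ψ : Dual F V // ψ w = 0} = Nat.card (LinearMap.ker (Dual.eval F V w)) :=
    Nat.card_congr (Equiv.subtypeEquivRight fun ψ => Iff.rfl)
  have hVfin : Finite V := Module.finite_of_finite F
  rw [h1, Module.natCard_eq_pow_finrank (K := F)]
  congr 1
  have h2 : Dual.eval F V w ≠ 0 := by
    intro h
    apply hw
    exact (Module.eval_apply_eq_zero_iff F w).1 h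
  have h3 := LinearMap.finrank_range_add_finrank_ker (Dual.eval F V w)
  have h4 : finrank F (LinearMap.range (Dual.eval F V w)) = 1 := by
    have h5 : LinearMap.range (Dual.eval F V w) = ⊤ := LinearMap.range_eq_top.2 (LinearMap.surjective h2)
    rw [h5, finrank_top, finrank_self]
  rw [h4, Subspace.dual_finrank_eq] at h3
  omega

/-- `w ↦ ψ(w) v` -/
def rk (ψ : Dual F V) (v : V) : V →ₗ[F] V := (LinearMap.toSpanSingleton F V v) ∘ₗ ψ

theorem rk_apply (ψ : Dual F V) (v w : V) : rk ψ v w = ψ w • v := rfl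

/-- a map of rank one -/
theorem exists_rk {n : V →ₗ[F] V} (h : finrank F (LinearMap.range n) = 1) :
    ∃ (v : V) (ψ : Dual F V), v ≠ 0 ∧ ψ ≠ 0 ∧ n = rk ψ v := by
  obtain ⟨⟨v, hv⟩, hv0, hv1⟩ := finrank_eq_one_iff'.1 h
  have hv0' : v ≠ 0 := fun h => hv0 (Subtype.ext h)
  have hex : ∀ w, ∃ c : F, c • v = n w := fun w => by
    obtain ⟨c, hc⟩ := hv1 ⟨n w, ⟨w, rfl⟩⟩
    exact ⟨c, congrArg Subtype.val hc⟩
  choose ψ hψ using hex
  have hinj : ∀ c d : F, c • v = d • v → c = d := fun c d h => by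
    by_contra hne
    have h2 : (c - d) • v = 0 := by rw [sub_smul, h, sub_self]
    rcases smul_eq_zero.1 h2 with h3 | h3
    · exact hne (sub_eq_zero.1 h3)
    · exact hv0' h3
  let ψ' : Dual F V :=
    { toFun := ψ
      map_add' := fun x y => hinj _ _ (by rw [hψ, add_smul, hψ, hψ, map_add])
      map_smul' := fun c x => hinj _ _ (by rw [hψ, RingHom.id_apply, smul_assoc, hψ, map_smul]) }
  refine ⟨v, ψ', hv0', ?_, ?_⟩
  · intro h0
    have h2 : n = 0 := by
      ext w
      rw [← hψ w]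
      have : ψ w = 0 := LinearMap.congr_fun h0 w
      rw [this, zero_smul, LinearMap.zero_apply]
    rw [h2, LinearMap.range_zero, finrank_bot] at h
    exact zero_ne_one h
  · ext w
    exact (hψ w).symm

theorem range_rk {ψ : Dual F V} (hψ : ψ ≠ 0) (v : V) : LinearMap.range (rk ψ v) = Submodule.span F {v} := by
  apply le_antisymm
  · rintro _ ⟨w, rfl⟩
    exact Submodule.smul_mem _ _ (Submodule.mem_span_singleton_self v)
  · rw [Submodule.span_singleton_le_iff_mem]
    obtain ⟨w, hw⟩ := LinearMap.surjective hψ 1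
    exact ⟨w, by rw [rk_apply, hw, one_smul]⟩

theorem finrank_range_rk {ψ : Dual F V} (hψ : ψ ≠ 0) {v : V} (hv : v ≠ 0) : finrank F (LinearMap.range (rk ψ v)) = 1 := by
  rw [range_rk hψ, finrank_span_singleton hv]

theorem rk_mul_rk (ψ ψ' : Dual F V) (v v' : V) : rk ψ v * rk ψ' v' = ψ v' • rk ψ' v := by
  ext w
  rw [Module.End.mul_apply, rk_apply, rk_apply, map_smul, LinearMap.smul_apply, rk_apply, smul_eq_mul, mul_comm, mul_smul]

/-- the number of transvections -/
theorem card_rank_one_le : Nat.card {n : V →ₗ[F] V // n * n = 0 ∧ finrank F (LinearMap.range n) = 1} * (Nat.card F - 1) ≤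
    (Nat.card F ^ finrank F V - 1) * (Nat.card F ^ (finrank F V - 1) - 1) := by
  classical
  have hVfin : Finite V := Module.finite_of_finite F
  have hfin : Finite (V →ₗ[F] V) := Finite.of_injective (fun g : V →ₗ[F] V => (g : V → V)) DFunLike.coe_injective
  have hfinD : Finite (Dual F V) := Finite.of_injective (fun g : Dual F V => (g : V → F)) DFunLike.coe_injective
  have hex : ∀ n : {n : V →ₗ[F] V // n * n = 0 ∧ finrank F (LinearMap.range n) = 1},
      ∃ c : V × Dual F V, c.1 ≠ 0 ∧ c.2 ≠ 0 ∧ c.2 c.1 = 0 ∧ n.1 = rk c.2 c.1 := by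
    rintro ⟨n, hn, hr⟩
    obtain ⟨v, ψ, hv, hψ, rfl⟩ := exists_rk hr
    refine ⟨(v, ψ), hv, hψ, ?_, rfl⟩
    rw [rk_mul_rk] at hn
    obtain ⟨w, hw⟩ := LinearMap.surjective hψ 1
    have h1 := LinearMap.congr_fun hn w
    rw [LinearMap.smul_apply, rk_apply, hw, one_smul, LinearMap.zero_apply] at h1
    exact (smul_eq_zero.1 h1).resolve_right hv
  choose c hc1 hc2 hc3 hc4 using hex
  have hcard : Nat.card {x : V × Dual F V // (x.1 ≠ 0 ∧ x.2 ≠ 0) ∧ x.2 x.1 = 0} ≤
      (Nat.card F ^ finrank F V - 1) * (Nat.card F ^ (finrank F V - 1) - 1) := by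
    have h1 := card_le_of_fiber (fun x : {x : V × Dual F V // (x.1 ≠ 0 ∧ x.2 ≠ 0) ∧ x.2 x.1 = 0} =>
      (⟨x.1.1, x.2.1.1⟩ : {v : V // v ≠ 0})) (Nat.card F ^ (finrank F V - 1) - 1) ?_
    · have h2 : Nat.card {v : V // v ≠ 0} = Nat.card F ^ finrank F V - 1 := by
        have := Fintype.ofFinite V
        rw [← Module.natCard_eq_pow_finrank (K := F) (V := V), Nat.card_eq_fintype_card, Nat.card_eq_fintype_card,
          Fintype.card_subtype_compl, Fintype.card_subtype_eq]
      rw [h2, mul_comm] at h1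
      exact h1
    · rintro ⟨v, hv⟩
      have h2 : Nat.card {ψ : {ψ : Dual F V // ψ v = 0} // ψ ≠ ⟨0, rfl⟩} = Nat.card F ^ (finrank F V - 1) - 1 := by
        have := Fintype.ofFinite {ψ : Dual F V // ψ v = 0}
        rw [← card_dual_ann v hv, Nat.card_eq_fintype_card, Nat.card_eq_fintype_card,
          Fintype.card_subtype_compl, Fintype.card_subtype_eq]
      rw [← h2]
      refine Nat.card_le_card_of_injective (fun x => ⟨⟨x.1.1.2, ?_⟩, ?_⟩) ?_
      · have h3 : x.1.1.1 = v := congrArg Subtype.val x.2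
        exact (congrArg x.1.1.2 h3.symm).trans x.1.2.2
      · intro h4
        exact x.1.2.1.2 (congrArg Subtype.val h4)
      · intro x y hxy
        have h3 : x.1.1.1 = v := congrArg Subtype.val x.2
        have h4 : y.1.1.1 = v := congrArg Subtype.val y.2
        have h5 : x.1.1.2 = y.1.1.2 := congrArg (fun z => (z.1.1 : Dual F V)) hxy
        exact Subtype.ext (Subtype.ext (Prod.ext (h3.trans h4.symm) h5))
  refine le_trans ?_ hcard
  have h1 : Nat.card Fˣ = Nat.card F - 1 := Nat.card_units F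
  rw [← h1, ← Nat.card_prod]
  refine Nat.card_le_card_of_injective (fun x => ⟨((x.2 : F) • (c x.1).1, (x.2⁻¹ : Fˣ) • (c x.1).2),
    ⟨smul_ne_zero x.2.ne_zero (hc1 x.1), ?_⟩, ?_⟩) ?_
  · intro h
    exact hc2 x.1 ((smul_eq_zero_iff_eq _).1 h)
  · show ((x.2⁻¹ : Fˣ) • (c x.1).2) ((x.2 : F) • (c x.1).1) = 0
    rw [map_smul, LinearMap.smul_apply, hc3, smul_zero, smul_zero]
  · rintro ⟨n, u⟩ ⟨n', u'⟩ h
    have h2 : (u : F) • (c n).1 = (u' : F) • (c n').1 := congrArg (fun z => z.1.1) h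
    have h3 : (u⁻¹ : Fˣ) • (c n).2 = (u'⁻¹ : Fˣ) • (c n').2 := congrArg (fun z => z.1.2) h
    have h4 : ∀ (n : {n : V →ₗ[F] V // n * n = 0 ∧ finrank F (LinearMap.range n) = 1}) (u : Fˣ),
        rk ((u⁻¹ : Fˣ) • (c n).2) ((u : F) • (c n).1) = n.1 := by
      intro n u
      rw [hc4 n]
      ext w
      rw [rk_apply, rk_apply, LinearMap.smul_apply, Units.smul_def, smul_smul, smul_eq_mul]
      congr 1
      rw [mul_comm ((u⁻¹ : Fˣ) : F), mul_assoc, Units.inv_mul, mul_one]
    have h5 : n = n' := by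
      apply Subtype.ext
      rw [← h4 n u, ← h4 n' u', h2, h3]
    subst h5
    have h6 : u = u' := by
      apply Units.ext
      by_contra hne
      have h7 : ((u : F) - u') • (c n).1 = 0 := by rw [sub_smul, h2, sub_self]
      rcases smul_eq_zero.1 h7 with h8 | h8
      · exact hne (sub_eq_zero.1 h8)
      · exact hc1 n h8
    rw [h6]

end

end Cfsg.Agent.H232.IFR
end

-- part: H232/IF/SLTrans
section
/-!
# S5719, row SL even: pairs of commuting transvections (helper232)
-/

set_option autoImplicit false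
set_option linter.unusedSectionVars false

namespace Cfsg.Agent.H232.IFR

open Module
open Cfsg.Agent.H881.Bs (card_le_of_fiber)

section

variable {F V : Type} [Field F] [Finite F] [AddCommGroup V] [Module F V] [FiniteDimensional F V]

/-- dual vectors -/
theorem exists_dual_pair {φ ψ : Dual F V} (hφ : φ ≠ 0) (hψ : ψ ∉ Submodule.span F {φ}) :
    ∃ y₁ y₂ : V, φ y₁ = 1 ∧ ψ y₁ = 0 ∧ φ y₂ = 0 ∧ ψ y₂ = 1 := by
  have h1 : ∃ y, φ y = 0 ∧ ψ y ≠ 0 := by
    by_contra hcon
    push Not at hcon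
    apply hψ
    have h2 := mem_span_of_iInf_ker_le_ker (L := fun _ : Unit => φ) (K := ψ) (by
      rw [ciInf_unique]
      intro y hy
      exact hcon y hy)
    rwa [Set.range_const] at h2
  obtain ⟨y, hy1, hy2⟩ := h1
  obtain ⟨z, hz⟩ := LinearMap.surjective hφ 1
  refine ⟨z - (ψ z * (ψ y)⁻¹) • y, (ψ y)⁻¹ • y, ?_, ?_, ?_, ?_⟩
  · rw [map_sub, map_smul, hy1, smul_zero, sub_zero, hz]
  · rw [map_sub, map_smul, smul_eq_mul, mul_assoc, inv_mul_cancel₀ hy2, mul_one, sub_self]
  · rw [map_smul, hy1, smul_zero]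
  · rw [map_smul, smul_eq_mul, inv_mul_cancel₀ hy2]

theorem finrank_ker_two {φ ψ : Dual F V} (hφ : φ ≠ 0) (hψ : ψ ∉ Submodule.span F {φ}) :
    finrank F (LinearMap.ker φ ⊓ LinearMap.ker ψ : Submodule F V) + 2 = finrank F V := by
  obtain ⟨y₁, y₂, h1, h2, h3, h4⟩ := exists_dual_pair hφ hψ
  have h5 : LinearMap.range (φ.prod ψ) = ⊤ := by
    rw [LinearMap.range_eq_top]
    rintro ⟨a, b⟩
    refine ⟨a • y₁ + b • y₂, Prod.ext ?_ ?_⟩
    · show φ (a • y₁ + b • y₂) = a
      rw [map_add, map_smul, map_smul, h1, h3, smul_eq_mul, smul_eq_mul, mul_one, mul_zero, add_zero]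
    · show ψ (a • y₁ + b • y₂) = b
      rw [map_add, map_smul, map_smul, h2, h4, smul_eq_mul, smul_eq_mul, mul_one, mul_zero, zero_add]
  have h6 := LinearMap.finrank_range_add_finrank_ker (φ.prod ψ)
  rw [h5, finrank_top, Module.finrank_prod, finrank_self, LinearMap.ker_prod] at h6
  omega

/-- **Transitivity.** -/
theorem exists_sl_pair (h5 : 5 ≤ finrank F V) {φ ψ ψ' : Dual F V} {p p' w : V} (hφ : φ ≠ 0)
    (hψ : ψ ∉ Submodule.span F {φ}) (hψ' : ψ' ∉ Submodule.span F {φ}) (hp : LinearIndependent F ![p, p'])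
    (hw : LinearIndependent F ![p, w]) (h1 : φ p = 0) (h2 : ψ p = 0) (h2' : ψ' p = 0) (h3 : φ p' = 0) (h4 : ψ p' = 0)
    (h3' : φ w = 0) (h4' : ψ' w = 0) :
    ∃ g : V ≃ₗ[F] V, LinearMap.det (g : V →ₗ[F] V) = 1 ∧ g p = p ∧ g p' = w ∧ (∀ v, φ (g v) = φ v) ∧ ∀ v, ψ' (g v) = ψ v := by
  obtain ⟨y₁, y₂, hy1, hy2, hy3, hy4⟩ := exists_dual_pair hφ hψ
  obtain ⟨z₁, z₂, hz1, hz2, hz3, hz4⟩ := exists_dual_pair hφ hψ'
  set! D : Submodule F V := LinearMap.ker φ ⊓ LinearMap.ker ψ with hD
  set! D' : Submodule F V := LinearMap.ker φ ⊓ LinearMap.ker ψ' with hD'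
  have hd := finrank_ker_two hφ hψ
  have hd' := finrank_ker_two hφ hψ'
  rw [← hD] at hd
  rw [← hD'] at hd'
  let e : D ≃ₗ[F] D' := LinearEquiv.ofFinrankEq D D' (by omega)
  have hpD : p ∈ D := ⟨h1, h2⟩
  have hp'D : p' ∈ D := ⟨h3, h4⟩
  have hpD' : p ∈ D' := ⟨h1, h2'⟩
  have hwD' : w ∈ D' := ⟨h3', h4'⟩
  have hli : ∀ {E : Submodule F V} (x y : E), LinearIndependent F ![(x : V), (y : V)] →
      LinearIndependent F ![x, y] := by
    intro E x y h
    apply LinearIndependent.of_comp E.subtype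
    have h7 : (E.subtype ∘ ![x, y]) = ![(x : V), (y : V)] := by
      funext i
      fin_cases i <;> rfl
    rw [h7]
    exact h
  have hu : LinearIndependent F ![e ⟨p, hpD⟩, e ⟨p', hp'D⟩] := by
    have h6 := (hli ⟨p, hpD⟩ ⟨p', hp'D⟩ hp).map' (e : D →ₗ[F] D') (LinearEquiv.ker e)
    have h7 : ![e ⟨p, hpD⟩, e ⟨p', hp'D⟩] = (e : D →ₗ[F] D') ∘ ![(⟨p, hpD⟩ : D), ⟨p', hp'D⟩] := by
      funext i
      fin_cases i <;> rfl
    rw [h7]
    exact h6
  have hu' : LinearIndependent F ![(⟨p, hpD'⟩ : D'), ⟨w, hwD'⟩] := hli _ _ hw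
  obtain ⟨k, -, hk⟩ := Cfsg.Agent.H166.Cov.exists_sl_map hu hu' (by rw [Nat.card_eq_fintype_card, Fintype.card_fin]; omega)
  have hk0 : k (e ⟨p, hpD⟩) = ⟨p, hpD'⟩ := hk 0
  have hk1 : k (e ⟨p', hp'D⟩) = ⟨w, hwD'⟩ := hk 1
  -- the linear map
  have hmem : ∀ v, (LinearMap.id - (rk φ y₁) - (rk ψ y₂) : V →ₗ[F] V) v ∈ D := by
    intro v
    refine ⟨?_, ?_⟩
    · rw [SetLike.mem_coe, LinearMap.mem_ker, LinearMap.sub_apply, LinearMap.sub_apply, LinearMap.id_apply, rk_apply,
        rk_apply, map_sub, map_sub, map_smul, map_smul, hy1, hy3, smul_eq_mul, mul_one, smul_zero, sub_self, sub_zero]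
    · rw [SetLike.mem_coe, LinearMap.mem_ker, LinearMap.sub_apply, LinearMap.sub_apply, LinearMap.id_apply, rk_apply,
        rk_apply, map_sub, map_sub, map_smul, map_smul, hy2, hy4, smul_zero, sub_zero, smul_eq_mul, mul_one, sub_self]
  let P : V →ₗ[F] D := (LinearMap.id - (rk φ y₁) - (rk ψ y₂) : V →ₗ[F] V).codRestrict D hmem
  let g₀ : V →ₗ[F] V := D'.subtype ∘ₗ (k : D' →ₗ[F] D') ∘ₗ (e : D →ₗ[F] D') ∘ₗ P + rk φ z₁ + rk ψ z₂
  have hg₀ : ∀ v, g₀ v = (k (e (P v)) : V) + φ v • z₁ + ψ v • z₂ := fun v => rfl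
  have hg1 : ∀ v, φ (g₀ v) = φ v := by
    intro v
    have h6 : φ (k (e (P v)) : V) = 0 := (k (e (P v))).2.1
    rw [hg₀, map_add, map_add, map_smul, map_smul, h6, hz1, hz3, smul_eq_mul, mul_one, smul_zero, zero_add, add_zero]
  have hg2 : ∀ v, ψ' (g₀ v) = ψ v := by
    intro v
    have h6 : ψ' (k (e (P v)) : V) = 0 := (k (e (P v))).2.2
    rw [hg₀, map_add, map_add, map_smul, map_smul, h6, hz2, hz4, smul_zero, smul_eq_mul, mul_one, zero_add, zero_add]
  have hPD : ∀ v (hv : v ∈ D), P v = ⟨v, hv⟩ := by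
    intro v hv
    apply Subtype.ext
    show v - φ v • y₁ - ψ v • y₂ = v
    have h6 : φ v = 0 := hv.1
    have h7 : ψ v = 0 := hv.2
    rw [h6, h7, zero_smul, zero_smul, sub_zero, sub_zero]
  have hgD : ∀ v (hv : v ∈ D), g₀ v = k (e ⟨v, hv⟩) := by
    intro v hv
    have h6 : φ v = 0 := hv.1
    have h7 : ψ v = 0 := hv.2
    rw [hg₀, hPD v hv, h6, h7, zero_smul, zero_smul, add_zero, add_zero]
  have hinj : Function.Injective g₀ := by
    rw [← LinearMap.ker_eq_bot, LinearMap.ker_eq_bot']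
    intro v hv
    have h6 := hg1 v
    have h7 := hg2 v
    rw [hv, map_zero] at h6 h7
    have hvD : v ∈ D := ⟨h6.symm, h7.symm⟩
    have h8 := hgD v hvD
    rw [hv] at h8
    have h9 : k (e ⟨v, hvD⟩) = 0 := Subtype.ext h8.symm
    rw [LinearEquiv.map_eq_zero_iff, LinearEquiv.map_eq_zero_iff] at h9
    exact congrArg Subtype.val h9
  let g : V ≃ₗ[F] V := LinearEquiv.ofInjectiveEndo g₀ hinj
  have hg : ∀ v, g v = g₀ v := fun v => rfl
  -- the correction of the determinant
  obtain ⟨x, hxD, hxP⟩ : ∃ x ∈ D, x ∉ Submodule.span F (Set.range ![p, p']) := by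
    by_contra hcon
    push Not at hcon
    have h6 : D ≤ Submodule.span F (Set.range ![p, p']) := hcon
    have h7 := Submodule.finrank_mono h6
    rw [finrank_span_eq_card hp, Fintype.card_fin] at h7
    omega
  obtain ⟨f, hf1, hf2⟩ := Submodule.exists_dual_map_eq_bot_of_notMem hxP inferInstance
  have hf3 : ∀ y ∈ Submodule.span F (Set.range ![p, p']), f y = 0 := by
    intro y hy
    have h6 : f y ∈ (Submodule.span F (Set.range ![p, p'])).map f := ⟨y, hy, rfl⟩
    rw [hf2, Submodule.mem_bot] at h6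
    exact h6
  have hfp : f p = 0 := hf3 p (Submodule.subset_span ⟨0, rfl⟩)
  have hfp' : f p' = 0 := hf3 p' (Submodule.subset_span ⟨1, rfl⟩)
  have hdet0 : LinearMap.det (g : V →ₗ[F] V) ≠ 0 := by
    intro h
    have := LinearEquiv.isUnit_det' g
    rw [h] at this
    exact not_isUnit_zero this
  set! δ := LinearMap.det (g : V →ₗ[F] V) with hδ; rewrite [← hδ] at hdet0
  let f' : Dual F V := ((δ⁻¹ - 1) * (f x)⁻¹) • f
  have hf'x : 1 + f' x = δ⁻¹ := by
    show 1 + ((δ⁻¹ - 1) * (f x)⁻¹) * f x = δ⁻¹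
    rw [mul_assoc, inv_mul_cancel₀ hf1]
    ring
  have hunit : IsUnit (1 + f' x) := by rw [hf'x]; exact isUnit_iff_ne_zero.2 (inv_ne_zero hdet0)
  let u : V ≃ₗ[F] V := LinearEquiv.dilatransvection hunit
  have hu1 : ∀ v, u v = v + f' v • x := fun v => LinearEquiv.dilatransvection.apply
  have hudet : LinearMap.det (u : V →ₗ[F] V) = δ⁻¹ := by
    have h6 : (u : V →ₗ[F] V) = LinearMap.transvection f' x := LinearEquiv.dilatransvection.coe_toLinearMap
    rw [h6, LinearMap.transvection.det, hf'x]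
  have hx1 : φ x = 0 := hxD.1
  have hx2 : ψ x = 0 := hxD.2
  have hf'p : f' p = 0 := by show _ * f p = 0; rw [hfp, mul_zero]
  have hf'p' : f' p' = 0 := by show _ * f p' = 0; rw [hfp', mul_zero]
  refine ⟨g * u, ?_, ?_, ?_, fun v => ?_, fun v => ?_⟩
  · show LinearMap.det ((g : V →ₗ[F] V) ∘ₗ (u : V →ₗ[F] V)) = 1
    rw [LinearMap.det_comp, hudet, ← hδ, mul_inv_cancel₀ hdet0]
  · show g (u p) = p
    rw [hu1, hf'p, zero_smul, add_zero, hg, hgD p hpD, hk0]
  · show g (u p') = w
    rw [hu1, hf'p', zero_smul, add_zero, hg, hgD p' hp'D, hk1]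
  · show φ (g (u v)) = φ v
    rw [hg, hg1, hu1, map_add, map_smul, hx1, smul_zero, add_zero]
  · show ψ' (g (u v)) = ψ v
    rw [hg, hg2, hu1, map_add, map_smul, hx2, smul_zero, add_zero]

end

section

variable {F V : Type} [Field F] [Finite F] [AddCommGroup V] [Module F V] [FiniteDimensional F V]

/-- the number of functionals killing two independent vectors -/
theorem card_dual_ann_two {p w : V} (h : LinearIndependent F ![p, w]) :
    Nat.card {ψ : Dual F V // ψ p = 0 ∧ ψ w = 0} = Nat.card F ^ (finrank F V - 2) := by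
  have hVfin : Finite V := Module.finite_of_finite F
  have h1 : Nat.card {ψ : Dual F V // ψ p = 0 ∧ ψ w = 0} =
      Nat.card (Submodule.span F (Set.range ![p, w])).dualAnnihilator := by
    refine Nat.card_congr (Equiv.subtypeEquivRight fun ψ => ?_)
    rw [Submodule.mem_dualAnnihilator]
    constructor
    · rintro ⟨h1, h2⟩ x hx
      have h3 : Submodule.span F (Set.range ![p, w]) ≤ LinearMap.ker ψ := by
        rw [Submodule.span_le]
        rintro _ ⟨i, rfl⟩
        fin_cases i
        · exact h1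
        · exact h2
      exact h3 hx
    · intro h1
      exact ⟨h1 p (Submodule.subset_span ⟨0, rfl⟩), h1 w (Submodule.subset_span ⟨1, rfl⟩)⟩
  rw [h1, Module.natCard_eq_pow_finrank (K := F)]
  congr 1
  have h2 := Subspace.finrank_add_finrank_dualAnnihilator_eq (Submodule.span F (Set.range ![p, w]))
  rw [finrank_span_eq_card h, Fintype.card_fin] at h2
  omega

end

end Cfsg.Agent.H232.IFR
end

-- part: H232/IF/Lift
section
/-!
# S5719, involution fixity: the inequalities in a central cover of odd kernel (helper232)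

`LF B` : the consequences of `IF A Γ` for `B = π⁻¹(A)`, `π : S → T` surjective, with central kernel without involutions.
-/

set_option autoImplicit false
set_option linter.unusedSectionVars false

namespace Cfsg.Agent.H232.IFR

open Subgroup Cfsg.Agent.H209.Fxy

/-- the inequalities for the preimage `B` of `A` -/
structure LF {S : Type*} [Group S] (B : Subgroup S) : Prop where
  e2 : ∀ a ∈ B, a ≠ 1 → a * a = 1 → ∀ C ≤ centralizer ({a} : Set S),
    B.relIndex C ^ 5 < (centralizer ({a} : Set S)).index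
  e4 : ∀ s ∈ B, ∀ t ∈ B, s ≠ 1 → t ≠ 1 → s * s = 1 → t * t = 1 → s ≠ t → s * t = t * s →
    B.index ^ 2 * (centralizer ({s} : Set S)).relIndex (centralizer ({t} : Set S)) ^ 3 <
      (centralizer ({s} : Set S)).index ^ 3

section

variable {S T : Type*} [Group S] [Group T] [Finite T] [IsSimpleGroup T] {A : Subgroup T} {Γ : Subgroup (MulAut T)}

/-- the preimage of the centraliser of an involution -/
theorem comap_centralizer (π : S →* T) (hker : ∀ z ∈ π.ker, z ∈ Subgroup.center S ∧ (z * z = 1 → z = 1)) {a : S}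
    (ha : a * a = 1) : (centralizer ({π a} : Set T)).comap π = centralizer ({a} : Set S) := by
  ext g
  rw [Subgroup.mem_comap, mem_centralizer_singleton_iff, mem_centralizer_singleton_iff]
  constructor
  · intro h
    have hz : g * a * g⁻¹ * a⁻¹ ∈ π.ker := by
      rw [MonoidHom.mem_ker, map_mul, map_mul, map_mul, map_inv, map_inv, h, mul_inv_cancel_right, mul_inv_cancel]
    obtain ⟨h1, h2⟩ := hker _ hz
    set z := g * a * g⁻¹ * a⁻¹ with hz'
    have h3 : g * a * g⁻¹ = z * a := by rw [hz']; group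
    have h4 : (z * a) * (z * a) = 1 := by
      rw [← h3]
      have : g * a * g⁻¹ * (g * a * g⁻¹) = g * (a * a) * g⁻¹ := by group
      rw [this, ha, mul_one, mul_inv_cancel]
    have h5 : z * z = 1 := by
      have h6 : z * a * (z * a) = z * z * (a * a) := by
        have h7 : a * z = z * a := (Subgroup.mem_center_iff.1 h1 a)
        calc z * a * (z * a) = z * (a * z) * a := by group
          _ = z * (z * a) * a := by rw [h7]
          _ = z * z * (a * a) := by group
      rw [h6, ha, mul_one] at h4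
      exact h4
    have h6 := h2 h5
    rw [h6, one_mul] at h3
    rw [← mul_inv_eq_iff_eq_mul]
    exact h3
  · intro h
    rw [← map_mul, h, map_mul]

theorem orderOf_image (π : S →* T) (hker : ∀ z ∈ π.ker, z ∈ Subgroup.center S ∧ (z * z = 1 → z = 1)) {a : S}
    (ha : a * a = 1) (ha1 : a ≠ 1) : orderOf (π a) = 2 := by
  have : Fact (Nat.Prime 2) := ⟨Nat.prime_two⟩
  apply orderOf_eq_prime
  · rw [pow_two, ← map_mul, ha, map_one]
  · intro h
    exact ha1 ((hker a h).2 ha)

/-- **The inequalities in the cover.** -/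
theorem lf_of (π : S →* T) (hπ : Function.Surjective π)
    (hker : ∀ z ∈ π.ker, z ∈ Subgroup.center S ∧ (z * z = 1 → z = 1)) (hna : ∃ a b : T, a * b ≠ b * a) (h : IF A Γ) :
    LF (A.comap π) := by
  have hrel : ∀ (H K : Subgroup T), (H.comap π).relIndex (K.comap π) = H.relIndex K := by
    intro H K
    rw [Subgroup.relIndex_comap, Subgroup.map_comap_eq_self_of_surjective hπ]
  refine ⟨?_, ?_⟩
  · intro a ha ha1 ha2 C hC
    have h1 := (Cfsg.Agent.H999.IFB.IF.E2' h hna (t := π a) ha (orderOf_image π hker ha2 ha1)).2.2.2.2 (C.map π) (by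
      rw [Subgroup.map_le_iff_le_comap, comap_centralizer π hker ha2]
      exact hC)
    rw [Subgroup.relIndex_comap, ← comap_centralizer π hker ha2, Subgroup.index_comap_of_surjective _ hπ]
    exact h1.1
  · intro s hs t ht hs1 ht1 hs2 ht2 hst hc
    have h1 := (Cfsg.Agent.H809.IFC.IF.E4 h hna (s := π s) (t := π t) hs ht (orderOf_image π hker hs2 hs1) (orderOf_image π hker ht2 ht1)
      (by
        intro h2
        have hz : s * t⁻¹ ∈ π.ker := by rw [MonoidHom.mem_ker, map_mul, map_inv, h2, mul_inv_cancel]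
        have h3 := (hker _ hz).2 (by
          have h4 : t⁻¹ = t := inv_eq_of_mul_eq_one_left ht2
          rw [h4]
          calc s * t * (s * t) = s * (t * s) * t := by group
            _ = (s * s) * (t * t) := by rw [← hc]; group
            _ = 1 := by rw [hs2, ht2, one_mul])
        exact hst (mul_inv_eq_one.1 h3)) (by rw [← map_mul, hc, map_mul])).2.1
    rw [← comap_centralizer π hker hs2, ← comap_centralizer π hker ht2, Subgroup.index_comap_of_surjective _ hπ,
      Subgroup.index_comap_of_surjective _ hπ, hrel]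
    exact h1

end

end Cfsg.Agent.H232.IFR
end

-- part: H232/IF/SLMain
section
/-!
# S5719, row SL even: the descent and the end (helper232)

`no_LF` : `slV F V`, `dim V ≥ 5`, characteristic two, has no subgroup `B` of even order and index at least `q ^ (m - 1)`
with the inequalities `LF`.
-/

set_option autoImplicit false
set_option linter.unusedSectionVars false

namespace Cfsg.Agent.H232.IFR

open Module Subgroup
open Cfsg.Agent.H881.Bs (card_le_of_fiber)
open Cfsg.Agent.H847.Bs (slV)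

section

/-- conjugates under `K` -/
theorem relIndex_centralizer {G : Type*} [Group G] (K : Subgroup G) (s : G) :
    (centralizer ({s} : Set G)).relIndex K = Nat.card {x : G // ∃ g ∈ K, x = g * s * g⁻¹} := by
  rw [relIndex, index]
  apply Nat.card_congr
  refine Equiv.ofBijective (Quotient.lift (fun k : K => (⟨k * s * (k : G)⁻¹, k, k.2, rfl⟩ :
    {x : G // ∃ g ∈ K, x = g * s * g⁻¹})) ?_) ⟨?_, ?_⟩
  · intro a b hab
    have h1 : a⁻¹ * b ∈ (centralizer ({s} : Set G)).subgroupOf K := QuotientGroup.leftRel_apply.1 hab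
    have h2 : (a : G)⁻¹ * b * s = s * ((a : G)⁻¹ * b) := mem_centralizer_singleton_iff.1 h1
    apply Subtype.ext
    show (a : G) * s * (a : G)⁻¹ = b * s * (b : G)⁻¹
    have h3 : (b : G) * s = a * (s * ((a : G)⁻¹ * b)) := by rw [← h2]; group
    rw [h3]; group
  · intro x y
    induction x using QuotientGroup.induction_on with
    | H a =>
      induction y using QuotientGroup.induction_on with
      | H b =>
        intro h
        have h1 : (a : G) * s * (a : G)⁻¹ = b * s * (b : G)⁻¹ := congrArg Subtype.val h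
        rw [QuotientGroup.eq]
        show (a : G)⁻¹ * b ∈ centralizer ({s} : Set G)
        rw [mem_centralizer_singleton_iff]
        have h2 : (a : G)⁻¹ * b * s = (a : G)⁻¹ * (b * s * (b : G)⁻¹) * b := by group
        rw [h2, ← h1]; group
  · rintro ⟨_, g, hg, rfl⟩
    exact ⟨QuotientGroup.mk ⟨g, hg⟩, rfl⟩

theorem index_centralizer {G : Type*} [Group G] (s : G) :
    (centralizer ({s} : Set G)).index = Nat.card {x : G // ∃ g : G, x = g * s * g⁻¹} := by
  rw [← relIndex_top_right, relIndex_centralizer]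
  exact Nat.card_congr (Equiv.subtypeEquivRight fun x => by simp only [_root_.Subgroup.mem_top, _root_.true_and])

end

section

variable {F V : Type} [Field F] [AddCommGroup V] [Module F V] [FiniteDimensional F V]

/-- `1 + n` -/
def un (h2 : (2 : F) = 0) (n : V →ₗ[F] V) (hn : n * n = 0) : slV F V :=
  ⟨LinearEquiv.ofLinearMap (LinearMap.id + n) (LinearMap.id + n) (by
      ext v
      have h3 : n (n v) = 0 := LinearMap.congr_fun hn v
      have h4 : n v + n v = 0 := by rw [← two_smul F, h2, zero_smul]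
      show (v + n v) + n (v + n v) = v
      rw [map_add, h3, add_zero, add_assoc, h4, add_zero]) (by
      ext v
      have h3 : n (n v) = 0 := LinearMap.congr_fun hn v
      have h4 : n v + n v = 0 := by rw [← two_smul F, h2, zero_smul]
      show (v + n v) + n (v + n v) = v
      rw [map_add, h3, add_zero, add_assoc, h4, add_zero]), by
    show LinearMap.det _ = 1
    set! g : V →ₗ[F] V := LinearMap.id + n with hg
    have h5 : g ∘ₗ g = LinearMap.id := by
      ext v
      have h3 : n (n v) = 0 := LinearMap.congr_fun hn v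
      have h4 : n v + n v = 0 := by rw [← two_smul F, h2, zero_smul]
      show (v + n v) + n (v + n v) = v
      rw [map_add, h3, add_zero, add_assoc, h4, add_zero]
    have h6 : LinearMap.det g * LinearMap.det g = 1 := by
      rw [← LinearMap.det_comp, h5, LinearMap.det_id]
    have h7 : (LinearMap.det g - 1) * (LinearMap.det g - 1) = 0 := by
      linear_combination h6 - (LinearMap.det g - 1) * h2
    have h8 : LinearMap.det g - 1 = 0 := mul_self_eq_zero.1 h7
    exact sub_eq_zero.1 h8⟩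

theorem un_apply (h2 : (2 : F) = 0) (n : V →ₗ[F] V) (hn : n * n = 0) (v : V) :
    ((un h2 n hn : slV F V) : V ≃ₗ[F] V) v = v + n v := rfl

/-- `a - 1` -/
def nn (a : slV F V) : V →ₗ[F] V := ((a : V ≃ₗ[F] V) : V →ₗ[F] V) - LinearMap.id

theorem nn_apply (a : slV F V) (v : V) : nn a v = (a : V ≃ₗ[F] V) v - v := rfl

theorem nn_un (h2 : (2 : F) = 0) (n : V →ₗ[F] V) (hn : n * n = 0) : nn (un h2 n hn) = n := by
  ext v
  rw [nn_apply, un_apply, add_sub_cancel_left]

theorem nn_inj {a b : slV F V} (h : nn a = nn b) : a = b := by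
  apply Subtype.ext
  ext v
  have h1 := LinearMap.congr_fun h v
  rw [nn_apply, nn_apply] at h1
  exact sub_left_inj.1 h1

theorem nn_ne {a : slV F V} (h : a ≠ 1) : nn a ≠ 0 := by
  intro h0
  apply h
  apply nn_inj
  rw [h0]
  ext v
  rw [nn_apply]
  show (0 : V) = v - v
  rw [sub_self]

theorem nn_sq (h2 : (2 : F) = 0) {a : slV F V} (ha : a * a = 1) : nn a * nn a = 0 := by
  ext v
  have h1 : (a : V ≃ₗ[F] V) ((a : V ≃ₗ[F] V) v) = v := by
    have h3 := congrArg (fun x : slV F V => (x : V ≃ₗ[F] V) v) ha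
    exact h3
  rw [Module.End.mul_apply, nn_apply, nn_apply, map_sub, h1, LinearMap.zero_apply]
  have h4 : ((a : V ≃ₗ[F] V) v - v) + ((a : V ≃ₗ[F] V) v - v) = 0 := by rw [← two_smul F, h2, zero_smul]
  have h5 : v - (a : V ≃ₗ[F] V) v - ((a : V ≃ₗ[F] V) v - v) = -(((a : V ≃ₗ[F] V) v - v) + ((a : V ≃ₗ[F] V) v - v)) := by
    abel
  rw [h5, h4, neg_zero]

theorem un_mul (h2 : (2 : F) = 0) {n n' : V →ₗ[F] V} (hn : n * n = 0) (hn' : n' * n' = 0) (h : n * n' = 0)
    (hs : (n + n') * (n + n') = 0) : un h2 n hn * un h2 n' hn' = un h2 (n + n') hs := by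
  apply Subtype.ext
  ext v
  have h3 : n (n' v) = 0 := LinearMap.congr_fun h v
  show (v + n' v) + n (v + n' v) = v + (n v + n' v)
  rw [map_add, h3, add_zero]
  abel

theorem un_mul_self (h2 : (2 : F) = 0) {n : V →ₗ[F] V} (hn : n * n = 0) : un h2 n hn * un h2 n hn = 1 := by
  apply Subtype.ext
  ext v
  have h3 : n (n v) = 0 := LinearMap.congr_fun hn v
  have h4 : n v + n v = 0 := by rw [← two_smul F, h2, zero_smul]
  show (v + n v) + n (v + n v) = v
  rw [map_add, h3, add_zero, add_assoc, h4, add_zero]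

theorem rank_sq {n : V →ₗ[F] V} (hn : n * n = 0) : 2 * finrank F (LinearMap.range n) ≤ finrank F V := by
  have h1 := LinearMap.finrank_range_add_finrank_ker n
  have h3 : LinearMap.range n ≤ LinearMap.ker n := by
    rintro _ ⟨v, rfl⟩
    exact LinearMap.congr_fun hn v
  have h4 := Submodule.finrank_mono h3
  omega

theorem nn_conj (g a : slV F V) : nn (g * a * g⁻¹) =
    ((g : V ≃ₗ[F] V) : V →ₗ[F] V) * nn a * (((g⁻¹ : slV F V) : V ≃ₗ[F] V) : V →ₗ[F] V) := by
  ext v
  have h1 : (g : V ≃ₗ[F] V) (((g⁻¹ : slV F V) : V ≃ₗ[F] V) v) = v := by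
    have h3 := congrArg (fun x : slV F V => (x : V ≃ₗ[F] V) v) (mul_inv_cancel g)
    exact h3
  show (g : V ≃ₗ[F] V) ((a : V ≃ₗ[F] V) (((g⁻¹ : slV F V) : V ≃ₗ[F] V) v)) - v =
    (g : V ≃ₗ[F] V) ((a : V ≃ₗ[F] V) (((g⁻¹ : slV F V) : V ≃ₗ[F] V) v) - ((g⁻¹ : slV F V) : V ≃ₗ[F] V) v)
  rw [map_sub, h1]

theorem rank_conj (g a : slV F V) : finrank F (LinearMap.range (nn (g * a * g⁻¹))) = finrank F (LinearMap.range (nn a)) := by
  rw [nn_conj]
  have h1 : LinearMap.range (((g : V ≃ₗ[F] V) : V →ₗ[F] V) * nn a * (((g⁻¹ : slV F V) : V ≃ₗ[F] V) : V →ₗ[F] V)) =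
      (LinearMap.range (nn a)).map ((g : V ≃ₗ[F] V) : V →ₗ[F] V) := by
    ext x
    constructor
    · rintro ⟨v, rfl⟩
      exact ⟨_, ⟨_, rfl⟩, rfl⟩
    · rintro ⟨_, ⟨v, rfl⟩, rfl⟩
      obtain ⟨v', rfl⟩ := ((g⁻¹ : slV F V) : V ≃ₗ[F] V).surjective v
      exact ⟨v', rfl⟩
  rw [h1]
  exact LinearEquiv.finrank_map_eq (g : V ≃ₗ[F] V) _

variable [Finite F]

/-- the size of the class -/
theorem index_le (h2 : (2 : F) = 0) {a : slV F V} (ha : a * a = 1) :
    (centralizer ({a} : Set (slV F V))).index ≤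
      Nat.card {n : V →ₗ[F] V // n * n = 0 ∧ finrank F (LinearMap.range n) = finrank F (LinearMap.range (nn a))} := by
  have hVfin : Finite V := Module.finite_of_finite F
  have hfin : Finite (V →ₗ[F] V) := Finite.of_injective (fun g : V →ₗ[F] V => (g : V → V)) DFunLike.coe_injective
  rw [index_centralizer]
  refine Nat.card_le_card_of_injective (fun x => ⟨nn x.1, ?_, ?_⟩) fun x y h => Subtype.ext (nn_inj (congrArg Subtype.val h))
  · obtain ⟨g, hg⟩ := x.2
    apply nn_sq h2
    rw [hg]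
    have h3 : g * a * g⁻¹ * (g * a * g⁻¹) = g * (a * a) * g⁻¹ := by group
    rw [h3, ha, mul_one, mul_inv_cancel]
  · obtain ⟨g, hg⟩ := x.2
    rw [hg, rank_conj]

/-- the group `Hom(V/R, W)`, `W ≤ R` -/
def tw {R W : Submodule F V} (f : (V ⧸ R) →ₗ[F] W) : V →ₗ[F] V := W.subtype ∘ₗ f ∘ₗ R.mkQ

theorem tw_apply {R W : Submodule F V} (f : (V ⧸ R) →ₗ[F] W) (v : V) :
    tw f v = (f (Submodule.Quotient.mk v) : V) := rfl

theorem tw_mul {R W : Submodule F V} (hWR : W ≤ R) (f g : (V ⧸ R) →ₗ[F] W) : tw f * tw g = 0 := by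
  ext v
  rw [Module.End.mul_apply, tw_apply]
  have h1 : (Submodule.Quotient.mk (tw g v) : V ⧸ R) = 0 := by
    rw [Submodule.Quotient.mk_eq_zero]
    exact hWR (g (Submodule.Quotient.mk v)).2
  rw [h1, map_zero]
  rfl

/-- the corresponding subgroup of `SL(V)` -/
def Tw (h2 : (2 : F) = 0) {R W : Submodule F V} (hWR : W ≤ R) : Multiplicative ((V ⧸ R) →ₗ[F] W) →* slV F V where
  toFun f := un h2 (tw f.toAdd) (tw_mul hWR _ _)
  map_one' := by
    apply nn_inj
    rw [nn_un]
    ext v
    rw [nn_apply]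
    show ((0 : (V ⧸ R) →ₗ[F] W) (Submodule.Quotient.mk v) : V) = v - v
    rw [LinearMap.zero_apply, sub_self, ZeroMemClass.coe_zero]
  map_mul' f g := by
    rw [un_mul h2 (tw_mul hWR _ _) (tw_mul hWR _ _) (tw_mul hWR _ _) (tw_mul hWR (f.toAdd + g.toAdd) (f.toAdd + g.toAdd))]
    rfl

theorem nn_Tw (h2 : (2 : F) = 0) {R W : Submodule F V} (hWR : W ≤ R) (f : Multiplicative ((V ⧸ R) →ₗ[F] W)) :
    nn (Tw h2 hWR f) = tw f.toAdd := nn_un h2 (tw f.toAdd) (tw_mul hWR f.toAdd f.toAdd)

theorem Tw_inj (h2 : (2 : F) = 0) {R W : Submodule F V} (hWR : W ≤ R) : Function.Injective (Tw h2 hWR) := by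
  intro f g h
  have h1 : tw f.toAdd = tw g.toAdd := by
    rw [← nn_un h2 (tw f.toAdd) (tw_mul hWR _ _), ← nn_un h2 (tw g.toAdd) (tw_mul hWR _ _)]
    exact congrArg nn h
  apply Multiplicative.toAdd.injective
  apply LinearMap.ext
  intro x
  obtain ⟨v, rfl⟩ := Submodule.Quotient.mk_surjective R x
  apply Subtype.ext
  have h3 := LinearMap.congr_fun h1 v
  rw [tw_apply, tw_apply] at h3
  exact h3

theorem card_Tw (h2 : (2 : F) = 0) {R W : Submodule F V} (hWR : W ≤ R) :
    Nat.card (Tw h2 hWR).range = Nat.card F ^ ((finrank F V - finrank F R) * finrank F W) := by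
  have hVfin : Finite V := Module.finite_of_finite F
  have hfQ : Finite (V ⧸ R) := Finite.of_surjective _ (Submodule.mkQ_surjective R)
  rw [← Nat.card_congr (MonoidHom.ofInjective (Tw_inj h2 hWR)).toEquiv]
  have h1 : Nat.card (Multiplicative ((V ⧸ R) →ₗ[F] W)) = Nat.card ((V ⧸ R) →ₗ[F] W) :=
    Nat.card_congr Multiplicative.toAdd
  have hfin2 : Finite ((V ⧸ R) →ₗ[F] W) :=
    Finite.of_injective (fun g : (V ⧸ R) →ₗ[F] W => (g : V ⧸ R → W)) DFunLike.coe_injective
  rw [h1, Module.natCard_eq_pow_finrank (K := F), Module.finrank_linearMap, Submodule.finrank_quotient]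

/-- elements of `Tw` commute with `a` -/
theorem Tw_comm (h2 : (2 : F) = 0) {R W : Submodule F V} (hWR : W ≤ R) {a : slV F V}
    (ha1 : LinearMap.range (nn a) ≤ R) (ha2 : W ≤ LinearMap.ker (nn a)) :
    (Tw h2 hWR).range ≤ centralizer ({a} : Set (slV F V)) := by
  rintro _ ⟨f, rfl⟩
  rw [mem_centralizer_singleton_iff]
  apply Subtype.ext
  ext v
  have hav : ∀ v, (a : V ≃ₗ[F] V) v = v + nn a v := fun v => by rw [nn_apply]; abel
  show (a : V ≃ₗ[F] V) v + tw f.toAdd ((a : V ≃ₗ[F] V) v) = (a : V ≃ₗ[F] V) (v + tw f.toAdd v)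
  rw [map_add, hav (tw f.toAdd v), hav v, map_add]
  have h3 : tw f.toAdd (nn a v) = 0 := by
    rw [tw_apply]
    have h4 : (Submodule.Quotient.mk (nn a v) : V ⧸ R) = 0 := by
      rw [Submodule.Quotient.mk_eq_zero]
      exact ha1 ⟨v, rfl⟩
    rw [h4, map_zero]
    rfl
  have h4 : nn a (tw f.toAdd v) = 0 := ha2 (f.toAdd (Submodule.Quotient.mk v)).2
  rw [h3, h4, add_zero]

end

end Cfsg.Agent.H232.IFR
end

-- part: H232/IF/SLEnd
section
/-!
# S5719, row SL even: the end (helper232)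
-/

set_option autoImplicit false
set_option linter.unusedSectionVars false

namespace Cfsg.Agent.H232.IFR

open Module Subgroup
open Cfsg.Agent.H881.Bs (card_le_of_fiber)
open Cfsg.Agent.H847.Bs (slV)

section

variable {F V : Type} [Field F] [Finite F] [AddCommGroup V] [Module F V] [FiniteDimensional F V]

theorem finite_sl : Finite (slV F V) := by
  have hVfin : Finite V := Module.finite_of_finite F
  have : Finite (V ≃ₗ[F] V) := Finite.of_injective (fun g : V ≃ₗ[F] V => (g : V → V)) DFunLike.coe_injective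
  infer_instance

theorem relIndex_card {G : Type*} [Group G] (H K : Subgroup G) :
    H.relIndex K * Nat.card (H ⊓ K : Subgroup G) = Nat.card K := by
  have h1 := (H.subgroupOf K).index_mul_card
  have h2 : Nat.card (H.subgroupOf K) = Nat.card (H ⊓ K : Subgroup G) := by
    rw [← Subgroup.inf_subgroupOf_right, Nat.card_congr (Subgroup.subgroupOfEquivOfLe inf_le_right).toEquiv]
  rw [h2] at h1
  exact h1

/-- **Descent.** -/
theorem step (h2 : (2 : F) = 0) {B : Subgroup (slV F V)} (hB : LF B) {a : slV F V} (ha : a ∈ B) (ha1 : a ≠ 1)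
    (ha2 : a * a = 1) (hk : 2 ≤ finrank F (LinearMap.range (nn a))) :
    ∃ b ∈ B, b ≠ 1 ∧ b * b = 1 ∧ finrank F (LinearMap.range (nn b)) < finrank F (LinearMap.range (nn a)) := by
  have hfin := finite_sl (F := F) (V := V)
  set k := finrank F (LinearMap.range (nn a)) with hkdef
  set! m := finrank F V with hm
  have hnsq := nn_sq h2 ha2
  have h2k : 2 * k ≤ m := rank_sq hnsq
  have hRK : LinearMap.range (nn a) ≤ LinearMap.ker (nn a) := by
    rintro _ ⟨v, rfl⟩
    exact LinearMap.congr_fun hnsq v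
  obtain ⟨W, hW, hWd⟩ := Cfsg.Agent.H951.exists_sub (LinearMap.range (nn a)) (a := 2 * k / 5 + 1) (by omega)
  have hC := Tw_comm h2 hW (a := a) le_rfl (hW.trans hRK)
  have hcard := card_Tw h2 hW
  rw [hWd, ← hkdef, ← hm] at hcard
  have h1 := hB.e2 a ha ha1 ha2 _ hC
  have h3 := (index_le h2 ha2).trans (card_nil_le (F := F) (V := V) _ (by omega))
  rw [← hkdef, ← hm] at h3
  have hq : 1 < Nat.card F := Finite.one_lt_card
  by_contra hcon
  have hbot : B ⊓ (Tw h2 hW).range = ⊥ := by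
    rw [Subgroup.eq_bot_iff_forall]
    rintro b ⟨hb, f, rfl⟩
    by_contra hb1
    apply hcon
    refine ⟨_, hb, hb1, un_mul_self h2 (tw_mul hW f.toAdd f.toAdd), ?_⟩
    have h4 : nn (Tw h2 hW f) = tw f.toAdd := nn_Tw h2 hW f
    rw [h4]
    have h5 : LinearMap.range (tw f.toAdd) ≤ W := by
      rintro _ ⟨v, rfl⟩
      exact (f.toAdd (Submodule.Quotient.mk v)).2
    have h6 := Submodule.finrank_mono h5
    rw [hWd] at h6
    omega
  have h4 : B.relIndex (Tw h2 hW).range = Nat.card (Tw h2 hW).range := by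
    have h5 := relIndex_card B (Tw h2 hW).range
    rw [hbot, Subgroup.card_bot, mul_one] at h5
    exact h5
  rw [h4, hcard, ← pow_mul] at h1
  have h5 := lt_of_lt_of_le h1 h3
  rw [Nat.pow_lt_pow_iff_right hq] at h5
  have h6 : (m - k) * (2 * k / 5 + 1) * 5 = (m - k) * ((2 * k / 5 + 1) * 5) := by ring
  have h7 : (m - k) * (2 * k + 1) ≤ (m - k) * ((2 * k / 5 + 1) * 5) := Nat.mul_le_mul_left _ (by omega)
  have h8 : (m - k) * (2 * k + 1) = 2 * k * (m - k) + (m - k) := by ring
  omega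

/-- there is a transvection -/
theorem exists_trans (h2 : (2 : F) = 0) {B : Subgroup (slV F V)} (hB : LF B) (hex : ∃ a ∈ B, a ≠ 1 ∧ a * a = 1) :
    ∃ t ∈ B, t * t = 1 ∧ finrank F (LinearMap.range (nn t)) = 1 := by
  obtain ⟨a, ha, ha1, ha2⟩ := hex
  induction hn : finrank F (LinearMap.range (nn a)) using Nat.strong_induction_on generalizing a with
  | _ n ih =>
    have h0 : n ≠ 0 := by
      rintro rfl
      apply nn_ne ha1
      exact LinearMap.range_eq_bot.1 (Submodule.finrank_eq_zero.1 hn)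
    rcases Nat.lt_or_ge n 2 with h | h
    · exact ⟨a, ha, ha2, by omega⟩
    · subst hn
      obtain ⟨b, hb, hb1, hb2, hlt⟩ := step h2 hB ha ha1 ha2 h
      exact ih _ hlt b hb hb1 hb2 rfl

/-- a transvection commuting with `t`, in general position -/
theorem exists_second (h2 : (2 : F) = 0) (h5 : 5 ≤ finrank F V) {B : Subgroup (slV F V)} (hB : LF B) {t : slV F V}
    (ht : t ∈ B) (ht1 : t ≠ 1) (ht2 : t * t = 1) {φ : Dual F V} {p : V} (hφ : φ ≠ 0) (hp : p ≠ 0) (hφp : φ p = 0)
    (htn : nn t = rk φ p) :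
    ∃ (s : slV F V) (ψ : Dual F V) (p' : V), s ∈ B ∧ nn s = rk ψ p' ∧ LinearIndependent F ![p, p'] ∧
      ψ ∉ Submodule.span F {φ} ∧ φ p' = 0 ∧ ψ p = 0 ∧ ψ p' = 0 := by
  have hfin := finite_sl (F := F) (V := V)
  set m := finrank F V with hm
  have hq : 1 < Nat.card F := Finite.one_lt_card
  -- `p'`
  have hker : finrank F (LinearMap.ker φ) + 1 = m := by
    have h1 := LinearMap.finrank_range_add_finrank_ker φ
    rw [LinearMap.range_eq_top.2 (LinearMap.surjective hφ), finrank_top, finrank_self] at h1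
    omega
  obtain ⟨p', hp'1, hp'2⟩ : ∃ p' ∈ LinearMap.ker φ, p' ∉ Submodule.span F {p} := by
    by_contra hcon
    push Not at hcon
    have h6 : LinearMap.ker φ ≤ Submodule.span F {p} := hcon
    have h7 := Submodule.finrank_mono h6
    rw [finrank_span_singleton hp] at h7
    omega
  have hli : LinearIndependent F ![p, p'] := by
    rw [LinearIndependent.pair_iff' hp]
    intro a ha
    exact hp'2 (Submodule.mem_span_singleton.2 ⟨a, ha⟩)
  set! R := Submodule.span F (Set.range ![p, p']) with hR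
  have hpR : p ∈ R := Submodule.subset_span ⟨0, rfl⟩
  have hp'R : p' ∈ R := Submodule.subset_span ⟨1, rfl⟩
  have hp'0 : p' ≠ 0 := by
    rintro rfl
    exact hp'2 (Submodule.zero_mem _)
  set! W := Submodule.span F {p'} with hW
  have hWR : W ≤ R := by
    rw [hW, Submodule.span_singleton_le_iff_mem]
    exact hp'R
  have hRd : finrank F R = 2 := by rw [hR, finrank_span_eq_card hli, Fintype.card_fin]
  have hWd : finrank F W = 1 := by rw [hW, finrank_span_singleton hp'0]
  have hC : (Tw h2 hWR).range ≤ centralizer ({t} : Set (slV F V)) := by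
    apply Tw_comm h2 hWR
    · rw [htn, range_rk hφ, Submodule.span_singleton_le_iff_mem]
      exact hpR
    · rw [hW, Submodule.span_singleton_le_iff_mem, LinearMap.mem_ker, htn, rk_apply]
      rw [LinearMap.mem_ker] at hp'1
      rw [hp'1, zero_smul]
  have hcard := card_Tw h2 hWR
  rw [hRd, hWd, mul_one, ← hm] at hcard
  have h1 := hB.e2 t ht ht1 ht2 _ hC
  have hr1 : finrank F (LinearMap.range (nn t)) = 1 := by rw [htn, finrank_range_rk hφ hp]
  have h3 := (index_le h2 ht2).trans (card_nil_le (F := F) (V := V) _ (by omega))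
  rw [hr1, ← hm] at h3
  have h4 : B.relIndex (Tw h2 hWR).range < Nat.card F ^ (m - 3) := by
    by_contra hge
    push Not at hge
    have h5 := Nat.pow_le_pow_left hge 5
    rw [← pow_mul] at h5
    have h6 := lt_of_le_of_lt h5 (lt_of_lt_of_le h1 h3)
    rw [Nat.pow_lt_pow_iff_right hq] at h6
    omega
  have h6 := relIndex_card B (Tw h2 hWR).range
  rw [hcard] at h6
  -- more than `q` elements
  have h7 : Nat.card F < Nat.card (B ⊓ (Tw h2 hWR).range : Subgroup (slV F V)) := by
    by_contra hge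
    push Not at hge
    have h8 : B.relIndex (Tw h2 hWR).range * Nat.card (B ⊓ (Tw h2 hWR).range : Subgroup (slV F V)) <
        Nat.card F ^ (m - 3) * Nat.card F := by
      calc _ ≤ B.relIndex (Tw h2 hWR).range * Nat.card F := Nat.mul_le_mul_left _ hge
        _ < _ := Nat.mul_lt_mul_of_pos_right h4 (by omega)
    rw [h6, ← pow_succ] at h8
    have h9 : m - 3 + 1 = m - 2 := by (clear * - h5; omega)
    rw [h9] at h8
    exact lt_irrefl _ h8
  -- the functional of an element
  have hfun : ∀ f : (V ⧸ R) →ₗ[F] W, ∃ ψ : Dual F V, tw f = rk ψ p' ∧ ∀ x ∈ R, ψ x = 0 := by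
    intro f
    have hex : ∀ v : V, ∃ c : F, c • p' = tw f v := fun v =>
      Submodule.mem_span_singleton.1 (f (Submodule.Quotient.mk v)).2
    choose ψ hψ using hex
    have hinj : ∀ c d : F, c • p' = d • p' → c = d := fun c d h => by
      by_contra hne
      have h10 : (c - d) • p' = 0 := by rw [sub_smul, h, sub_self]
      rcases smul_eq_zero.1 h10 with h11 | h11
      · exact hne (sub_eq_zero.1 h11)
      · exact hp'0 h11
    refine ⟨
      { toFun := ψ
        map_add' := fun x y => hinj _ _ (by rw [hψ, add_smul, hψ, hψ, map_add])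
        map_smul' := fun c x => hinj _ _ (by rw [hψ, RingHom.id_apply, smul_assoc, hψ, map_smul]) }, ?_, fun x hx => ?_⟩
    · ext v
      exact (hψ v).symm
    · apply hinj
      show ψ x • p' = (0 : F) • p'
      rw [hψ, tw_apply, zero_smul]
      have h10 : (Submodule.Quotient.mk x : V ⧸ R) = 0 := by
        rw [Submodule.Quotient.mk_eq_zero]
        exact hx
      rw [h10, map_zero]
      rfl
  by_contra hcon
  push Not at hcon
  -- then all functionals are multiples of `φ`
  have hall : ∀ x : (B ⊓ (Tw h2 hWR).range : Subgroup (slV F V)), ∃ c : F, nn (x : slV F V) = rk (c • φ) p' := by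
    rintro ⟨x, hxB, f, rfl⟩
    obtain ⟨ψ, hψ1, hψ2⟩ := hfun f.toAdd
    have h10 : nn (Tw h2 hWR f) = rk ψ p' := (nn_Tw h2 hWR f).trans hψ1
    have h11 : ψ ∈ Submodule.span F {φ} := by
      by_contra hψ
      exact hcon _ ψ p' hxB h10 hli hψ hp'1 (hψ2 p hpR) (hψ2 p' hp'R)
    obtain ⟨c, hc⟩ := Submodule.mem_span_singleton.1 h11
    exact ⟨c, by rw [hc]; exact h10⟩
  choose c hc using hall
  have h8 := Nat.card_le_card_of_injective c (by
    intro x y hxy
    apply Subtype.ext
    apply nn_inj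
    rw [hc x, hc y, hxy])
  omega

/-- the number of conjugates of `s` under the centraliser of `t` -/
theorem card_conj_ge (h2 : (2 : F) = 0) (h5 : 5 ≤ finrank F V) {s t : slV F V} {φ ψ : Dual F V} {p p' : V}
    (hφ : φ ≠ 0) (hφp : φ p = 0) (htn : nn t = rk φ p) (hsn : nn s = rk ψ p') (hli : LinearIndependent F ![p, p'])
    (hψφ : ψ ∉ Submodule.span F {φ}) (hφp' : φ p' = 0) (hψp : ψ p = 0) (hψp' : ψ p' = 0) :
    (Nat.card F ^ (finrank F V - 1) - Nat.card F) * (Nat.card F ^ (finrank F V - 2) - Nat.card F) ≤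
      (Nat.card F - 1) * (centralizer ({s} : Set (slV F V))).relIndex (centralizer ({t} : Set (slV F V))) := by
  classical
  have hfin := finite_sl (F := F) (V := V)
  have hVfin : Finite V := Module.finite_of_finite F
  have hfinD : Finite (Dual F V) := Finite.of_injective (fun g : Dual F V => (g : V → F)) DFunLike.coe_injective
  have hp : p ≠ 0 := by
    have := hli.ne_zero 0
    exact this
  rw [relIndex_centralizer]
  -- the pairs
  let Y := {c : V × Dual F V // (φ c.1 = 0 ∧ c.1 ∉ Submodule.span F {p}) ∧ (c.2 p = 0 ∧ c.2 c.1 = 0) ∧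
    c.2 ∉ Submodule.span F {φ}}
  have hliw : ∀ w : V, w ∉ Submodule.span F {p} → LinearIndependent F ![p, w] := by
    intro w hw
    rw [LinearIndependent.pair_iff' hp]
    intro a ha
    exact hw (Submodule.mem_span_singleton.2 ⟨a, ha⟩)
  have hspanφ : Nat.card (Submodule.span F {φ} : Submodule F (Dual F V)) = Nat.card F := by
    rw [Module.natCard_eq_pow_finrank (K := F), finrank_span_singleton hφ, pow_one]
  have hspanp : Nat.card (Submodule.span F {p} : Submodule F V) = Nat.card F := by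
    rw [Module.natCard_eq_pow_finrank (K := F), finrank_span_singleton hp, pow_one]
  have hY : (Nat.card F ^ (finrank F V - 1) - Nat.card F) * (Nat.card F ^ (finrank F V - 2) - Nat.card F) = Nat.card Y := by
    have h1 : Nat.card Y = Nat.card (Σ w : {w : V // φ w = 0 ∧ w ∉ Submodule.span F {p}},
        {ψ' : Dual F V // (ψ' p = 0 ∧ ψ' w = 0) ∧ ψ' ∉ Submodule.span F {φ}}) :=
      Nat.card_congr
        { toFun := fun c => ⟨⟨c.1.1, c.2.1⟩, c.1.2, c.2.2⟩
          invFun := fun c => ⟨(c.1.1, c.2.1), c.1.2, c.2.2⟩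
          left_inv := fun c => rfl
          right_inv := fun c => rfl }
    have h3 : ∀ w : {w : V // φ w = 0 ∧ w ∉ Submodule.span F {p}},
        Nat.card {ψ' : Dual F V // (ψ' p = 0 ∧ ψ' w = 0) ∧ ψ' ∉ Submodule.span F {φ}} =
          Nat.card F ^ (finrank F V - 2) - Nat.card F := by
      rintro ⟨w, hw1, hw2⟩
      rw [← card_dual_ann_two (hliw w hw2), ← hspanφ]
      have h4 : {ψ' : Dual F V | (ψ' p = 0 ∧ ψ' w = 0) ∧ ψ' ∉ Submodule.span F {φ}} =
          {ψ' : Dual F V | ψ' p = 0 ∧ ψ' w = 0} \ (Submodule.span F {φ} : Set (Dual F V)) := rfl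
      have h6 : (Submodule.span F {φ} : Set (Dual F V)) ⊆ {ψ' : Dual F V | ψ' p = 0 ∧ ψ' w = 0} := by
        intro x hx
        obtain ⟨c, rfl⟩ := Submodule.mem_span_singleton.1 hx
        refine ⟨?_, ?_⟩
        · rw [LinearMap.smul_apply, hφp, smul_zero]
        · rw [LinearMap.smul_apply, hw1, smul_zero]
      have h7 := Set.ncard_sdiff h6 (Set.toFinite _)
      rw [← h4] at h7
      exact h7
    have h4 : Nat.card {w : V // φ w = 0 ∧ w ∉ Submodule.span F {p}} = Nat.card F ^ (finrank F V - 1) - Nat.card F := by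
      have h6 : Nat.card {w : V // φ w = 0} = Nat.card F ^ (finrank F V - 1) := by
        have h7 : Nat.card {w : V // φ w = 0} = Nat.card (LinearMap.ker φ) :=
          Nat.card_congr (Equiv.subtypeEquivRight fun w => Iff.rfl)
        rw [h7, Module.natCard_eq_pow_finrank (K := F)]
        congr 1
        have h8 := LinearMap.finrank_range_add_finrank_ker φ
        rw [LinearMap.range_eq_top.2 (LinearMap.surjective hφ), finrank_top, finrank_self] at h8
        omega
      rw [← h6, ← hspanp]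
      have h7 : {w : V | φ w = 0 ∧ w ∉ Submodule.span F {p}} =
          {w : V | φ w = 0} \ (Submodule.span F {p} : Set V) := rfl
      have h8 : (Submodule.span F {p} : Set V) ⊆ {w : V | φ w = 0} := by
        intro x hx
        obtain ⟨c, rfl⟩ := Submodule.mem_span_singleton.1 hx
        show φ (c • p) = 0
        rw [map_smul, hφp, smul_zero]
      have h9 := Set.ncard_sdiff h8 (Set.toFinite _)
      rw [← h7] at h9
      exact h9
    have := Fintype.ofFinite {w : V // φ w = 0 ∧ w ∉ Submodule.span F {p}}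
    rw [h1, Nat.card_sigma, Finset.sum_congr rfl (fun w _ => h3 w), Finset.sum_const, Finset.card_univ,
      smul_eq_mul, ← Nat.card_eq_fintype_card, h4]
  rw [hY]
  -- the map to the conjugates
  have hsq : ∀ c : Y, rk c.1.2 c.1.1 * rk c.1.2 c.1.1 = 0 := by
    intro c
    rw [rk_mul_rk, c.2.2.1.2, zero_smul]
  have hconj : ∀ c : Y, ∃ g ∈ centralizer ({t} : Set (slV F V)), un h2 (rk c.1.2 c.1.1) (hsq c) = g * s * g⁻¹ := by
    rintro ⟨⟨w, ψ'⟩, ⟨hw1, hw2⟩, ⟨h3, h4⟩, h6⟩
    obtain ⟨g, hdet, hg1, hg2, hg3, hg4⟩ := exists_sl_pair h5 hφ hψφ h6 hli (hliw w hw2) hφp hψp h3 hφp' hψp' hw1 h4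
    refine ⟨⟨g, hdet⟩, ?_, ?_⟩
    · rw [mem_centralizer_singleton_iff]
      apply Subtype.ext
      ext v
      have hav : ∀ v, (t : V ≃ₗ[F] V) v = v + φ v • p := fun v => by
        have h7 := LinearMap.congr_fun htn v
        rw [nn_apply, rk_apply] at h7
        rw [← h7]
        abel
      show g ((t : V ≃ₗ[F] V) v) = (t : V ≃ₗ[F] V) (g v)
      rw [hav, hav, map_add, map_smul, hg1, hg3]
    · apply nn_inj
      rw [nn_un, nn_conj, hsn]
      ext v
      have h7 : g ((((⟨g, hdet⟩ : slV F V)⁻¹ : slV F V) : V ≃ₗ[F] V) v) = v := g.apply_symm_apply v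
      show ψ' v • w = g (ψ ((((⟨g, hdet⟩ : slV F V)⁻¹ : slV F V) : V ≃ₗ[F] V) v) • p')
      rw [map_smul, hg2, ← hg4, h7]
  have h1 := card_le_of_fiber (fun c : Y => (⟨un h2 (rk c.1.2 c.1.1) (hsq c), hconj c⟩ :
    {x : slV F V // ∃ g ∈ centralizer ({t} : Set (slV F V)), x = g * s * g⁻¹})) (Nat.card F - 1) ?_
  · exact h1
  · intro b
    by_cases hb : ∃ c₀ : Y, (⟨un h2 (rk c₀.1.2 c₀.1.1) (hsq c₀), hconj c₀⟩ :
        {x : slV F V // ∃ g ∈ centralizer ({t} : Set (slV F V)), x = g * s * g⁻¹}) = b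
    · obtain ⟨c₀, rfl⟩ := hb
      rw [← Nat.card_units F]
      have hc : ∀ c : {c : Y // (⟨un h2 (rk c.1.2 c.1.1) (hsq c), hconj c⟩ :
          {x : slV F V // ∃ g ∈ centralizer ({t} : Set (slV F V)), x = g * s * g⁻¹}) =
          ⟨un h2 (rk c₀.1.2 c₀.1.1) (hsq c₀), hconj c₀⟩},
          ∃ a : Fˣ, c.1.1.1 = (a : F) • c₀.1.1 ∧ c.1.1.2 = ((a⁻¹ : Fˣ) : F) • c₀.1.2 := by
        rintro ⟨c, hc⟩
        have h3 : rk c.1.2 c.1.1 = rk c₀.1.2 c₀.1.1 := by
          have h4 := congrArg (fun x : {x : slV F V // ∃ g ∈ centralizer ({t} : Set (slV F V)), x = g * s * g⁻¹} => nn x.1) hc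
          simp only [nn_un] at h4
          exact h4
        have hw0 : c.1.1 ≠ 0 := fun h => c.2.1.2 (by rw [h]; exact Submodule.zero_mem _)
        have hw00 : c₀.1.1 ≠ 0 := fun h => c₀.2.1.2 (by rw [h]; exact Submodule.zero_mem _)
        have hψ0 : c₀.1.2 ≠ 0 := fun h => c₀.2.2.2 (by rw [h]; exact Submodule.zero_mem _)
        obtain ⟨y, hy⟩ := LinearMap.surjective (f := c.1.2) (fun h => c.2.2.2 (by rw [h]; exact Submodule.zero_mem _)) 1
        have h4 := LinearMap.congr_fun h3 y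
        rw [rk_apply, rk_apply, hy, one_smul] at h4
        have ha0 : c₀.1.2 y ≠ 0 := by
          intro h
          rw [h, zero_smul] at h4
          exact hw0 h4
        refine ⟨Units.mk0 _ ha0, h4, ?_⟩
        ext v
        have h6 := LinearMap.congr_fun h3 v
        rw [rk_apply, rk_apply, h4, smul_smul] at h6
        have h7 : (c.1.2 v * c₀.1.2 y - c₀.1.2 v) • c₀.1.1 = 0 := by rw [sub_smul, h6, sub_self]
        have h8 : c.1.2 v * c₀.1.2 y = c₀.1.2 v := sub_eq_zero.1 ((smul_eq_zero.1 h7).resolve_right hw00)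
        rw [LinearMap.smul_apply, Units.val_inv_eq_inv_val, Units.val_mk0, smul_eq_mul, ← h8]
        field_simp
      choose a ha1 ha2 using hc
      refine Nat.card_le_card_of_injective a ?_
      intro x y hxy
      apply Subtype.ext
      apply Subtype.ext
      refine Prod.ext ?_ ?_
      · rw [ha1 x, ha1 y, hxy]
      · rw [ha2 x, ha2 y, hxy]
    · have h3 : IsEmpty {c : Y // (⟨un h2 (rk c.1.2 c.1.1) (hsq c), hconj c⟩ :
          {x : slV F V // ∃ g ∈ centralizer ({t} : Set (slV F V)), x = g * s * g⁻¹}) = b} :=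
        ⟨fun c => hb ⟨c.1, c.2⟩⟩
      rw [Nat.card_of_isEmpty]
      exact Nat.zero_le _

/-- the numbers -/
theorem num_end {q m n c I : ℕ} (hq : 2 ≤ q) (hm : 5 ≤ m) (hn : q ^ (m - 1) ≤ n)
    (hc : (q ^ (m - 1) - q) * (q ^ (m - 2) - q) ≤ (q - 1) * c) (hI : I * (q - 1) ≤ (q ^ m - 1) * (q ^ (m - 1) - 1))
    (h : n ^ 2 * c ^ 3 < I ^ 3) : False := by
  obtain ⟨k, rfl⟩ : ∃ k, m = k + 5 := ⟨m - 5, by omega⟩
  have e1 : k + 5 - 1 = k + 4 := by omega
  have e2 : k + 5 - 2 = k + 3 := by omega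
  rw [e1] at hn hc hI
  rw [e2] at hc
  -- `X = q ^ (k + 3) - 1`, `Y = q ^ (k + 2) - 1`
  obtain ⟨X, hX⟩ : ∃ X, q ^ (k + 3) = X + 1 := ⟨q ^ (k + 3) - 1, by
    have : 0 < q ^ (k + 3) := by positivity
    omega⟩
  obtain ⟨Y, hY⟩ : ∃ Y, q ^ (k + 2) = Y + 1 := ⟨q ^ (k + 2) - 1, by
    have : 0 < q ^ (k + 2) := by positivity
    omega⟩
  have h1 : q ^ (k + 4) - q = q * X := by
    have : q ^ (k + 4) = q * q ^ (k + 3) := by ring
    rw [this, hX, Nat.mul_add, mul_one, Nat.add_sub_cancel]
  have h2 : q ^ (k + 3) - q = q * Y := by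
    have : q ^ (k + 3) = q * q ^ (k + 2) := by ring
    rw [this, hY, Nat.mul_add, mul_one, Nat.add_sub_cancel]
  rw [h1, h2] at hc
  have hXq : q ^ 2 ≤ X + 1 := by rw [← hX]; exact Nat.pow_le_pow_right (by omega) (by omega)
  have hYq : q ^ 2 ≤ Y + 1 := by rw [← hY]; exact Nat.pow_le_pow_right (by omega) (by omega)
  have h3 : q ^ (k + 5) - 1 ≤ (q ^ 2 + 1) * X := by
    have h4 : q ^ (k + 5) = q ^ 2 * (X + 1) := by rw [← hX]; ring
    rw [h4]
    have : q ^ 2 * (X + 1) ≤ (q ^ 2 + 1) * X + 1 := by linarith only [hXq]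
    omega
  have h4 : q ^ (k + 4) - 1 ≤ (q ^ 2 + 1) * Y := by
    have h5 : q ^ (k + 4) = q ^ 2 * (Y + 1) := by rw [← hY]; ring
    rw [h5]
    have : q ^ 2 * (Y + 1) ≤ (q ^ 2 + 1) * Y + 1 := by linarith only [hYq]
    omega
  have h5 : I * (q - 1) ≤ (q ^ 2 + 1) ^ 2 * (X * Y) := by
    calc I * (q - 1) ≤ (q ^ (k + 5) - 1) * (q ^ (k + 4) - 1) := hI
      _ ≤ ((q ^ 2 + 1) * X) * ((q ^ 2 + 1) * Y) := Nat.mul_le_mul h3 h4
      _ = _ := by ring
  have h6 : (q ^ (k + 4)) ^ 2 * (q * X * (q * Y)) ^ 3 ≤ n ^ 2 * ((q - 1) * c) ^ 3 :=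
    Nat.mul_le_mul (Nat.pow_le_pow_left hn 2) (Nat.pow_le_pow_left hc 3)
  have h7 : n ^ 2 * ((q - 1) * c) ^ 3 < (I * (q - 1)) ^ 3 := by
    have h8 : 0 < (q - 1) ^ 3 := by
      have : 0 < q - 1 := by omega
      positivity
    calc n ^ 2 * ((q - 1) * c) ^ 3 = (n ^ 2 * c ^ 3) * (q - 1) ^ 3 := by ring
      _ < I ^ 3 * (q - 1) ^ 3 := Nat.mul_lt_mul_of_pos_right h h8
      _ = _ := by ring
  have h8 : (I * (q - 1)) ^ 3 ≤ ((q ^ 2 + 1) ^ 2 * (X * Y)) ^ 3 := Nat.pow_le_pow_left h5 3
  have h9 : (q ^ 2 + 1) ^ 3 ≤ q ^ 7 := by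
    have h10 : q ^ 7 = q * q ^ 6 := by ring
    have h11 : (q ^ 2 + 1) ^ 3 = q ^ 6 + 3 * q ^ 4 + 3 * q ^ 2 + 1 := by ring
    rw [h10, h11]
    rcases Nat.eq_or_lt_of_le hq with h12 | h12
    · rw [← h12]; norm_num
    · have h13 : 3 ≤ q := h12
      have h14 : 3 * q ^ 6 ≤ q * q ^ 6 := Nat.mul_le_mul_right _ h13
      have h15 : q ^ 6 = q ^ 2 * q ^ 4 := by ring
      have h16 : 9 ≤ q ^ 2 := by nlinarith only [h12]
      have h17 : 9 * q ^ 4 ≤ q ^ 2 * q ^ 4 := Nat.mul_le_mul_right _ h16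
      have h18 : q ^ 4 = q ^ 2 * q ^ 2 := by ring
      have h19 : 9 * q ^ 2 ≤ q ^ 2 * q ^ 2 := Nat.mul_le_mul_right _ h16
      (clear * - h14 h15 h16 h17 h18 h19; omega)
  have h10 : ((q ^ 2 + 1) ^ 2 * (X * Y)) ^ 3 ≤ (q ^ (k + 4)) ^ 2 * (q * X * (q * Y)) ^ 3 := by
    calc ((q ^ 2 + 1) ^ 2 * (X * Y)) ^ 3 = ((q ^ 2 + 1) ^ 3) ^ 2 * (X * Y) ^ 3 := by ring
      _ ≤ (q ^ 7) ^ 2 * (X * Y) ^ 3 := Nat.mul_le_mul_right _ (Nat.pow_le_pow_left h9 2)
      _ = q ^ 8 * (q ^ 6 * (X * Y) ^ 3) := by ring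
      _ ≤ (q ^ (k + 4)) ^ 2 * (q ^ 6 * (X * Y) ^ 3) := by
          apply Nat.mul_le_mul_right
          rw [← pow_mul]
          exact Nat.pow_le_pow_right (by omega) (by omega)
      _ = _ := by ring
  exact absurd (lt_of_le_of_lt h6 h7) (not_lt.2 (h8.trans h10))

/-- **The end.** -/
theorem no_LF (h2 : (2 : F) = 0) (h5 : 5 ≤ finrank F V) {B : Subgroup (slV F V)} (hB : LF B)
    (hex : ∃ a ∈ B, a ≠ 1 ∧ a * a = 1) (hidx : Nat.card F ^ (finrank F V - 1) ≤ B.index) : False := by
  have hfin := finite_sl (F := F) (V := V)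
  obtain ⟨t, ht, ht2, ht3⟩ := exists_trans h2 hB hex
  obtain ⟨p, φ, hp, hφ, htn⟩ := exists_rk ht3
  have hsq := nn_sq h2 ht2
  have hφp : φ p = 0 := by
    rw [htn, rk_mul_rk] at hsq
    obtain ⟨w, hw⟩ := LinearMap.surjective hφ 1
    have h1 := LinearMap.congr_fun hsq w
    rw [LinearMap.smul_apply, rk_apply, hw, one_smul, LinearMap.zero_apply] at h1
    exact (smul_eq_zero.1 h1).resolve_right hp
  have ht1 : t ≠ 1 := by
    rintro rfl
    have h1 : nn (1 : slV F V) = 0 := by
      ext v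
      rw [nn_apply]
      exact sub_self v
    rw [h1, LinearMap.range_zero, finrank_bot] at ht3
    exact zero_ne_one ht3
  obtain ⟨s, ψ, p', hs, hsn, hli, hψφ, hφp', hψp, hψp'⟩ := exists_second h2 h5 hB ht ht1 ht2 hφ hp hφp htn
  have hp'0 : p' ≠ 0 := hli.ne_zero 1
  have hψ0 : ψ ≠ 0 := fun h => hψφ (by rw [h]; exact Submodule.zero_mem _)
  have hav : ∀ v, (t : V ≃ₗ[F] V) v = v + φ v • p := fun v => by
    have h7 := LinearMap.congr_fun htn v
    rw [nn_apply, rk_apply] at h7
    rw [← h7]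
    abel
  have hsv : ∀ v, (s : V ≃ₗ[F] V) v = v + ψ v • p' := fun v => by
    have h7 := LinearMap.congr_fun hsn v
    rw [nn_apply, rk_apply] at h7
    rw [← h7]
    abel
  have hs2 : s * s = 1 := by
    apply Subtype.ext
    ext v
    show (s : V ≃ₗ[F] V) ((s : V ≃ₗ[F] V) v) = v
    rw [hsv, hsv, map_add, map_smul, hψp', smul_zero, add_zero, add_assoc, ← two_smul F, h2, zero_smul, add_zero]
  have hs1 : s ≠ 1 := by
    rintro rfl
    have h1 : nn (1 : slV F V) = 0 := by
      ext v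
      rw [nn_apply]
      exact sub_self v
    rw [h1] at hsn
    obtain ⟨w, hw⟩ := LinearMap.surjective hψ0 1
    have h7 := LinearMap.congr_fun hsn w
    rw [LinearMap.zero_apply, rk_apply, hw, one_smul] at h7
    exact hp'0 h7.symm
  have hst : s ≠ t := by
    rintro rfl
    rw [htn] at hsn
    obtain ⟨w, hw⟩ := LinearMap.surjective hφ 1
    have h7 := LinearMap.congr_fun hsn w
    rw [rk_apply, rk_apply, hw, one_smul] at h7
    rw [LinearIndependent.pair_iff' hp] at hli
    have hψw : ψ w ≠ 0 := by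
      intro h
      rw [h, zero_smul] at h7
      exact hp h7
    exact hli (ψ w)⁻¹ (by rw [h7, smul_smul, inv_mul_cancel₀ hψw, one_smul])
  have hcomm : s * t = t * s := by
    apply Subtype.ext
    ext v
    show (s : V ≃ₗ[F] V) ((t : V ≃ₗ[F] V) v) = (t : V ≃ₗ[F] V) ((s : V ≃ₗ[F] V) v)
    rw [hav, hsv, hsv, hav, map_add, map_add, map_smul, map_smul, hψp, hφp', smul_zero, smul_zero, add_zero, add_zero]
    abel
  have h1 := hB.e4 s hs t ht hs1 ht1 hs2 ht2 hst hcomm
  have h3 := card_conj_ge h2 h5 hφ hφp htn hsn hli hψφ hφp' hψp hψp'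
  have hr1 : finrank F (LinearMap.range (nn s)) = 1 := by rw [hsn, finrank_range_rk hψ0 hp'0]
  have h4 := index_le h2 hs2
  rw [hr1] at h4
  have h6 := (Nat.mul_le_mul_right (Nat.card F - 1) h4).trans (card_rank_one_le (F := F) (V := V))
  have hq : 1 < Nat.card F := Finite.one_lt_card
  exact num_end hq h5 hidx h3 h6 h1

end

end Cfsg.Agent.H232.IFR
end

-- part: H232/IF/RowSL
section
/-!
# S5719: `PSL_n(q)`, `q` even, `n ≥ 5`, `A` of even order (helper232)
-/

set_option autoImplicit false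
set_option linter.unusedSectionVars false

namespace Cfsg.Agent.H232.IFR

open Subgroup Matrix Module Cfsg.Agent.H209.Fxy Cfsg.Agent.H851.Dg Cfsg.Agent.H847.Bs

section

variable {F : Type} [Field F]

theorem range_sl (n : ℕ) :
    (SpecialLinearGroup.toLin' : _root_.Matrix.SpecialLinearGroup (Fin n) F →* _).range = slV F (Fin n → F) := by
  ext g
  constructor
  · rintro ⟨A, rfl⟩
    show LinearMap.det (Matrix.toLin' (A : Matrix (Fin n) (Fin n) F)) = 1
    rw [LinearMap.det_toLin', A.2]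
  · intro hg
    have hg' : LinearMap.det (g : (Fin n → F) →ₗ[F] (Fin n → F)) = 1 := hg
    refine ⟨⟨LinearMap.toMatrix' (g : (Fin n → F) →ₗ[F] (Fin n → F)), by rw [LinearMap.det_toMatrix', hg']⟩, ?_⟩
    apply LinearEquiv.toLinearMap_injective
    exact Matrix.toLin'_toMatrix' _

/-- `SL(F^n) ≃ SL_n(F)` -/
theorem sl_std (n : ℕ) : Nonempty (slV F (Fin n → F) ≃* _root_.Matrix.SpecialLinearGroup (Fin n) F) :=
  ⟨((MonoidHom.ofInjective SpecialLinearGroup.toLin'_injective).trans
      (MulEquiv.subgroupCongr (range_sl n))).symm⟩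

theorem center_sl_pow [Fintype F] {n : ℕ} (hn : 0 < n) {z : _root_.Matrix.SpecialLinearGroup (Fin n) F}
    (hz : z ∈ Subgroup.center (_root_.Matrix.SpecialLinearGroup (Fin n) F)) : z ^ (Fintype.card F - 1) = 1 := by
  rw [Matrix.SpecialLinearGroup.mem_center_iff] at hz
  obtain ⟨r, hr, hrz⟩ := hz
  rw [Fintype.card_fin] at hr
  have hr0 : r ≠ 0 := by
    rintro rfl
    rw [zero_pow hn.ne'] at hr
    exact zero_ne_one hr
  apply Subtype.ext
  rw [Matrix.SpecialLinearGroup.coe_pow, ← hrz, ← map_pow, FiniteField.pow_card_sub_one_eq_one r hr0, map_one]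
  rfl

theorem two_eq_zero [Fintype F] (h : Even (Fintype.card F)) : (2 : F) = 0 := by
  have h1 : ringChar F = 2 := FiniteField.even_card_iff_char_two.2 (Nat.even_iff.1 h)
  have h2 := (ringChar.spec F 2).2 (by rw [h1])
  exact_mod_cast h2

end

theorem odd_pow_eq {S : Type*} [Group S] {z : S} (hz : z * z = 1) {k : ℕ} (hk : Odd k) : z ^ k = z := by
  obtain ⟨j, rfl⟩ := hk
  rw [pow_succ, pow_mul, pow_two, hz, one_pow, one_mul]

/-- a proper non-trivial subgroup in a simple group: the group is not commutative -/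
theorem hna_of {T : Type*} [Group T] [IsSimpleGroup T] {A : Subgroup T} {Γ : Subgroup (MulAut T)} (h : IF A Γ) :
    ∃ a b : T, a * b ≠ b * a := by
  by_contra hcon
  push Not at hcon
  have hn : A.Normal := ⟨fun a ha g => by rw [hcon g a, mul_inv_cancel_right]; exact ha⟩
  rcases hn.eq_bot_or_eq_top with h1 | h1
  · exact h.ne_bot h1
  · exact h.ne_top h1

/-- **`PSL_n(q)`, `q` even, `n ≥ 5`: no counterexample with `A` of even order.** -/
theorem killE_psl_even (F : Type) [Field F] [Fintype F] (n : ℕ) (hev : Even (Fintype.card F)) (hn : 5 ≤ n) :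
    KillE (ProjectiveSpecialLinearGroup (Fin n) F) := by
  rintro A Γ h ⟨t, ht, ho⟩
  have hs : IsSimpleGroup (ProjectiveSpecialLinearGroup (Fin n) F) := S0249.result n (by omega)
  have hfin : Finite (ProjectiveSpecialLinearGroup (Fin n) F) := by
    unfold ProjectiveSpecialLinearGroup
    infer_instance
  have h2 := two_eq_zero hev
  have hq1 : Odd (Fintype.card F - 1) := by
    have := Fintype.card_pos (α := F)
    have h3 := Nat.even_iff.1 hev
    rw [Nat.odd_iff]
    omega
  obtain ⟨e⟩ := sl_std (F := F) n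
  set! p : _root_.Matrix.SpecialLinearGroup (Fin n) F →* ProjectiveSpecialLinearGroup (Fin n) F :=
    QuotientGroup.mk' (Subgroup.center (_root_.Matrix.SpecialLinearGroup (Fin n) F)) with hp
  have hps : Function.Surjective p := QuotientGroup.mk'_surjective _
  set! π : slV F (Fin n → F) →* ProjectiveSpecialLinearGroup (Fin n) F := p.comp e.toMonoidHom with hπ
  have hπs : Function.Surjective π := hps.comp e.surjective
  have hkz : ∀ z ∈ π.ker, e z ∈ Subgroup.center (_root_.Matrix.SpecialLinearGroup (Fin n) F) := by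
    intro z hz
    have h3 : p (e z) = 1 := hz
    rwa [← MonoidHom.mem_ker, hp, QuotientGroup.ker_mk'] at h3
  have hkp : ∀ z ∈ π.ker, z ^ (Fintype.card F - 1) = 1 := by
    intro z hz
    apply e.injective
    rw [map_pow, map_one]
    exact center_sl_pow (by omega) (hkz z hz)
  have hker : ∀ z ∈ π.ker, z ∈ Subgroup.center (slV F (Fin n → F)) ∧ (z * z = 1 → z = 1) := by
    intro z hz
    refine ⟨?_, ?_⟩
    · rw [Subgroup.mem_center_iff]
      intro g
      apply e.injective
      rw [map_mul, map_mul]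
      exact Subgroup.mem_center_iff.1 (hkz z hz) (e g)
    · intro hzz
      rw [← odd_pow_eq hzz hq1]
      exact hkp z hz
  have hlf : LF (A.comap π) := lf_of π hπs hker (hna_of h) h
  refine no_LF (F := F) (V := Fin n → F) h2 (by rw [Module.finrank_fin_fun]; exact hn) hlf ?_ ?_
  · obtain ⟨x, hx⟩ := hπs t
    have htt : t * t = 1 := by rw [← pow_two, ← ho, pow_orderOf_eq_one]
    have hxx : x * x ∈ π.ker := by rw [MonoidHom.mem_ker, map_mul, hx, htt]
    have hπa : π (x ^ (Fintype.card F - 1)) = t := by rw [map_pow, hx, odd_pow_eq htt hq1]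
    refine ⟨x ^ (Fintype.card F - 1), ?_, ?_, ?_⟩
    · show π (x ^ (Fintype.card F - 1)) ∈ A
      rw [hπa]
      exact ht
    · intro h1
      rw [h1, map_one] at hπa
      rw [← hπa, orderOf_one] at ho
      omega
    · rw [← (Commute.refl x).mul_pow]
      exact hkp _ hxx
  · rw [Module.finrank_fin_fun, Subgroup.index_comap_of_surjective _ hπs, Nat.card_eq_fintype_card]
    have := Cfsg.Agent.H934.IdxCl.psl (ι := Fin n) (F := F) (by rw [Fintype.card_fin]; omega) hs A h.ne_top
    rwa [Fintype.card_fin] at this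

end Cfsg.Agent.H232.IFR
end

-- part: H358/IF/EvA
section
/-!
# S5719, cell `PSL four`, `q` even (helper358): tools

`pr_inj`, `EE : S4 F ≃* slV F (I4 → F)`, `idx_tr` (the number of transvections), `IFA.key4`, `exists_t`.
-/

set_option autoImplicit false
set_option linter.unusedSectionVars false

namespace Cfsg.Agent.H358.IF

open Matrix Cfsg.Agent.H209.Fxy Module
open Cfsg.Agent.H232.IFR (nn rk LF)
open Cfsg.Agent.H847.Bs (slV)

section Tr

variable {F : Type} [Field F]

theorem pr_inj (h2 : (2 : F) = 0) : Function.Injective (pr : S4 F →* _) := by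
  intro s t h
  obtain ⟨c, hc⟩ := pr_eq_iff.1 h
  have h1 : c ^ 4 = 1 := by
    have h3 := congrArg Matrix.det hc
    rw [det_smul, s.2, t.2] at h3
    simpa only [_root_.Fintype.card_sum, _root_.Fintype.card_fin, _root_.Nat.reduceAdd, _root_.mul_one] using h3.symm
  have h3 : (c - 1) ^ 4 = 0 := by
    linear_combination h1 + (-2 * c ^ 3 + 3 * c ^ 2 - 2 * c + 1) * h2
  have h4 : c = 1 := sub_eq_zero.1 (pow_eq_zero_iff (by norm_num) |>.1 h3)
  rw [h4, one_smul] at hc
  exact Subtype.ext hc.symm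

theorem range_toLin' : (SpecialLinearGroup.toLin' : S4 F →* _).range = slV F (I4 → F) := by
  ext g
  constructor
  · rintro ⟨A, rfl⟩
    show LinearMap.det (Matrix.toLin' (A : Matrix I4 I4 F)) = 1
    rw [LinearMap.det_toLin', A.2]
  · intro hg
    have hg' : LinearMap.det (g : (I4 → F) →ₗ[F] (I4 → F)) = 1 := hg
    refine ⟨⟨LinearMap.toMatrix' (g : (I4 → F) →ₗ[F] (I4 → F)), by rw [LinearMap.det_toMatrix', hg']⟩, ?_⟩
    ext1 v
    show Matrix.toLin' (LinearMap.toMatrix' (g : (I4 → F) →ₗ[F] (I4 → F))) v = g v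
    rw [Matrix.toLin'_toMatrix']
    rfl

/-- `SL4` as a group of linear maps -/
noncomputable def EE : S4 F ≃* slV F (I4 → F) :=
  (MonoidHom.ofInjective SpecialLinearGroup.toLin'_injective).trans (MulEquiv.subgroupCongr range_toLin')

theorem EE_apply (s : S4 F) (v : I4 → F) :
    ((EE s : slV F (I4 → F)) : (I4 → F) ≃ₗ[F] (I4 → F)) v = s.val *ᵥ v := rfl

theorem nn_EE [Finite F] {s : S4 F} {φ : Dual F (I4 → F)} {p : I4 → F} (h : ∀ v, s.val *ᵥ v = v + φ v • p) :
    nn (EE s) = rk φ p := by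
  apply LinearMap.ext
  intro v
  rw [H232.IFR.nn_apply, EE_apply, h, H232.IFR.rk_apply]
  abel

theorem comap_EE (s : S4 F) : (Subgroup.centralizer ({EE s} : Set (slV F (I4 → F)))).comap (EE : S4 F ≃* _).toMonoidHom =
    Subgroup.centralizer {s} := by
  ext g
  rw [Subgroup.mem_comap, Subgroup.mem_centralizer_singleton_iff, Subgroup.mem_centralizer_singleton_iff]
  show EE g * EE s = EE s * EE g ↔ _
  rw [← map_mul, ← map_mul, EE.injective.eq_iff]

theorem idx_tr [Fintype F] (h2 : (2 : F) = 0) {s : S4 F} {φ : Dual F (I4 → F)} {p : I4 → F}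
    (h : ∀ v, s.val *ᵥ v = v + φ v • p) (hss : s * s = 1) (hφ : φ ≠ 0) (hp : p ≠ 0) :
    (Subgroup.centralizer {s}).index * (Fintype.card F - 1) ≤ (Fintype.card F ^ 4 - 1) * (Fintype.card F ^ 3 - 1) := by
  have h1 : EE s * EE s = (1 : slV F (I4 → F)) := by rw [← map_mul, hss, map_one]
  have h3 := H232.IFR.index_le h2 h1
  have h4 := H232.IFR.card_rank_one_le (F := F) (V := I4 → F)
  rw [nn_EE h, H232.IFR.finrank_range_rk hφ hp] at h3
  have h5 : (Subgroup.centralizer ({EE s} : Set (slV F (I4 → F)))).index = (Subgroup.centralizer {s}).index := by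
    rw [← comap_EE]
    exact (Subgroup.index_comap_of_surjective _ (by exact EE.surjective)).symm
  rw [h5] at h3
  have h6 : finrank F (I4 → F) = 4 := by
    rw [Module.finrank_fintype_fun_eq_card]
    rfl
  rw [h6, Nat.card_eq_fintype_card (α := F)] at h4
  exact (Nat.mul_le_mul_right _ h3).trans h4

end Tr

section Fin

variable {F : Type} [Field F] [Fintype F] {A : Subgroup (P4 F)}

theorem ker_pr (h2 : (2 : F) = 0) : ∀ z ∈ (pr : S4 F →* _).ker, z ∈ Subgroup.center (S4 F) ∧ (z * z = 1 → z = 1) := by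
  intro z hz
  have h1 : z = 1 := pr_inj h2 (by rw [MonoidHom.mem_ker] at hz; rw [hz, map_one])
  rw [h1]
  exact ⟨one_mem _, fun _ => rfl⟩

theorem key4 (h2 : (2 : F) = 0) (h : IFA A) {s t : S4 F} (hs : s ∈ At A) (ht : t ∈ At A) (hs1 : s ≠ 1) (ht1 : t ≠ 1)
    (hss : s * s = 1) (htt : t * t = 1) (hst : s ≠ t) (hc : s * t = t * s) {B R : Subgroup (S4 F)}
    (hB : ∀ b ∈ B, b * t = t * b) (hR : ∀ r ∈ R, r * t = t * r) (hRs : ∀ r ∈ R, r * s = s * r → r = 1) :
    (At A).relIndex B ^ 4 * Nat.card R < (Subgroup.centralizer {s}).index := by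
  obtain ⟨Γ, h⟩ := h
  have : IsSimpleGroup (P4 F) := LieClassical.SLGen.psl_isSimpleGroup (by simp)
  have hk := ker_pr h2
  have h3 := H809.IFC.IF.E4 h (exists_nc (by simp)) (s := pr s) (t := pr t) hs ht
    (H232.IFR.orderOf_image pr hk hss hs1) (H232.IFR.orderOf_image pr hk htt ht1)
    (fun e => hst (pr_inj h2 e)) (by rw [← map_mul, hc, map_mul])
  have h4 := h3.2.2.1
  have h5 : (Subgroup.centralizer {s}).index = (Subgroup.centralizer ({pr s} : Set (P4 F))).index := by
    rw [← H232.IFR.comap_centralizer pr hk hss, Subgroup.index_comap_of_surjective _ pr_surj]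
  have h6 : (At A).relIndex B ≤ fx A (MulAut.conj (pr t)) := by
    rw [Subgroup.relIndex_comap]
    apply H680.Fxy.relIndex_le
    rintro _ ⟨b, hb, rfl⟩
    rw [MulAut.conj_apply, mul_inv_eq_iff_eq_mul, ← map_mul, ← map_mul, hB b hb]
  have h7 : Nat.card R ≤ (Subgroup.centralizer ({pr s} : Set (P4 F))).relIndex (Subgroup.centralizer ({pr t} : Set (P4 F))) := by
    have h8 : R.map pr ≤ Subgroup.centralizer ({pr t} : Set (P4 F)) := by
      rintro _ ⟨b, hb, rfl⟩
      rw [Subgroup.mem_centralizer_singleton_iff, ← map_mul, ← map_mul, hR b hb]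
    have h9 : (Subgroup.centralizer ({pr s} : Set (P4 F))).relIndex (R.map pr) = Nat.card R := by
      rw [← Subgroup.relIndex_comap, H232.IFR.comap_centralizer pr hk hss, Subgroup.relIndex,
        show (Subgroup.centralizer ({s} : Set (S4 F))).subgroupOf R = ⊥ from ?_, Subgroup.index_bot]
      rw [Subgroup.eq_bot_iff_forall]
      rintro ⟨r, hr⟩ hr'
      exact Subtype.ext (hRs r hr (Subgroup.mem_centralizer_singleton_iff.1 hr'))
    rw [← h9]
    apply Subgroup.relIndex_le_of_le_right h8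
    exact Subgroup.index_ne_zero_of_finite
  rw [h5]
  exact (Nat.mul_le_mul (Nat.pow_le_pow_left h6 4) h7).trans_lt h4

/-- a transvection in standard form -/
def x1 : S4 F := SpecialLinearGroup.transvection (show (Sum.inl 0 : I4) ≠ Sum.inl 1 by decide) 1

theorem exists_t (h2 : (2 : F) = 0) (h : IFA A) (hex : ∃ a ∈ A, orderOf a = 2) :
    ∃ g : GL I4 F, x1 ∈ At (cA g A) := by
  obtain ⟨Γ, hΓ⟩ := h
  have : IsSimpleGroup (P4 F) := LieClassical.SLGen.psl_isSimpleGroup (by simp)
  let π : slV F (I4 → F) →* P4 F := pr.comp (EE : S4 F ≃* _).symm.toMonoidHom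
  have hπ : Function.Surjective π := pr_surj.comp (EE : S4 F ≃* _).symm.surjective
  have hπi : Function.Injective π := (pr_inj h2).comp (EE : S4 F ≃* _).symm.injective
  have hlf : LF (A.comap π) := by
    refine H232.IFR.lf_of π hπ ?_ (exists_nc (by simp)) hΓ
    intro z hz
    have h1 : z = 1 := hπi (by rw [MonoidHom.mem_ker] at hz; rw [hz, map_one])
    rw [h1]
    exact ⟨one_mem _, fun _ => rfl⟩
  obtain ⟨t, ht, htt, ht1⟩ := H232.IFR.exists_trans h2 hlf (by
    obtain ⟨a, ha, ho⟩ := hex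
    obtain ⟨x, rfl⟩ := hπ a
    refine ⟨x, ha, ?_, ?_⟩
    · rintro rfl
      rw [map_one, orderOf_one] at ho
      omega
    · apply hπi
      have h1 := pow_orderOf_eq_one (π x)
      rw [ho, pow_two] at h1
      rw [map_mul, h1, map_one])
  obtain ⟨p, φ, hp, hφ, htn⟩ := H232.IFR.exists_rk ht1
  have hsq := H232.IFR.nn_sq h2 htt
  have hφp : φ p = 0 := by
    rw [htn, H232.IFR.rk_mul_rk] at hsq
    obtain ⟨w, hw⟩ := LinearMap.surjective hφ 1
    have h1 := LinearMap.congr_fun hsq w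
    rw [LinearMap.smul_apply, H232.IFR.rk_apply, hw, one_smul, LinearMap.zero_apply] at h1
    exact (smul_eq_zero.1 h1).resolve_right hp
  obtain ⟨s, rfl⟩ := (EE : S4 F ≃* _).surjective t
  have hs : s ∈ At A := by
    have h1 : pr ((EE : S4 F ≃* _).symm (EE s)) ∈ A := ht
    rwa [MulEquiv.symm_apply_apply] at h1
  have hsv : ∀ v, s.val *ᵥ v = v + φ v • p := by
    intro v
    have h1 := LinearMap.congr_fun htn v
    rw [H232.IFR.nn_apply, EE_apply, H232.IFR.rk_apply] at h1
    rw [← h1]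
    abel
  obtain ⟨ψ, hψp⟩ : ∃ ψ : Dual F (I4 → F), ψ p ≠ 0 := by
    by_contra hcon
    push Not at hcon
    exact hp ((Module.forall_dual_apply_eq_zero_iff F p).1 hcon)
  have hψ : ψ ∉ Submodule.span F {φ} := by
    intro h1
    obtain ⟨c, rfl⟩ := Submodule.mem_span_singleton.1 h1
    apply hψp
    rw [LinearMap.smul_apply, hφp, smul_zero]
  obtain ⟨w, -, hw1, hw2, -, -⟩ := H232.IFR.exists_dual_pair hφ hψ
  have hfr := H232.IFR.finrank_ker_two hφ hψ
  have h6 : finrank F (I4 → F) = 4 := by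
    rw [Module.finrank_fintype_fun_eq_card]
    rfl
  rw [h6] at hfr
  let bW := Module.finBasisOfFinrankEq F (LinearMap.ker φ ⊓ LinearMap.ker ψ : Submodule F (I4 → F)) (n := 2) (by omega)
  let b : I4 → (I4 → F) := Sum.elim ![p, w] (fun i => (bW i : I4 → F))
  have hu1 : ∀ i, φ (bW i : I4 → F) = 0 := fun i => (bW i).2.1
  have hu2 : ∀ i, ψ (bW i : I4 → F) = 0 := fun i => (bW i).2.2
  have hli : LinearIndependent F b := by
    rw [Fintype.linearIndependent_iff]
    intro g hg
    rw [Fintype.sum_sum_type, Fin.sum_univ_two] at hg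
    have e0 : b (Sum.inl 0) = p := rfl
    have e1 : b (Sum.inl 1) = w := rfl
    have e2 : ∀ i, b (Sum.inr i) = (bW i : I4 → F) := fun _ => rfl
    simp only [e0, e1, e2] at hg
    have a1 := congrArg φ hg
    have a2 := congrArg ψ hg
    simp only [map_add, map_smul, map_sum, hφp, hw1, hw2, hu1, hu2, smul_zero, zero_add, add_zero, Finset.sum_const_zero,
      map_zero, smul_eq_mul, mul_one, mul_zero] at a1 a2
    have a3 : g (Sum.inl 0) = 0 := (mul_eq_zero.1 a2).resolve_right hψp
    rw [a1, a3, zero_smul, zero_smul, zero_add, zero_add] at hg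
    have a4 : ∑ i, g (Sum.inr i) • bW i = 0 := by
      apply Subtype.ext
      rw [Submodule.coe_sum]
      exact hg
    have a5 := Fintype.linearIndependent_iff.1 bW.linearIndependent (fun i => g (Sum.inr i)) a4
    rintro (i | i)
    · fin_cases i
      · exact a3
      · exact a1
    · exact a5 i
  let bb := basisOfLinearIndependentOfCardEqFinrank hli (by rw [h6]; rfl)
  have hbb : ⇑bb = b := coe_basisOfLinearIndependentOfCardEqFinrank _ _
  obtain ⟨g, hg⟩ := conj_of_basis bb
  refine ⟨g, ?_⟩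
  have h7 : cS g s = x1 := by
    apply Subtype.ext
    apply hg
    intro j
    rw [hbb]
    rw [Fintype.sum_sum_type, Fin.sum_univ_two, Fin.sum_univ_two, hsv]
    show _ = (Matrix.transvection (Sum.inl 0 : I4) (Sum.inl 1) (1 : F)) _ _ • _ +
      (Matrix.transvection (Sum.inl 0 : I4) (Sum.inl 1) (1 : F)) _ _ • _ +
      ((Matrix.transvection (Sum.inl 0 : I4) (Sum.inl 1) (1 : F)) _ _ • _ +
      (Matrix.transvection (Sum.inl 0 : I4) (Sum.inl 1) (1 : F)) _ _ • _)
    rcases j with j | j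
    · fin_cases j
      · show p + φ p • p = _
        rw [hφp, zero_smul, add_zero]
        simp [Matrix.transvection, Matrix.one_apply, b]
      · show w + φ w • p = _
        rw [hw1, one_smul]
        simp [Matrix.transvection, Matrix.one_apply, b]
        rw [add_comm]
    · show (bW j : I4 → F) + φ (bW j : I4 → F) • p = _
      rw [hu1, zero_smul, add_zero]
      fin_cases j
      · simp [Matrix.transvection, Matrix.one_apply, b]
      · simp [Matrix.transvection, Matrix.one_apply, b]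
  rw [← h7]
  exact mem_cA.2 hs

end Fin

end Cfsg.Agent.H358.IF
end

-- part: H358/IF/Even
section
/-!
# S5719, cell `PSL four`, `q` even, `|A|` even (helper358)
-/

set_option autoImplicit false
set_option linter.unusedSectionVars false

namespace Cfsg.Agent.H358.IF

open Matrix Cfsg.Agent.H209.Fxy Module
open Cfsg.Agent.H232.IFR (LF)

section El

variable {F : Type} [Field F]

/-- `1 + a E_13 + b E_14` -/
def ee : Multiplicative (F × F) →* S4 F where
  toFun z := up (Multiplicative.ofAdd !![z.toAdd.1, z.toAdd.2; 0, 0])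
  map_one' := by
    have : (!![(0 : F), 0; 0, 0] : M2 F) = 0 := by ext i j; fin_cases i <;> fin_cases j <;> rfl
    show up (Multiplicative.ofAdd !![(0 : F), 0; 0, 0]) = 1
    rw [this]
    exact map_one up
  map_mul' z w := by
    rw [← map_mul]
    show up (Multiplicative.ofAdd !![z.toAdd.1 + w.toAdd.1, z.toAdd.2 + w.toAdd.2; 0, 0]) = up (Multiplicative.ofAdd
      (!![z.toAdd.1, z.toAdd.2; 0, 0] + !![w.toAdd.1, w.toAdd.2; 0, 0]))
    congr 2
    ext i j
    (revert i j; simp only [_root_.Fin.forall_fin_succ, _root_.Matrix.of_apply, _root_.Matrix.cons_val', _root_.Matrix.cons_val_fin_one, _root_.Matrix.add_apply, Fin.isValue, _root_.Matrix.cons_val_zero, _root_.Matrix.cons_val_succ, _root_.forall_const, _root_.and_self, _root_.add_zero, _root_.implies_true])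

theorem ee_val (a b : F) : (ee (Multiplicative.ofAdd (a, b))).val = fromBlocks 1 !![a, b; 0, 0] 0 1 := rfl

/-- `1 + x E_34 + y E_32` -/
def rr : Multiplicative (F × F) →* S4 F where
  toFun z := ⟨fromBlocks 1 0 !![0, z.toAdd.2; 0, 0] !![1, z.toAdd.1; 0, 1], by
    rw [det_fromBlocks_zero₁₂, det_one, one_mul, det_fin_two_of]
    ring⟩
  map_one' := by
    apply Subtype.ext
    show fromBlocks 1 0 !![(0 : F), 0; 0, 0] !![1, 0; 0, 1] = 1
    have h1 : (!![(0 : F), 0; 0, 0] : M2 F) = 0 := by ext i j; fin_cases i <;> fin_cases j <;> rfl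
    rw [h1, ← Matrix.one_fin_two, fromBlocks_one]
  map_mul' z w := by
    apply Subtype.ext
    show fromBlocks 1 0 !![0, z.toAdd.2 + w.toAdd.2; 0, 0] !![1, z.toAdd.1 + w.toAdd.1; 0, 1] =
      fromBlocks 1 0 !![0, z.toAdd.2; 0, 0] !![1, z.toAdd.1; 0, 1] *
      fromBlocks 1 0 !![0, w.toAdd.2; 0, 0] !![1, w.toAdd.1; 0, 1]
    rw [fromBlocks_multiply]
    congr 1
    · simp
    · simp
    · ext i j
      (revert i j; simp only [Matrix.mul_apply, Fin.sum_univ_two, _root_.Fin.forall_fin_succ, _root_.Matrix.of_apply, _root_.Matrix.cons_val', _root_.Matrix.cons_val_fin_one, _root_.mul_one, _root_.Matrix.cons_mul, _root_.Nat.succ_eq_add_one, Nat.reduceAdd, _root_.Matrix.vecMul_cons, _root_.Matrix.head_cons, _root_.one_smul, _root_.Matrix.tail_cons, _root_.Matrix.smul_cons, _root_.smul_eq_mul, _root_.MulZeroClass.mul_zero, _root_.Matrix.smul_empty, _root_.Matrix.empty_vecMul, _root_.add_zero, _root_.Matrix.add_cons, _root_.Matrix.empty_add_empty, _root_.zero_smul, _root_.zero_add,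 _root_.Matrix.empty_mul, _root_.Equiv.symm_apply_apply, _root_.Matrix.add_apply, Fin.isValue, _root_.Matrix.cons_val_zero, _root_.left_eq_add, _root_.Matrix.cons_val_succ, _root_.forall_const, _root_.and_self, _root_.implies_true])
    · ext i j
      (revert i j; simp [Matrix.mul_apply, Fin.sum_univ_two, add_comm, _root_.Fin.forall_fin_succ])

theorem rr_val (x y : F) : (rr (Multiplicative.ofAdd (x, y))).val = fromBlocks 1 0 !![0, y; 0, 0] !![1, x; 0, 1] := rfl

theorem x1_val : (x1 : S4 F).val = fromBlocks !![1, 1; 0, 1] 0 0 1 := by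
  show Matrix.transvection (Sum.inl 0 : I4) (Sum.inl 1) (1 : F) = _
  ext i j
  rcases i with i | i <;> rcases j with j | j <;> (revert i j; simp only [Matrix.transvection, Matrix.one_apply, Matrix.single_apply, _root_.Fin.forall_fin_succ, _root_.Fin.isValue, _root_.Matrix.add_apply, _root_.Sum.inl.injEq, _root_.Matrix.fromBlocks_apply₁₁, _root_.Matrix.of_apply, _root_.Matrix.cons_val', _root_.Matrix.cons_val_fin_one, _root_.one_ne_zero, _root_.and_false, ↓ _root_.reduceIte, _root_.add_zero, _root_.Matrix.cons_val_zero, _root_.Matrix.cons_val_succ, _root_.Fin.succ_zero_eq_one, _root_.and_true, _root_.IsEmpty.forall_iff, _root_.zero_ne_one, _root_.zero_add, _root_.and_self, _root_.Fin.succ_ne_zero, _root_.true_and, _root_.ne_eq, _root_.reduceCtorEq, _root_.not_false_eq_true, _root_.Matrix.one_apply_ne, _root_.Matrix.single_apply_of_ne, _root_.Matrix.fromBlocks_apply₁₂, _root_.Matrix.zero_apply, _root_.implies_true, _root_.false_and, _root_.Matrix.fromBlocks_apply₂₁,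 _root_.Sum.inr.injEq, _root_.Matrix.fromBlocks_apply₂₂])

theorem ee_inj : Function.Injective (ee : Multiplicative (F × F) →* S4 F) := by
  intro z w h
  have h1 := congrArg Subtype.val h
  have h2 : ∀ z : Multiplicative (F × F), (ee z).val = fromBlocks 1 !![z.toAdd.1, z.toAdd.2; 0, 0] 0 1 := fun _ => rfl
  rw [h2, h2, fromBlocks_inj] at h1
  have h3 := congrFun (congrFun h1.2.1 0) 0
  have h4 := congrFun (congrFun h1.2.1 0) 1
  exact Prod.ext h3 h4

theorem rr_inj : Function.Injective (rr : Multiplicative (F × F) →* S4 F) := by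
  intro z w h
  have h1 := congrArg Subtype.val h
  have h2 : ∀ z : Multiplicative (F × F), (rr z).val = fromBlocks 1 0 !![0, z.toAdd.2; 0, 0] !![1, z.toAdd.1; 0, 1] :=
    fun _ => rfl
  rw [h2, h2, fromBlocks_inj] at h1
  have h3 := congrFun (congrFun h1.2.2.1 0) 1
  have h4 := congrFun (congrFun h1.2.2.2 0) 1
  exact Prod.ext h4 h3

theorem ee_x1 (z : Multiplicative (F × F)) : ee z * x1 = x1 * ee z := by
  apply Subtype.ext
  show (ee z).val * x1.val = x1.val * (ee z).val
  rw [x1_val, show (ee z).val = fromBlocks 1 !![z.toAdd.1, z.toAdd.2; 0, 0] 0 1 from rfl, fromBlocks_multiply,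
    fromBlocks_multiply]
  (with_reducible congr 1)
  · simp
  · ext i j
    (revert i j; simp [Matrix.mul_apply, Fin.sum_univ_two, _root_.Fin.forall_fin_succ])
  · simp
  · simp

theorem rr_x1 (z : Multiplicative (F × F)) : rr z * x1 = x1 * rr z := by
  apply Subtype.ext
  show (rr z).val * x1.val = x1.val * (rr z).val
  rw [x1_val, show (rr z).val = fromBlocks 1 0 !![0, z.toAdd.2; 0, 0] !![1, z.toAdd.1; 0, 1] from rfl, fromBlocks_multiply,
    fromBlocks_multiply]
  (with_reducible congr 1)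
  · simp
  · simp
  · ext i j
    (revert i j; simp only [Matrix.mul_apply, Fin.sum_univ_two, _root_.Fin.forall_fin_succ, _root_.Matrix.cons_mul, _root_.Nat.succ_eq_add_one, Nat.reduceAdd, _root_.Matrix.vecMul_cons, _root_.Matrix.head_cons, _root_.zero_smul, _root_.Matrix.tail_cons, _root_.Matrix.smul_cons, _root_.smul_eq_mul, _root_.MulZeroClass.mul_zero, _root_.mul_one, _root_.Matrix.smul_empty, _root_.Matrix.empty_vecMul, _root_.add_zero, _root_.zero_add, _root_.Matrix.empty_mul, _root_.Equiv.symm_apply_apply, _root_.Matrix.add_apply, _root_.Matrix.of_apply, _root_.Matrix.cons_val', _root_.Pi.zero_apply, _root_.Matrix.cons_val_fin_one, _root_.Matrix.zero_apply, _root_.one_mul, Fin.isValue, _root_.Matrix.cons_val_zero, _root_.Matrix.cons_val_succ, _root_.implies_true, _root_.and_self])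
  · simp

theorem blk_x1 (b : S2 F) : blk (1, b) * x1 = x1 * blk (1, b) := by
  apply Subtype.ext
  show (blk (1, b)).val * x1.val = x1.val * (blk (1, b)).val
  rw [x1_val, blk_val, fromBlocks_multiply, fromBlocks_multiply]
  simp

theorem rr_ee {a b x y : F} (ha : a ≠ 0)
    (h : rr (Multiplicative.ofAdd (x, y)) * ee (Multiplicative.ofAdd (a, b)) =
      ee (Multiplicative.ofAdd (a, b)) * rr (Multiplicative.ofAdd (x, y))) : x = 0 ∧ y = 0 := by
  have h1 : (rr (Multiplicative.ofAdd (x, y))).val * (ee (Multiplicative.ofAdd (a, b))).val =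
      (ee (Multiplicative.ofAdd (a, b))).val * (rr (Multiplicative.ofAdd (x, y))).val := congrArg Subtype.val h
  rw [rr_val, ee_val, fromBlocks_multiply, fromBlocks_multiply, fromBlocks_inj] at h1
  have h3 := congrFun (congrFun h1.1 0) 1
  have h4 := congrFun (congrFun h1.2.1 0) 1
  simp [Matrix.mul_apply, Fin.sum_univ_two] at h3 h4
  exact ⟨h4.resolve_left ha, h3.resolve_left ha⟩

theorem ee_act (a b : F) (v : I4 → F) : (ee (Multiplicative.ofAdd (a, b))).val *ᵥ v =
    v + (a • (LinearMap.proj (Sum.inr 0) : (I4 → F) →ₗ[F] F) + b • (LinearMap.proj (Sum.inr 1) : (I4 → F) →ₗ[F] F)) v •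
      (Pi.single (Sum.inl 0) 1 : I4 → F) := by
  rw [ee_val]
  ext i
  rcases i with i | i <;> fin_cases i <;>
    simp only [Matrix.mulVec, dotProduct, Fin.sum_univ_two, _root_.Fin.zero_eta, _root_.Fin.isValue, _root_.Fintype.sum_sum_type, _root_.Matrix.fromBlocks_apply₁₁, _root_.Matrix.one_apply_eq, _root_.one_mul, _root_.ne_eq, _root_.zero_ne_one, _root_.not_false_eq_true, _root_.Matrix.one_apply_ne, _root_.MulZeroClass.zero_mul, _root_.add_zero, _root_.Matrix.fromBlocks_apply₁₂, _root_.Matrix.of_apply, _root_.Matrix.cons_val', _root_.Matrix.cons_val_fin_one, _root_.Matrix.cons_val_zero, _root_.Matrix.cons_val_one, _root_.LinearMap.add_apply, _root_.LinearMap.smul_apply, _root_.LinearMap.coe_proj, _root_.Function.eval, _root_.smul_eq_mul, _root_.Pi.add_apply, _root_.Pi.smul_apply, _root_.Pi.single_eq_same, _root_.mul_one, _root_.Fin.mk_one, _root_.one_ne_zero, _root_.zero_add, _root_.Sum.inl.injEq, _root_.Pi.single_eq_of_ne, _root_.MulZeroClass.mul_zero, _root_.Matrix.fromBlocks_apply₂₁,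 _root_.Matrix.zero_apply, _root_.Finset.sum_const_zero, _root_.Matrix.fromBlocks_apply₂₂, _root_.reduceCtorEq]

theorem x1_act (v : I4 → F) : (x1 : S4 F).val *ᵥ v =
    v + (LinearMap.proj (Sum.inl 1) : (I4 → F) →ₗ[F] F) v • (Pi.single (Sum.inl 0) 1 : I4 → F) := by
  rw [x1_val]
  ext i
  rcases i with i | i <;> fin_cases i <;>
    simp [Matrix.mulVec, dotProduct, Fin.sum_univ_two]

theorem single_ne : (Pi.single (Sum.inl 0) 1 : I4 → F) ≠ 0 := by
  intro h
  have := congrFun h (Sum.inl 0)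
  simp at this

theorem x1_ne : (x1 : S4 F) ≠ 1 := by
  intro h
  have h1 := congrFun (congrFun (congrArg Subtype.val h) (Sum.inl 0)) (Sum.inl 1)
  rw [x1_val] at h1
  simp at h1

theorem x1_sq (h2 : (2 : F) = 0) : (x1 : S4 F) * x1 = 1 := by
  apply Subtype.ext
  show (x1 : S4 F).val * x1.val = 1
  rw [x1_val, fromBlocks_multiply, ← fromBlocks_one]
  congr 1
  · have h3 : (1 : F) + 1 = 0 := by linear_combination h2
    ext i j
    (revert i j; simp only [Matrix.mul_apply, Fin.sum_univ_two, h3, _root_.Fin.forall_fin_succ, _root_.Matrix.cons_mul, _root_.Nat.succ_eq_add_one, Nat.reduceAdd, _root_.Matrix.vecMul_cons, _root_.Matrix.head_cons, _root_.one_smul, _root_.Matrix.tail_cons, _root_.Matrix.empty_vecMul, _root_.add_zero, _root_.Matrix.add_cons, _root_.Matrix.empty_add_empty, _root_.zero_smul, _root_.zero_add, _root_.Matrix.empty_mul, _root_.Equiv.symm_apply_apply, _root_.MulZeroClass.mul_zero, _root_.Matrix.add_apply, _root_.Matrix.of_apply, _root_.Matrix.cons_val',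 _root_.Matrix.cons_val_fin_one, _root_.Matrix.zero_apply, Fin.isValue, _root_.Matrix.cons_val_zero, _root_.Matrix.cons_val_succ, _root_.IsEmpty.forall_iff, _root_.and_true, _root_.Matrix.one_apply_eq, _root_.Fin.succ_zero_eq_one, _root_.ne_eq, _root_.zero_ne_one, _root_.not_false_eq_true, _root_.Matrix.one_apply_ne, _root_.and_self, _root_.Fin.succ_ne_zero, _root_.true_and])
  · simp
  · simp
  · simp

theorem ee_sq (h2 : (2 : F) = 0) (z : Multiplicative (F × F)) : ee z * ee z = 1 := by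
  rw [← map_mul]
  have h3 : z * z = 1 := by
    apply Prod.ext
    · show z.toAdd.1 + z.toAdd.1 = 0
      linear_combination z.toAdd.1 * h2
    · show z.toAdd.2 + z.toAdd.2 = 0
      linear_combination z.toAdd.2 * h2
  rw [h3, map_one]

theorem ee_ne_x1 (z : Multiplicative (F × F)) : ee z ≠ x1 := by
  intro h
  have h1 := congrFun (congrFun (congrArg Subtype.val h) (Sum.inl 0)) (Sum.inl 1)
  rw [x1_val, show (ee z).val = fromBlocks 1 !![z.toAdd.1, z.toAdd.2; 0, 0] 0 1 from rfl] at h1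
  simp at h1

end El

section Num

theorem num_f {q f I : ℕ} (hq : 2 ≤ q) (h1 : f ^ 5 < I) (h2 : I * (q - 1) ≤ (q ^ 4 - 1) * (q ^ 3 - 1)) : f < q ^ 2 := by
  by_contra hcon
  push Not at hcon
  have h3 : (q ^ 2) ^ 5 ≤ f ^ 5 := Nat.pow_le_pow_left hcon 5
  have h4 : I * 1 ≤ I * (q - 1) := Nat.mul_le_mul_left _ (by omega)
  have h5 : (q ^ 4 - 1) * (q ^ 3 - 1) ≤ q ^ 4 * q ^ 3 := Nat.mul_le_mul (Nat.sub_le _ _) (Nat.sub_le _ _)
  have h6 : q ^ 4 * q ^ 3 ≤ (q ^ 2) ^ 5 := by
    rw [← pow_add, ← pow_mul]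
    exact Nat.pow_le_pow_right (by omega) (by norm_num)
  omega

theorem num_g {q f I : ℕ} (hq : 2 ≤ q) (h1 : f ^ 4 * q ^ 2 < I) (h2 : I * (q - 1) ≤ (q ^ 4 - 1) * (q ^ 3 - 1)) :
    f < q + 1 := by
  by_contra hcon
  push Not at hcon
  have h3 : (q + 1) ^ 4 * q ^ 2 < I := (Nat.mul_le_mul_right _ (Nat.pow_le_pow_left hcon 4)).trans_lt h1
  obtain ⟨r, rfl⟩ : ∃ r, q = r + 1 := ⟨q - 1, by omega⟩
  rw [Nat.add_sub_cancel] at h2
  have e1 : (r + 1) ^ 4 - 1 = r * (r ^ 3 + 4 * r ^ 2 + 6 * r + 4) := by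
    have : (r + 1) ^ 4 = r * (r ^ 3 + 4 * r ^ 2 + 6 * r + 4) + 1 := by ring
    omega
  have e2 : (r + 1) ^ 3 - 1 = r * (r ^ 2 + 3 * r + 3) := by
    have : (r + 1) ^ 3 = r * (r ^ 2 + 3 * r + 3) + 1 := by ring
    omega
  rw [e1, e2] at h2
  have h4 : (r + 1 + 1) ^ 4 * (r + 1) ^ 2 * r < I * r := Nat.mul_lt_mul_of_pos_right h3 (by omega)
  have h5 : r * (r ^ 3 + 4 * r ^ 2 + 6 * r + 4) * (r * (r ^ 2 + 3 * r + 3)) ≤ (r + 1 + 1) ^ 4 * (r + 1) ^ 2 * r := by
    have e3 : (r + 1 + 1) ^ 4 * (r + 1) ^ 2 * r = r * (r ^ 3 + 4 * r ^ 2 + 6 * r + 4) * (r * (r ^ 2 + 3 * r + 3)) +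
        r * (3 * r ^ 5 + 20 * r ^ 4 + 54 * r ^ 3 + 74 * r ^ 2 + 52 * r + 16) := by ring
    rw [e3]
    exact Nat.le_add_right _ _
  omega

theorem num_n {n I : ℕ} (hn : 729 < n) (h1 : n ^ 5 < I ^ 6) (h2 : I * (2 - 1) ≤ (2 ^ 4 - 1) * (2 ^ 3 - 1)) : False := by
  norm_num at h2
  have h3 : I ^ 6 ≤ 105 ^ 6 := Nat.pow_le_pow_left h2 6
  have h4 : 729 ^ 5 ≤ n ^ 5 := Nat.pow_le_pow_left hn.le 5
  have h5 : 105 ^ 6 < 729 ^ 5 := by norm_num
  omega

end Num

section Fin

variable {F : Type} [Field F] [Fintype F] {A : Subgroup (P4 F)}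

theorem even_card (h2 : (2 : F) = 0) : Even (Fintype.card F) := by
  by_contra hcon
  rw [Nat.not_even_iff_odd] at hcon
  exact (ClassicalGeometry.PSL2Basic.two_ne_zero_iff_odd (F := F)).2 hcon h2

theorem e2 (h2 : (2 : F) = 0) (h : IFA A) {t : S4 F} (ht : t ∈ At A) (ht1 : t ≠ 1) (htt : t * t = 1) :
    (∀ B : Subgroup (S4 F), (∀ b ∈ B, b * t = t * b) → (At A).relIndex B ^ 5 < (Subgroup.centralizer {t}).index) ∧
      (At A).index ^ 5 < (Subgroup.centralizer {t}).index ^ 6 := by
  obtain ⟨Γ, h⟩ := h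
  have : IsSimpleGroup (P4 F) := LieClassical.SLGen.psl_isSimpleGroup (by simp)
  have hk := ker_pr h2
  have h5 : (Subgroup.centralizer {t}).index = (Subgroup.centralizer ({pr t} : Set (P4 F))).index := by
    rw [← H232.IFR.comap_centralizer pr hk htt, Subgroup.index_comap_of_surjective _ pr_surj]
  obtain ⟨-, -, -, h6, -⟩ := H999.IFB.IF.E2' h (exists_nc (by simp)) (t := pr t) ht (H232.IFR.orderOf_image pr hk htt ht1)
  have hlf : LF (At A) := H232.IFR.lf_of pr pr_surj hk (exists_nc (by simp)) h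
  refine ⟨fun B hB => hlf.e2 t ht ht1 htt B fun b hb => Subgroup.mem_centralizer_singleton_iff.2 (hB b hb), ?_⟩
  rw [h5, index_At]
  exact h6

theorem idx_x1 (h2 : (2 : F) = 0) : (Subgroup.centralizer {(x1 : S4 F)}).index * (Fintype.card F - 1) ≤
    (Fintype.card F ^ 4 - 1) * (Fintype.card F ^ 3 - 1) := by
  refine idx_tr h2 x1_act (x1_sq h2) ?_ single_ne
  intro h3
  have := LinearMap.congr_fun h3 (Pi.single (Sum.inl 1) 1)
  simp at this

theorem idx_ee (h2 : (2 : F) = 0) {a b : F} (ha : a ≠ 0) :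
    (Subgroup.centralizer {ee (Multiplicative.ofAdd (a, b))}).index * (Fintype.card F - 1) ≤
    (Fintype.card F ^ 4 - 1) * (Fintype.card F ^ 3 - 1) := by
  refine idx_tr h2 (ee_act a b) (ee_sq h2 _) ?_ single_ne
  intro h3
  have := LinearMap.congr_fun h3 (Pi.single (Sum.inr 0) 1)
  simp at this
  exact ha this

theorem four_le (h2 : (2 : F) = 0) (h : IFA A) (ht : x1 ∈ At A) : 4 ≤ Fintype.card F := by
  have h3 := (e2 h2 h ht x1_ne (x1_sq h2)).2
  have h4 := idx_x1 (F := F) h2
  have h5 : 1 < Fintype.card F := Fintype.one_lt_card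
  obtain ⟨r, hr⟩ := even_card h2
  by_contra hcon
  have h6 : Fintype.card F = 2 := by omega
  rw [h6] at h4
  exact num_n h.big h3 h4

/-- **Two commuting transvections of `A` with the same centre.** -/
theorem C0 (h2 : (2 : F) = 0) (h : IFA A) (ht : x1 ∈ At A) {a b : F} (ha : a ≠ 0)
    (hs : ee (Multiplicative.ofAdd (a, b)) ∈ At A) (c : S2 F) : blk (1, c) ∈ At A := by
  have h4 := four_le h2 h ht
  have h5 := key4 h2 h hs ht (by
    intro h6
    have h7 := ee_inj (h6.trans (map_one ee).symm)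
    exact ha (congrArg Prod.fst h7)) x1_ne (ee_sq h2 _) (x1_sq h2) (ee_ne_x1 _) (ee_x1 _)
    (B := (blk.comp (MonoidHom.inr (S2 F) (S2 F))).range) (R := rr.range) (by
      rintro _ ⟨b, rfl⟩
      exact blk_x1 b) (by
      rintro _ ⟨z, rfl⟩
      exact rr_x1 z) (by
      rintro _ ⟨z, rfl⟩ h6
      obtain ⟨h7, h8⟩ := rr_ee (x := z.toAdd.1) (y := z.toAdd.2) ha h6
      have h9 : z = 1 := Prod.ext h7 h8
      rw [h9, map_one])
  have h6 : Nat.card (rr : Multiplicative (F × F) →* S4 F).range = Fintype.card F ^ 2 := by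
    have h7 : Nat.card (rr : Multiplicative (F × F) →* S4 F).range = Nat.card (Multiplicative (F × F)) :=
      Nat.card_range_of_injective rr_inj
    rw [h7]
    show Nat.card (F × F) = _
    rw [Nat.card_prod, Nat.card_eq_fintype_card, pow_two]
  rw [h6] at h5
  have h7 := num_g (by omega) h5 (idx_ee h2 ha)
  rw [← Subgroup.index_comap] at h7
  have h8 : ((At A).comap (blk.comp (MonoidHom.inr (S2 F) (S2 F))) : Subgroup (S2 F)) = ⊤ := by
    by_contra hne
    have := H411.L4.mi_even h4 (even_card h2) _ hne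
    omega
  have h9 : c ∈ ((At A).comap (blk.comp (MonoidHom.inr (S2 F) (S2 F))) : Subgroup (S2 F)) := by
    rw [h8]; trivial
  exact h9

theorem exists_s (h2 : (2 : F) = 0) (h : IFA A) (ht : x1 ∈ At A) :
    ∃ a b : F, (a ≠ 0 ∨ b ≠ 0) ∧ ee (Multiplicative.ofAdd (a, b)) ∈ At A := by
  have h4 := four_le h2 h ht
  have h5 := (e2 h2 h ht x1_ne (x1_sq h2)).1 (ee : Multiplicative (F × F) →* S4 F).range (by
    rintro _ ⟨z, rfl⟩
    exact ee_x1 z)
  have h6 := num_f (by omega) h5 (idx_x1 h2)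
  have h7 : Nat.card (ee : Multiplicative (F × F) →* S4 F).range = Fintype.card F ^ 2 := by
    have h7 : Nat.card (ee : Multiplicative (F × F) →* S4 F).range = Nat.card (Multiplicative (F × F)) :=
      Nat.card_range_of_injective ee_inj
    rw [h7]
    show Nat.card (F × F) = _
    rw [Nat.card_prod, Nat.card_eq_fintype_card, pow_two]
  rw [← h7] at h6
  obtain ⟨_, ⟨z, rfl⟩, h8, h9⟩ := exists_ne_one h6
  refine ⟨z.toAdd.1, z.toAdd.2, ?_, h8⟩
  by_contra hcon
  push Not at hcon
  apply h9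
  have h10 : z = 1 := Prod.ext hcon.1 hcon.2
  rw [h10, map_one]

theorem tv_blk (x : F) (h : (Sum.inr 0 : I4) ≠ Sum.inr 1) :
    (SpecialLinearGroup.transvection h x : S4 F) = blk (1, SpecialLinearGroup.transvection (zero_ne_one) x) := by
  apply Subtype.ext
  rw [blk_val]
  show Matrix.transvection (Sum.inr 0 : I4) (Sum.inr 1) x = fromBlocks 1 0 0 (Matrix.transvection 0 1 x)
  ext i j
  rcases i with i | i <;> rcases j with j | j <;> (revert i j; simp [Matrix.transvection, Matrix.one_apply, Matrix.single_apply, _root_.Fin.forall_fin_succ])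

theorem tv_blk' (x : F) (h : (Sum.inr 1 : I4) ≠ Sum.inr 0) :
    (SpecialLinearGroup.transvection h x : S4 F) = blk (1, SpecialLinearGroup.transvection (one_ne_zero) x) := by
  apply Subtype.ext
  rw [blk_val]
  show Matrix.transvection (Sum.inr 1 : I4) (Sum.inr 0) x = fromBlocks 1 0 0 (Matrix.transvection 1 0 x)
  ext i j
  rcases i with i | i <;> rcases j with j | j <;> (revert i j; simp [Matrix.transvection, Matrix.one_apply, Matrix.single_apply, _root_.Fin.forall_fin_succ])

theorem tv_ee (x : F) (h : (Sum.inl 0 : I4) ≠ Sum.inr 0) :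
    (SpecialLinearGroup.transvection h x : S4 F) = ee (Multiplicative.ofAdd (x, 0)) := by
  apply Subtype.ext
  rw [ee_val]
  show Matrix.transvection (Sum.inl 0 : I4) (Sum.inr 0) x = _
  ext i j
  rcases i with i | i <;> rcases j with j | j <;> (revert i j; simp [Matrix.transvection, Matrix.one_apply, Matrix.single_apply, _root_.Fin.forall_fin_succ])

theorem tv_ee' (x : F) (h : (Sum.inl 0 : I4) ≠ Sum.inr 1) :
    (SpecialLinearGroup.transvection h x : S4 F) = ee (Multiplicative.ofAdd (0, x)) := by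
  apply Subtype.ext
  rw [ee_val]
  show Matrix.transvection (Sum.inl 0 : I4) (Sum.inr 1) x = _
  ext i j
  rcases i with i | i <;> rcases j with j | j <;> (revert i j; simp [Matrix.transvection, Matrix.one_apply, Matrix.single_apply, _root_.Fin.forall_fin_succ])

/-- the standard form of `C0` -/
theorem C0' (h2 : (2 : F) = 0) (h : IFA A) (ht : x1 ∈ At A) {a b : F} (ha : a ≠ 0)
    (hs : ee (Multiplicative.ofAdd (a, b)) ∈ At A) : Rt A (Sum.inr 0) (Sum.inr 1) ∧ Rt A (Sum.inr 1) (Sum.inr 0) := by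
  have h3 := C0 h2 h ht ha hs
  constructor
  · intro hij x
    rw [tv_blk]
    exact h3 _
  · intro hij x
    rw [tv_blk']
    exact h3 _

theorem exists_perm {i l j k : I4} (hil : i ≠ l) (hij : i ≠ j) (hik : i ≠ k) (hlj : l ≠ j) (hlk : l ≠ k) (hjk : j ≠ k) :
    ∃ π : Equiv.Perm I4, π i = Sum.inl 0 ∧ π l = Sum.inl 1 ∧ π j = Sum.inr 0 ∧ π k = Sum.inr 1 := by
  let f : I4 → I4 := Sum.elim ![i, l] ![j, k]
  have hf : Function.Injective f := by
    rintro (x | x) (y | y) hxy <;> fin_cases x <;> fin_cases y <;> simp [f] at hxy ⊢ <;>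
      first | exact hil hxy | exact hil hxy.symm | exact hij hxy | exact hij hxy.symm | exact hik hxy | exact hik hxy.symm |
        exact hlj hxy | exact hlj hxy.symm | exact hlk hxy | exact hlk hxy.symm | exact hjk hxy | exact hjk hxy.symm
  let e : Equiv.Perm I4 := Equiv.ofBijective f (Finite.injective_iff_bijective.1 hf)
  refine ⟨e.symm, ?_, ?_, ?_, ?_⟩
  · rw [Equiv.symm_apply_eq]; rfl
  · rw [Equiv.symm_apply_eq]; rfl
  · rw [Equiv.symm_apply_eq]; rfl
  · rw [Equiv.symm_apply_eq]; rfl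

theorem tv_mem {π : Equiv.Perm I4} {i j i' j' : I4} (hi : π i = i') (hj : π j = j') (hij : i ≠ j) (hij' : i' ≠ j') {a : F}
    (h : SpecialLinearGroup.transvection hij a ∈ At A) :
    SpecialLinearGroup.transvection hij' a ∈ At (cA (H411.L4.pm π) A) := by
  subst hi hj
  rw [← mem_cA (g := H411.L4.pm π), H411.L4.cS_pm_transvection] at h
  exact h

/-- **Two transvections of `A` with the same centre**, all positions. -/
theorem C1 (h2 : (2 : F) = 0) (h : IFA A) {i l j k : I4} (hil : i ≠ l) (hij : i ≠ j) (hik : i ≠ k) (hlj : l ≠ j)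
    (hlk : l ≠ k) (hjk : j ≠ k) (ht : Rt A i l) (hs : Rt A i j) : Rt A j k ∧ Rt A k j := by
  obtain ⟨π, h3, h4, h5, h6⟩ := exists_perm hil hij hik hlj hlk hjk
  have h7 := tv_mem h3 h4 hil (show (Sum.inl 0 : I4) ≠ Sum.inl 1 by decide) (ht hil 1)
  have h8 := tv_mem h3 h5 hij (show (Sum.inl 0 : I4) ≠ Sum.inr 0 by decide) (hs hij 1)
  rw [tv_ee] at h8
  obtain ⟨h9, h10⟩ := C0' h2 (h.conj (H411.L4.pm π)) h7 one_ne_zero h8
  rw [← h5, ← h6] at h9 h10
  exact ⟨(H411.L4.Rt_pm π).1 h9, (H411.L4.Rt_pm π).1 h10⟩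

/-- all root groups, once the first centre is complete -/
theorem all_of (h2 : (2 : F) = 0) (h : IFA A) {i l j k : I4} (hil : i ≠ l) (hij : i ≠ j) (hik : i ≠ k) (hlj : l ≠ j)
    (hlk : l ≠ k) (hjk : j ≠ k) (il : Rt A i l) (ij : Rt A i j) (ik : Rt A i k) : False := by
  obtain ⟨jk, kj⟩ := C1 h2 h hil hij hik hlj hlk hjk il ij
  obtain ⟨lk, kl⟩ := C1 h2 h hij hil hik hlj.symm hjk hlk ij il
  obtain ⟨lj, jl⟩ := C1 h2 h hik hil hij hlk.symm hjk.symm hlj ik il
  obtain ⟨li, -⟩ := C1 h2 h hjk hlj.symm hij.symm hlk.symm hik.symm hil.symm jk jl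
  have ji := jl.trans li hlj.symm hil.symm
  have ki := kl.trans li hlk.symm hil.symm
  have hall : ∀ x : I4, x = i ∨ x = l ∨ x = j ∨ x = k := by
    intro x
    by_contra hcon
    push Not at hcon
    have h3 : ({x, i, l, j, k} : Finset I4).card ≤ Fintype.card I4 := Finset.card_le_univ _
    rw [Finset.card_insert_of_notMem (by simp [hcon.1, hcon.2.1, hcon.2.2.1, hcon.2.2.2]),
      Finset.card_insert_of_notMem (by simp [hil, hij, hik]), Finset.card_insert_of_notMem (by simp [hlj, hlk]),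
      Finset.card_insert_of_notMem (by simp [hjk]), Finset.card_singleton] at h3
    simp at h3
  haveI : Nontrivial I4 := ⟨⟨Sum.inl 0, Sum.inl 1, by decide⟩⟩
  refine h.not_all fun x y hxy => ?_
  rcases hall x with rfl | rfl | rfl | rfl <;> rcases hall y with rfl | rfl | rfl | rfl <;>
    first | exact absurd rfl hxy | assumption

/-- the first centre -/
theorem first (h2 : (2 : F) = 0) (h : IFA A) (ht : x1 ∈ At A) {a b : F} (ha : a ≠ 0)
    (hs : ee (Multiplicative.ofAdd (a, b)) ∈ At A) : False := by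
  obtain ⟨jk, kj⟩ := C0' h2 h ht ha hs
  have ik : Rt A (Sum.inl 0) (Sum.inr 1) := by
    intro hik x
    have h3 := jk (by decide) (a⁻¹ * x)
    have h4 := mul_mem (mul_mem (mul_mem hs h3) (inv_mem hs)) (inv_mem h3)
    have h5 : ee (Multiplicative.ofAdd (a, b)) * SpecialLinearGroup.transvection (by decide : (Sum.inr 0 : I4) ≠ Sum.inr 1)
        (a⁻¹ * x) = SpecialLinearGroup.transvection hik x * (SpecialLinearGroup.transvection
          (by decide : (Sum.inr 0 : I4) ≠ Sum.inr 1) (a⁻¹ * x) * ee (Multiplicative.ofAdd (a, b))) := by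
      rw [tv_ee', tv_blk]
      apply Subtype.ext
      show (ee (Multiplicative.ofAdd (a, b))).val * (blk (1, SpecialLinearGroup.transvection zero_ne_one (a⁻¹ * x))).val =
        (ee (Multiplicative.ofAdd (0, x))).val * ((blk (1, SpecialLinearGroup.transvection zero_ne_one (a⁻¹ * x))).val *
        (ee (Multiplicative.ofAdd (a, b))).val)
      rw [ee_val, ee_val, blk_val, fromBlocks_multiply, fromBlocks_multiply, fromBlocks_multiply]
      have e1 : (SpecialLinearGroup.transvection (zero_ne_one : (0 : Fin 2) ≠ 1) (a⁻¹ * x)).val = !![1, a⁻¹ * x; 0, 1] := by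
        show Matrix.transvection 0 1 (a⁻¹ * x) = _
        ext i j
        (revert i j; simp only [Matrix.transvection, _root_.Fin.forall_fin_succ, Fin.isValue, _root_.Matrix.add_apply, _root_.Matrix.of_apply, _root_.Matrix.cons_val', _root_.Matrix.cons_val_fin_one, _root_.one_ne_zero, _root_.and_false, _root_.not_false_eq_true, _root_.Matrix.single_apply_of_ne, _root_.add_zero, _root_.Matrix.cons_val_zero, _root_.Matrix.cons_val_succ, _root_.Fin.succ_zero_eq_one, _root_.IsEmpty.forall_iff, _root_.and_true, _root_.Matrix.one_apply_eq, Nat.reduceAdd, _root_.ne_eq, _root_.zero_ne_one, _root_.Matrix.one_apply_ne, _root_.Matrix.single_apply_same, _root_.zero_add, _root_.and_self, _root_.Fin.succ_ne_zero, _root_.true_and])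
      rw [e1]
      (with_reducible congr 1)
      · simp
      · ext i j
        (revert i j; simp only [Matrix.mul_apply, Fin.sum_univ_two, _root_.Fin.forall_fin_succ, _root_.MulZeroClass.mul_zero, _root_.Matrix.cons_mul, _root_.Nat.succ_eq_add_one, Nat.reduceAdd, _root_.Matrix.vecMul_cons, _root_.Matrix.head_cons, _root_.Matrix.smul_cons, _root_.smul_eq_mul, _root_.mul_one, _root_.Matrix.smul_empty, _root_.Matrix.tail_cons, _root_.Matrix.empty_vecMul, _root_.add_zero, _root_.Matrix.add_cons, _root_.Matrix.empty_add_empty, _root_.zero_smul, _root_.Matrix.empty_mul, _root_.Equiv.symm_apply_apply, _root_.Matrix.add_apply, _root_.Matrix.zero_apply, _root_.Matrix.of_apply, _root_.Matrix.cons_val', _root_.Pi.zero_apply, _root_.Matrix.cons_val_fin_one, _root_.zero_add, _root_.Matrix.SpecialLinearGroup.coe_one, _root_.one_mul, _root_.MulZeroClass.zero_mul, Fin.isValue, _root_.Matrix.cons_val_zero, _root_.left_eq_add, _root_.Matrix.cons_val_succ, _root_.forall_const, _root_.implies_true,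 _root_.and_true, _root_.true_and]) <;> (repeat' with_reducible apply And.intro)
        field_simp
        ring
      · simp only [_root_.Matrix.SpecialLinearGroup.coe_one, _root_.mul_one, _root_.MulZeroClass.mul_zero, _root_.add_zero]
      · simp
    have h6 : ee (Multiplicative.ofAdd (a, b)) * SpecialLinearGroup.transvection (by decide : (Sum.inr 0 : I4) ≠ Sum.inr 1)
        (a⁻¹ * x) * (ee (Multiplicative.ofAdd (a, b)))⁻¹ * (SpecialLinearGroup.transvection
          (by decide : (Sum.inr 0 : I4) ≠ Sum.inr 1) (a⁻¹ * x))⁻¹ = SpecialLinearGroup.transvection hik x := by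
      rw [h5]
      group
    rw [← h6]
    exact h4
  have ij : Rt A (Sum.inl 0) (Sum.inr 0) := ik.trans kj (by decide) (by decide)
  have ht' : SpecialLinearGroup.transvection (show (Sum.inl 0 : I4) ≠ Sum.inl 1 by decide) (1 : F) ∈ At A := ht
  -- centre `i`, axes `j`, `k`
  obtain ⟨lk, kl⟩ : Rt A (Sum.inl 1) (Sum.inr 1) ∧ Rt A (Sum.inr 1) (Sum.inl 1) := by
    obtain ⟨π, h3, h4, h5, h6⟩ := exists_perm (i := Sum.inl 0) (l := Sum.inr 0) (j := Sum.inl 1) (k := Sum.inr 1)
      (by decide) (by decide) (by decide) (by decide) (by decide) (by decide)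
    have h7 := tv_mem h3 h4 (by decide) (show (Sum.inl 0 : I4) ≠ Sum.inl 1 by decide) (ij (by decide) 1)
    have h8 := tv_mem h3 h5 (by decide) (show (Sum.inl 0 : I4) ≠ Sum.inr 0 by decide) ht'
    rw [tv_ee] at h8
    obtain ⟨h9, h10⟩ := C0' h2 (h.conj (H411.L4.pm π)) h7 one_ne_zero h8
    rw [← h5, ← h6] at h9 h10
    exact ⟨(H411.L4.Rt_pm π).1 h9, (H411.L4.Rt_pm π).1 h10⟩
  have il : Rt A (Sum.inl 0) (Sum.inl 1) := ik.trans kl (by decide) (by decide)
  exact all_of h2 h (i := Sum.inl 0) (l := Sum.inl 1) (j := Sum.inr 0) (k := Sum.inr 1)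
    (by decide) (by decide) (by decide) (by decide) (by decide) (by decide) il ij ik

/-- **PSL four, `q` even.** -/
theorem killE_even' (h2 : (2 : F) = 0) : KillE (P4 F) := by
  rintro A Γ hA ⟨t, ht, ho⟩
  have h : IFA A := ⟨Γ, hA⟩
  obtain ⟨g, hg⟩ := exists_t h2 h ⟨t, ht, ho⟩
  obtain ⟨a, b, hab, hs⟩ := exists_s h2 (h.conj g) hg
  by_cases ha : a = 0
  · have hb : b ≠ 0 := hab.resolve_left (fun h3 => h3 ha)
    subst ha
    -- exchange `j` and `k`
    obtain ⟨π, h3, h4, h5, h6⟩ := exists_perm (i := Sum.inl 0) (l := Sum.inl 1) (j := Sum.inr 1) (k := Sum.inr 0)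
      (by decide) (by decide) (by decide) (by decide) (by decide) (by decide)
    rw [← tv_ee' b (by decide)] at hs
    have h7 := tv_mem h3 h4 (by decide) (show (Sum.inl 0 : I4) ≠ Sum.inl 1 by decide) hg
    have h8 := tv_mem h3 h5 (by decide) (show (Sum.inl 0 : I4) ≠ Sum.inr 0 by decide) hs
    rw [tv_ee] at h8
    exact first h2 ((h.conj g).conj (H411.L4.pm π)) h7 hb h8
  · exact first h2 (h.conj g) hg ha hs

/-- **PSL four, `q` even**, for `Fin 4`. -/
theorem psl_four_even (F : Type) [Field F] [Fintype F] (h2 : (2 : F) = 0) :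
    KillE (Matrix.ProjectiveSpecialLinearGroup (Fin 4) F) :=
  killE_congr (pslR (F := F) (finSumFinEquiv (m := 2) (n := 2))) (killE_even' h2)

end Fin

end Cfsg.Agent.H358.IF
end

-- part: H358/IF/Four
section
/-!
# S5719, cell `PSL four` (helper358)
-/

set_option autoImplicit false
set_option linter.unusedSectionVars false

namespace Cfsg.Agent.H358.IF

open Cfsg.Agent.H209.Fxy

/-- **The cell `CellsPSL.four`.** -/
theorem psl_four : ∀ (F : Type) [Field F] [Fintype F], KillE (Matrix.ProjectiveSpecialLinearGroup (Fin 4) F) := by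
  intro F _ _
  by_cases h2 : (2 : F) = 0
  · exact psl_four_even F h2
  · exact psl_four_odd F h2

end Cfsg.Agent.H358.IF
end

private theorem dce_2734742f027e : _root_.True := by
  try have : _root_.True := by simp only [_root_.Cfsg.Agent.H232.IFR.un.congr_simp]
  try have : _root_.True := by simp only [_root_.Cfsg.Agent.H232.IFR.Tw.congr_simp]
  exact _root_.True.intro
end

-- part: H273/IF/FiAbs
section
prune_inst 0x8000000000000000000000010000014010000
set_option linter.all false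
open scoped Cfsg.Agent.FastGrp

/-!
# S5719, cell `fi22`, `|A|` even: the three classes of involutions (helper273)

`K = Fi22`, `T` the 3510 transpositions, `E` elementary abelian of order `2^10` with 22 transpositions.

* `one_step` : a transposition `d ∈ A` : `|E : E ∩ A| ≤ 5`, hence a product of two commuting transpositions is in `A`;
* `three_step` : `a b c ∈ A` : `|E : E ∩ A| = 32` and 31 conjugates of `a b c` in `A`, impossible, or a smaller product in `A`;
* `pair_step` : `a b ∈ A` : `C(a) ∩ C(b) ≤ A` (hypothesis `PairLe`), then `a, b ∈ A` and `|K : A| ≤ 11`.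
-/

set_option autoImplicit false
set_option linter.unusedSectionVars false

namespace Cfsg.Agent.H273.IFTwo

open Subgroup Cfsg.Agent.LThreeFi22 Cfsg.Agent.H836 Cfsg.Agent.R01.FiFusion Cfsg.Agent.R01.FiFacts
open Cfsg.Agent.H209.Fxy Cfsg.Agent.H999.IFB Cfsg.Agent.H809.IFC

universe v

variable {K : Type v} [Group K] {T : Set K}

/-! ### Centralizers -/

theorem card_two (C : Ctx K T) {a b : K} (ha : a ∈ T) (hb : b ∈ T) (hne : a ≠ b) (hab : a * b = b * a) :
    Nat.card ↥(centralizer ({a} : Set K) ⊓ centralizer ({b} : Set K)) = 26542080 := by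
  have := C.finite
  have h1 := orbit_card (centralizer ({a} : Set K)) b (S := {c | c ∈ T ∧ c ≠ a ∧ a * c = c * a}) (by
    intro x
    constructor
    · rintro ⟨hx, hxa, hax⟩
      obtain ⟨g, hg1, hg2⟩ := C.transC a ha b hb a ha x hx hne hxa.symm hab hax
      exact ⟨g, mem_centralizer_singleton_iff.2 (mul_inv_eq_iff_eq_mul.1 hg1), hg2.symm⟩
    · rintro ⟨g, hg, rfl⟩
      have h2 : g * a * g⁻¹ = a := mul_inv_eq_iff_eq_mul.2 (mem_centralizer_singleton_iff.1 hg)
      refine ⟨C.conj b hb g, fun h => hne ?_, ?_⟩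
      · have h3 : g * b * g⁻¹ = g * a * g⁻¹ := h.trans h2.symm
        exact (mul_left_cancel (mul_right_cancel h3)).symm
      · have h3 := (conj_comm_iff g a b).2 hab
        rw [h2] at h3
        exact h3)
  rw [C.link a ha, C.card_cent ha] at h1
  omega

theorem card_z (C : Ctx K T) {a b : K} (ha : a ∈ T) (hb : b ∈ T) (hne : a ≠ b) (hab : a * b = b * a) :
    Nat.card ↥(centralizer ({a * b} : Set K)) = 53084160 := by
  have := C.finite
  have h1 := orbit_card (centralizer ({a * b} : Set K)) a (S := {a, b}) (by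
    intro x
    constructor
    · rintro (rfl | hx)
      · exact ⟨1, one_mem _, by group⟩
      · rw [Set.mem_singleton_iff] at hx
        subst hx
        obtain ⟨g, hg1, hg2⟩ := C.transC a ha x hb x hb a ha hne hne.symm hab hab.symm
        refine ⟨g, mem_centralizer_singleton_iff.2 (mul_inv_eq_iff_eq_mul.1 ?_), hg1.symm⟩
        calc g * (a * x) * g⁻¹ = g * a * g⁻¹ * (g * x * g⁻¹) := by group
          _ = a * x := by rw [hg1, hg2, hab]
    · rintro ⟨h, hh, rfl⟩
      rcases C.cz a ha b hb hne hab h (mem_centralizer_singleton_iff.1 hh) with ⟨h2, -⟩ | ⟨h2, -⟩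
      · exact Or.inl (mul_inv_eq_iff_eq_mul.2 h2)
      · exact Or.inr h2)
  have h2 : centralizer ({a * b} : Set K) ⊓ centralizer ({a} : Set K) =
      centralizer ({a} : Set K) ⊓ centralizer ({b} : Set K) := by
    ext x
    rw [mem_inf, mem_inf, mem_centralizer_singleton_iff, mem_centralizer_singleton_iff, mem_centralizer_singleton_iff]
    constructor
    · rintro ⟨h3, h4⟩
      refine ⟨h4, ?_⟩
      have h5 : a * (x * b) = a * (b * x) := by
        rw [← mul_assoc, ← h4, mul_assoc, h3, mul_assoc]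
      exact mul_left_cancel h5
    · rintro ⟨h3, h4⟩
      refine ⟨?_, h3⟩
      rw [← mul_assoc, h3, mul_assoc, h4, mul_assoc]
  rw [h2, card_two C ha hb hne hab, Set.ncard_pair hne] at h1
  omega

/-- orbits of a subgroup by conjugation, upper bound -/
theorem orbit_le [Finite K] (H : Subgroup K) (t : K) {S : Set K} (hS : ∀ h ∈ H, h * t * h⁻¹ ∈ S) :
    Nat.card ↥H ≤ S.ncard * Nat.card ↥(H ⊓ centralizer ({t} : Set K)) := by
  rw [← orbit_card H t (S := {x | ∃ h ∈ H, x = h * t * h⁻¹}) (fun x => Iff.rfl)]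
  apply Nat.mul_le_mul_right
  apply Set.ncard_le_ncard _ (Set.toFinite _)
  rintro x ⟨h, hh, rfl⟩
  exact hS h hh

/-- 180 transpositions commute with two commuting ones -/
def Lam (T : Set K) : Prop := ∀ a ∈ T, ∀ b ∈ T, a ≠ b → a * b = b * a →
  {c | c ∈ T ∧ c ≠ a ∧ c ≠ b ∧ a * c = c * a ∧ b * c = c * b}.ncard = 180

theorem card_three (C : Ctx K T) (hl : Lam T) {a b c : K} (h : Tri T a b c) :
    147456 ≤ Nat.card ↥(centralizer ({a * b * c} : Set K)) := by
  have := C.finite
  have h1 := orbit_le (centralizer ({a} : Set K) ⊓ centralizer ({b} : Set K)) c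
    (S := {c | c ∈ T ∧ c ≠ a ∧ c ≠ b ∧ a * c = c * a ∧ b * c = c * b}) (by
      rintro g ⟨hga, hgb⟩
      have h2 : g * a * g⁻¹ = a := mul_inv_eq_iff_eq_mul.2 (mem_centralizer_singleton_iff.1 hga)
      have h3 : g * b * g⁻¹ = b := mul_inv_eq_iff_eq_mul.2 (mem_centralizer_singleton_iff.1 hgb)
      refine ⟨C.conj c h.mw g, fun h4 => h.xw ?_, fun h4 => h.yw ?_, ?_, ?_⟩
      · have h5 : g * c * g⁻¹ = g * a * g⁻¹ := h4.trans h2.symm
        exact (mul_left_cancel (mul_right_cancel h5)).symm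
      · have h5 : g * c * g⁻¹ = g * b * g⁻¹ := h4.trans h3.symm
        exact (mul_left_cancel (mul_right_cancel h5)).symm
      · have h5 := (conj_comm_iff g a c).2 h.cxw
        rwa [h2] at h5
      · have h5 := (conj_comm_iff g b c).2 h.cyw
        rwa [h3] at h5)
  rw [hl a h.mx b h.my h.xy h.cxy, card_two C h.mx h.my h.xy h.cxy] at h1
  have h2 : centralizer ({a} : Set K) ⊓ centralizer ({b} : Set K) ⊓ centralizer ({c} : Set K) ≤
      centralizer ({a * b * c} : Set K) := by
    rintro x ⟨⟨hxa, hxb⟩, hxc⟩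
    have e1 := mem_centralizer_singleton_iff.1 hxa
    have e2 := mem_centralizer_singleton_iff.1 hxb
    have e3 := mem_centralizer_singleton_iff.1 hxc
    rw [mem_centralizer_singleton_iff]
    calc x * (a * b * c) = x * a * b * c := by group
      _ = a * (x * b) * c := by rw [e1]; group
      _ = a * b * (x * c) := by rw [e2]; group
      _ = a * b * c * x := by rw [e3]; group
  have h3 := Subgroup.card_le_of_le h2
  omega

/-! ### The elementary abelian subgroups -/

/-- the properties of `E` -/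
structure EP (T : Set K) (E : Subgroup K) : Prop where
  sq : ∀ x ∈ E, x * x = 1
  card : Nat.card ↥E = 1024
  ncard : {x | x ∈ E ∧ x ∈ T}.ncard = 22

theorem EP.comm {E : Subgroup K} (h : EP T E) {x y : K} (hx : x ∈ E) (hy : y ∈ E) : x * y = y * x := by
  have h1 := h.sq _ hx
  have h2 := h.sq _ hy
  have h3 := h.sq _ (E.mul_mem hx hy)
  have e1 : x⁻¹ = x := inv_eq_of_mul_eq_one_left h1
  have e2 : y⁻¹ = y := inv_eq_of_mul_eq_one_left h2
  have e3 : (x * y)⁻¹ = x * y := inv_eq_of_mul_eq_one_left h3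
  rw [← e3, mul_inv_rev, e1, e2]

theorem EP.conj (C : Ctx K T) {E : Subgroup K} (h : EP T E) (g : K) :
    EP T (E.map (MulAut.conj g).toMonoidHom) := by
  have hmem : ∀ x, x ∈ E ↔ g * x * g⁻¹ ∈ E.map (MulAut.conj g).toMonoidHom := by
    intro x
    constructor
    · intro hx
      exact ⟨x, hx, rfl⟩
    · rintro ⟨y, hy, hxy⟩
      have h1 : g * y * g⁻¹ = g * x * g⁻¹ := hxy
      rwa [← mul_left_cancel (mul_right_cancel h1)]
  refine ⟨?_, ?_, ?_⟩
  · rintro _ ⟨x, hx, rfl⟩
    rw [← map_mul, h.sq x hx, map_one]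
  · rw [← h.card]
    exact (Nat.card_congr (E.equivMapOfInjective _ (MulAut.conj g).injective).toEquiv).symm
  · rw [← h.ncard]
    have := C.finite
    exact (ncard_conj g (fun x => by
      rw [Set.mem_ofPred_eq, Set.mem_ofPred_eq, ← hmem, C.conj_iff])).symm

/-- the group `E` contains a given transposition -/
theorem exists_one (C : Ctx K T) {E : Subgroup K} (h : EP T E) {d : K} (hd : d ∈ T) :
    ∃ E' : Subgroup K, EP T E' ∧ d ∈ E' := by
  have hne : ({x | x ∈ E ∧ x ∈ T} : Set K).Nonempty := by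
    apply Set.nonempty_of_ncard_ne_zero
    rw [h.ncard]
    norm_num
  obtain ⟨x, hx, hxT⟩ := hne
  obtain ⟨g, hg⟩ := C.trans_one hxT hd
  exact ⟨_, h.conj C g, x, hx, hg⟩

/-- the group `E` contains a given triple -/
theorem exists_three (I : Inv K T) {E : Subgroup K} (h : EP T E) {a b c : K} (ht : Tri T a b c) :
    ∃ E' : Subgroup K, EP T E' ∧ a ∈ E' ∧ b ∈ E' ∧ c ∈ E' := by
  have := I.ctx.finite
  have h3 : 2 < ({x | x ∈ E ∧ x ∈ T} : Set K).ncard := by
    rw [h.ncard]
    norm_num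
  rw [Set.two_lt_ncard_iff (Set.toFinite _)] at h3
  obtain ⟨x, y, w, ⟨hx, hxT⟩, ⟨hy, hyT⟩, ⟨hw, hwT⟩, hxy, hxw, hyw⟩ := h3
  obtain ⟨g, h1, h2, h3⟩ := I.facts.tri x y w a b c
    ⟨hxT, hyT, hwT, hxy, hxw, hyw, h.comm hx hy, h.comm hx hw, h.comm hy hw⟩ ht
  exact ⟨_, h.conj I.ctx g, ⟨x, hx, h1⟩, ⟨y, hy, h2⟩, ⟨w, hw, h3⟩⟩

/-- fewer than 22 cosets of `A` in `E` : a product of two transpositions in `A` -/
theorem exists_pair [Finite K] {E : Subgroup K} (h : EP T E) {A : Subgroup K} (hA : A.relIndex E < 22) :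
    ∃ a ∈ T, ∃ b ∈ T, a ≠ b ∧ a * b = b * a ∧ a * b ∈ A := by
  by_contra hcon
  have hinj : Function.Injective (fun x : ({x | x ∈ E ∧ x ∈ T} : Set K) =>
      ((⟨x, x.2.1⟩ : ↥E) : ↥E ⧸ A.subgroupOf E)) := by
    intro x y hxy
    have h1 : (⟨(x : K), x.2.1⟩ : ↥E)⁻¹ * ⟨(y : K), y.2.1⟩ ∈ A.subgroupOf E := QuotientGroup.eq.1 hxy
    have h2 : (x : K)⁻¹ * y ∈ A := mem_subgroupOf.1 h1
    by_contra hne
    apply hcon
    refine ⟨x, x.2.2, y, y.2.2, fun h3 => hne (Subtype.ext h3), h.comm x.2.1 y.2.1, ?_⟩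
    rwa [inv_eq_of_mul_eq_one_left (h.sq _ x.2.1)] at h2
  have h1 := Nat.card_le_card_of_injective _ hinj
  have h2 : Nat.card ({x | x ∈ E ∧ x ∈ T} : Set K) = 22 := h.ncard
  rw [h2] at h1
  exact absurd hA (not_lt.2 h1)

/-! ### The steps -/

theorem hna (C : Ctx K T) : ∃ a b : K, a * b ≠ b * a := by
  obtain ⟨a, -, b, -, -, -, h, -⟩ := C.mupos
  exact ⟨a, b, h⟩

theorem index_cent (C : Ctx K T) {a : K} (ha : a ∈ T) : (centralizer ({a} : Set K)).index = 3510 := by
  have := C.finite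
  have h1 := (centralizer ({a} : Set K)).index_mul_card
  rw [C.card_cent ha, C.card] at h1
  omega

theorem order_two {t : K} (h1 : t * t = 1) (h2 : t ≠ 1) : orderOf t = 2 := by
  have : Fact (Nat.Prime 2) := ⟨Nat.prime_two⟩
  exact orderOf_eq_prime (by rw [pow_two, h1]) h2

variable {A : Subgroup K} {Γ : Subgroup (MulAut K)}

/-- **A transposition in `A`.** -/
theorem one_step [IsSimpleGroup K] (C : Ctx K T) {E : Subgroup K} (hE : EP T E) (h : IF A Γ) {d : K} (hd : d ∈ T)
    (hdA : d ∈ A) : ∃ a ∈ T, ∃ b ∈ T, a ≠ b ∧ a * b = b * a ∧ a * b ∈ A := by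
  have := C.finite
  obtain ⟨E', hE', hdE⟩ := exists_one C hE hd
  have h1 := (IF.E2' h (hna C) hdA (order_two (C.sq d hd) (C.ne1 d hd))).2.2.2.2 E' (fun x hx =>
    mem_centralizer_singleton_iff.2 (hE'.comm hx hdE))
  rw [index_cent C hd] at h1
  apply exists_pair hE'
  by_contra hcon
  have h2 : 22 ^ 5 ≤ A.relIndex E' ^ 5 := Nat.pow_le_pow_left (by omega) 5
  have h3 := h1.1
  norm_num at h2
  omega

/-- the hypothesis on the product of two commuting transpositions -/
def PairLe (T : Set K) : Prop := ∀ a b : K, a ∈ T → b ∈ T → a ≠ b → a * b = b * a → ∀ A : Subgroup K, a * b ∈ A →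
  A.relIndex (centralizer {a} ⊓ centralizer {b}) ≤ 16 → centralizer {a} ⊓ centralizer {b} ≤ A

/-- **No product of two commuting transpositions is in `A`.** -/
theorem pair_step [IsSimpleGroup K] (C : Ctx K T) (hP : PairLe T) (h : IF A Γ) {a b : K} (ha : a ∈ T) (hb : b ∈ T)
    (hab : a ≠ b) (cab : a * b = b * a) (hA : a * b ∈ A) : False := by
  have := C.finite
  have haa := C.sq a ha
  have hbb := C.sq b hb
  have hz2 : orderOf (a * b) = 2 := by
    apply order_two
    · calc a * b * (a * b) = a * (b * a) * b := by group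
        _ = (a * a) * (b * b) := by rw [← cab]; group
        _ = 1 := by rw [haa, hbb, one_mul]
    · intro h1
      apply hab
      rw [eq_inv_of_mul_eq_one_left h1, C.inv hb]
  have hidx : (centralizer ({a * b} : Set K)).index = 1216215 := by
    have h1 := (centralizer ({a * b} : Set K)).index_mul_card
    rw [card_z C ha hb hab cab, C.card] at h1
    omega
  have h1 := (IF.E2' h (hna C) hA hz2).2.2.2.2 (centralizer {a} ⊓ centralizer {b}) (by
    rintro x ⟨hxa, hxb⟩
    have e1 := mem_centralizer_singleton_iff.1 hxa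
    have e2 := mem_centralizer_singleton_iff.1 hxb
    rw [mem_centralizer_singleton_iff]
    calc x * (a * b) = x * a * b := by group
      _ = a * (x * b) := by rw [e1]; group
      _ = a * b * x := by rw [e2]; group)
  rw [hidx] at h1
  have h2 : A.relIndex (centralizer {a} ⊓ centralizer {b}) ≤ 16 := by
    by_contra hcon
    have h3 : 17 ^ 5 ≤ A.relIndex (centralizer {a} ⊓ centralizer {b}) ^ 5 := Nat.pow_le_pow_left (by omega) 5
    have h4 := h1.1
    norm_num at h3
    omega
  have h3 := hP a b ha hb hab cab A hA h2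
  have haA : a ∈ A := h3 ⟨mem_centralizer_singleton_iff.2 rfl, mem_centralizer_singleton_iff.2 cab⟩
  have hbA : b ∈ A := h3 ⟨mem_centralizer_singleton_iff.2 cab.symm, mem_centralizer_singleton_iff.2 rfl⟩
  have h4 := (IF.E4 h (hna C) haA hbA (order_two haa (C.ne1 a ha)) (order_two hbb (C.ne1 b hb)) hab cab).2.1
  rw [index_cent C ha] at h4
  have h5 : (centralizer ({a} : Set K)).relIndex (centralizer ({b} : Set K)) = 693 := by
    have h6 := ((centralizer ({a} : Set K)).subgroupOf (centralizer ({b} : Set K))).index_mul_card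
    have h7 : Nat.card ↥((centralizer ({a} : Set K)).subgroupOf (centralizer ({b} : Set K))) = 26542080 := by
      rw [← card_two C ha hb hab cab, ← Subgroup.inf_subgroupOf_right,
        Nat.card_congr (Subgroup.subgroupOfEquivOfLe inf_le_right).toEquiv]
    rw [h7, C.card_cent hb] at h6
    rw [relIndex]
    omega
  rw [h5] at h4
  have h6 := h.big
  have h7 : 730 ^ 2 ≤ A.index ^ 2 := Nat.pow_le_pow_left (by omega) 2
  norm_num at h4 h7
  omega

theorem conj_inj [IsSimpleGroup K] [Finite K] (hna : ∃ a b : K, a * b ≠ b * a) :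
    Function.Injective (MulAut.conj : K →* MulAut K) := by
  rw [injective_iff_map_eq_one]
  intro z hz
  apply center_of hna
  intro x
  have h3 := congrArg (fun τ : MulAut K => τ x) hz
  simp only [MulAut.conj_apply, MulAut.one_apply] at h3
  rwa [mul_inv_eq_iff_eq_mul] at h3

/-- **A product of three commuting transpositions in `A`.** -/
theorem three_step [IsSimpleGroup K] (I : Inv K T) (hl : Lam T) {E : Subgroup K} (hE : EP T E) (h : IF A Γ) {a b c : K}
    (ht : Tri T a b c) (htA : a * b * c ∈ A) :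
    (∃ d ∈ T, d ∈ A) ∨ ∃ a ∈ T, ∃ b ∈ T, a ≠ b ∧ a * b = b * a ∧ a * b ∈ A := by
  have C := I.ctx
  have := C.finite
  by_contra hcon
  rw [not_or] at hcon
  obtain ⟨hc1, hc2⟩ := hcon
  obtain ⟨E', hE', haE, hbE, hcE⟩ := exists_three I hE ht
  have htE : a * b * c ∈ E' := E'.mul_mem (E'.mul_mem haE hbE) hcE
  have t1 : a * b * c ≠ 1 := by
    intro h1
    apply I.facts.two a ht.mx b ht.my ht.xy ht.cxy
    rw [eq_inv_of_mul_eq_one_left h1, C.inv ht.mw]
    exact ht.mw
  have ho := order_two (hE'.sq _ htE) t1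
  obtain ⟨ho', hidx, hf5, -, -⟩ := IF.E2' h (hna C) htA ho
  have hle : (centralizer ({a * b * c} : Set K)).index ≤ 437837400 := by
    have h1 := (centralizer ({a * b * c} : Set K)).index_mul_card
    have h2 := card_three C hl ht
    rw [C.card] at h1
    by_contra hcon
    have h3 : 437837401 * 147456 ≤ (centralizer ({a * b * c} : Set K)).index *
        Nat.card ↥(centralizer ({a * b * c} : Set K)) := Nat.mul_le_mul (by omega) h2
    omega
  have hσ : MulAut.conj (a * b * c) ∈ Γ := (h.conj _).2 htA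
  have hr1 := (IF.E1 h hσ ho' (B := E') (by
    intro x hx
    rw [MulAut.conj_apply, mul_inv_eq_iff_eq_mul]
    exact hE'.comm htE hx)).1
  have hr22 : 22 ≤ A.relIndex E' := by
    by_contra hlt
    exact hc2 (exists_pair hE' (not_le.1 hlt))
  have hr53 : A.relIndex E' ≤ 53 := by
    by_contra hlt
    have h3 : 459165024 ≤ fx A (MulAut.conj (a * b * c)) ^ 5 :=
      (show 459165024 ≤ 54 ^ 5 by norm_num).trans (Nat.pow_le_pow_left (by omega) 5)
    omega
  have hcm := (A.subgroupOf E').index_mul_card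
  rw [hE'.card] at hcm
  have hr32 : A.relIndex E' = 32 := by
    have hdvd : A.relIndex E' ∣ 2 ^ 10 := ⟨_, hcm.symm⟩
    obtain ⟨k, hk, hk'⟩ := (Nat.dvd_prime_pow Nat.prime_two).1 hdvd
    rw [hk'] at hr22 hr53 ⊢
    interval_cases k <;> omega
  have hcard : Nat.card ↥(A ⊓ E') = 32 := by
    have h1 : Nat.card ↥(A.subgroupOf E') = Nat.card ↥(A ⊓ E') := by
      rw [← Subgroup.inf_subgroupOf_right, Nat.card_congr (Subgroup.subgroupOfEquivOfLe inf_le_right).toEquiv]
    rw [← h1]
    have h2 : (A.subgroupOf E').index = 32 := hr32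
    rw [h2] at hcm
    omega
  have hX : ({x | x ∈ A ⊓ E' ∧ x ≠ 1} : Set K).ncard = 31 := by
    have h1 : ({x | x ∈ A ⊓ E' ∧ x ≠ 1} : Set K) = ((A ⊓ E' : Subgroup K) : Set K) \ {1} := by
      ext x
      simp
    rw [h1, Set.ncard_sdiff_singleton_of_mem (A ⊓ E').one_mem]
    have h2 : ((A ⊓ E' : Subgroup K) : Set K).ncard = 32 := hcard
    rw [h2]
  have hi : 31 ≤ (icl (MulAut.conj (a * b * c)) ∩ (Γ : Set (MulAut K))).ncard := by
    rw [← hX]
    refine Set.ncard_le_ncard_of_injOn (MulAut.conj : K →* MulAut K) ?_ ((conj_inj (hna C)).injOn) (Set.toFinite _)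
    rintro x ⟨⟨hxA, hxE⟩, hx1⟩
    refine ⟨?_, (h.conj x).2 hxA⟩
    rcases I.inv x (hE'.sq x hxE) with h1 | h1 | ⟨u, hu, v, hv, huv, cuv, rfl⟩ | ⟨u, v, w, hT, rfl⟩
    · exact absurd h1 hx1
    · exact absurd ⟨x, h1, hxA⟩ hc1
    · exact absurd ⟨u, hu, v, hv, huv, cuv, hxA⟩ hc2
    · obtain ⟨g, rfl, rfl, rfl⟩ := I.facts.tri a b c u v w ht hT
      refine ⟨g, ?_⟩
      rw [← map_inv, ← map_mul, ← map_mul]
      congr 1
      group
  have hf := IF.fix_formula' h hσ
  have hs := h.small _ hσ ho'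
  rw [hidx] at hf
  have h1 : fx A (MulAut.conj (a * b * c)) * (31 * fx A (MulAut.conj (a * b * c)) ^ 5) <
      fx A (MulAut.conj (a * b * c)) * (centralizer ({a * b * c} : Set K)).index := by
    calc fx A (MulAut.conj (a * b * c)) * (31 * fx A (MulAut.conj (a * b * c)) ^ 5)
        = fx A (MulAut.conj (a * b * c)) ^ 6 * 31 := by ring
      _ < A.index * 31 := Nat.mul_lt_mul_of_pos_right hs (by norm_num)
      _ ≤ A.index * (icl (MulAut.conj (a * b * c)) ∩ (Γ : Set (MulAut K))).ncard := Nat.mul_le_mul_left _ hi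
      _ = _ := hf.symm
  have h2 := lt_of_mul_lt_mul_left h1 (Nat.zero_le _)
  have h3 : 33554432 ≤ fx A (MulAut.conj (a * b * c)) ^ 5 :=
    (show 33554432 ≤ 32 ^ 5 by norm_num).trans (Nat.pow_le_pow_left (by omega) 5)
  omega

/-- **`KillE`, abstract form.** -/
theorem killE (I : Inv K T) (hs : IsSimpleGroup K) (hl : Lam T) {E : Subgroup K} (hE : EP T E) (hP : PairLe T) :
    KillE K := by
  rintro A Γ h ⟨t, htA, ht2⟩
  have C := I.ctx
  have key : ¬ ∃ a ∈ T, ∃ b ∈ T, a ≠ b ∧ a * b = b * a ∧ a * b ∈ A := by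
    rintro ⟨a, ha, b, hb, hab, cab, hA⟩
    exact pair_step C hP h ha hb hab cab hA
  have key' : ¬ ∃ d ∈ T, d ∈ A := by
    rintro ⟨d, hd, hdA⟩
    exact key (one_step C hE h hd hdA)
  have htt : t * t = 1 := by
    have h1 := pow_orderOf_eq_one t
    rwa [ht2, pow_two] at h1
  rcases I.inv t htt with rfl | h1 | ⟨u, hu, v, hv, huv, cuv, rfl⟩ | ⟨u, v, w, hT, rfl⟩
  · rw [orderOf_one] at ht2
    omega
  · exact key' ⟨t, h1, htA⟩
  · exact key ⟨u, hu, v, hv, huv, cuv, htA⟩
  · rcases three_step I hl hE h hT htA with h1 | h1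
    · exact key' h1
    · exact key h1

end Cfsg.Agent.H273.IFTwo
end

-- part: H460/IFO/StReal
section
set_option linter.all false
open scoped Cfsg.Agent.FastGrp

/-!
# S5719, `|A|` odd: the index of a subgroup of odd order, real characters (helper460)

* `lt_index_real` : `χ` real irreducible of odd degree `d > 1`: a subgroup of odd order has index `> d`;
* `split_le_index` : `K` with a split BN-pair of characteristic `p`: a subgroup of odd order has index at least
  the order of a Sylow `p`-subgroup (all `p`);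
* `split_lt` : the consequence for `IF`.
-/

set_option autoImplicit false
set_option linter.unusedSectionVars false

namespace Cfsg.Agent.H460.IFO

open Cfsg Module
open scoped ComplexConjugate

universe u v

/-- twice the algebraic integers -/
def twoInt : AddSubgroup ℂ where
  carrier := {x | ∃ a : ℂ, IsIntegral ℤ a ∧ x = a + a}
  zero_mem' := ⟨0, isIntegral_zero, by simp⟩
  add_mem' := by
    rintro _ _ ⟨a, ha, rfl⟩ ⟨b, hb, rfl⟩
    exact ⟨a + b, ha.add hb, by ring⟩
  neg_mem' := by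
    rintro _ ⟨a, ha, rfl⟩
    exact ⟨-a, ha.neg, by ring⟩

theorem even_of_twoInt {z : ℤ} (h : (z : ℂ) ∈ twoInt) : Even z := by
  obtain ⟨a, ha, he⟩ := h
  have h1 : a = algebraMap ℚ ℂ ((z : ℚ) / 2) := by
    have : a = (z : ℂ) / 2 := by rw [he]; ring
    rw [this]
    simp
  have h2 : IsIntegral ℤ ((z : ℚ) / 2) := by
    rw [h1] at ha
    exact (isIntegral_algebraMap_iff (algebraMap ℚ ℂ).injective).1 ha
  obtain ⟨k, hk⟩ := IsIntegrallyClosed.isIntegral_iff.1 h2
  refine ⟨k, ?_⟩
  have h3 : (z : ℚ) = k + k := by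
    have h4 : ((k : ℤ) : ℚ) = (z : ℚ) / 2 := hk
    rw [h4]
    ring
  exact_mod_cast h3

/-- **Parity.** -/
theorem sum_sub_mem {X : Type*} [Group X] [Fintype X] (hX : Odd (Nat.card X)) (f : X → ℂ) (hi : ∀ x, IsIntegral ℤ (f x))
    (hz : ∀ x, f x⁻¹ = f x) : ∑ x, f x - f 1 ∈ twoInt := by
  classical
  have h1 : ∑ x, f x - f 1 = ∑ x ∈ Finset.univ.erase (1 : X), f x := by
    rw [← Finset.add_sum_erase _ _ (Finset.mem_univ (1 : X))]
    ring
  rw [h1, ← QuotientAddGroup.eq_zero_iff]
  rw [show ((∑ x ∈ Finset.univ.erase (1 : X), f x : ℂ) : ℂ ⧸ twoInt) =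
    ∑ x ∈ Finset.univ.erase (1 : X), ((f x : ℂ) : ℂ ⧸ twoInt) from map_sum (QuotientAddGroup.mk' twoInt) _ _]
  refine Finset.sum_involution (fun x _ => x⁻¹) ?_ ?_ ?_ ?_
  · intro x _
    rw [hz, ← QuotientAddGroup.mk_add, QuotientAddGroup.eq_zero_iff]
    exact ⟨f x, hi x, rfl⟩
  · intro x hx _ h
    have h2 : x ^ 2 = 1 := by
      rw [pow_two]
      nth_rewrite 1 [← h]
      exact inv_mul_cancel x
    have h3 : orderOf x ∣ 2 := orderOf_dvd_of_pow_eq_one h2
    have h4 : orderOf x ∣ Nat.card X := orderOf_dvd_natCard x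
    have h5 : orderOf x ∣ 1 := (Nat.coprime_two_left.2 hX) ▸ Nat.dvd_gcd h3 h4
    exact (Finset.mem_erase.1 hx).1 (orderOf_eq_one_iff.1 (Nat.dvd_one.1 h5))
  · intro x hx
    exact Finset.mem_erase.2 ⟨inv_ne_one.2 (Finset.mem_erase.1 hx).1, Finset.mem_univ _⟩
  · intro x _
    exact inv_inv x

variable {K : Type u} [Group K] [Finite K]

/-- **The index of a subgroup of odd order** (real character of odd degree). -/
theorem lt_index_real {χ : K → ℂ} (hχ : IsIrrCharacter K χ) (hr : ∀ g, conj (χ g) = χ g)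
    {d : ℕ} (hd : χ 1 = d) (hodd : Odd d) (h1 : 1 < d) {X : Subgroup K} (hX : Odd (Nat.card X)) : d < X.index := by
  classical
  have hint : ∀ g, IsIntegral ℤ (χ g) := fun g => Cfsg.Agent.Characters.GaloisBasic.isIntegral_apply (Cfsg.Agent.Characters.Core.isIrr_isCharacter hχ) g
  have hinv : ∀ g, χ g⁻¹ = χ g := fun g => by
    rw [Cfsg.Agent.Characters.Core.isCharacter_apply_inv (Cfsg.Agent.Characters.Core.isIrr_isCharacter hχ), hr]
  obtain ⟨n, ρ, hirr, rfl⟩ := hχ
  have hn : d = n := by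
    rw [Representation.char_one, finrank_fin_fun] at hd
    exact_mod_cast hd.symm
  subst hn
  have := Fintype.ofFinite K
  have := Fintype.ofFinite X
  -- a fixed vector
  obtain ⟨v, hv0, hv⟩ : ∃ v : Fin d → ℂ, v ≠ 0 ∧ ∀ x ∈ X, ρ x v = v := by
    let σ : Representation ℂ X (Fin d → ℂ) := ρ.comp X.subtype
    have hc0 : ((Nat.card X : ℕ) : ℂ) ≠ 0 := Nat.cast_ne_zero.2 Nat.card_pos.ne'
    have : Invertible ((Nat.card X : ℕ) : ℂ) := invertibleOfNonzero hc0
    have h2 := Representation.card_inv_mul_sum_char_eq_finrank σ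
    have h7 : finrank ℂ (Representation.invariants σ) ≠ 0 := by
      intro h0
      have h5 : ∑ x : X, σ.character x = 0 := by
        rw [h0, Nat.cast_zero, mul_eq_zero] at h2
        exact h2.resolve_left (inv_ne_zero hc0)
      have h6 := sum_sub_mem hX (fun x : X => ρ.character x) (fun x => hint x) (fun x => hinv x)
      have h8 : ∑ x : X, ρ.character x = 0 := h5
      rw [h8, zero_sub] at h6
      have h9 : ρ.character ((1 : X) : K) = d := hd
      rw [h9] at h6
      have h10 : Even (-(d : ℤ)) := even_of_twoInt (by push_cast; exact h6)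
      rw [even_neg] at h10
      exact (Nat.not_even_iff_odd.2 hodd) (by exact_mod_cast h10)
    have h8 : Nontrivial (Representation.invariants σ) := Module.nontrivial_of_finrank_pos (Nat.pos_of_ne_zero h7)
    obtain ⟨w, hw⟩ := exists_ne (0 : Representation.invariants σ)
    refine ⟨w, fun h => hw (Subtype.ext h), fun x hx => ?_⟩
    exact (Representation.mem_invariants σ w.1).1 w.2 ⟨x, hx⟩
  -- the orbit map
  let c : K ⧸ X → (Fin d → ℂ) := Quotient.lift (fun g : K => ρ g v) (by
    intro a b hab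
    have h2 : a⁻¹ * b ∈ X := QuotientGroup.leftRel_apply.1 hab
    have h3 := hv _ h2
    show ρ a v = ρ b v
    conv_lhs => rw [← h3]
    rw [← Module.End.mul_apply, ← map_mul, mul_inv_cancel_left])
  have hc : ∀ g : K, c (g : K ⧸ X) = ρ g v := fun g => rfl
  have hcm : ∀ (g : K) (q : K ⧸ X), ρ g (c q) = c (g • q) := by
    intro g q
    induction q using QuotientGroup.induction_on with
    | H a =>
      rw [hc, ← Module.End.mul_apply, ← map_mul]
      rfl
  have htop : ⊤ ≤ Submodule.span ℂ (Set.range c) := by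
    let S : Subrepresentation ρ := ⟨Submodule.span ℂ (Set.range c), by
      intro g w hw
      induction hw using Submodule.span_induction with
      | mem w hw =>
        obtain ⟨q, rfl⟩ := hw
        rw [hcm]
        exact Submodule.subset_span ⟨_, rfl⟩
      | zero => rw [map_zero]; exact Submodule.zero_mem _
      | add a b _ _ ha hb => rw [map_add]; exact Submodule.add_mem _ ha hb
      | smul r a _ ha => rw [map_smul]; exact Submodule.smul_mem _ _ ha⟩
    rcases hirr.eq_bot_or_eq_top S with h2 | h2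
    · exfalso
      have h3 : S.toSubmodule = ⊥ := by rw [h2]; rfl
      have h4 : v ∈ S.toSubmodule := Submodule.subset_span ⟨((1 : K) : K ⧸ X), by rw [hc, map_one]; rfl⟩
      rw [h3, Submodule.mem_bot] at h4
      exact hv0 h4
    · have h3 : S.toSubmodule = ⊤ := by rw [h2]; rfl
      exact h3.ge
  have hle : d ≤ X.index := by
    have h2 := finrank_range_le_card (R := ℂ) c
    rw [Set.finrank, top_le_iff.1 htop, finrank_top, finrank_fin_fun] at h2
    rwa [Subgroup.index, Nat.card_eq_fintype_card]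
  refine lt_of_le_of_ne hle fun heq => ?_
  have hli : LinearIndependent ℂ c := by
    refine linearIndependent_of_top_le_span_of_card_eq_finrank htop ?_
    rw [finrank_fin_fun, heq, Subgroup.index, Nat.card_eq_fintype_card]
  have hs0 : ∑ q, c q ≠ 0 := by
    intro h0
    have h2 := Fintype.linearIndependent_iff.1 hli (fun _ => 1) (by simpa using h0) ((1 : K) : K ⧸ X)
    exact one_ne_zero h2
  -- the sum is invariant
  have hsi : ∀ g, ρ g (∑ q, c q) = ∑ q, c q := by
    intro g
    rw [map_sum]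
    simp_rw [hcm]
    exact Fintype.sum_equiv (MulAction.toPerm g) _ _ fun q => rfl
  let S : Subrepresentation ρ := ⟨Submodule.span ℂ {∑ q, c q}, by
    intro g w hw
    obtain ⟨r, rfl⟩ := Submodule.mem_span_singleton.1 hw
    rw [map_smul, hsi]
    exact Submodule.smul_mem _ _ (Submodule.mem_span_singleton_self _)⟩
  rcases hirr.eq_bot_or_eq_top S with h2 | h2
  · have h3 : S.toSubmodule = ⊥ := by rw [h2]; rfl
    exact hs0 (Submodule.span_singleton_eq_bot.1 h3)
  · have h3 : S.toSubmodule = ⊤ := by rw [h2]; rfl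
    have h4 : finrank ℂ (Submodule.span ℂ {∑ q, c q}) = 1 := finrank_span_singleton hs0
    have h5 : Submodule.span ℂ {∑ q, c q} = ⊤ := h3
    rw [h5, finrank_top, finrank_fin_fun] at h4
    omega

/-- **Split BN-pairs of characteristic `p`, all `p`**: a subgroup of odd order has index at least `|K|_p`. -/
theorem split_le_index {p : ℕ} [hp : Fact p.Prime] (h : FixBN.HasSplit p K) {X : Subgroup K}
    (hX : Odd (Nat.card X)) : p ^ (Nat.card K).factorization p ≤ X.index := by
  classical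
  obtain ⟨χ, h1, h2, h3⟩ := Cfsg.Agent.H727.Orth.real_of_hasSplit h
  let Q : Sylow p K := default
  have h4 := h3 Q
  have hQ : Nat.card Q = p ^ (Nat.card K).factorization p := Q.card_eq_multiplicity
  rw [hQ] at h4
  rcases hp.out.eq_two_or_odd' with rfl | ho
  · exact two_pow_le_index hX (Nat.ordProj_dvd _ _)
  · rcases Nat.lt_or_ge 1 (p ^ (Nat.card K).factorization p) with h5 | h5
    · exact (lt_index_real h1 h2 h4 ho.pow h5 hX).le
    · exact h5.trans (Nat.pos_of_ne_zero X.index_ne_zero_of_finite)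

open Cfsg.Agent.H209.Fxy in
/-- `K` with a split BN-pair of characteristic `p` fixed by the involution `σ ∈ Γ`, `|A|` odd:
`(|K|_p) ^ 6 < |T : A|`. -/
theorem split_lt {T : Type v} [Group T] [Finite T] {A : Subgroup T} {Γ : Subgroup (MulAut T)} (h : IF A Γ)
    (hO : Odd (Nat.card A)) {σ : MulAut T} (hσ : σ ∈ Γ) (h2 : orderOf σ = 2) {p : ℕ} [hp : Fact p.Prime]
    (hK : FixBN.HasSplit p K) (j : K →* T) (hi : Function.Injective j) (hj : ∀ k, σ (j k) = j k) :
    (p ^ (Nat.card K).factorization p) ^ 6 < A.index :=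
  (Nat.pow_le_pow_left (split_le_index hK (odd_comap hO hi)) 6).trans_lt (comap_lt h hσ h2 j hj)

end Cfsg.Agent.H460.IFO
end
end
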